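import Mathlib
import Cfsg.Agent.Lib.Helper53.SL2Invol
set_option autoImplicit false

/-! Subgroups of order four of `SL₂(q)`, `q` odd, and their normalisers. -/

namespace Cfsg.Agent.Lib.Helper14.SL2Order4
open Matrix Cfsg.Agent.Lib.Helper53

section
variable {F : Type*} [Field F] [Fintype F]

/-- rational parametrisation of the circle `a² + b² = 1` -/
noncomputable def circleEquiv (h2 : (2 : F) ≠ 0) :
    {p : F × F // p.1 ^ 2 + p.2 ^ 2 = 1} ≃ Option {t : F // 1 + t ^ 2 ≠ 0} where
  toFun p := by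
    classical
    exact if h : p.1.1 = -1 then none else some ⟨p.1.2 / (1 + p.1.1), by
      have h1 : 1 + p.1.1 ≠ 0 := fun h0 => h (by linear_combination h0)
      have hp := p.2
      have : 1 + (p.1.2 / (1 + p.1.1)) ^ 2 = 2 / (1 + p.1.1) := by
        field_simp
        linear_combination hp
      rw [this]
      exact div_ne_zero h2 h1⟩
  invFun o := match o with
    | none => ⟨(-1, 0), by simp⟩
    | some t => ⟨((1 - t.1 ^ 2) / (1 + t.1 ^ 2), 2 * t.1 / (1 + t.1 ^ 2)), by
        have := t.2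
        field_simp
        ring⟩
  left_inv p := by
    classical
    obtain ⟨⟨a, b⟩, hp⟩ := p
    simp only at hp
    by_cases h : a = -1
    · subst h
      have hb : b = 0 := by
        have : b ^ 2 = 0 := by linear_combination hp
        exact pow_eq_zero_iff (by norm_num) |>.mp this
      subst hb
      simp
    · have h1 : 1 + a ≠ 0 := fun h0 => h (by linear_combination h0)
      simp only [h, dite_false]
      apply Subtype.ext
      have hden : 1 + (b / (1 + a)) ^ 2 = 2 / (1 + a) := by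
        field_simp
        linear_combination hp
      have hnum : 1 - (b / (1 + a)) ^ 2 = 2 * a / (1 + a) := by
        field_simp
        linear_combination (-1 : F) * hp
      simp only [Prod.mk.injEq]
      rw [hden, hnum]
      constructor
      · field_simp
      · field_simp
  right_inv o := by
    classical
    rcases o with _ | t
    · simp
    · have ht := t.2
      have hne : (1 - t.1 ^ 2) / (1 + t.1 ^ 2) ≠ -1 := by
        intro h
        rw [div_eq_iff ht] at h
        apply h2
        linear_combination h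
      simp only [hne, dite_false, Option.some.injEq]
      apply Subtype.ext
      simp only
      have h1 : 1 + (1 - t.1 ^ 2) / (1 + t.1 ^ 2) = 2 / (1 + t.1 ^ 2) := by
        field_simp
        ring
      rw [h1]
      field_simp


theorem card_roots (h2 : (2 : F) ≠ 0) [DecidableEq F] :
    Fintype.card {t : F // 1 + t ^ 2 = 0} = if IsSquare (-1 : F) then 2 else 0 := by
  split_ifs with hsq
  · obtain ⟨i, hi⟩ := hsq
    have hi0 : i ≠ 0 := by
      rintro rfl
      simp at hi
    have hne : i ≠ -i := by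
      intro h
      have : 2 * i = 0 := by linear_combination h
      rcases mul_eq_zero.mp this with h | h
      · exact h2 h
      · exact hi0 h
    rw [Fintype.card_of_subtype ({i, -i} : Finset F)]
    · rw [Finset.card_pair hne]
    · intro t
      simp only [Finset.mem_insert, Finset.mem_singleton]
      constructor
      · rintro (rfl | rfl)
        · linear_combination (-1 : F) * hi
        · linear_combination (-1 : F) * hi
      · intro ht
        have : t ^ 2 = i ^ 2 := by linear_combination ht + hi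
        exact sq_eq_sq_iff_eq_or_eq_neg.mp this
  · rw [Fintype.card_eq_zero_iff]
    constructor
    rintro ⟨t, ht⟩
    apply hsq
    exact ⟨t, by linear_combination (-1 : F) * ht⟩

theorem card_circle (hF : Odd (Fintype.card F)) (h2 : (2 : F) ≠ 0) :
    Nat.card {p : F × F // p.1 ^ 2 + p.2 ^ 2 = 1}
      = if Fintype.card F % 4 = 1 then Fintype.card F - 1 else Fintype.card F + 1 := by
  classical
  rw [Nat.card_congr (circleEquiv h2), Nat.card_eq_fintype_card, Fintype.card_option,
    Fintype.card_subtype_compl, card_roots h2]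
  have hq : 2 ≤ Fintype.card F := Fintype.one_lt_card
  have hsq := FiniteField.isSquare_neg_one_iff (F := F)
  obtain ⟨k, hk⟩ := hF
  by_cases h1 : Fintype.card F % 4 = 1
  · have : IsSquare (-1 : F) := hsq.mpr (by omega)
    rw [if_pos this, if_pos h1]
    omega
  · have h3 : Fintype.card F % 4 = 3 := by omega
    have : ¬ IsSquare (-1 : F) := fun h => (hsq.mp h) h3
    rw [if_neg this, if_neg h1]
    omega


omit [Fintype F] in
theorem neg_one_ne_one (h2 : (2 : F) ≠ 0) : (-1 : SpecialLinearGroup (Fin 2) F) ≠ 1 := by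
  intro h
  have := congrArg (fun g : SpecialLinearGroup (Fin 2) F => g.1 0 0) h
  simp at this
  apply h2
  linear_combination (-1 : F) * this

omit [Fintype F] in
theorem orderOf_eq_four (h2 : (2 : F) ≠ 0) (x : SpecialLinearGroup (Fin 2) F) (hx : x * x = -1) :
    orderOf x = 4 := by
  have h1 : ¬ x ^ 2 ^ 1 = 1 := by
    rw [pow_one, pow_two, hx]; exact neg_one_ne_one h2
  have h4 : x ^ 2 ^ (1 + 1) = 1 := by
    have : x ^ 2 ^ (1 + 1) = (x * x) * (x * x) := by
      norm_num [pow_succ, mul_assoc]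
    rw [this, hx, neg_mul_neg, one_mul]
  have := orderOf_eq_prime_pow h1 h4
  simpa using this

/-- a subgroup of order four of `SL₂(F)` is generated by an element of square `-1` -/
theorem exists_gen (hF : Odd (Fintype.card F)) (A : Subgroup (SpecialLinearGroup (Fin 2) F))
    (hA : Nat.card A = 4) : ∃ a : SpecialLinearGroup (Fin 2) F, a * a = -1 ∧ A = Subgroup.zpowers a := by
  have h2 := two_ne_zero_of_odd_card_field hF
  have hfin : Finite A := Nat.finite_of_card_ne_zero (by rw [hA]; norm_num)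
  -- some element has square ≠ 1
  have hex : ∃ a ∈ A, a * a ≠ 1 := by
    by_contra hcon
    push Not at hcon
    have hsub : (A : Set (SpecialLinearGroup (Fin 2) F)) ⊆ {1, -1} := by
      intro a ha
      rcases sl2_sq_eq_one hF a (hcon a ha) with h | h
      · left; exact h
      · right; exact h
    have h1 : Nat.card A ≤ 2 := by
      have hfin2 : ({1, -1} : Set (SpecialLinearGroup (Fin 2) F)).Finite := Set.toFinite _
      have := Set.ncard_le_ncard hsub hfin2
      have h3 : ({1, -1} : Set (SpecialLinearGroup (Fin 2) F)).ncard ≤ 2 := by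
        have := Set.ncard_insert_le (1 : SpecialLinearGroup (Fin 2) F) {-1}
        rw [Set.ncard_singleton] at this
        exact this
      rw [← Nat.card_coe_set_eq] at this
      exact this.trans h3
    omega
  obtain ⟨a, haA, ha1⟩ := hex
  have ha4 : a ^ 4 = 1 := by
    have := pow_card_eq_one' (G := A) (x := ⟨a, haA⟩)
    rw [hA] at this
    exact congrArg Subtype.val this
  have hsq : (a * a) * (a * a) = 1 := by
    rw [← ha4]; norm_num [pow_succ, mul_assoc]
  have haa : a * a = -1 := by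
    rcases sl2_sq_eq_one hF (a * a) hsq with h | h
    · exact absurd h ha1
    · exact h
  refine ⟨a, haa, ?_⟩
  symm
  apply Subgroup.eq_of_le_of_card_ge
  · rw [Subgroup.zpowers_le]; exact haA
  · rw [Nat.card_zpowers, orderOf_eq_four h2 a haa, hA]


theorem part1 (hF : Odd (Fintype.card F)) (A B : Subgroup (SpecialLinearGroup (Fin 2) F))
    (hA : Nat.card A = 4) (hB : Nat.card B = 4) :
    ∃ g : SpecialLinearGroup (Fin 2) F, B = A.map (MulAut.conj g).toMonoidHom := by
  obtain ⟨a, haa, rfl⟩ := exists_gen hF A hA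
  obtain ⟨b, hbb, rfl⟩ := exists_gen hF B hB
  obtain ⟨gA, hgA⟩ := sl2_sq_eq_neg_one hF a haa
  obtain ⟨gB, hgB⟩ := sl2_sq_eq_neg_one hF b hbb
  refine ⟨gB * gA⁻¹, ?_⟩
  rw [MonoidHom.map_zpowers]
  congr 1
  simp only [MulEquiv.coe_toMonoidHom, MulAut.conj_apply]
  rw [← hgA, ← hgB]
  group

omit [Fintype F] in
theorem neg_one_mem_center : (-1 : SpecialLinearGroup (Fin 2) F) ∈
    Subgroup.center (SpecialLinearGroup (Fin 2) F) := by
  rw [Matrix.SpecialLinearGroup.mem_center_iff]
  refine ⟨-1, by simp, ?_⟩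
  ext i j
  fin_cases i <;> fin_cases j <;> simp

omit [Fintype F] in
theorem sq_of_mem_center (X : SpecialLinearGroup (Fin 2) F)
    (h : X ∈ Subgroup.center (SpecialLinearGroup (Fin 2) F)) : X = 1 ∨ X = -1 := by
  rw [Matrix.SpecialLinearGroup.mem_center_iff] at h
  obtain ⟨r, hr, hX⟩ := h
  simp only [Fintype.card_fin] at hr
  have hr' : r = 1 ∨ r = -1 := mul_self_eq_one_iff.mp (by rw [← pow_two]; exact hr)
  rcases hr' with rfl | rfl
  · left
    apply Subtype.ext
    rw [← hX]; simp
  · right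
    apply Subtype.ext
    rw [← hX]
    ext i j
    fin_cases i <;> fin_cases j <;> simp

theorem exists_conj_w_of_orderOf_two (hF : Odd (Fintype.card F))
    (x : Matrix.ProjectiveSpecialLinearGroup (Fin 2) F) (hx : orderOf x = 2) :
    ∃ g : SpecialLinearGroup (Fin 2) F, x = QuotientGroup.mk (g * sl2w F * g⁻¹) := by
  obtain ⟨X, rfl⟩ := QuotientGroup.mk_surjective x
  have hx2 : (QuotientGroup.mk X : Matrix.ProjectiveSpecialLinearGroup (Fin 2) F) ^ 2 = 1 := by
    have := pow_orderOf_eq_one (QuotientGroup.mk X : Matrix.ProjectiveSpecialLinearGroup (Fin 2) F)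
    rw [hx] at this
    exact this
  have hx1 : (QuotientGroup.mk X : Matrix.ProjectiveSpecialLinearGroup (Fin 2) F) ≠ 1 := by
    intro h
    rw [h, orderOf_one] at hx
    norm_num at hx
  rw [pow_two, ← QuotientGroup.mk_mul, QuotientGroup.eq_one_iff] at hx2
  rw [ne_eq, QuotientGroup.eq_one_iff] at hx1
  rcases sq_of_mem_center (X * X) hx2 with h | h
  · exfalso
    apply hx1
    rcases sl2_sq_eq_one hF X h with h' | h'
    · rw [h']; exact Subgroup.one_mem _
    · rw [h']; exact neg_one_mem_center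
  · obtain ⟨g, hg⟩ := sl2_sq_eq_neg_one hF X h
    exact ⟨g, by rw [hg]⟩

theorem part3 (hF : Odd (Fintype.card F))
    (x y : Matrix.ProjectiveSpecialLinearGroup (Fin 2) F) (hx : orderOf x = 2) (hy : orderOf y = 2) :
    IsConj x y := by
  obtain ⟨gx, rfl⟩ := exists_conj_w_of_orderOf_two hF x hx
  obtain ⟨gy, rfl⟩ := exists_conj_w_of_orderOf_two hF y hy
  rw [isConj_iff]
  refine ⟨QuotientGroup.mk (gy * gx⁻¹), ?_⟩
  rw [← QuotientGroup.mk_inv, ← QuotientGroup.mk_mul, ← QuotientGroup.mk_mul]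
  congr 1
  group


end

section
variable {F : Type*} [Field F]

theorem w_inv : (sl2w F)⁻¹ = -(sl2w F) := by
  apply inv_eq_of_mul_eq_one_right
  rw [mul_neg, sl2w_sq, neg_neg]

theorem w_val : (sl2w F).1 = !![0, -1; 1, 0] := rfl

/-- the centraliser of `w` -/
def Cp (F : Type*) [Field F] : Set (SpecialLinearGroup (Fin 2) F) := {g | g * sl2w F = sl2w F * g}
/-- the elements inverting `w` -/
def Cm (F : Type*) [Field F] : Set (SpecialLinearGroup (Fin 2) F) := {g | g * sl2w F = (sl2w F)⁻¹ * g}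

theorem mem_Cp_iff (g : SpecialLinearGroup (Fin 2) F) :
    g ∈ Cp F ↔ g.1 1 0 = - g.1 0 1 ∧ g.1 1 1 = g.1 0 0 := by
  unfold Cp
  rw [Set.mem_ofPred_eq]
  constructor
  · intro h
    have h' := congrArg Subtype.val h
    rw [Matrix.SpecialLinearGroup.coe_mul, Matrix.SpecialLinearGroup.coe_mul, w_val] at h'
    have h00 := congrFun (congrFun h' 0) 0
    have h01 := congrFun (congrFun h' 0) 1
    simp [Matrix.mul_apply, Fin.sum_univ_two] at h00 h01
    exact ⟨by rw [h00, neg_neg], h01.symm⟩
  · rintro ⟨h1, h2⟩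
    apply Subtype.ext
    rw [Matrix.SpecialLinearGroup.coe_mul, Matrix.SpecialLinearGroup.coe_mul, w_val]
    ext i j
    fin_cases i <;> fin_cases j <;> simp [Matrix.mul_apply, Fin.sum_univ_two, h1, h2]

theorem mem_Cm_iff (g : SpecialLinearGroup (Fin 2) F) :
    g ∈ Cm F ↔ g.1 1 0 = g.1 0 1 ∧ g.1 1 1 = - g.1 0 0 := by
  unfold Cm
  rw [Set.mem_ofPred_eq, w_inv]
  constructor
  · intro h
    have h' := congrArg Subtype.val h
    rw [Matrix.SpecialLinearGroup.coe_mul, Matrix.SpecialLinearGroup.coe_mul, Matrix.SpecialLinearGroup.coe_neg, w_val] at h'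
    have h00 := congrFun (congrFun h' 0) 0
    have h01 := congrFun (congrFun h' 0) 1
    simp [Matrix.mul_apply, Fin.sum_univ_two] at h00 h01
    exact ⟨h00.symm, h01.symm⟩
  · rintro ⟨h1, h2⟩
    apply Subtype.ext
    rw [Matrix.SpecialLinearGroup.coe_mul, Matrix.SpecialLinearGroup.coe_mul, Matrix.SpecialLinearGroup.coe_neg, w_val]
    ext i j
    fin_cases i <;> fin_cases j <;> simp [Matrix.mul_apply, Fin.sum_univ_two, h1, h2]

/-- `Cp ≃ {a² + b² = 1}` -/
def CpEquiv : Cp F ≃ {p : F × F // p.1 ^ 2 + p.2 ^ 2 = 1} where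
  toFun g := ⟨(g.1.1 0 0, g.1.1 0 1), by
    obtain ⟨h1, h2⟩ := (mem_Cp_iff g.1).mp g.2
    have hdet := g.1.2
    rw [Matrix.det_fin_two, h1, h2] at hdet
    simp only
    linear_combination hdet⟩
  invFun p := ⟨⟨!![p.1.1, p.1.2; -p.1.2, p.1.1], by
    rw [Matrix.det_fin_two_of]; linear_combination p.2⟩, by
    exact (mem_Cp_iff _).mpr ⟨by simp, by simp⟩⟩
  left_inv g := by
    obtain ⟨h1, h2⟩ := (mem_Cp_iff g.1).mp g.2
    apply Subtype.ext
    apply Subtype.ext
    ext i j
    fin_cases i <;> fin_cases j <;> simp [h1, h2]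
  right_inv p := by
    apply Subtype.ext
    simp

/-- `Cm ≃ {a² + b² = -1}` -/
def CmEquiv : Cm F ≃ {p : F × F // p.1 ^ 2 + p.2 ^ 2 = -1} where
  toFun g := ⟨(g.1.1 0 0, g.1.1 0 1), by
    obtain ⟨h1, h2⟩ := (mem_Cm_iff g.1).mp g.2
    have hdet := g.1.2
    rw [Matrix.det_fin_two, h1, h2] at hdet
    simp only
    linear_combination (-1 : F) * hdet⟩
  invFun p := ⟨⟨!![p.1.1, p.1.2; p.1.2, -p.1.1], by
    rw [Matrix.det_fin_two_of]; linear_combination (-1 : F) * p.2⟩, by
    exact (mem_Cm_iff _).mpr ⟨by simp, by simp⟩⟩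
  left_inv g := by
    obtain ⟨h1, h2⟩ := (mem_Cm_iff g.1).mp g.2
    apply Subtype.ext
    apply Subtype.ext
    ext i j
    fin_cases i <;> fin_cases j <;> simp [h1, h2]
  right_inv p := by
    apply Subtype.ext
    simp

/-- multiplication by a fixed solution of `a² + b² = -1` -/
def circleNegEquiv (a₀ b₀ : F) (h₀ : a₀ ^ 2 + b₀ ^ 2 = -1) :
    {p : F × F // p.1 ^ 2 + p.2 ^ 2 = 1} ≃ {p : F × F // p.1 ^ 2 + p.2 ^ 2 = -1} where
  toFun p := ⟨(p.1.1 * a₀ - p.1.2 * b₀, p.1.1 * b₀ + p.1.2 * a₀), by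
    have := p.2
    simp only
    linear_combination (a₀ ^ 2 + b₀ ^ 2) * this + h₀⟩
  invFun p := ⟨(-(p.1.1 * a₀ + p.1.2 * b₀), -(p.1.2 * a₀ - p.1.1 * b₀)), by
    have := p.2
    simp only
    linear_combination (a₀ ^ 2 + b₀ ^ 2) * this - h₀⟩
  left_inv p := by
    apply Subtype.ext
    obtain ⟨⟨a, b⟩, hp⟩ := p
    simp only [Prod.mk.injEq]
    constructor
    · linear_combination (-a) * h₀
    · linear_combination (-b) * h₀
  right_inv p := by
    apply Subtype.ext
    obtain ⟨⟨a, b⟩, hp⟩ := p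
    simp only [Prod.mk.injEq]
    constructor
    · linear_combination (-a) * h₀
    · linear_combination (-b) * h₀



/-- an element of `⟨w⟩` with square `-1` is `w` or `w⁻¹` -/
theorem eq_or_eq_inv_of_mem_zpowers (h2 : (2 : F) ≠ 0) (x : SpecialLinearGroup (Fin 2) F)
    (hx : x ∈ Subgroup.zpowers (sl2w F)) (hxx : x * x = -1) : x = sl2w F ∨ x = (sl2w F)⁻¹ := by
  obtain ⟨k, rfl⟩ := Subgroup.mem_zpowers_iff.mp hx
  have h4 : orderOf (sl2w F) = 4 := orderOf_eq_four h2 _ (sl2w_sq F)
  have hk : sl2w F ^ k = sl2w F ^ (k % 4) := by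
    have := (zpow_mod_orderOf (sl2w F) k).symm
    rw [h4] at this
    exact_mod_cast this
  rw [hk] at hxx ⊢
  have h0 : 0 ≤ k % 4 := Int.emod_nonneg _ (by norm_num)
  have h3 : k % 4 < 4 := Int.emod_lt_of_pos _ (by norm_num)
  obtain ⟨m, hm⟩ : ∃ m : ℕ, k % 4 = m := ⟨(k % 4).toNat, by omega⟩
  rw [hm] at hxx ⊢
  have hm4 : m < 4 := by omega
  rw [zpow_natCast] at hxx ⊢
  interval_cases m
  · exfalso
    rw [pow_zero, one_mul] at hxx
    exact neg_one_ne_one h2 hxx.symm
  · left; rw [pow_one]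
  · exfalso
    rw [pow_two, sl2w_sq, neg_mul_neg, one_mul] at hxx
    exact neg_one_ne_one h2 hxx.symm
  · right
    rw [w_inv, pow_succ, pow_two, sl2w_sq, neg_one_mul]

theorem normalizer_eq (h2 : (2 : F) ≠ 0) :
    ((Subgroup.normalizer ((Subgroup.zpowers (sl2w F) : Subgroup (SpecialLinearGroup (Fin 2) F)) :
      Set (SpecialLinearGroup (Fin 2) F)) : Subgroup _) : Set (SpecialLinearGroup (Fin 2) F))
      = Cp F ∪ Cm F := by
  ext g
  rw [SetLike.mem_coe, Subgroup.mem_normalizer_iff_map_conj_eq, MonoidHom.map_zpowers]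
  simp only [Set.mem_union, Cp, Cm, Set.mem_ofPred_eq]
  change Subgroup.zpowers (g * sl2w F * g⁻¹) = Subgroup.zpowers (sl2w F) ↔ _
  constructor
  · intro h
    have hmem : g * sl2w F * g⁻¹ ∈ Subgroup.zpowers (sl2w F) := by
      rw [← h]; exact Subgroup.mem_zpowers _
    have hsq : (g * sl2w F * g⁻¹) * (g * sl2w F * g⁻¹) = -1 := by
      have : (g * sl2w F * g⁻¹) * (g * sl2w F * g⁻¹) = g * (sl2w F * sl2w F) * g⁻¹ := by group
      rw [this, sl2w_sq, mul_neg, mul_one, neg_mul, mul_inv_cancel]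
    rcases eq_or_eq_inv_of_mem_zpowers h2 _ hmem hsq with h' | h'
    · left
      nth_rewrite 2 [← h']; group
    · right
      rw [← h']; group
  · rintro (h | h)
    · have : g * sl2w F * g⁻¹ = sl2w F := by rw [h]; group
      rw [this]
    · have : g * sl2w F * g⁻¹ = (sl2w F)⁻¹ := by rw [h]; group
      rw [this, Subgroup.zpowers_inv]

theorem disjoint_Cp_Cm (h2 : (2 : F) ≠ 0) : Disjoint (Cp F) (Cm F) := by
  rw [Set.disjoint_left]
  intro g hp hm
  simp only [Cp, Cm, Set.mem_ofPred_eq] at hp hm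
  rw [hp] at hm
  have h1 : sl2w F = (sl2w F)⁻¹ := mul_right_cancel hm
  have h3 : sl2w F * sl2w F = 1 := by
    nth_rewrite 1 [h1]; exact inv_mul_cancel _
  rw [sl2w_sq] at h3
  exact neg_one_ne_one h2 h3


end

section
variable {F : Type*} [Field F] [Fintype F]

theorem card_normalizer_w (hF : Odd (Fintype.card F)) :
    Nat.card (Subgroup.normalizer ((Subgroup.zpowers (sl2w F) :
      Subgroup (SpecialLinearGroup (Fin 2) F)) : Set (SpecialLinearGroup (Fin 2) F)))
      = 2 * (if Fintype.card F % 4 = 1 then Fintype.card F - 1 else Fintype.card F + 1) := by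
  have h2 := two_ne_zero_of_odd_card_field hF
  have e1 : Nat.card (Subgroup.normalizer ((Subgroup.zpowers (sl2w F) :
      Subgroup (SpecialLinearGroup (Fin 2) F)) : Set (SpecialLinearGroup (Fin 2) F)))
      = (Cp F ∪ Cm F).ncard := by
    rw [← normalizer_eq h2, ← Nat.card_coe_set_eq]
    rfl
  rw [e1, Set.ncard_union_eq (disjoint_Cp_Cm h2) (Set.toFinite _) (Set.toFinite _),
    ← Nat.card_coe_set_eq, ← Nat.card_coe_set_eq]
  obtain ⟨a₀, b₀, h₀⟩ := exists_sq_add_sq_of_odd_card hF (-1 : F)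
  rw [Nat.card_congr CpEquiv, Nat.card_congr (CmEquiv.trans (circleNegEquiv a₀ b₀ h₀).symm),
    card_circle hF h2]
  ring

theorem card_normalizer (hF : Odd (Fintype.card F)) (A : Subgroup (SpecialLinearGroup (Fin 2) F))
    (hA : Nat.card A = 4) :
    Nat.card (Subgroup.normalizer (A : Set (SpecialLinearGroup (Fin 2) F)))
      = 2 * (if Fintype.card F % 4 = 1 then Fintype.card F - 1 else Fintype.card F + 1) := by
  obtain ⟨a, haa, rfl⟩ := exists_gen hF A hA
  obtain ⟨g, hg⟩ := sl2_sq_eq_neg_one hF a haa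
  have hmap : Subgroup.zpowers a = (Subgroup.zpowers (sl2w F)).map (MulAut.conj g).toMonoidHom := by
    rw [MonoidHom.map_zpowers]
    congr 1
    rw [← hg]; rfl
  rw [hmap, ← Subgroup.map_equiv_normalizer_eq, ← card_normalizer_w hF]
  exact Nat.card_congr ((MulAut.conj g).subgroupMap _).symm.toEquiv


end

end Cfsg.Agent.Lib.Helper14.SL2Order4
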