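import Mathlib
import Cfsg.Agent.Lib.Helper14.SL2Order4
import Cfsg.Agent.Lib.Helper4.KleinOf
set_option autoImplicit false

/-! Klein four-subgroups of `PSL₂(q)`, `q` odd: counting via pairs of commuting involutions. -/

namespace Cfsg.Agent.Lib.Helper14.PSL2Klein

section
open Matrix Cfsg.Agent.Lib.Helper53 Cfsg.Agent.Lib.Helper14.SL2Order4

variable {F : Type*} [Field F]

/-- membership in the centre of `SL₂` -/
theorem mem_center_iff' (X : SpecialLinearGroup (Fin 2) F) :
    X ∈ Subgroup.center (SpecialLinearGroup (Fin 2) F) ↔ X = 1 ∨ X = -1 := by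
  constructor
  · exact sq_of_mem_center X
  · rintro (rfl | rfl)
    · exact Subgroup.one_mem _
    · exact neg_one_mem_center

theorem card_center (h2 : (2 : F) ≠ 0) :
    Nat.card (Subgroup.center (SpecialLinearGroup (Fin 2) F)) = 2 := by
  have : ((Subgroup.center (SpecialLinearGroup (Fin 2) F) : Subgroup _) :
      Set (SpecialLinearGroup (Fin 2) F)) = {1, -1} := by
    ext X
    rw [SetLike.mem_coe, mem_center_iff']
    simp
  rw [← SetLike.coe_sort_coe, this, Nat.card_coe_set_eq,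
    Set.ncard_pair (neg_one_ne_one h2).symm]

/-- `2XY = 0` is impossible -/
theorem ne_neg_self (h2 : (2 : F) ≠ 0) (X : SpecialLinearGroup (Fin 2) F) : X ≠ -X := by
  intro h
  have h1 : X * X⁻¹ = -X * X⁻¹ := by rw [← h]
  rw [mul_inv_cancel, neg_mul, mul_inv_cancel] at h1
  exact neg_one_ne_one h2 h1.symm


end

section
open Matrix Cfsg.Agent.Lib.Helper53 Cfsg.Agent.Lib.Helper14.SL2Order4

variable {F : Type*} [Field F]

variable [Fintype F]

/-- the image of `X` in `PSL₂` is an involution iff `X² = -1` -/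
theorem orderOf_mk_eq_two_iff (hF : Odd (Fintype.card F)) (X : SpecialLinearGroup (Fin 2) F) :
    orderOf (QuotientGroup.mk X : Matrix.ProjectiveSpecialLinearGroup (Fin 2) F) = 2 ↔
      X * X = -1 := by
  have h2 := two_ne_zero_of_odd_card_field hF
  constructor
  · intro hx
    have hx2 : (QuotientGroup.mk X : Matrix.ProjectiveSpecialLinearGroup (Fin 2) F) ^ 2 = 1 := by
      have := pow_orderOf_eq_one (QuotientGroup.mk X : Matrix.ProjectiveSpecialLinearGroup (Fin 2) F)
      rw [hx] at this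
      exact this
    have hx1 : (QuotientGroup.mk X : Matrix.ProjectiveSpecialLinearGroup (Fin 2) F) ≠ 1 := by
      intro h
      rw [h, orderOf_one] at hx
      norm_num at hx
    rw [pow_two, ← QuotientGroup.mk_mul, QuotientGroup.eq_one_iff] at hx2
    rw [ne_eq, QuotientGroup.eq_one_iff] at hx1
    rcases (mem_center_iff' (X * X)).mp hx2 with h | h
    · exfalso
      apply hx1
      rw [mem_center_iff']
      exact sl2_sq_eq_one hF X h
    · exact h
  · intro hX
    apply orderOf_eq_prime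
    · rw [pow_two, ← QuotientGroup.mk_mul, QuotientGroup.eq_one_iff, hX, mem_center_iff']
      right; rfl
    · rw [ne_eq, QuotientGroup.eq_one_iff, mem_center_iff']
      rintro (rfl | rfl)
      · rw [one_mul] at hX
        exact neg_one_ne_one h2 hX.symm
      · rw [neg_mul_neg, one_mul] at hX
        exact neg_one_ne_one h2 hX.symm

omit [Fintype F] in
/-- two lifts of the same element differ by a sign -/
theorem mk_eq_mk_iff (X Y : SpecialLinearGroup (Fin 2) F) :
    (QuotientGroup.mk X : Matrix.ProjectiveSpecialLinearGroup (Fin 2) F) = QuotientGroup.mk Y ↔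
      Y = X ∨ Y = -X := by
  rw [QuotientGroup.eq, mem_center_iff']
  constructor
  · rintro (h | h)
    · left
      have := congrArg (fun t => X * t) h
      simpa using this
    · right
      have := congrArg (fun t => X * t) h
      simpa using this
  · rintro (rfl | rfl)
    · left; simp
    · right; simp

omit [Fintype F] in
theorem sq_of_mem_Cm (Z : SpecialLinearGroup (Fin 2) F) (hmem : Z ∈ Cm F) : Z * Z = -1 := by
  obtain ⟨h1, h2'⟩ := (mem_Cm_iff _).mp hmem
  have hdet := Z.2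
  rw [Matrix.det_fin_two, h1, h2'] at hdet
  apply Subtype.ext
  rw [Matrix.SpecialLinearGroup.coe_mul]
  ext i j
  fin_cases i <;> fin_cases j
  · simp [Matrix.mul_apply, Fin.sum_univ_two, h1, h2']
    linear_combination (-1 : F) * hdet
  · simp [Matrix.mul_apply, Fin.sum_univ_two, h1, h2']
    ring
  · simp [Matrix.mul_apply, Fin.sum_univ_two, h1, h2']
    ring
  · simp [Matrix.mul_apply, Fin.sum_univ_two, h1, h2']
    linear_combination (-1 : F) * hdet

/-- an element anticommuting with an element of square `-1` has square `-1` -/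
theorem sq_eq_neg_one_of_anticomm (hF : Odd (Fintype.card F)) (X Y : SpecialLinearGroup (Fin 2) F)
    (hX : X * X = -1) (hXY : Y * X = -(X * Y)) : Y * Y = -1 := by
  obtain ⟨g, rfl⟩ := sl2_sq_eq_neg_one hF X hX
  have hmem : g⁻¹ * Y * g ∈ Cm F := by
    simp only [Cm, Set.mem_ofPred_eq]
    rw [w_inv]
    have h1 : g⁻¹ * Y * g * sl2w F = g⁻¹ * (Y * (g * sl2w F * g⁻¹)) * g := by group
    rw [h1, hXY]
    simp only [mul_neg, neg_mul]
    congr 1
    group
  have hsq := sq_of_mem_Cm _ hmem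
  have h3 : (g⁻¹ * Y * g) * (g⁻¹ * Y * g) = g⁻¹ * (Y * Y) * g := by group
  rw [h3] at hsq
  have h4 : Y * Y = g * (g⁻¹ * (Y * Y) * g) * g⁻¹ := by group
  rw [h4, hsq]
  simp


end

section
open Matrix Cfsg.Agent.Lib.Helper53 Cfsg.Agent.Lib.Helper14.SL2Order4

variable {F : Type*} [Field F]

variable [Fintype F]
/-- commuting distinct involutions of `PSL₂` lift to anticommuting elements -/
theorem anticomm_iff (hF : Odd (Fintype.card F)) (X Y : SpecialLinearGroup (Fin 2) F)
    (hX : X * X = -1) :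
    (orderOf (QuotientGroup.mk Y : Matrix.ProjectiveSpecialLinearGroup (Fin 2) F) = 2 ∧
      (QuotientGroup.mk X : Matrix.ProjectiveSpecialLinearGroup (Fin 2) F) ≠ QuotientGroup.mk Y ∧
      (QuotientGroup.mk X : Matrix.ProjectiveSpecialLinearGroup (Fin 2) F) * QuotientGroup.mk Y
        = QuotientGroup.mk Y * QuotientGroup.mk X) ↔ Y * X = -(X * Y) := by
  have h2 := two_ne_zero_of_odd_card_field hF
  constructor
  · rintro ⟨hoY, hne, hcomm⟩
    have hY := (orderOf_mk_eq_two_iff hF Y).mp hoY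
    rw [← QuotientGroup.mk_mul, ← QuotientGroup.mk_mul, mk_eq_mk_iff] at hcomm
    rcases hcomm with h | h
    · exfalso
      apply hne
      have hsq : (X * Y) * (X * Y) = 1 := by
        have : (X * Y) * (X * Y) = X * (Y * X) * Y := by group
        rw [this, h]
        have : X * (X * Y) * Y = (X * X) * (Y * Y) := by group
        rw [this, hX, hY, neg_mul_neg, one_mul]
      rw [mk_eq_mk_iff]
      rcases sl2_sq_eq_one hF _ hsq with h1 | h1
      · right
        have : Y = X⁻¹ := eq_inv_of_mul_eq_one_right h1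
        rw [this]
        apply inv_eq_of_mul_eq_one_right
        rw [mul_neg, hX, neg_neg]
      · left
        have h3 : X * (-Y) = 1 := by rw [mul_neg, h1, neg_neg]
        have : -Y = X⁻¹ := eq_inv_of_mul_eq_one_right h3
        have h4 : X⁻¹ = -X := by
          apply inv_eq_of_mul_eq_one_right
          rw [mul_neg, hX, neg_neg]
        rw [h4] at this
        exact neg_injective this
    · exact h
  · intro h
    have hY := sq_eq_neg_one_of_anticomm hF X Y hX h
    refine ⟨(orderOf_mk_eq_two_iff hF Y).mpr hY, ?_, ?_⟩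
    · rw [ne_eq, mk_eq_mk_iff]
      rintro (rfl | rfl)
      · exact ne_neg_self h2 _ h
      · rw [neg_mul, mul_neg] at h
        exact ne_neg_self h2 _ h
    · rw [← QuotientGroup.mk_mul, ← QuotientGroup.mk_mul, mk_eq_mk_iff]
      right; exact h


end

section
open Matrix Cfsg.Agent.Lib.Helper53 Cfsg.Agent.Lib.Helper14.SL2Order4

/-- a map all of whose fibres have `c` elements -/
theorem card_eq_of_fibers {α β : Type*} [Finite α] [Finite β] (f : α → β) (c : ℕ)
    (h : ∀ b, Nat.card {a // f a = b} = c) : Nat.card α = Nat.card β * c := by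
  classical
  have := Fintype.ofFinite β
  rw [← Nat.card_congr (Equiv.sigmaFiberEquiv f), Nat.card_sigma]
  simp only [h, Finset.sum_const, Finset.card_univ, smul_eq_mul, Nat.card_eq_fintype_card]

variable {F : Type*} [Field F] [Fintype F]

/-- the number of elements of square `-1` -/
theorem card_sq_neg_one (hF : Odd (Fintype.card F)) :
    Nat.card (SpecialLinearGroup (Fin 2) F) =
      Nat.card {X : SpecialLinearGroup (Fin 2) F // X * X = -1} * Nat.card (Cp F) := by
  have hw : ∀ g : SpecialLinearGroup (Fin 2) F, (g * sl2w F * g⁻¹) * (g * sl2w F * g⁻¹) = -1 := by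
    intro g
    have : (g * sl2w F * g⁻¹) * (g * sl2w F * g⁻¹) = g * (sl2w F * sl2w F) * g⁻¹ := by group
    rw [this, sl2w_sq, mul_neg, mul_one, neg_mul, mul_inv_cancel]
  apply card_eq_of_fibers (fun g : SpecialLinearGroup (Fin 2) F =>
    (⟨g * sl2w F * g⁻¹, hw g⟩ : {X : SpecialLinearGroup (Fin 2) F // X * X = -1}))
  rintro ⟨X, hX⟩
  obtain ⟨g₀, rfl⟩ := sl2_sq_eq_neg_one hF X hX
  apply Nat.card_congr
  refine ⟨fun g => ⟨g₀⁻¹ * g.1, ?_⟩, fun h => ⟨g₀ * h.1, ?_⟩, ?_, ?_⟩
  · obtain ⟨g, hg⟩ := g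
    have hg := congrArg Subtype.val hg
    simp only at hg
    simp only [Cp, Set.mem_ofPred_eq]
    have h1 : g * sl2w F = (g * sl2w F * g⁻¹) * g := by group
    rw [mul_assoc, h1, hg]
    group
  · obtain ⟨h, hh⟩ := h
    simp only [Cp, Set.mem_ofPred_eq] at hh
    apply Subtype.ext
    simp only
    have : g₀ * h * sl2w F * (g₀ * h)⁻¹ = g₀ * (h * sl2w F) * h⁻¹ * g₀⁻¹ := by group
    rw [this, hh]
    group
  · intro g
    apply Subtype.ext
    simp
  · intro h
    apply Subtype.ext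
    simp

/-- the number of elements anticommuting with an element of square `-1` -/
theorem card_anticomm (hF : Odd (Fintype.card F)) (X : SpecialLinearGroup (Fin 2) F)
    (hX : X * X = -1) :
    Nat.card {Y : SpecialLinearGroup (Fin 2) F // Y * X = -(X * Y)} = Nat.card (Cm F) := by
  obtain ⟨g₀, rfl⟩ := sl2_sq_eq_neg_one hF X hX
  apply Nat.card_congr
  refine ⟨fun Y => ⟨g₀⁻¹ * Y.1 * g₀, ?_⟩, fun Z => ⟨g₀ * Z.1 * g₀⁻¹, ?_⟩, ?_, ?_⟩
  · have hY := Y.2
    simp only [Cm, Set.mem_ofPred_eq]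
    rw [w_inv]
    have h1 : g₀⁻¹ * Y.1 * g₀ * sl2w F = g₀⁻¹ * (Y.1 * (g₀ * sl2w F * g₀⁻¹)) * g₀ := by group
    rw [h1, hY]
    simp only [mul_neg, neg_mul]
    congr 1
    group
  · obtain ⟨Z, hZ⟩ := Z
    simp only [Cm, Set.mem_ofPred_eq] at hZ
    rw [w_inv] at hZ
    simp only
    have h1 : g₀ * Z * g₀⁻¹ * (g₀ * sl2w F * g₀⁻¹) = g₀ * (Z * sl2w F) * g₀⁻¹ := by group
    rw [h1, hZ]
    simp only [mul_neg, neg_mul]
    congr 1
    group
  · intro Y
    apply Subtype.ext
    simp only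
    group
  · intro Z
    apply Subtype.ext
    simp only
    group

/-- `|Cp| = |Cm|` -/
theorem card_Cp_eq_card_Cm (hF : Odd (Fintype.card F)) : Nat.card (Cp F) = Nat.card (Cm F) := by
  obtain ⟨a₀, b₀, h₀⟩ := exists_sq_add_sq_of_odd_card hF (-1 : F)
  exact Nat.card_congr (CpEquiv.trans ((circleNegEquiv a₀ b₀ h₀).trans CmEquiv.symm))


end

section
open Matrix Cfsg.Agent.Lib.Helper53 Cfsg.Agent.Lib.Helper14.SL2Order4

variable {F : Type*} [Field F]

variable [Fintype F]
/-- the number of involutions of `PSL₂` -/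
theorem card_involutions (hF : Odd (Fintype.card F)) :
    Nat.card {X : SpecialLinearGroup (Fin 2) F // X * X = -1} =
      2 * Nat.card {x : Matrix.ProjectiveSpecialLinearGroup (Fin 2) F // orderOf x = 2} := by
  have h2 := two_ne_zero_of_odd_card_field hF
  have e := QuotientGroup.preimageMkEquivSubgroupProdSet
    (Subgroup.center (SpecialLinearGroup (Fin 2) F))
    {x : Matrix.ProjectiveSpecialLinearGroup (Fin 2) F | orderOf x = 2}
  have h1 := Nat.card_congr e
  rw [Nat.card_prod, card_center h2] at h1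
  have h3 : Nat.card {x : Matrix.ProjectiveSpecialLinearGroup (Fin 2) F // orderOf x = 2} =
    Nat.card ↑{x : Matrix.ProjectiveSpecialLinearGroup (Fin 2) F | orderOf x = 2} := rfl
  rw [h3, ← h1]
  apply Nat.card_congr
  apply Equiv.subtypeEquivRight
  intro X
  rw [Set.mem_preimage, Set.mem_ofPred_eq]
  exact (orderOf_mk_eq_two_iff hF X).symm

/-- the number of involutions commuting with a given one -/
theorem card_commuting (hF : Odd (Fintype.card F))
    (x : Matrix.ProjectiveSpecialLinearGroup (Fin 2) F) (hx : orderOf x = 2) :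
    Nat.card (Cm F) = 2 * Nat.card {y : Matrix.ProjectiveSpecialLinearGroup (Fin 2) F //
      orderOf y = 2 ∧ x ≠ y ∧ x * y = y * x} := by
  have h2 := two_ne_zero_of_odd_card_field hF
  obtain ⟨X, rfl⟩ := QuotientGroup.mk_surjective x
  have hX := (orderOf_mk_eq_two_iff hF X).mp hx
  have e := QuotientGroup.preimageMkEquivSubgroupProdSet
    (Subgroup.center (SpecialLinearGroup (Fin 2) F))
    {y : Matrix.ProjectiveSpecialLinearGroup (Fin 2) F | orderOf y = 2 ∧
      (QuotientGroup.mk X : Matrix.ProjectiveSpecialLinearGroup (Fin 2) F) ≠ y ∧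
      (QuotientGroup.mk X : Matrix.ProjectiveSpecialLinearGroup (Fin 2) F) * y = y * QuotientGroup.mk X}
  have h1 := Nat.card_congr e
  rw [Nat.card_prod, card_center h2] at h1
  have h3 : Nat.card {y : Matrix.ProjectiveSpecialLinearGroup (Fin 2) F // orderOf y = 2 ∧
      (QuotientGroup.mk X : Matrix.ProjectiveSpecialLinearGroup (Fin 2) F) ≠ y ∧
      (QuotientGroup.mk X : Matrix.ProjectiveSpecialLinearGroup (Fin 2) F) * y = y * QuotientGroup.mk X} =
    Nat.card ↑{y : Matrix.ProjectiveSpecialLinearGroup (Fin 2) F | orderOf y = 2 ∧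
      (QuotientGroup.mk X : Matrix.ProjectiveSpecialLinearGroup (Fin 2) F) ≠ y ∧
      (QuotientGroup.mk X : Matrix.ProjectiveSpecialLinearGroup (Fin 2) F) * y = y * QuotientGroup.mk X} := rfl
  rw [h3, ← h1, ← card_anticomm hF X hX]
  apply Nat.card_congr
  apply Equiv.subtypeEquivRight
  intro Y
  rw [Set.mem_preimage, Set.mem_ofPred_eq]
  exact (anticomm_iff hF X Y hX).symm

/-- four times the number of ordered pairs of distinct commuting involutions of `PSL₂(q)` is
`|SL₂(q)|` -/
theorem card_pairs (hF : Odd (Fintype.card F)) :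
    4 * Nat.card {p : Matrix.ProjectiveSpecialLinearGroup (Fin 2) F ×
        Matrix.ProjectiveSpecialLinearGroup (Fin 2) F //
        orderOf p.1 = 2 ∧ orderOf p.2 = 2 ∧ p.1 ≠ p.2 ∧ p.1 * p.2 = p.2 * p.1} =
      Nat.card (SpecialLinearGroup (Fin 2) F) := by
  classical
  have e : {p : Matrix.ProjectiveSpecialLinearGroup (Fin 2) F ×
        Matrix.ProjectiveSpecialLinearGroup (Fin 2) F //
        orderOf p.1 = 2 ∧ orderOf p.2 = 2 ∧ p.1 ≠ p.2 ∧ p.1 * p.2 = p.2 * p.1} ≃
      Σ x : {x : Matrix.ProjectiveSpecialLinearGroup (Fin 2) F // orderOf x = 2},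
        {y : Matrix.ProjectiveSpecialLinearGroup (Fin 2) F //
          orderOf y = 2 ∧ x.1 ≠ y ∧ x.1 * y = y * x.1} :=
    { toFun := fun p => ⟨⟨p.1.1, p.2.1⟩, ⟨p.1.2, p.2.2⟩⟩
      invFun := fun s => ⟨(s.1.1, s.2.1), s.1.2, s.2.2⟩
      left_inv := fun p => rfl
      right_inv := fun s => rfl }
  rw [Nat.card_congr e, Nat.card_sigma, card_sq_neg_one hF, card_involutions hF,
    card_Cp_eq_card_Cm hF]
  have : ∀ x : {x : Matrix.ProjectiveSpecialLinearGroup (Fin 2) F // orderOf x = 2},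
      Nat.card {y : Matrix.ProjectiveSpecialLinearGroup (Fin 2) F //
          orderOf y = 2 ∧ x.1 ≠ y ∧ x.1 * y = y * x.1} * 2 = Nat.card (Cm F) := by
    intro x
    rw [card_commuting hF x.1 x.2, mul_comm]
  have hsum : (∑ x : {x : Matrix.ProjectiveSpecialLinearGroup (Fin 2) F // orderOf x = 2},
      Nat.card {y : Matrix.ProjectiveSpecialLinearGroup (Fin 2) F //
          orderOf y = 2 ∧ x.1 ≠ y ∧ x.1 * y = y * x.1}) * 2 =
      Nat.card {x : Matrix.ProjectiveSpecialLinearGroup (Fin 2) F // orderOf x = 2} *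
        Nat.card (Cm F) := by
    rw [Finset.sum_mul, Finset.sum_congr rfl (fun x _ => this x), Finset.sum_const,
      Finset.card_univ, smul_eq_mul, ← Nat.card_eq_fintype_card]
  linarith


end

section
open Cfsg.Agent.Lib.Helper4

/-- ordered pairs of distinct non-base points in a four-element type -/
theorem card_pairs_of_card_four {α : Type*} (h4 : Nat.card α = 4) (a : α) :
    Nat.card {p : α × α // p.1 ≠ a ∧ p.2 ≠ a ∧ p.1 ≠ p.2} = 6 := by
  classical
  have : Finite α := Nat.finite_of_card_ne_zero (by rw [h4]; norm_num)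
  have := Fintype.ofFinite α
  rw [Nat.card_eq_fintype_card] at h4
  let e₀ : α ≃ Fin 4 := Fintype.equivFinOfCardEq h4
  let e : α ≃ Fin 4 := e₀.trans (Equiv.swap (e₀ a) 0)
  have hea : e a = 0 := by simp [e]
  have e' : {p : α × α // p.1 ≠ a ∧ p.2 ≠ a ∧ p.1 ≠ p.2} ≃
      {p : Fin 4 × Fin 4 // p.1 ≠ 0 ∧ p.2 ≠ 0 ∧ p.1 ≠ p.2} := by
    apply (Equiv.prodCongr e e).subtypeEquiv
    rintro ⟨x, y⟩
    simp only [Equiv.prodCongr_apply, Prod.map_fst, Prod.map_snd, ne_eq]
    rw [← hea, e.apply_eq_iff_eq, e.apply_eq_iff_eq, e.apply_eq_iff_eq]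
  rw [Nat.card_congr e', Nat.card_eq_fintype_card]
  rfl

variable {G : Type*} [Group G]

theorem sq_eq_one_of_orderOf {x : G} (hx : orderOf x = 2) : x * x = 1 := by
  have := pow_orderOf_eq_one x
  rwa [hx, pow_two] at this

theorem ne_one_of_orderOf {x : G} (hx : orderOf x = 2) : x ≠ 1 := by
  rintro rfl
  rw [orderOf_one] at hx
  norm_num at hx

theorem orderOf_of_mem_klein (V : Subgroup G) (hV : IsKleinFour V) (x : G) (hx : x ∈ V)
    (hx1 : x ≠ 1) : orderOf x = 2 := by
  apply orderOf_eq_prime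
  · have := hV.mul_self (⟨x, hx⟩ : V)
    rw [pow_two]
    exact congrArg Subtype.val this
  · exact hx1

theorem comm_of_mem_klein (V : Subgroup G) (hV : IsKleinFour V) (x y : G) (hx : x ∈ V)
    (hy : y ∈ V) : x * y = y * x := by
  have := hV.isMulCommutative
  have h := mul_comm' (⟨x, hx⟩ : V) ⟨y, hy⟩
  exact congrArg Subtype.val h

/-- the Klein four-group generated by a pair of distinct commuting involutions -/
noncomputable def kleinOfPair (p : {p : G × G // orderOf p.1 = 2 ∧ orderOf p.2 = 2 ∧ p.1 ≠ p.2 ∧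
    p.1 * p.2 = p.2 * p.1}) : {V : Subgroup G // IsKleinFour V} :=
  ⟨kleinOf (sq_eq_one_of_orderOf p.2.1) (sq_eq_one_of_orderOf p.2.2.1) p.2.2.2.2,
    isKleinFour_kleinOf _ _ _ (ne_one_of_orderOf p.2.1) (ne_one_of_orderOf p.2.2.1) p.2.2.2.1⟩

theorem six_mul_card_klein [Finite G] :
    Nat.card {p : G × G // orderOf p.1 = 2 ∧ orderOf p.2 = 2 ∧ p.1 ≠ p.2 ∧
      p.1 * p.2 = p.2 * p.1} = Nat.card {V : Subgroup G // IsKleinFour V} * 6 := by
  apply card_eq_of_fibers kleinOfPair
  rintro ⟨V, hV⟩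
  rw [← card_pairs_of_card_four hV.card_four (1 : V)]
  apply Nat.card_congr
  refine ⟨fun p => ⟨(⟨p.1.1.1, ?_⟩, ⟨p.1.1.2, ?_⟩), ?_, ?_, ?_⟩,
    fun p => ⟨⟨(p.1.1.1, p.1.2.1), ?_, ?_, ?_, ?_⟩, ?_⟩, ?_, ?_⟩
  · obtain ⟨⟨⟨x, y⟩, hx, hy, hne, hc⟩, hp⟩ := p
    have := congrArg Subtype.val hp
    simp only [kleinOfPair] at this
    show x ∈ V
    rw [← this]
    exact left_mem_kleinOf _ _ _
  · obtain ⟨⟨⟨x, y⟩, hx, hy, hne, hc⟩, hp⟩ := p
    have := congrArg Subtype.val hp
    simp only [kleinOfPair] at this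
    show y ∈ V
    rw [← this]
    exact right_mem_kleinOf _ _ _
  · obtain ⟨⟨⟨x, y⟩, hx, hy, hne, hc⟩, hp⟩ := p
    simp only [ne_eq, Subgroup.mk_eq_one]
    exact ne_one_of_orderOf hx
  · obtain ⟨⟨⟨x, y⟩, hx, hy, hne, hc⟩, hp⟩ := p
    simp only [ne_eq, Subgroup.mk_eq_one]
    exact ne_one_of_orderOf hy
  · obtain ⟨⟨⟨x, y⟩, hx, hy, hne, hc⟩, hp⟩ := p
    simp only [ne_eq, Subtype.mk.injEq]
    exact hne
  · obtain ⟨⟨⟨x, hx⟩, ⟨y, hy⟩⟩, hx1, hy1, hne⟩ := p
    simp only
    apply orderOf_of_mem_klein V hV x hx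
    simpa using hx1
  · obtain ⟨⟨⟨x, hx⟩, ⟨y, hy⟩⟩, hx1, hy1, hne⟩ := p
    simp only
    apply orderOf_of_mem_klein V hV y hy
    simpa using hy1
  · obtain ⟨⟨⟨x, hx⟩, ⟨y, hy⟩⟩, hx1, hy1, hne⟩ := p
    simpa using hne
  · obtain ⟨⟨⟨x, hx⟩, ⟨y, hy⟩⟩, hx1, hy1, hne⟩ := p
    exact comm_of_mem_klein V hV x y hx hy
  · obtain ⟨⟨⟨x, hx⟩, ⟨y, hy⟩⟩, hx1, hy1, hne⟩ := p
    apply Subtype.ext
    simp only [kleinOfPair]
    apply Subgroup.eq_of_le_of_card_ge
    · intro g hg
      rw [mem_kleinOf] at hg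
      rcases hg with rfl | rfl | rfl | rfl
      · exact V.one_mem
      · exact hx
      · exact hy
      · exact V.mul_mem hx hy
    · rw [hV.card_four, card_kleinOf]
      · simpa using hx1
      · simpa using hy1
      · simpa using hne
  · intro p
    rfl
  · intro p
    rfl


end

section
open Matrix Cfsg.Agent.Lib.Helper53 Cfsg.Agent.Lib.Helper14.SL2Order4
variable {F : Type*} [Field F] [Fintype F]

/-- `12 · #{Klein four-subgroups of PSL₂(q)} = |PSL₂(q)|` for `q` odd -/
theorem twelve_mul_card_klein (hF : Odd (Fintype.card F)) :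
    12 * Nat.card {V : Subgroup (Matrix.ProjectiveSpecialLinearGroup (Fin 2) F) // IsKleinFour V} =
      Nat.card (Matrix.ProjectiveSpecialLinearGroup (Fin 2) F) := by
  have h2 := two_ne_zero_of_odd_card_field hF
  have h1 := card_pairs hF
  have h3 := six_mul_card_klein (G := Matrix.ProjectiveSpecialLinearGroup (Fin 2) F)
  have h4 := Subgroup.card_eq_card_quotient_mul_card_subgroup
    (Subgroup.center (SpecialLinearGroup (Fin 2) F))
  rw [card_center h2] at h4
  have h5 : Nat.card (SpecialLinearGroup (Fin 2) F ⧸ Subgroup.center (SpecialLinearGroup (Fin 2) F))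
    = Nat.card (Matrix.ProjectiveSpecialLinearGroup (Fin 2) F) := rfl
  rw [h5] at h4
  rw [h3, h4] at h1
  omega

end

end Cfsg.Agent.Lib.Helper14.PSL2Klein
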