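import Mathlib
import Cfsg.Agent.Lib.Helper14.PSL2Klein
import Cfsg.Agent.Lib.Helper38.SLCard
set_option autoImplicit false

/-! Conjugacy classes of Klein four-subgroups of `PSL₂(q)`, `q` odd. -/

namespace Cfsg.Agent.Lib.Helper14.PSL2Klein

section
open Matrix Cfsg.Agent.Lib.Helper53 Cfsg.Agent.Lib.Helper14.SL2Order4

variable {F : Type*} [Field F]

/-- pairs `(X, Y)` with `X² = -1` and `YX = -XY` -/
def LP (F : Type*) [Field F] : Set (SpecialLinearGroup (Fin 2) F × SpecialLinearGroup (Fin 2) F) :=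
  {p | p.1 * p.1 = -1 ∧ p.2 * p.1 = -(p.1 * p.2)}

/-- simultaneous conjugation -/
def cj (g : SpecialLinearGroup (Fin 2) F)
    (p : SpecialLinearGroup (Fin 2) F × SpecialLinearGroup (Fin 2) F) :
    SpecialLinearGroup (Fin 2) F × SpecialLinearGroup (Fin 2) F :=
  (g * p.1 * g⁻¹, g * p.2 * g⁻¹)

theorem cj_mul (g h : SpecialLinearGroup (Fin 2) F)
    (p : SpecialLinearGroup (Fin 2) F × SpecialLinearGroup (Fin 2) F) :
    cj (g * h) p = cj g (cj h p) := by
  simp only [cj, Prod.mk.injEq]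
  constructor <;> group

theorem cj_one (p : SpecialLinearGroup (Fin 2) F × SpecialLinearGroup (Fin 2) F) :
    cj 1 p = p := by
  simp [cj]

theorem cj_mem_LP (g : SpecialLinearGroup (Fin 2) F)
    (p : SpecialLinearGroup (Fin 2) F × SpecialLinearGroup (Fin 2) F) (hp : p ∈ LP F) :
    cj g p ∈ LP F := by
  obtain ⟨h1, h2⟩ := hp
  constructor
  · simp only [cj]
    have : g * p.1 * g⁻¹ * (g * p.1 * g⁻¹) = g * (p.1 * p.1) * g⁻¹ := by group
    rw [this, h1]
    simp
  · simp only [cj]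
    have : g * p.2 * g⁻¹ * (g * p.1 * g⁻¹) = g * (p.2 * p.1) * g⁻¹ := by group
    rw [this, h2]
    have : g * p.1 * g⁻¹ * (g * p.2 * g⁻¹) = g * (p.1 * p.2) * g⁻¹ := by group
    rw [this]
    simp

/-- the stabiliser of the standard pair is `±1` -/
theorem stab_std (h2 : (2 : F) ≠ 0) (h Y : SpecialLinearGroup (Fin 2) F) (hY : Y ∈ Cm F)
    (hw : h * sl2w F = sl2w F * h) (hhY : h * Y = Y * h) : h = 1 ∨ h = -1 := by
  obtain ⟨a1, a2⟩ := (mem_Cp_iff h).mp hw
  obtain ⟨c1, c2⟩ := (mem_Cm_iff Y).mp hY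
  have hdetY := Y.2
  rw [Matrix.det_fin_two, c1, c2] at hdetY
  have hdeth := h.2
  rw [Matrix.det_fin_two, a1, a2] at hdeth
  have e := congrArg Subtype.val hhY
  rw [Matrix.SpecialLinearGroup.coe_mul, Matrix.SpecialLinearGroup.coe_mul] at e
  have e00 := congrFun (congrFun e 0) 0
  have e01 := congrFun (congrFun e 0) 1
  simp only [Matrix.mul_apply, Fin.sum_univ_two, c1, c2, a1, a2] at e00 e01
  -- b * d = 0 and b * c = 0
  have hbd : h.1 0 1 * Y.1 0 1 = 0 := by
    have : 2 * (h.1 0 1 * Y.1 0 1) = 0 := by linear_combination e00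
    rcases mul_eq_zero.mp this with h' | h'
    · exact absurd h' h2
    · exact h'
  have hbc : h.1 0 1 * Y.1 0 0 = 0 := by
    have : 2 * (h.1 0 1 * Y.1 0 0) = 0 := by linear_combination (-1 : F) * e01
    rcases mul_eq_zero.mp this with h' | h'
    · exact absurd h' h2
    · exact h'
  have hb : h.1 0 1 = 0 := by
    by_contra hb
    have hd : Y.1 0 1 = 0 := by
      rcases mul_eq_zero.mp hbd with h' | h'
      · exact absurd h' hb
      · exact h'
    have hc : Y.1 0 0 = 0 := by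
      rcases mul_eq_zero.mp hbc with h' | h'
      · exact absurd h' hb
      · exact h'
    rw [hd, hc] at hdetY
    simp at hdetY
  rw [hb] at hdeth a1
  have ha : h.1 0 0 = 1 ∨ h.1 0 0 = -1 := by
    apply mul_self_eq_one_iff.mp
    linear_combination hdeth
  rcases ha with ha | ha
  · left
    apply Subtype.ext
    ext i j
    fin_cases i <;> fin_cases j <;> simp [ha, hb, a1, a2]
  · right
    apply Subtype.ext
    ext i j
    fin_cases i <;> fin_cases j <;> simp [ha, hb, a1, a2]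


end

section
open Matrix Cfsg.Agent.Lib.Helper53 Cfsg.Agent.Lib.Helper14.SL2Order4

variable {F : Type*} [Field F]

theorem cj_neg (g : SpecialLinearGroup (Fin 2) F)
    (p : SpecialLinearGroup (Fin 2) F × SpecialLinearGroup (Fin 2) F) : cj (-g) p = cj g p := by
  have hinv : (-g)⁻¹ = -g⁻¹ := by
    apply inv_eq_of_mul_eq_one_right
    rw [neg_mul_neg, mul_inv_cancel]
  simp only [cj, hinv, neg_mul, mul_neg, neg_neg]

variable [Fintype F]

/-- the stabiliser of a pair in `LP` is `±1` -/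
theorem stab_LP (hF : Odd (Fintype.card F))
    (p : SpecialLinearGroup (Fin 2) F × SpecialLinearGroup (Fin 2) F) (hp : p ∈ LP F)
    (h : SpecialLinearGroup (Fin 2) F) (hh : cj h p = p) : h = 1 ∨ h = -1 := by
  have h2 := two_ne_zero_of_odd_card_field hF
  obtain ⟨X, Y⟩ := p
  obtain ⟨hX, hXY⟩ := hp
  simp only at hX hXY
  simp only [cj, Prod.mk.injEq] at hh
  obtain ⟨hh1, hh2⟩ := hh
  obtain ⟨g₀, rfl⟩ := sl2_sq_eq_neg_one hF X hX
  have hmem : g₀⁻¹ * Y * g₀ ∈ Cm F := by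
    simp only [Cm, Set.mem_ofPred_eq]
    rw [w_inv]
    have h1 : g₀⁻¹ * Y * g₀ * sl2w F = g₀⁻¹ * (Y * (g₀ * sl2w F * g₀⁻¹)) * g₀ := by group
    rw [h1, hXY]
    simp only [mul_neg, neg_mul]
    congr 1
    group
  have hw : (g₀⁻¹ * h * g₀) * sl2w F = sl2w F * (g₀⁻¹ * h * g₀) := by
    have e1 : h * (g₀ * sl2w F * g₀⁻¹) = (g₀ * sl2w F * g₀⁻¹) * h := by
      nth_rewrite 2 [← hh1]; group
    have e2 : (g₀⁻¹ * h * g₀) * sl2w F = g₀⁻¹ * (h * (g₀ * sl2w F * g₀⁻¹)) * g₀ := by group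
    rw [e2, e1]; group
  have hY' : (g₀⁻¹ * h * g₀) * (g₀⁻¹ * Y * g₀) = (g₀⁻¹ * Y * g₀) * (g₀⁻¹ * h * g₀) := by
    have e1 : h * Y = Y * h := by
      nth_rewrite 2 [← hh2]; group
    have e2 : (g₀⁻¹ * h * g₀) * (g₀⁻¹ * Y * g₀) = g₀⁻¹ * (h * Y) * g₀ := by group
    rw [e2, e1]; group
  rcases stab_std h2 _ _ hmem hw hY' with h' | h'
  · left
    have : h = g₀ * (g₀⁻¹ * h * g₀) * g₀⁻¹ := by group
    rw [this, h']; group
  · right
    have : h = g₀ * (g₀⁻¹ * h * g₀) * g₀⁻¹ := by group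
    rw [this, h']
    simp

/-- orbits of `SL₂` on `LP` have `|SL₂|/2` elements -/
theorem card_orbit (hF : Odd (Fintype.card F))
    (p : SpecialLinearGroup (Fin 2) F × SpecialLinearGroup (Fin 2) F) (hp : p ∈ LP F) :
    Nat.card (SpecialLinearGroup (Fin 2) F) =
      Nat.card (Set.range (fun g : SpecialLinearGroup (Fin 2) F => cj g p)) * 2 := by
  have h2 := two_ne_zero_of_odd_card_field hF
  apply card_eq_of_fibers (Set.rangeFactorization (fun g : SpecialLinearGroup (Fin 2) F => cj g p))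
  rintro ⟨_, g₀, rfl⟩
  have : {a : SpecialLinearGroup (Fin 2) F //
      Set.rangeFactorization (fun g : SpecialLinearGroup (Fin 2) F => cj g p) a =
        ⟨cj g₀ p, g₀, rfl⟩} = ↑({g₀, -g₀} : Set (SpecialLinearGroup (Fin 2) F)) := by
    have hset : {a : SpecialLinearGroup (Fin 2) F |
      Set.rangeFactorization (fun g : SpecialLinearGroup (Fin 2) F => cj g p) a =
        ⟨cj g₀ p, g₀, rfl⟩} = ({g₀, -g₀} : Set (SpecialLinearGroup (Fin 2) F)) := by
      ext a
      simp only [Set.mem_ofPred_eq, Set.mem_insert_iff, Set.mem_singleton_iff,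
        Set.rangeFactorization]
      constructor
      · intro ha
        replace ha : cj a p = cj g₀ p := congrArg Subtype.val ha
        have h1 : cj (g₀⁻¹ * a) p = p := by
          rw [cj_mul, ha, ← cj_mul, inv_mul_cancel, cj_one]
        rcases stab_LP hF p hp _ h1 with h' | h'
        · left
          have : a = g₀ * (g₀⁻¹ * a) := by group
          rw [this, h', mul_one]
        · right
          have : a = g₀ * (g₀⁻¹ * a) := by group
          rw [this, h', mul_neg, mul_one]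
      · rintro (rfl | rfl)
        · rfl
        · exact Subtype.ext (cj_neg _ _)
    rw [← hset]
    rfl
  rw [this, Nat.card_coe_set_eq, Set.ncard_pair (ne_neg_self h2 g₀)]


end

section
open Matrix Cfsg.Agent.Lib.Helper53 Cfsg.Agent.Lib.Helper14.SL2Order4

variable {F : Type*} [Field F]

variable [Fintype F]
theorem card_LP (hF : Odd (Fintype.card F)) :
    Nat.card (LP F) = Nat.card (SpecialLinearGroup (Fin 2) F) := by
  classical
  have e : LP F ≃ Σ X : {X : SpecialLinearGroup (Fin 2) F // X * X = -1},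
      {Y : SpecialLinearGroup (Fin 2) F // Y * X.1 = -(X.1 * Y)} :=
    { toFun := fun p => ⟨⟨p.1.1, p.2.1⟩, ⟨p.1.2, p.2.2⟩⟩
      invFun := fun s => ⟨(s.1.1, s.2.1), s.1.2, s.2.2⟩
      left_inv := fun p => rfl
      right_inv := fun s => rfl }
  rw [Nat.card_congr e, Nat.card_sigma, card_sq_neg_one hF, card_Cp_eq_card_Cm hF]
  rw [Finset.sum_congr rfl (fun X _ => card_anticomm hF X.1 X.2), Finset.sum_const,
    Finset.card_univ, smul_eq_mul, ← Nat.card_eq_fintype_card]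

/-- `SL₂` has at most two orbits on `LP` -/
theorem three_orbits (hF : Odd (Fintype.card F))
    (p₁ p₂ p₃ : SpecialLinearGroup (Fin 2) F × SpecialLinearGroup (Fin 2) F)
    (h₁ : p₁ ∈ LP F) (h₂ : p₂ ∈ LP F) (h₃ : p₃ ∈ LP F) :
    (∃ g, cj g p₁ = p₂) ∨ (∃ g, cj g p₁ = p₃) ∨ (∃ g, cj g p₂ = p₃) := by
  by_contra hcon
  push Not at hcon
  obtain ⟨c12, c13, c23⟩ := hcon
  have hdis : ∀ p p' : SpecialLinearGroup (Fin 2) F × SpecialLinearGroup (Fin 2) F,
      (∀ g, cj g p ≠ p') → Disjoint (Set.range (fun g : SpecialLinearGroup (Fin 2) F => cj g p))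
        (Set.range (fun g : SpecialLinearGroup (Fin 2) F => cj g p')) := by
    intro p p' hpp'
    rw [Set.disjoint_left]
    rintro _ ⟨g, rfl⟩ ⟨h, hh⟩
    simp only at hh
    apply hpp' (h⁻¹ * g)
    rw [cj_mul, ← hh, ← cj_mul, inv_mul_cancel, cj_one]
  have hsub : ∀ p : SpecialLinearGroup (Fin 2) F × SpecialLinearGroup (Fin 2) F, p ∈ LP F →
      Set.range (fun g : SpecialLinearGroup (Fin 2) F => cj g p) ⊆ LP F := by
    rintro p hp _ ⟨g, rfl⟩
    exact cj_mem_LP g p hp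
  have hle : (Set.range (fun g : SpecialLinearGroup (Fin 2) F => cj g p₁) ∪
      Set.range (fun g : SpecialLinearGroup (Fin 2) F => cj g p₂) ∪
      Set.range (fun g : SpecialLinearGroup (Fin 2) F => cj g p₃)).ncard ≤ (LP F).ncard := by
    apply Set.ncard_le_ncard _ (Set.toFinite _)
    exact Set.union_subset (Set.union_subset (hsub _ h₁) (hsub _ h₂)) (hsub _ h₃)
  rw [Set.ncard_union_eq _ (Set.toFinite _) (Set.toFinite _),
    Set.ncard_union_eq (hdis _ _ c12) (Set.toFinite _) (Set.toFinite _),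
    ← Nat.card_coe_set_eq, ← Nat.card_coe_set_eq, ← Nat.card_coe_set_eq, ← Nat.card_coe_set_eq,
    card_LP hF] at hle
  · have e1 := card_orbit hF p₁ h₁
    have e2 := card_orbit hF p₂ h₂
    have e3 := card_orbit hF p₃ h₃
    have hpos : 0 < Nat.card (SpecialLinearGroup (Fin 2) F) := Nat.card_pos
    omega
  · rw [Set.disjoint_union_left]
    exact ⟨hdis _ _ c13, hdis _ _ c23⟩


end
open Matrix Cfsg.Agent.Lib.Helper53 Cfsg.Agent.Lib.Helper14.SL2Order4 Cfsg.Agent.Lib.Helper4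

section
variable {F : Type*} [Field F]

variable [Fintype F]
end

section
variable {G : Type*} [Group G]

theorem exists_pair_of_klein (V : Subgroup G) (hV : IsKleinFour V) :
    ∃ x y : G, x ∈ V ∧ y ∈ V ∧ x ≠ 1 ∧ y ≠ 1 ∧ x ≠ y := by
  have h6 := card_pairs_of_card_four hV.card_four (1 : V)
  have hne : Nonempty {p : V × V // p.1 ≠ 1 ∧ p.2 ≠ 1 ∧ p.1 ≠ p.2} := by
    by_contra hcon
    rw [not_nonempty_iff] at hcon
    rw [Nat.card_of_isEmpty] at h6
    norm_num at h6
  obtain ⟨⟨⟨⟨x, hx⟩, ⟨y, hy⟩⟩, hx1, hy1, hne⟩⟩ := hne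
  refine ⟨x, y, hx, hy, ?_, ?_, ?_⟩
  · simpa using hx1
  · simpa using hy1
  · simpa using hne

theorem klein_eq_of_mem [Finite G] (V W : Subgroup G) (hV : Nat.card V = 4) (hW : Nat.card W = 4)
    (x y : G) (hxV : x ∈ V) (hyV : y ∈ V) (hxW : x ∈ W) (hyW : y ∈ W)
    (hx : x * x = 1) (hy : y * y = 1) (hxy : x * y = y * x)
    (hx1 : x ≠ 1) (hy1 : y ≠ 1) (hne : x ≠ y) : V = W := by
  have key : ∀ U : Subgroup G, Nat.card U = 4 → x ∈ U → y ∈ U → kleinOf hx hy hxy = U := by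
    intro U hU hxU hyU
    apply Subgroup.eq_of_le_of_card_ge
    · intro g hg
      rw [mem_kleinOf] at hg
      rcases hg with rfl | rfl | rfl | rfl
      · exact U.one_mem
      · exact hxU
      · exact hyU
      · exact U.mul_mem hxU hyU
    · rw [hU, card_kleinOf hx hy hxy hx1 hy1 hne]
  rw [← key V hV hxV hyV, ← key W hW hxW hyW]

end

section
variable {F : Type*} [Field F] [Fintype F]

/-- every Klein four-subgroup of `PSL₂` comes from a pair in `LP` -/
theorem exists_LP_of_klein (hF : Odd (Fintype.card F))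
    (V : Subgroup (Matrix.ProjectiveSpecialLinearGroup (Fin 2) F)) (hV : IsKleinFour V) :
    ∃ p ∈ LP F, (QuotientGroup.mk p.1 : Matrix.ProjectiveSpecialLinearGroup (Fin 2) F) ∈ V ∧
      (QuotientGroup.mk p.2 : Matrix.ProjectiveSpecialLinearGroup (Fin 2) F) ∈ V := by
  obtain ⟨x, y, hx, hy, hx1, hy1, hne⟩ := exists_pair_of_klein V hV
  obtain ⟨X, rfl⟩ := QuotientGroup.mk_surjective x
  obtain ⟨Y, rfl⟩ := QuotientGroup.mk_surjective y
  have hX := (orderOf_mk_eq_two_iff hF X).mp (orderOf_of_mem_klein V hV _ hx hx1)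
  refine ⟨(X, Y), ⟨hX, ?_⟩, hx, hy⟩
  apply (anticomm_iff hF X Y hX).mp
  exact ⟨orderOf_of_mem_klein V hV _ hy hy1, hne, comm_of_mem_klein V hV _ _ hx hy⟩

/-- conjugate pairs give conjugate Klein four-groups -/
theorem klein_conj_of_cj (hF : Odd (Fintype.card F))
    (V W : Subgroup (Matrix.ProjectiveSpecialLinearGroup (Fin 2) F)) (hV : IsKleinFour V)
    (hW : IsKleinFour W)
    (p : SpecialLinearGroup (Fin 2) F × SpecialLinearGroup (Fin 2) F) (hp : p ∈ LP F)
    (h1 : (QuotientGroup.mk p.1 : Matrix.ProjectiveSpecialLinearGroup (Fin 2) F) ∈ V)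
    (h2 : (QuotientGroup.mk p.2 : Matrix.ProjectiveSpecialLinearGroup (Fin 2) F) ∈ V)
    (g : SpecialLinearGroup (Fin 2) F)
    (h1' : (QuotientGroup.mk (cj g p).1 : Matrix.ProjectiveSpecialLinearGroup (Fin 2) F) ∈ W)
    (h2' : (QuotientGroup.mk (cj g p).2 : Matrix.ProjectiveSpecialLinearGroup (Fin 2) F) ∈ W) :
    W = V.map (MulAut.conj (QuotientGroup.mk g :
      Matrix.ProjectiveSpecialLinearGroup (Fin 2) F)).toMonoidHom := by
  have hp' := cj_mem_LP g p hp
  obtain ⟨hX', hXY'⟩ := hp'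
  obtain ⟨hoY, hne, hcomm⟩ := (anticomm_iff hF _ _ hX').mpr hXY'
  have hoX := (orderOf_mk_eq_two_iff hF _).mpr hX'
  have hcardmap : Nat.card (V.map (MulAut.conj (QuotientGroup.mk g :
      Matrix.ProjectiveSpecialLinearGroup (Fin 2) F)).toMonoidHom) = 4 := by
    rw [Subgroup.card_map_of_injective (MulEquiv.injective _), hV.card_four]
  have hmem : ∀ Z : SpecialLinearGroup (Fin 2) F,
      (QuotientGroup.mk Z : Matrix.ProjectiveSpecialLinearGroup (Fin 2) F) ∈ V →
      (QuotientGroup.mk (g * Z * g⁻¹) : Matrix.ProjectiveSpecialLinearGroup (Fin 2) F) ∈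
        V.map (MulAut.conj (QuotientGroup.mk g :
          Matrix.ProjectiveSpecialLinearGroup (Fin 2) F)).toMonoidHom := by
    intro Z hZ
    refine ⟨_, hZ, ?_⟩
    simp [MulAut.conj_apply]
  exact klein_eq_of_mem W _ hW.card_four hcardmap _ _ h1' h2' (hmem _ h1) (hmem _ h2)
    (sq_eq_one_of_orderOf hoX) (sq_eq_one_of_orderOf hoY) hcomm
    (ne_one_of_orderOf hoX) (ne_one_of_orderOf hoY) hne

/-- among three Klein four-subgroups of `PSL₂(q)` two are conjugate -/
theorem three_klein (hF : Odd (Fintype.card F))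
    (V₁ V₂ V₃ : Subgroup (Matrix.ProjectiveSpecialLinearGroup (Fin 2) F))
    (h₁ : IsKleinFour V₁) (h₂ : IsKleinFour V₂) (h₃ : IsKleinFour V₃) :
    (∃ g : Matrix.ProjectiveSpecialLinearGroup (Fin 2) F, V₂ = V₁.map (MulAut.conj g).toMonoidHom) ∨
    (∃ g : Matrix.ProjectiveSpecialLinearGroup (Fin 2) F, V₃ = V₁.map (MulAut.conj g).toMonoidHom) ∨
    (∃ g : Matrix.ProjectiveSpecialLinearGroup (Fin 2) F, V₃ = V₂.map (MulAut.conj g).toMonoidHom) := by
  obtain ⟨p₁, hp₁, a₁, b₁⟩ := exists_LP_of_klein hF V₁ h₁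
  obtain ⟨p₂, hp₂, a₂, b₂⟩ := exists_LP_of_klein hF V₂ h₂
  obtain ⟨p₃, hp₃, a₃, b₃⟩ := exists_LP_of_klein hF V₃ h₃
  rcases three_orbits hF p₁ p₂ p₃ hp₁ hp₂ hp₃ with ⟨g, rfl⟩ | ⟨g, rfl⟩ | ⟨g, rfl⟩
  · left
    exact ⟨_, klein_conj_of_cj hF V₁ V₂ h₁ h₂ p₁ hp₁ a₁ b₁ g a₂ b₂⟩
  · right; left
    exact ⟨_, klein_conj_of_cj hF V₁ V₃ h₁ h₃ p₁ hp₁ a₁ b₁ g a₃ b₃⟩
  · right; right
    exact ⟨_, klein_conj_of_cj hF V₂ V₃ h₂ h₃ p₂ hp₂ a₂ b₂ g a₃ b₃⟩

end

open Matrix Cfsg.Agent.Lib.Helper53 Cfsg.Agent.Lib.Helper14.SL2Order4 Cfsg.Agent.Lib.Helper4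

section
variable {G : Type*} [Group G]

theorem isKleinFour_map {H : Type*} [Group H] (f : G →* H) (hf : Function.Injective f)
    (V : Subgroup G) (hV : IsKleinFour V) : IsKleinFour (V.map f) := by
  have e : V ≃* V.map f := V.equivMapOfInjective f hf
  refine ⟨?_, ?_⟩
  · rw [← Nat.card_congr e.toEquiv, hV.card_four]
  · rw [← Monoid.exponent_eq_of_mulEquiv e, hV.exponent_two]

/-- in a group of order `4 · odd` any two subgroups of order four are conjugate -/
theorem conj_of_card_four [Finite G] (M : ℕ) (hM : M % 2 = 1) (hG : Nat.card G = 4 * M)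
    (V W : Subgroup G) (hV : Nat.card V = 4) (hW : Nat.card W = 4) :
    ∃ g : G, W = V.map (MulAut.conj g).toMonoidHom := by
  haveI : Fact (Nat.Prime 2) := ⟨Nat.prime_two⟩
  have key : ∀ U : Subgroup G, Nat.card U = 4 → ∃ Q : Sylow 2 G, (Q : Subgroup G) = U := by
    intro U hU
    have hp : IsPGroup 2 U := IsPGroup.of_card (n := 2) (by rw [hU]; norm_num)
    obtain ⟨Q, hQ⟩ := hp.exists_le_sylow
    refine ⟨Q, ?_⟩
    symm
    apply Subgroup.eq_of_le_of_card_ge hQ
    obtain ⟨k, hk⟩ := IsPGroup.iff_card.1 Q.2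
    have hdvd : Nat.card (Q : Subgroup G) ∣ Nat.card G := Subgroup.card_subgroup_dvd_card _
    rw [hk, hG] at hdvd
    have hcop : Nat.Coprime (2 ^ k) M := by
      apply Nat.Coprime.pow_left
      rw [Nat.coprime_two_left]
      exact Nat.odd_iff.mpr hM
    have h4 : 2 ^ k ∣ 4 := hcop.dvd_of_dvd_mul_right hdvd
    rw [hU, hk]
    exact Nat.le_of_dvd (by norm_num) h4
  obtain ⟨Q, hQ⟩ := key V hV
  obtain ⟨Q', hQ'⟩ := key W hW
  obtain ⟨g, hg⟩ := MulAction.exists_smul_eq G Q Q'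
  refine ⟨g, ?_⟩
  rw [← hQ, ← hQ', ← hg]
  rfl

theorem eight_dvd_card_normalizer [Finite G] (V : Subgroup G) (hV : Nat.card V = 4)
    (h8 : 8 ∣ Nat.card G) : 8 ∣ Nat.card (Subgroup.normalizer (V : Set G)) := by
  haveI : Fact (Nat.Prime 2) := ⟨Nat.prime_two⟩
  obtain ⟨K, hK, hVK⟩ := Sylow.exists_subgroup_card_pow_succ (p := 2) (n := 2)
    (by norm_num; exact h8) (H := V) (by rw [hV]; norm_num)
  have hidx : (V.subgroupOf K).index = 2 := by
    have h1 := (V.subgroupOf K).card_mul_index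
    have h2 : Nat.card (V.subgroupOf K) = 4 := by
      rw [Nat.card_congr (Subgroup.subgroupOfEquivOfLe hVK).toEquiv, hV]
    rw [h2, hK] at h1
    omega
  have hn : (V.subgroupOf K).Normal := Subgroup.normal_of_index_eq_two hidx
  have hle : K ≤ Subgroup.normalizer (V : Set G) :=
    (Subgroup.normal_subgroupOf_iff_le_normalizer hVK).mp hn
  have := Subgroup.card_dvd_of_le hle
  rw [hK] at this
  exact this

/-- if all Klein four-subgroups are conjugate, their number is the index of a normaliser -/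
theorem card_eq_of_all_conj [Finite G] (V₁ : Subgroup G) (hV₁ : IsKleinFour V₁)
    (hall : ∀ W : Subgroup G, IsKleinFour W → ∃ g : G, W = V₁.map (MulAut.conj g).toMonoidHom) :
    Nat.card G = Nat.card {V : Subgroup G // IsKleinFour V} *
      Nat.card (Subgroup.normalizer (V₁ : Set G)) := by
  apply card_eq_of_fibers (fun g : G => (⟨V₁.map (MulAut.conj g).toMonoidHom,
    isKleinFour_map _ (MulEquiv.injective _) V₁ hV₁⟩ : {V : Subgroup G // IsKleinFour V}))
  rintro ⟨W, hW⟩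
  obtain ⟨g₀, rfl⟩ := hall W hW
  apply Nat.card_congr
  refine ⟨fun g => ⟨g₀⁻¹ * g.1, ?_⟩, fun n => ⟨g₀ * n.1, ?_⟩, ?_, ?_⟩
  · obtain ⟨g, hg⟩ := g
    have hg' := congrArg Subtype.val hg
    simp only at hg'
    rw [Subgroup.mem_normalizer_iff_map_conj_eq]
    have : (MulAut.conj (g₀⁻¹ * g)).toMonoidHom =
        (MulAut.conj g₀⁻¹).toMonoidHom.comp (MulAut.conj g).toMonoidHom := by
      ext x; simp [MulAut.conj_apply, mul_assoc]
    change V₁.map (MulAut.conj (g₀⁻¹ * g)).toMonoidHom = V₁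
    rw [this, ← Subgroup.map_map, hg', Subgroup.map_map]
    have : (MulAut.conj g₀⁻¹).toMonoidHom.comp (MulAut.conj g₀).toMonoidHom = MonoidHom.id G := by
      ext x; simp [MulAut.conj_apply, mul_assoc]
    rw [this, Subgroup.map_id]
  · obtain ⟨n, hn⟩ := n
    rw [Subgroup.mem_normalizer_iff_map_conj_eq] at hn
    apply Subtype.ext
    simp only
    have : (MulAut.conj (g₀ * n)).toMonoidHom =
        (MulAut.conj g₀).toMonoidHom.comp (MulAut.conj n).toMonoidHom := by
      ext x; simp [MulAut.conj_apply, mul_assoc]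
    rw [this, ← Subgroup.map_map]
    congr 1
  · intro g
    apply Subtype.ext
    simp
  · intro n
    apply Subtype.ext
    simp

end


section
open Matrix Cfsg.Agent.Lib.Helper53 Cfsg.Agent.Lib.Helper14.SL2Order4 Cfsg.Agent.Lib.Helper4
variable {F : Type*} [Field F] [Fintype F]

theorem card_PSL2_mul_two (hF : Odd (Fintype.card F)) :
    Nat.card (Matrix.ProjectiveSpecialLinearGroup (Fin 2) F) * 2 =
      Fintype.card F * (Fintype.card F ^ 2 - 1) := by
  have h2 := two_ne_zero_of_odd_card_field hF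
  have h4 := Subgroup.card_eq_card_quotient_mul_card_subgroup
    (Subgroup.center (SpecialLinearGroup (Fin 2) F))
  rw [card_center h2, Cfsg.Agent.Lib.Helper38.card_SL2] at h4
  exact h4.symm

theorem card_PSL2_of_mod8_35 (hF : Odd (Fintype.card F))
    (hq : Fintype.card F % 8 = 3 ∨ Fintype.card F % 8 = 5) :
    ∃ M : ℕ, M % 2 = 1 ∧ Nat.card (Matrix.ProjectiveSpecialLinearGroup (Fin 2) F) = 4 * M := by
  have h := card_PSL2_mul_two hF
  set q := Fintype.card F with hq'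
  rcases hq with hq | hq
  · obtain ⟨k, hk⟩ : ∃ k, q = 8 * k + 3 := ⟨q / 8, by omega⟩
    rw [hk] at h
    have e : (8 * k + 3) ^ 2 - 1 = (8 * k + 2) * (8 * k + 4) := by
      apply Nat.sub_eq_of_eq_add; ring
    rw [e] at h
    refine ⟨(8 * k + 3) * ((4 * k + 1) * (2 * k + 1)), ?_, ?_⟩
    · rw [← Nat.odd_iff]
      apply Odd.mul
      · exact ⟨4 * k + 1, by ring⟩
      · apply Odd.mul
        · exact ⟨2 * k, by ring⟩
        · exact ⟨k, by ring⟩
    · apply Nat.eq_of_mul_eq_mul_right (by norm_num : 0 < 2)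
      rw [h]; ring
  · obtain ⟨k, hk⟩ : ∃ k, q = 8 * k + 5 := ⟨q / 8, by omega⟩
    rw [hk] at h
    have e : (8 * k + 5) ^ 2 - 1 = (8 * k + 4) * (8 * k + 6) := by
      apply Nat.sub_eq_of_eq_add; ring
    rw [e] at h
    refine ⟨(8 * k + 5) * ((2 * k + 1) * (4 * k + 3)), ?_, ?_⟩
    · rw [← Nat.odd_iff]
      apply Odd.mul
      · exact ⟨4 * k + 2, by ring⟩
      · apply Odd.mul
        · exact ⟨k, by ring⟩
        · exact ⟨2 * k + 1, by ring⟩
    · apply Nat.eq_of_mul_eq_mul_right (by norm_num : 0 < 2)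
      rw [h]; ring

theorem eight_dvd_card_PSL2 (hF : Odd (Fintype.card F))
    (hq : Fintype.card F % 8 = 1 ∨ Fintype.card F % 8 = 7) :
    8 ∣ Nat.card (Matrix.ProjectiveSpecialLinearGroup (Fin 2) F) := by
  have h := card_PSL2_mul_two hF
  set q := Fintype.card F with hq'
  rcases hq with hq | hq
  · obtain ⟨k, hk⟩ : ∃ k, q = 8 * k + 1 := ⟨q / 8, by omega⟩
    rw [hk] at h
    have e : (8 * k + 1) ^ 2 - 1 = (8 * k) * (8 * k + 2) := by
      apply Nat.sub_eq_of_eq_add; ring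
    rw [e] at h
    refine ⟨(8 * k + 1) * (k * (4 * k + 1)), ?_⟩
    apply Nat.eq_of_mul_eq_mul_right (by norm_num : 0 < 2)
    rw [h]; ring
  · obtain ⟨k, hk⟩ : ∃ k, q = 8 * k + 7 := ⟨q / 8, by omega⟩
    rw [hk] at h
    have e : (8 * k + 7) ^ 2 - 1 = (8 * k + 6) * (8 * k + 8) := by
      apply Nat.sub_eq_of_eq_add; ring
    rw [e] at h
    refine ⟨(8 * k + 7) * ((4 * k + 3) * (k + 1)), ?_⟩
    apply Nat.eq_of_mul_eq_mul_right (by norm_num : 0 < 2)
    rw [h]; ring

/-- `q ≡ 3, 5 (mod 8)`: all Klein four-subgroups are conjugate -/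
theorem klein_conj_35 (hF : Odd (Fintype.card F))
    (hq : Fintype.card F % 8 = 3 ∨ Fintype.card F % 8 = 5)
    (V W : Subgroup (Matrix.ProjectiveSpecialLinearGroup (Fin 2) F)) (hV : IsKleinFour V)
    (hW : IsKleinFour W) :
    ∃ g : Matrix.ProjectiveSpecialLinearGroup (Fin 2) F, W = V.map (MulAut.conj g).toMonoidHom := by
  obtain ⟨M, hM, hG⟩ := card_PSL2_of_mod8_35 hF hq
  exact conj_of_card_four M hM hG V W hV.card_four hW.card_four

/-- `q ≡ 1, 7 (mod 8)`: exactly two classes of Klein four-subgroups -/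
theorem klein_conj_17 (hF : Odd (Fintype.card F))
    (hq : Fintype.card F % 8 = 1 ∨ Fintype.card F % 8 = 7) :
    ∃ V₁ V₂ : Subgroup (Matrix.ProjectiveSpecialLinearGroup (Fin 2) F),
      IsKleinFour V₁ ∧ IsKleinFour V₂ ∧
      (¬ ∃ g : Matrix.ProjectiveSpecialLinearGroup (Fin 2) F,
        V₂ = V₁.map (MulAut.conj g).toMonoidHom) ∧
      ∀ W : Subgroup (Matrix.ProjectiveSpecialLinearGroup (Fin 2) F), IsKleinFour W →
        (∃ g : Matrix.ProjectiveSpecialLinearGroup (Fin 2) F,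
          W = V₁.map (MulAut.conj g).toMonoidHom) ∨
        (∃ g : Matrix.ProjectiveSpecialLinearGroup (Fin 2) F,
          W = V₂.map (MulAut.conj g).toMonoidHom) := by
  have h12 := twelve_mul_card_klein hF
  have hpos : 0 < Nat.card (Matrix.ProjectiveSpecialLinearGroup (Fin 2) F) := Nat.card_pos
  have hne : Nonempty {V : Subgroup (Matrix.ProjectiveSpecialLinearGroup (Fin 2) F) //
      IsKleinFour V} := by
    by_contra hcon
    rw [not_nonempty_iff] at hcon
    rw [Nat.card_of_isEmpty] at h12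
    omega
  obtain ⟨⟨V₁, hV₁⟩⟩ := hne
  have hex : ∃ V₂ : Subgroup (Matrix.ProjectiveSpecialLinearGroup (Fin 2) F), IsKleinFour V₂ ∧
      ¬ ∃ g : Matrix.ProjectiveSpecialLinearGroup (Fin 2) F,
        V₂ = V₁.map (MulAut.conj g).toMonoidHom := by
    by_contra hcon
    push Not at hcon
    have hall := card_eq_of_all_conj V₁ hV₁ hcon
    have h8 := eight_dvd_card_normalizer V₁ hV₁.card_four (eight_dvd_card_PSL2 hF hq)
    rw [hall] at h12
    have hcpos : 0 < Nat.card {V : Subgroup (Matrix.ProjectiveSpecialLinearGroup (Fin 2) F) //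
      IsKleinFour V} := by
      haveI : Nonempty {V : Subgroup (Matrix.ProjectiveSpecialLinearGroup (Fin 2) F) //
        IsKleinFour V} := ⟨⟨V₁, hV₁⟩⟩
      exact Nat.card_pos
    have : Nat.card (Subgroup.normalizer (V₁ : Set (Matrix.ProjectiveSpecialLinearGroup (Fin 2) F)))
        = 12 := by
      have h' : Nat.card {V : Subgroup (Matrix.ProjectiveSpecialLinearGroup (Fin 2) F) //
        IsKleinFour V} * 12 = Nat.card {V : Subgroup (Matrix.ProjectiveSpecialLinearGroup (Fin 2) F) //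
        IsKleinFour V} * Nat.card (Subgroup.normalizer
          (V₁ : Set (Matrix.ProjectiveSpecialLinearGroup (Fin 2) F))) := by
        rw [← h12]; ring
      exact (Nat.eq_of_mul_eq_mul_left hcpos h').symm
    rw [this] at h8
    norm_num at h8
  obtain ⟨V₂, hV₂, hnc⟩ := hex
  refine ⟨V₁, V₂, hV₁, hV₂, hnc, ?_⟩
  intro W hW
  rcases three_klein hF V₁ V₂ W hV₁ hV₂ hW with h | h | h
  · exact absurd h hnc
  · left; exact h
  · right; exact h


end

end Cfsg.Agent.Lib.Helper14.PSL2Klein
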