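import Mathlib

set_option autoImplicit false

/-!
# Groups in which commuting is transitive modulo a central subgroup

Abstract layer of the class-equation analysis (Dickson) of the subgroups of `SL₂(q)`.
-/

namespace Cfsg.Agent.Lib.Helper14.Dk

open scoped Pointwise

variable {G : Type*} [Group G]

/-- centralizer of an element -/
def M (x : G) : Subgroup G := Subgroup.centralizer {x}

theorem mem_M {x y : G} : y ∈ M x ↔ x * y = y * x := by
  unfold M
  rw [Subgroup.mem_centralizer_iff]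
  simp

theorem self_mem_M (x : G) : x ∈ M x := mem_M.mpr rfl

/-- a map all of whose fibres have `c` elements -/
theorem card_eq_of_fibers {α β : Type*} [Finite α] [Finite β] (f : α → β) (c : ℕ)
    (h : ∀ b, Nat.card {a // f a = b} = c) : Nat.card α = Nat.card β * c := by
  classical
  have := Fintype.ofFinite β
  rw [← Nat.card_congr (Equiv.sigmaFiberEquiv f), Nat.card_sigma]
  simp only [h, Finset.sum_const, Finset.card_univ, smul_eq_mul, Nat.card_eq_fintype_card]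

/-- the conjugacy class of a subgroup -/
def cls (H : Subgroup G) : Set (Subgroup G) := Set.range (fun g : G => MulAut.conj g • H)

theorem mem_cls_self (H : Subgroup G) : H ∈ cls H := ⟨1, by simp⟩

theorem conj_smul_eq_iff (g : G) (H : Subgroup G) :
    MulAut.conj g • H = H ↔ g ∈ Subgroup.normalizer (H : Set G) := by
  rw [Subgroup.mem_set_normalizer_iff]
  constructor
  · intro h x
    constructor
    · intro hx
      have : MulAut.conj g • x ∈ MulAut.conj g • H := Subgroup.smul_mem_pointwise_smul x _ H hx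
      rw [h] at this
      simpa [MulAut.smul_def] using this
    · intro hx
      have h1 : MulAut.conj g • x ∈ MulAut.conj g • H := by
        rw [h]; simpa [MulAut.smul_def] using hx
      exact (Subgroup.smul_mem_pointwise_smul_iff).mp h1
  · intro h
    ext x
    rw [Subgroup.mem_pointwise_smul_iff_inv_smul_mem]
    have := h ((MulAut.conj g)⁻¹ • x)
    rw [SetLike.mem_coe, SetLike.mem_coe] at this
    rw [this]
    simp only [MulAut.smul_def, MulAut.inv_apply, MulAut.conj_symm_apply]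
    have e : g * (g⁻¹ * x * g) * g⁻¹ = x := by group
    rw [e]

theorem ncard_cls [Finite G] (H : Subgroup G) :
    (cls H).ncard = (Subgroup.normalizer (H : Set G)).index := by
  let _ : MulAction G (Subgroup G) := MulAction.compHom (Subgroup G) (MulAut.conj : G →* MulAut G)
  have h1 : cls H = MulAction.orbit G H := rfl
  have h2 : MulAction.stabilizer G H = Subgroup.normalizer (H : Set G) := by
    ext g
    rw [MulAction.mem_stabilizer_iff]
    exact conj_smul_eq_iff g H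
  rw [h1, ← h2, MulAction.index_stabilizer]

theorem mem_conj_smul_iff (g a : G) (H : Subgroup G) :
    a ∈ MulAut.conj g • H ↔ g⁻¹ * a * g ∈ H := by
  rw [Subgroup.mem_pointwise_smul_iff_inv_smul_mem]
  simp [MulAut.smul_def]

theorem conj_smul_M (g x : G) : MulAut.conj g • M x = M (g * x * g⁻¹) := by
  ext a
  rw [mem_conj_smul_iff, mem_M, mem_M]
  constructor
  · intro h
    have : g * (x * (g⁻¹ * a * g)) * g⁻¹ = g * ((g⁻¹ * a * g) * x) * g⁻¹ := by rw [h]
    calc g * x * g⁻¹ * a = g * (x * (g⁻¹ * a * g)) * g⁻¹ := by group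
      _ = g * ((g⁻¹ * a * g) * x) * g⁻¹ := this
      _ = a * (g * x * g⁻¹) := by group
  · intro h
    calc x * (g⁻¹ * a * g) = g⁻¹ * (g * x * g⁻¹ * a) * g := by group
      _ = g⁻¹ * (a * (g * x * g⁻¹)) * g := by rw [h]
      _ = g⁻¹ * a * g * x := by group

theorem card_conj_smul (g : G) (H : Subgroup G) :
    Nat.card ↥(MulAut.conj g • H) = Nat.card H :=
  Nat.card_congr (Subgroup.equivSMul (MulAut.conj g) H).symm.toEquiv

/-- commuting is transitive outside the central subgroup `Z` -/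
structure CT (Z : Subgroup G) : Prop where
  central : ∀ z ∈ Z, ∀ g : G, z * g = g * z
  ct : ∀ x y z : G, x ∉ Z → y ∉ Z → z ∉ Z → x * y = y * x → y * z = z * y → x * z = z * x

namespace CT

variable {Z : Subgroup G} (h : CT Z)
include h

theorem Z_le_M (x : G) : Z ≤ M x := fun z hz => mem_M.mpr (h.central z hz x).symm

theorem conj_mem_Z_iff (g x : G) : g * x * g⁻¹ ∈ Z ↔ x ∈ Z := by
  constructor
  · intro hz
    have h1 := h.central _ hz g
    have : x = g⁻¹ * (g * x * g⁻¹ * g) := by group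
    rw [this, h1]
    have : g⁻¹ * (g * (g * x * g⁻¹)) = g * x * g⁻¹ := by group
    rw [this]; exact hz
  · intro hz
    have h1 := h.central _ hz g⁻¹
    have : g * x * g⁻¹ = g * (x * g⁻¹) := by group
    rw [this, h1]
    have : g * (g⁻¹ * x) = x := by group
    rw [this]; exact hz

theorem comm_of_mem {x a b : G} (hx : x ∉ Z) (ha : a ∈ M x) (hb : b ∈ M x) : a * b = b * a := by
  by_cases haZ : a ∈ Z
  · exact h.central a haZ b
  by_cases hbZ : b ∈ Z
  · exact (h.central b hbZ a).symm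
  exact h.ct a x b haZ hx hbZ (mem_M.mp ha).symm (mem_M.mp hb)

theorem M_eq {x y : G} (hx : x ∉ Z) (hy : y ∉ Z) (hxy : x * y = y * x) : M x = M y := by
  ext a
  rw [mem_M, mem_M]
  by_cases haZ : a ∈ Z
  · exact ⟨fun _ => (h.central a haZ y).symm, fun _ => (h.central a haZ x).symm⟩
  constructor
  · intro h1
    exact h.ct y x a hy hx haZ hxy.symm h1
  · intro h1
    exact h.ct x y a hx hy haZ hxy h1

theorem M_eq_of_mem {x y : G} (hx : x ∉ Z) (hy : y ∉ Z) (hy' : y ∈ M x) : M y = M x :=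
  (h.M_eq hx hy (mem_M.mp hy')).symm

/-- two distinct maximal abelian subgroups meet in `Z` -/
theorem inf_le_Z {x y : G} (hx : x ∉ Z) (hy : y ∉ Z) (hne : M x ≠ M y) : M x ⊓ M y ≤ Z := by
  intro a ha
  by_contra haZ
  apply hne
  rw [← h.M_eq_of_mem hx haZ ha.1, ← h.M_eq_of_mem hy haZ ha.2]

theorem mem_normalizer_M {x : G} (hx : x ∉ Z) (g : G) :
    g ∈ Subgroup.normalizer (M x : Set G) ↔ x * (g * x * g⁻¹) = (g * x * g⁻¹) * x := by
  rw [← conj_smul_eq_iff, conj_smul_M]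
  constructor
  · intro h1
    have : g * x * g⁻¹ ∈ M (g * x * g⁻¹) := self_mem_M _
    rw [h1] at this
    exact mem_M.mp this
  · intro h1
    exact (h.M_eq hx (by rwa [h.conj_mem_Z_iff]) h1).symm

end CT

/-- the class of `x₀`: the noncentral elements with a conjugate commuting with `x₀` -/
def E (Z : Subgroup G) (x₀ : G) : Set G :=
  {x | x ∉ Z ∧ ∃ g : G, x₀ * (g * x * g⁻¹) = (g * x * g⁻¹) * x₀}

theorem mem_E {Z : Subgroup G} {x₀ x : G} :
    x ∈ E Z x₀ ↔ x ∉ Z ∧ ∃ g : G, x₀ * (g * x * g⁻¹) = (g * x * g⁻¹) * x₀ := Iff.rfl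

namespace CT

variable {Z : Subgroup G} (h : CT Z)
include h

omit h in
theorem mem_E_self {x : G} (hx : x ∉ Z) : x ∈ E Z x := ⟨hx, 1, by simp⟩

theorem mem_E_iff_M {x₀ x : G} (hx₀ : x₀ ∉ Z) :
    x ∈ E Z x₀ ↔ x ∉ Z ∧ ∃ g : G, M (g * x * g⁻¹) = M x₀ := by
  rw [mem_E]
  constructor
  · rintro ⟨hx, g, hg⟩
    exact ⟨hx, g, (h.M_eq hx₀ (by rwa [h.conj_mem_Z_iff]) hg).symm⟩
  · rintro ⟨hx, g, hg⟩
    refine ⟨hx, g, ?_⟩
    have : g * x * g⁻¹ ∈ M (g * x * g⁻¹) := self_mem_M _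
    rw [hg] at this
    exact mem_M.mp this

omit h in
theorem E_symm {x y : G} (hy : y ∉ Z) (hxy : x ∈ E Z y) : y ∈ E Z x := by
  obtain ⟨_, g, hg⟩ := hxy
  refine ⟨hy, g⁻¹, ?_⟩
  calc x * (g⁻¹ * y * g⁻¹⁻¹) = g⁻¹ * ((g * x * g⁻¹) * y) * g := by group
    _ = g⁻¹ * (y * (g * x * g⁻¹)) * g := by rw [hg]
    _ = g⁻¹ * y * g⁻¹⁻¹ * x := by group

theorem E_trans {x y z : G} (hy : y ∉ Z) (hz : z ∉ Z) (hxy : x ∈ E Z y) (hyz : y ∈ E Z z) :
    x ∈ E Z z := by
  obtain ⟨hx, g, hg⟩ := hxy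
  obtain ⟨_, g', hg'⟩ := hyz
  refine ⟨hx, g' * g, ?_⟩
  -- g' g x g⁻¹ g'⁻¹ commutes with g' y g'⁻¹ which commutes with z
  have h1 : (g' * y * g'⁻¹) * (g' * g * x * (g' * g)⁻¹) =
      (g' * g * x * (g' * g)⁻¹) * (g' * y * g'⁻¹) := by
    calc (g' * y * g'⁻¹) * (g' * g * x * (g' * g)⁻¹) = g' * (y * (g * x * g⁻¹)) * g'⁻¹ := by group
      _ = g' * ((g * x * g⁻¹) * y) * g'⁻¹ := by rw [hg]
      _ = (g' * g * x * (g' * g)⁻¹) * (g' * y * g'⁻¹) := by group
  have hx' : g' * g * x * (g' * g)⁻¹ ∉ Z := by rwa [h.conj_mem_Z_iff]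
  have hy' : g' * y * g'⁻¹ ∉ Z := by rwa [h.conj_mem_Z_iff]
  exact h.ct z (g' * y * g'⁻¹) _ hz hy' hx' hg' h1

theorem E_eq_of_mem {x y : G} (hy : y ∉ Z) (hxy : x ∈ E Z y) : E Z x = E Z y := by
  have hx : x ∉ Z := hxy.1
  ext a
  constructor
  · intro ha
    exact h.E_trans hx hy ha hxy
  · intro ha
    exact h.E_trans hy hx ha (CT.E_symm hy hxy)

theorem E_disjoint {x y : G} (hx : x ∉ Z) (hy : y ∉ Z) (hxy : x ∉ E Z y) :
    Disjoint (E Z x) (E Z y) := by
  rw [Set.disjoint_left]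
  intro a hax hay
  apply hxy
  exact h.E_trans (hax.1) hy (CT.E_symm hx hax) hay

omit h in
theorem E_subset_compl (x₀ : G) : E Z x₀ ⊆ {x | x ∉ Z} := fun _ hx => hx.1

end CT

theorem card_diff_subgroup [Finite G] {Z B : Subgroup G} (hZB : Z ≤ B) :
    ((B : Set G) \ (Z : Set G)).ncard = Nat.card B - Nat.card Z := by
  rw [Set.ncard_sdiff (by exact_mod_cast hZB) (Set.toFinite _)]
  rw [← Nat.card_coe_set_eq, ← Nat.card_coe_set_eq]
  rfl

namespace CT

variable [Finite G] {Z : Subgroup G} (h : CT Z)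
include h

theorem ncard_E {x₀ : G} (hx₀ : x₀ ∉ Z) :
    (E Z x₀).ncard =
      (Subgroup.normalizer (M x₀ : Set G)).index * (Nat.card (M x₀) - Nat.card Z) := by
  rw [← ncard_cls, ← Nat.card_coe_set_eq, ← Nat.card_coe_set_eq]
  have hf : ∀ x : E Z x₀, M x.1 ∈ cls (M x₀) := by
    rintro ⟨x, hx⟩
    obtain ⟨_, g, hg⟩ := (h.mem_E_iff_M hx₀).mp hx
    refine ⟨g⁻¹, ?_⟩
    show MulAut.conj g⁻¹ • M x₀ = M x
    rw [← hg, conj_smul_M]
    congr 1
    group
  apply card_eq_of_fibers (fun x : E Z x₀ => (⟨M x.1, hf x⟩ : cls (M x₀)))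
  rintro ⟨B, hBcls⟩
  have hBcls' := hBcls
  obtain ⟨g, hg⟩ := hBcls'
  have hg' : M (g * x₀ * g⁻¹) = B := by rw [← conj_smul_M]; exact hg
  have hgx : g * x₀ * g⁻¹ ∉ Z := by rwa [h.conj_mem_Z_iff]
  have e : {a : E Z x₀ // (⟨M a.1, hf a⟩ : cls (M x₀)) = ⟨B, hBcls⟩} ≃
      ↥((B : Set G) \ (Z : Set G)) :=
    { toFun := fun a => ⟨a.1.1, by
        have h1 : M a.1.1 = B := congrArg Subtype.val a.2
        refine ⟨?_, a.1.2.1⟩
        have h2 : ∀ (y : G) (C : Subgroup G), M y = C → y ∈ C := by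
          intro y C hC; rw [← hC]; exact self_mem_M _
        exact h2 _ _ h1⟩
      invFun := fun b => ⟨⟨b.1, by
          refine ⟨b.2.2, g⁻¹, ?_⟩
          have h1 : b.1 ∈ M (g * x₀ * g⁻¹) := by rw [hg']; exact b.2.1
          rw [mem_M] at h1
          calc x₀ * (g⁻¹ * b.1 * g⁻¹⁻¹) = g⁻¹ * ((g * x₀ * g⁻¹) * b.1) * g := by group
            _ = g⁻¹ * (b.1 * (g * x₀ * g⁻¹)) * g := by rw [h1]
            _ = g⁻¹ * b.1 * g⁻¹⁻¹ * x₀ := by group⟩, by
          apply Subtype.ext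
          show M b.1 = B
          exact (h.M_eq_of_mem hgx b.2.2 (by rw [hg']; exact b.2.1)).trans hg'⟩
      left_inv := fun a => by ext; rfl
      right_inv := fun b => by ext; rfl }
  have hZB : Z ≤ B := by rw [← hg']; exact h.Z_le_M _
  have hcB : Nat.card B = Nat.card (M x₀) := by
    rw [← hg]; exact card_conj_smul g (M x₀)
  rw [Nat.card_congr e, Nat.card_coe_set_eq, card_diff_subgroup hZB, hcB]

/-- representatives of the classes in a saturated set -/
theorem exists_reps (R : Set G) (hR : ∀ x ∈ R, x ∉ Z) (hsat : ∀ x ∈ R, E Z x ⊆ R) :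
    ∃ l : List G, (∀ r ∈ l, r ∈ R) ∧ l.Pairwise (fun a b => a ∉ E Z b) ∧
      (∀ x ∈ R, ∃ r ∈ l, x ∈ E Z r) ∧ R.ncard = (l.map fun r => (E Z r).ncard).sum := by
  induction' hn : R.ncard using Nat.strong_induction_on with n ih generalizing R
  by_cases hne : R = ∅
  · subst hne
    refine ⟨[], by simp, List.Pairwise.nil, by simp, ?_⟩
    rw [← hn]; simp
  obtain ⟨x, hx⟩ := Set.nonempty_iff_ne_empty.mpr hne
  have hxZ : x ∉ Z := hR x hx
  have hsub : E Z x ⊆ R := hsat x hx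
  have hcard : (R \ E Z x).ncard + (E Z x).ncard = R.ncard :=
    Set.ncard_sdiff_add_ncard_of_subset hsub (Set.toFinite _)
  have hpos : 0 < (E Z x).ncard :=
    (Set.ncard_pos (Set.toFinite _)).mpr ⟨x, mem_E_self hxZ⟩
  have hlt : (R \ E Z x).ncard < n := by omega
  have hsat' : ∀ y ∈ R \ E Z x, E Z y ⊆ R \ E Z x := by
    intro y hy a ha
    refine ⟨hsat y hy.1 ha, fun hax => hy.2 ?_⟩
    exact h.E_trans ha.1 hxZ (CT.E_symm (hR y hy.1) ha) hax
  obtain ⟨l, hl1, hl2, hl3, hl4⟩ :=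
    ih (R \ E Z x).ncard hlt (R \ E Z x) (fun y hy => hR y hy.1) hsat' rfl
  refine ⟨x :: l, ?_, ?_, ?_, ?_⟩
  · intro r hr
    rcases List.mem_cons.mp hr with rfl | hr
    · exact hx
    · exact (hl1 r hr).1
  · rw [List.pairwise_cons]
    refine ⟨fun b hb hxb => ?_, hl2⟩
    exact (hl1 b hb).2 (CT.E_symm (hR b (hl1 b hb).1) hxb)
  · intro y hy
    by_cases hyx : y ∈ E Z x
    · exact ⟨x, List.mem_cons_self, hyx⟩
    · obtain ⟨r, hr, hyr⟩ := hl3 y ⟨hy, hyx⟩
      exact ⟨r, List.mem_cons_of_mem _ hr, hyr⟩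
  · rw [List.map_cons, List.sum_cons, ← hl4]
    omega

end CT

end Cfsg.Agent.Lib.Helper14.Dk
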