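import Mathlib
import Cfsg.Agent.Lib.Helper14.DkBasic

set_option autoImplicit false

/-!
# The axioms of a "Dickson group" and their first consequences
-/

namespace Cfsg.Agent.Lib.Helper14.Dk

open scoped Pointwise

variable {G : Type*} [Group G]

/-- order of the centralizer -/
noncomputable def aa (x : G) : ℕ := Nat.card (M x)
/-- number of conjugates of the centralizer -/
noncomputable def nn (x : G) : ℕ := (Subgroup.normalizer (M x : Set G)).index
/-- index of the centralizer in its normalizer -/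
noncomputable def ee (x : G) : ℕ := (M x).relIndex (Subgroup.normalizer (M x : Set G))

theorem nn_mul_ee_mul_aa (x : G) : nn x * ee x * aa x = Nat.card G := by
  unfold nn ee aa
  have h1 := Subgroup.relIndex_mul_index (Subgroup.le_normalizer (H := M x))
  have h2 := (M x).card_mul_index
  rw [← h2, ← h1]; ring

theorem aa_pos [Finite G] (x : G) : 0 < aa x := Nat.card_pos

theorem nn_pos [Finite G] (x : G) : 0 < nn x :=
  Nat.pos_of_ne_zero (Subgroup.index_ne_zero_of_finite)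

theorem ee_pos [Finite G] (x : G) : 0 < ee x := by
  have := nn_mul_ee_mul_aa x
  have hG : 0 < Nat.card G := Nat.card_pos
  rcases Nat.eq_zero_or_pos (ee x) with h0 | h0
  · rw [h0] at this; simp at this; omega
  · exact h0

theorem cls_conj_smul (g : G) (H : Subgroup G) : cls (MulAut.conj g • H) = cls H := by
  ext K
  constructor
  · rintro ⟨g', rfl⟩
    refine ⟨g' * g, ?_⟩
    show MulAut.conj (g' * g) • H = MulAut.conj g' • MulAut.conj g • H
    rw [map_mul, mul_smul]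
  · rintro ⟨g', rfl⟩
    refine ⟨g' * g⁻¹, ?_⟩
    show MulAut.conj (g' * g⁻¹) • MulAut.conj g • H = MulAut.conj g' • H
    rw [← mul_smul, ← map_mul]
    congr 2
    group

theorem CT.invariants [Finite G] {Z : Subgroup G} (h : CT Z) {x y : G} (hx : x ∉ Z)
    (hy : y ∈ E Z x) : aa y = aa x ∧ nn y = nn x ∧ ee y = ee x := by
  obtain ⟨_, g, hg⟩ := (h.mem_E_iff_M hx).mp hy
  rw [← conj_smul_M] at hg
  have h1 : aa y = aa x := by
    unfold aa; rw [← hg]; exact (card_conj_smul g (M y)).symm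
  have h2 : nn y = nn x := by
    unfold nn; rw [← ncard_cls, ← ncard_cls, ← hg, cls_conj_smul]
  refine ⟨h1, h2, ?_⟩
  have e1 := nn_mul_ee_mul_aa x
  have e2 := nn_mul_ee_mul_aa y
  rw [h1, h2] at e2
  have e3 : nn x * ee y * aa x = nn x * ee x * aa x := by rw [e1, e2]
  have e4 : nn x * ee y = nn x * ee x := Nat.eq_of_mul_eq_mul_right (aa_pos x) e3
  exact Nat.eq_of_mul_eq_mul_left (nn_pos x) e4

/-- the axioms -/
structure Data (Z : Subgroup G) (p : ℕ) (U : G → Prop) : Prop extends CT Z where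
  pZ : (Nat.card Z).Coprime p
  Zcard : Nat.card Z ≤ 2
  U_conj : ∀ x g, U x → U (g * x * g⁻¹)
  U_comm : ∀ x y, x ∉ Z → y ∉ Z → x * y = y * x → U x → U y
  U_pow : ∀ x, x ∉ Z → U x → x ^ p ∈ Z
  T_inv : ∀ x g, x ∉ Z → ¬ U x → x * (g * x * g⁻¹) = (g * x * g⁻¹) * x →
      g * x * g⁻¹ = x ∨ g * x * g⁻¹ = x⁻¹
  P_cop : ∀ x, x ∉ Z → U x → (ee x).Coprime p
  P_le : ∀ x, x ∉ Z → U x → Nat.card Z * (ee x + 1) ≤ aa x
  P_tor : ∀ x, x ∉ Z → U x → 2 ≤ ee x → ∃ y, y ∉ Z ∧ ¬ U y ∧ aa y = Nat.card Z * ee x ∧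
      M y ≤ Subgroup.normalizer (M x : Set G)

theorem card_modEq_one_of_free {Q Ω : Type*} [Group Q] [MulAction Q Ω] [Finite Q] [Finite Ω]
    (a : Ω) (ha : ∀ u : Q, u • a = a) (hfree : ∀ b : Ω, b ≠ a → ∀ u : Q, u • b = b → u = 1) :
    Nat.card Ω % Nat.card Q = 1 % Nat.card Q := by
  classical
  let act : MulAction Q {b : Ω // b ≠ a} :=
    { smul := fun u b => ⟨u • b.1, fun hb => b.2 (by
        have h1 : u⁻¹ • (u • b.1) = u⁻¹ • a := by rw [hb]
        rwa [inv_smul_smul, ha] at h1)⟩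
      one_smul := fun b => Subtype.ext (one_smul Q b.1)
      mul_smul := fun u v b => Subtype.ext (mul_smul u v b.1) }
  have hstab : ∀ b : {b : Ω // b ≠ a}, MulAction.stabilizer Q b = ⊥ := by
    intro b
    rw [eq_bot_iff]
    intro u hu
    rw [MulAction.mem_stabilizer_iff] at hu
    rw [Subgroup.mem_bot]
    exact hfree b.1 b.2 u (congrArg Subtype.val hu)
  have e := MulAction.selfEquivOrbitsQuotientProd hstab
  have h1 : Nat.card {b : Ω // b ≠ a} =
      Nat.card (Quotient (MulAction.orbitRel Q {b : Ω // b ≠ a})) * Nat.card Q := by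
    rw [Nat.card_congr e, Nat.card_prod]
  have h2 : Nat.card Ω = Nat.card {b : Ω // b = a} + Nat.card {b : Ω // ¬ b = a} := by
    rw [← Nat.card_sum]
    exact Nat.card_congr (Equiv.sumCompl (fun b => b = a)).symm
  have h3 : Nat.card {b : Ω // b = a} = 1 := Nat.card_unique
  have h4 : Nat.card {b : Ω // ¬ b = a} = Nat.card {b : Ω // b ≠ a} := rfl
  rw [h2, h3, h4, h1]
  simp [Nat.add_mod]

/-- Bezout for powers -/
theorem mem_of_pow_mem {Z : Subgroup G} {d p : ℕ} (hcop : d.Coprime p) {a : G}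
    (h1 : a ^ d ∈ Z) (h2 : a ^ p ∈ Z) : a ∈ Z := by
  have hc : IsCoprime (d : ℤ) (p : ℤ) := Nat.isCoprime_iff_coprime.mpr hcop
  obtain ⟨u, v, huv⟩ := hc
  have e : a = (a ^ d) ^ u * (a ^ p) ^ v := by
    rw [← zpow_natCast a d, ← zpow_natCast a p, ← zpow_mul, ← zpow_mul, ← zpow_add]
    have : (d : ℤ) * u + (p : ℤ) * v = 1 := by rw [← huv]; ring
    rw [this, zpow_one]
  rw [e]
  exact Z.mul_mem (Z.zpow_mem h1 u) (Z.zpow_mem h2 v)

theorem pow_card_of_mem [Finite G] {Z : Subgroup G} {z : G} (hz : z ∈ Z) : z ^ Nat.card Z = 1 := by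
  have : (⟨z, hz⟩ : Z) ^ Nat.card Z = 1 := pow_card_eq_one'
  exact congrArg Subtype.val this

theorem not_mem_Z_of_pow' [Finite G] {Z : Subgroup G} {r : ℕ} (hr : (Nat.card Z).Coprime r)
    {u : G} (hu1 : u ≠ 1) {m : ℕ} (hup : u ^ r ^ m = 1) : u ∉ Z := by
  intro hz
  apply hu1
  have h1 : u ^ Nat.card Z = 1 := pow_card_of_mem hz
  have h2 : orderOf u ∣ Nat.card Z := orderOf_dvd_of_pow_eq_one h1
  have h3 : orderOf u ∣ r ^ m := orderOf_dvd_of_pow_eq_one hup
  have h4 : orderOf u ∣ Nat.gcd (Nat.card Z) (r ^ m) := Nat.dvd_gcd h2 h3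
  have h5 : Nat.gcd (Nat.card Z) (r ^ m) = 1 := Nat.Coprime.pow_right m hr
  rw [h5] at h4
  exact orderOf_eq_one_iff.mp (Nat.dvd_one.mp h4)

/-- two noncentral elements of the same prime order `r` (prime to `|Z|`) are in one class -/
theorem CT.equiv_of_prime_pow [Finite G] {Z : Subgroup G} (h : CT Z) (r : ℕ) [Fact r.Prime]
    (hr : (Nat.card Z).Coprime r) {u u' : G} (huZ : u ∉ Z) (hup : u ^ r = 1)
    (hu'Z : u' ∉ Z) (hu'p : u' ^ r = 1) : u' ∈ E Z u := by
  have hP : IsPGroup r (Subgroup.zpowers u) := by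
    apply IsPGroup.of_card (n := 1)
    rw [Nat.card_zpowers, pow_one]
    have := orderOf_dvd_of_pow_eq_one hup
    rcases (Nat.dvd_prime (Fact.out : r.Prime)).mp this with h1 | h1
    · exfalso; apply huZ
      rw [orderOf_eq_one_iff.mp h1]; exact Z.one_mem
    · exact h1
  have hP' : IsPGroup r (Subgroup.zpowers u') := by
    apply IsPGroup.of_card (n := 1)
    rw [Nat.card_zpowers, pow_one]
    have := orderOf_dvd_of_pow_eq_one hu'p
    rcases (Nat.dvd_prime (Fact.out : r.Prime)).mp this with h1 | h1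
    · exfalso; apply hu'Z
      rw [orderOf_eq_one_iff.mp h1]; exact Z.one_mem
    · exact h1
  obtain ⟨S, hS⟩ := hP.exists_le_sylow
  obtain ⟨S', hS'⟩ := hP'.exists_le_sylow
  obtain ⟨g, hg⟩ := MulAction.exists_smul_eq G S S'
  have hS'eq : (S' : Subgroup G) = MulAut.conj g • (S : Subgroup G) := by
    rw [← hg]; exact Sylow.coe_subgroup_smul
  have h1 : g * u * g⁻¹ ∈ (S' : Subgroup G) := by
    rw [hS'eq, mem_conj_smul_iff]
    have : g⁻¹ * (g * u * g⁻¹) * g = u := by group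
    rw [this]
    exact hS (Subgroup.mem_zpowers u)
  have h2 : u' ∈ (S' : Subgroup G) := hS' (Subgroup.mem_zpowers u')
  have hnt : Nontrivial (S' : Subgroup G) := by
    refine ⟨⟨⟨u', h2⟩, 1, ?_⟩⟩
    intro he
    apply hu'Z
    have : u' = 1 := congrArg Subtype.val he
    rw [this]; exact Z.one_mem
  have hcn := S'.2.center_nontrivial
  obtain ⟨⟨z, hz⟩, hz1⟩ := exists_ne (1 : Subgroup.center (S' : Subgroup G))
  have hz1' : (z : G) ≠ 1 := by
    intro he
    apply hz1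
    apply Subtype.ext
    apply Subtype.ext
    exact he
  have hzp : ∃ m, (z : G) ^ r ^ m = 1 := by
    obtain ⟨m, hm⟩ := S'.2 z
    exact ⟨m, by simpa using congrArg Subtype.val hm⟩
  obtain ⟨m, hzm⟩ := hzp
  have hzZ : (z : G) ∉ Z := not_mem_Z_of_pow' hr hz1' hzm
  have hzc : ∀ s : G, s ∈ (S' : Subgroup G) → s * z = z * s := by
    intro s hs
    have := Subgroup.mem_center_iff.mp hz ⟨s, hs⟩
    exact congrArg Subtype.val this
  have hguZ : g * u * g⁻¹ ∉ Z := by rwa [h.conj_mem_Z_iff]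
  have c1 : (g * u * g⁻¹) * u' = u' * (g * u * g⁻¹) :=
    h.ct _ z _ hguZ hzZ hu'Z (hzc _ h1) (hzc _ h2).symm
  refine ⟨hu'Z, g⁻¹, ?_⟩
  calc u * (g⁻¹ * u' * g⁻¹⁻¹) = g⁻¹ * ((g * u * g⁻¹) * u') * g := by group
    _ = g⁻¹ * (u' * (g * u * g⁻¹)) * g := by rw [c1]
    _ = g⁻¹ * u' * g⁻¹⁻¹ * u := by group

namespace Data

variable {Z : Subgroup G} {p : ℕ} {U : G → Prop} (h : Data Z p U)
include h

/-- the normalizer of a torus has index at most two -/
theorem ee_torus {x : G} (hx : x ∉ Z) (hU : ¬ U x) : ee x = 1 ∨ ee x = 2 := by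
  by_cases hle : Subgroup.normalizer (M x : Set G) ≤ M x
  · left; exact Subgroup.relIndex_eq_one.mpr hle
  right
  obtain ⟨g₀, hg₀N, hg₀⟩ := SetLike.not_le_iff_exists.mp hle
  have inv_of : ∀ b, b ∈ Subgroup.normalizer (M x : Set G) → b ∉ M x → b * x * b⁻¹ = x⁻¹ := by
    intro b hb hbM
    rcases h.T_inv x b hx hU ((h.toCT.mem_normalizer_M hx b).mp hb) with h1 | h1
    · exfalso; apply hbM
      rw [mem_M]
      calc x * b = (b * x * b⁻¹) * b := by rw [h1]
        _ = b * x := by group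
    · exact h1
  unfold ee
  rw [Subgroup.relIndex_eq_two_iff]
  refine ⟨g₀, hg₀N, fun b hb => ?_⟩
  by_cases hbM : b ∈ M x
  · right
    refine ⟨hbM, fun hbg => hg₀ ?_⟩
    have : g₀ = b⁻¹ * (b * g₀) := by group
    rw [this]
    exact (M x).mul_mem ((M x).inv_mem hbM) hbg
  · left
    refine ⟨?_, hbM⟩
    have h1 := inv_of b hb hbM
    have h2 := inv_of g₀ hg₀N hg₀
    rw [mem_M]
    have h3 : (b * g₀) * x * (b * g₀)⁻¹ = x := by
      calc (b * g₀) * x * (b * g₀)⁻¹ = b * (g₀ * x * g₀⁻¹) * b⁻¹ := by group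
        _ = b * x⁻¹ * b⁻¹ := by rw [h2]
        _ = (b * x * b⁻¹)⁻¹ := by group
        _ = x := by rw [h1, inv_inv]
    calc x * (b * g₀) = ((b * g₀) * x * (b * g₀)⁻¹) * (b * g₀) := by rw [h3]
      _ = b * g₀ * x := by group

variable [Finite G]

/-- a unipotent-type element has a `p`-element in its centralizer -/
theorem exists_pelt {x : G} (hx : x ∉ Z) (hU : U x) :
    ∃ u, u ∉ Z ∧ u ^ p = 1 ∧ x * u = u * x := by
  refine ⟨x ^ Nat.card Z, ?_, ?_, ?_⟩
  · intro hu
    exact hx (mem_of_pow_mem h.pZ hu (h.U_pow x hx hU))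
  · rw [← pow_mul, mul_comm, pow_mul]
    exact pow_card_of_mem (h.U_pow x hx hU)
  · exact (Commute.refl x).pow_right _ |>.eq

theorem not_mem_Z_of_pow {u : G} (hu1 : u ≠ 1) {m : ℕ} (hup : u ^ p ^ m = 1) : u ∉ Z := by
  intro hz
  apply hu1
  have h1 : u ^ Nat.card Z = 1 := pow_card_of_mem hz
  have h2 : orderOf u ∣ Nat.card Z := orderOf_dvd_of_pow_eq_one h1
  have h3 : orderOf u ∣ p ^ m := orderOf_dvd_of_pow_eq_one hup
  have h4 : orderOf u ∣ Nat.gcd (Nat.card Z) (p ^ m) := Nat.dvd_gcd h2 h3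
  have h5 : Nat.gcd (Nat.card Z) (p ^ m) = 1 := Nat.Coprime.pow_right m h.pZ
  rw [h5] at h4
  exact orderOf_eq_one_iff.mp (Nat.dvd_one.mp h4)

/-- all unipotent-type elements are in one class -/
theorem ptype_equiv [Fact p.Prime] {x x' : G} (hx : x ∉ Z) (hU : U x) (hx' : x' ∉ Z)
    (hU' : U x') : x' ∈ E Z x := by
  obtain ⟨u, huZ, hup, hxu⟩ := h.exists_pelt hx hU
  obtain ⟨u', hu'Z, hu'p, hxu'⟩ := h.exists_pelt hx' hU'
  have h1 : u' ∈ E Z u := h.toCT.equiv_of_prime_pow p h.pZ huZ hup hu'Z hu'p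
  have h2 : u ∈ E Z x := ⟨huZ, 1, by simpa using hxu⟩
  have h3 : x' ∈ E Z u' := ⟨hx', 1, by simpa using hxu'.symm⟩
  exact h.toCT.E_trans huZ hx (h.toCT.E_trans hu'Z huZ h3 h1) h2

/-- elements of the centralizer of a unipotent-type element have `p`-th power in `Z` -/
theorem pow_mem_Z_of_mem {x a : G} (hx : x ∉ Z) (hU : U x) (ha : a ∈ M x) : a ^ p ∈ Z := by
  by_cases haZ : a ∈ Z
  · exact Z.pow_mem haZ p
  · exact h.U_pow a haZ (h.U_comm x a hx haZ (mem_M.mp ha) hU)

/-- `p`-elements of the normalizer of a unipotent-type centralizer lie in the centralizer -/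
theorem mem_M_of_pow_eq_one {x w : G} (hx : x ∉ Z) (hU : U x)
    (hw : w ∈ Subgroup.normalizer (M x : Set G)) (hwp : w ^ p = 1) : w ∈ M x := by
  have hn : ((M x).subgroupOf (Subgroup.normalizer (M x : Set G))).Normal :=
    Subgroup.normal_in_normalizer
  have h1 := Subgroup.pow_index_mem ((M x).subgroupOf (Subgroup.normalizer (M x : Set G)))
    (⟨w, hw⟩ : Subgroup.normalizer (M x : Set G))
  rw [Subgroup.mem_subgroupOf] at h1
  have h2 : w ^ ee x ∈ M x := by
    have e : ee x = ((M x).subgroupOf (Subgroup.normalizer (M x : Set G))).index := rfl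
    rw [e]
    simpa using h1
  have h3 : w ^ p ∈ M x := by rw [hwp]; exact (M x).one_mem
  exact mem_of_pow_mem (h.P_cop x hx hU) h2 h3

/-- the number of conjugates of a unipotent-type centralizer is `1` modulo its order -/
theorem np_mod [Fact p.Prime] {x : G} (hx : x ∉ Z) (hU : U x) :
    ∃ qH, aa x = Nat.card Z * qH ∧ 2 ≤ qH ∧ nn x % qH = 1 := by
  classical
  let cg : CommGroup ↥(M x) := { (inferInstance : Group ↥(M x)) with
    mul_comm := fun a b => Subtype.ext (h.toCT.comm_of_mem hx a.2 b.2) }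
  let ψ : ↥(M x) →* ↥(M x) := powMonoidHom (Nat.card Z)
  have hψ : ∀ a : ↥(M x), ((ψ a : ↥(M x)) : G) = (a : G) ^ Nat.card Z := fun a => rfl
  have hker : ∀ a : ↥(M x), a ∈ ψ.ker ↔ (a : G) ∈ Z := by
    intro a
    rw [MonoidHom.mem_ker]
    constructor
    · intro ha
      have h1 : (a : G) ^ Nat.card Z = 1 := by
        rw [← hψ, ha]; rfl
      exact mem_of_pow_mem h.pZ (by rw [h1]; exact Z.one_mem) (h.pow_mem_Z_of_mem hx hU a.2)
    · intro ha
      apply Subtype.ext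
      rw [hψ]
      exact pow_card_of_mem ha
  have hcard : Nat.card (M x) = Nat.card ψ.ker * Nat.card ψ.range := by
    rw [← Subgroup.index_ker, Subgroup.card_mul_index]
  have hkercard : Nat.card ψ.ker = Nat.card Z := by
    have : ψ.ker = Z.subgroupOf (M x) := by
      ext a
      rw [hker, Subgroup.mem_subgroupOf]
    rw [this]
    exact Nat.card_congr (Subgroup.subgroupOfEquivOfLe (h.toCT.Z_le_M x)).toEquiv
  set Q : Subgroup G := ψ.range.map (M x).subtype with hQ
  have hQcard : Nat.card Q = Nat.card ψ.range :=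
    Subgroup.card_map_of_injective (Subgroup.subtype_injective _)
  have hQmem : ∀ u ∈ Q, u ∈ M x ∧ u ^ p = 1 := by
    intro u hu
    rw [hQ, Subgroup.mem_map] at hu
    obtain ⟨b, ⟨a, rfl⟩, rfl⟩ := hu
    refine ⟨(ψ a).2, ?_⟩
    show ((ψ a : ↥(M x)) : G) ^ p = 1
    rw [hψ, ← pow_mul, mul_comm, pow_mul]
    exact pow_card_of_mem (h.pow_mem_Z_of_mem hx hU a.2)
  have haa : aa x = Nat.card Z * Nat.card Q := by
    unfold aa
    rw [hcard, hkercard, hQcard]
  have hQ2 : 2 ≤ Nat.card Q := by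
    by_contra hlt
    have hQpos : 0 < Nat.card Q := Nat.card_pos
    have hQ1 : Nat.card Q = 1 := by omega
    rw [hQ1, mul_one] at haa
    have : Z = M x := Subgroup.eq_of_le_of_card_ge (h.toCT.Z_le_M x) (by
      unfold aa at haa; omega)
    apply hx
    rw [this]
    exact self_mem_M x
  refine ⟨Nat.card Q, haa, hQ2, ?_⟩
  set N := Subgroup.normalizer (M x : Set G) with hN
  have key := card_modEq_one_of_free (Q := Q) (Ω := G ⧸ N) ((1 : G) : G ⧸ N) ?_ ?_
  · rw [Nat.mod_eq_of_lt (show 1 < Nat.card Q by omega)] at key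
    rw [← key]
    unfold nn
    rw [Subgroup.index_eq_card]
  · intro u
    show (((u : G) * 1 : G) : G ⧸ N) = ((1 : G) : G ⧸ N)
    rw [QuotientGroup.eq]
    apply N.mul_mem _ N.one_mem
    apply N.inv_mem
    apply N.mul_mem _ N.one_mem
    exact Subgroup.le_normalizer (hQmem u u.2).1
  · intro b hb u hu
    obtain ⟨g, rfl⟩ := QuotientGroup.mk_surjective b
    have hgN : g ∉ N := by
      intro hg
      apply hb
      rw [QuotientGroup.eq]
      exact N.mul_mem (N.inv_mem hg) N.one_mem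
    have hu' : (((u : G) * g : G) : G ⧸ N) = (g : G ⧸ N) := hu
    rw [QuotientGroup.eq] at hu'
    -- w = g⁻¹ u g ∈ N
    have hw : g⁻¹ * (u : G) * g ∈ N := by
      have := N.inv_mem hu'
      have e : (((u : G) * g)⁻¹ * g)⁻¹ = g⁻¹ * (u : G) * g := by group
      rwa [e] at this
    have hwp : (g⁻¹ * (u : G) * g) ^ p = 1 := by
      have e : (g⁻¹ * (u : G) * g) ^ p = g⁻¹ * (u : G) ^ p * g := by
        have := map_pow (MulAut.conj g⁻¹) (u : G) p
        simpa [MulAut.conj_apply] using this.symm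
      rw [e, (hQmem u u.2).2]; group
    have hwM : g⁻¹ * (u : G) * g ∈ M x := h.mem_M_of_pow_eq_one hx hU hw hwp
    have huM' : (u : G) ∈ M (g * x * g⁻¹) := by
      rw [← conj_smul_M, mem_conj_smul_iff]; exact hwM
    have huZ : (u : G) ∈ Z := by
      by_contra huZ
      apply hgN
      rw [hN, ← conj_smul_eq_iff, conj_smul_M]
      have hgx : g * x * g⁻¹ ∉ Z := by rwa [h.toCT.conj_mem_Z_iff]
      rw [← h.toCT.M_eq_of_mem hx huZ (hQmem u u.2).1, ← h.toCT.M_eq_of_mem hgx huZ huM']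
    by_contra hu1
    have hu1' : (u : G) ≠ 1 := fun he => hu1 (Subtype.ext he)
    exact h.not_mem_Z_of_pow hu1' (m := 1) (by rw [pow_one]; exact (hQmem u u.2).2) huZ

end Data

end Cfsg.Agent.Lib.Helper14.Dk
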