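import Mathlib
import Cfsg.Agent.Lib.Helper14.DkData
import Cfsg.Agent.Lib.Helper2.SL2a

set_option autoImplicit false

/-!
# A group with a faithful representation in `SL₂(F)` is a Dickson group: the generic axioms
-/

namespace Cfsg.Agent.Lib.Helper14.Dk

open Matrix Cfsg.Agent.Lib.Helper2.SL2

variable {F : Type*} [Field F]

local notation "SL2" => Matrix.SpecialLinearGroup (Fin 2) F

/-- the trace -/
def tr2 (g : SL2) : F := g 0 0 + g 1 1

theorem tr2_conj (g y : SL2) : tr2 (g * y * g⁻¹) = tr2 y := trace_conj g y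

theorem mem_center_iff_pm (g : SL2) : g ∈ Subgroup.center SL2 ↔ g = 1 ∨ g = -1 := by
  rw [Matrix.SpecialLinearGroup.mem_center_iff]
  constructor
  · rintro ⟨r, hr, hg⟩
    have hr2 : r = 1 ∨ r = -1 := by
      have : (r - 1) * (r + 1) = 0 := by
        have : r ^ 2 = 1 := by simpa using hr
        linear_combination this
      rcases mul_eq_zero.mp this with h | h
      · left; linear_combination h
      · right; linear_combination h
    have e00 : g 0 0 = r := by rw [← hg]; simp
    have e01 : g 0 1 = 0 := by rw [← hg]; simp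
    have e10 : g 1 0 = 0 := by rw [← hg]; simp
    have e11 : g 1 1 = r := by rw [← hg]; simp
    rcases hr2 with rfl | rfl
    · left; apply ext2 <;> simp only [one00, one01, one10, one11] <;> assumption
    · right; apply ext2 <;> simp only [neg00, neg01, neg10, neg11, one00, one01, one10, one11] <;>
        simp [*]
  · rintro (rfl | rfl)
    · exact ⟨1, by simp, by simp⟩
    · refine ⟨-1, by simp, ?_⟩
      ext i j
      fin_cases i <;> fin_cases j <;> simp

theorem neg_one_mem_center : (-1 : SL2) ∈ Subgroup.center SL2 :=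
  (mem_center_iff_pm _).mpr (Or.inr rfl)

theorem neg_eq_neg_one_mul (g : SL2) : -g = (-1 : SL2) * g := by
  apply ext2 <;> simp only [mul00, mul01, mul10, mul11, neg00, neg01, neg10, neg11, one00, one01,
    one10, one11] <;> ring

theorem card_center_le [Finite F] : Nat.card (Subgroup.center SL2) ≤ 2 := by
  classical
  have hsub : ((Subgroup.center SL2 : Subgroup SL2) : Set SL2) ⊆ {1, -1} := by
    intro g hg
    rcases (mem_center_iff_pm g).mp hg with h | h
    · left; exact h
    · right; exact h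
  have := Set.ncard_le_ncard hsub (Set.toFinite _)
  rw [← Nat.card_coe_set_eq] at this
  have h2 : ({1, -1} : Set SL2).ncard ≤ 2 := by
    have := Set.ncard_insert_le (1 : SL2) ({-1} : Set SL2)
    rw [Set.ncard_singleton] at this
    exact this
  exact le_trans this h2

variable {G : Type*} [Group G]

/-- the preimage of the centre -/
def ZZ (τ : G →* SL2) : Subgroup G := (Subgroup.center SL2).comap τ

/-- unipotent type -/
def UU (τ : G →* SL2) (x : G) : Prop := tr2 (τ x) ^ 2 = 4

theorem mem_ZZ {τ : G →* SL2} {x : G} : x ∈ ZZ τ ↔ τ x = 1 ∨ τ x = -1 := by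
  unfold ZZ
  rw [Subgroup.mem_comap, mem_center_iff_pm]

theorem ZZ_conj (τ : G →* SL2) (c : SL2) :
    ZZ ((MulAut.conj c).toMonoidHom.comp τ) = ZZ τ := by
  ext x
  unfold ZZ
  simp only [Subgroup.mem_comap, MonoidHom.coe_comp, Function.comp_apply]
  constructor
  · intro h
    have h1 := Subgroup.Normal.conj_mem (inferInstance : (Subgroup.center SL2).Normal) _ h c⁻¹
    simpa [MulAut.conj_apply, mul_assoc] using h1
  · intro h
    have h1 := Subgroup.Normal.conj_mem (inferInstance : (Subgroup.center SL2).Normal) _ h c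
    simpa [MulAut.conj_apply] using h1

theorem UU_conj_rep (τ : G →* SL2) (c : SL2) (x : G) :
    UU ((MulAut.conj c).toMonoidHom.comp τ) x ↔ UU τ x := by
  unfold UU
  simp only [MonoidHom.coe_comp, Function.comp_apply]
  have : (MulAut.conj c).toMonoidHom (τ x) = c * τ x * c⁻¹ := rfl
  rw [this, tr2_conj]

theorem card_ZZ_le [Finite F] (τ : G →* SL2) (hτ : Function.Injective τ) :
    Nat.card (ZZ τ) ≤ 2 := by
  have : Function.Injective (fun z : ZZ τ => (⟨τ z.1, z.2⟩ : Subgroup.center SL2)) := by
    intro a b hab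
    apply Subtype.ext
    apply hτ
    exact congrArg Subtype.val hab
  exact le_trans (Nat.card_le_card_of_injective _ this) card_center_le

theorem card_ZZ_coprime [Finite F] [Finite G] (p : ℕ) [Fact p.Prime] [CharP F p] (τ : G →* SL2)
    (hτ : Function.Injective τ) : (Nat.card (ZZ τ)).Coprime p := by
  have hle := card_ZZ_le τ hτ
  have hpos : 0 < Nat.card (ZZ τ) := Nat.card_pos
  by_cases h2 : p = 2
  · -- then -1 = 1
    subst h2
    have hneg : (-1 : SL2) = 1 := by
      have h20 : (2 : F) = 0 := by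
        have := CharP.cast_eq_zero F 2
        exact_mod_cast this
      have h11 : (-1 : F) = 1 := by linear_combination -h20
      apply ext2 <;> simp only [neg00, neg01, neg10, neg11, one00, one01, one10, one11] <;>
        simp [h11]
    have : ZZ τ = ⊥ := by
      rw [eq_bot_iff]
      intro x hx
      rw [Subgroup.mem_bot]
      apply hτ
      rw [map_one]
      rcases mem_ZZ.mp hx with h | h
      · exact h
      · rw [h, hneg]
    rw [this]
    simp
  · have hp := (Fact.out : p.Prime)
    have : Nat.card (ZZ τ) = 1 ∨ Nat.card (ZZ τ) = 2 := by omega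
    rcases this with h | h
    · rw [h]; exact Nat.coprime_one_left p
    · rw [h]
      exact (Nat.coprime_primes Nat.prime_two hp).mpr (Ne.symm h2)

/-- a noncentral element is not a scalar -/
theorem ne_of_not_mem_ZZ {τ : G →* SL2} {x : G} (hx : x ∉ ZZ τ) : τ x ≠ 1 ∧ τ x ≠ -1 := by
  rw [mem_ZZ] at hx
  push Not at hx
  exact hx

theorem unipotent_commute (a c : SL2) (ha1 : a ≠ 1) (ha2 : a ≠ -1)
    (hc : c * a = a * c) (h4 : tr2 a ^ 2 = 4) : tr2 c ^ 2 = 4 := by
  unfold tr2 at *
  obtain ⟨x00, x01, x10, x11⟩ := entries_of_eq hc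
  simp only [mul00, mul01, mul10, mul11] at x00 x01 x10 x11
  have h1 := det2 a
  have h2 := det2 c
  have hns : ¬ (a 0 1 = 0 ∧ a 1 0 = 0 ∧ a 0 0 = a 1 1) := by
    rintro ⟨e1, e2, e3⟩
    have h5 : a 0 0 * a 0 0 = 1 := by grind
    have h6 : a 0 0 = 1 ∨ a 0 0 = -1 := by
      have : (a 0 0 - 1) * (a 0 0 + 1) = 0 := by linear_combination h5
      rcases mul_eq_zero.mp this with h | h
      · left; linear_combination h
      · right; linear_combination h
    rcases h6 with h6 | h6
    · apply ha1; apply ext2 <;> simp only [one00, one01, one10, one11] <;> grind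
    · apply ha2
      apply ext2 <;> simp only [neg00, neg01, neg10, neg11, one00, one01, one10, one11] <;> grind
  grind

theorem ct_of_rep (τ : G →* SL2) (hτ : Function.Injective τ) : CT (ZZ τ) where
  central := fun z hz g => hτ (by
    rw [map_mul, map_mul]
    exact ((Subgroup.mem_center_iff.mp hz) (τ g)).symm)
  ct := fun x y z _ hy _ hxy hyz => hτ (by
    rw [map_mul, map_mul]
    obtain ⟨h1, h2⟩ := ne_of_not_mem_ZZ hy
    refine commute_of_commute_nonscalar (τ y) (τ x) (τ z) h1 h2 ?_ ?_
    · rw [← map_mul, ← map_mul, hxy]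
    · rw [← map_mul, ← map_mul, hyz])

theorem UU_conj (τ : G →* SL2) (x g : G) (hU : UU τ x) : UU τ (g * x * g⁻¹) := by
  unfold UU at *
  rw [map_mul, map_mul, map_inv, tr2_conj]
  exact hU

theorem UU_comm (τ : G →* SL2) (x y : G) (hx : x ∉ ZZ τ) (hxy : x * y = y * x)
    (hU : UU τ x) : UU τ y := by
  obtain ⟨h1, h2⟩ := ne_of_not_mem_ZZ hx
  refine unipotent_commute (τ x) (τ y) h1 h2 ?_ hU
  rw [← map_mul, ← map_mul, hxy]

theorem UU_pow (p : ℕ) [Fact p.Prime] [CharP F p] (τ : G →* SL2) (x : G) (hU : UU τ x) :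
    x ^ p ∈ ZZ τ := by
  unfold UU tr2 at hU
  have : (τ x 0 0 + τ x 1 1 - 2) * (τ x 0 0 + τ x 1 1 + 2) = 0 := by linear_combination hU
  rw [mem_ZZ, map_pow]
  rcases mul_eq_zero.mp this with h | h
  · left
    exact pow_char_eq_one p (τ x) (by linear_combination h)
  · have h1 : (-(τ x)) ^ p = 1 :=
      pow_char_eq_one p (-(τ x)) (by simp only [neg00, neg11]; linear_combination -h)
    have hc : Commute (-1 : SL2) (τ x) :=
      ((Subgroup.mem_center_iff.mp neg_one_mem_center) (τ x)).symm
    rw [neg_eq_neg_one_mul, hc.mul_pow] at h1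
    have h2 : (τ x) ^ p = ((-1 : SL2) ^ p)⁻¹ := eq_inv_of_mul_eq_one_right h1
    have h3 : ((-1 : SL2) ^ p)⁻¹ ∈ Subgroup.center SL2 :=
      Subgroup.inv_mem _ (Subgroup.pow_mem _ neg_one_mem_center p)
    rw [← h2] at h3
    exact (mem_center_iff_pm _).mp h3

theorem T_inv_rep (τ : G →* SL2) (hτ : Function.Injective τ) (x g : G) (hU : ¬ UU τ x)
    (hc : x * (g * x * g⁻¹) = (g * x * g⁻¹) * x) : g * x * g⁻¹ = x ∨ g * x * g⁻¹ = x⁻¹ := by
  have h1 := eq_or_eq_inv_of_commute (τ x) (τ (g * x * g⁻¹)) ?_ hU ?_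
  · rcases h1 with h1 | h1
    · left; exact hτ h1
    · right; apply hτ; rw [h1, map_inv]
  · rw [map_mul, map_mul, map_inv]; exact trace_conj _ _
  · rw [← map_mul, ← map_mul, hc]

end Cfsg.Agent.Lib.Helper14.Dk
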