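import Mathlib
import Cfsg.Agent.Lib.Helper14.DkSL2

set_option autoImplicit false

/-!
# Unipotent-type elements in standard position
-/

namespace Cfsg.Agent.Lib.Helper14.Dk

open Matrix Cfsg.Agent.Lib.Helper2.SL2

variable {F : Type*} [Field F] {G : Type*} [Group G]

local notation "SL2" => Matrix.SpecialLinearGroup (Fin 2) F

/-- preimage of the upper triangular group -/
def BG (τ : G →* SL2) : Subgroup G where
  carrier := {y | τ y 1 0 = 0}
  mul_mem' := by
    intro a b ha hb
    simp only [Set.mem_setOf_eq] at *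
    rw [map_mul, mul10, ha, hb]; ring
  one_mem' := by
    simp only [Set.mem_setOf_eq, map_one, one10]
  inv_mem' := by
    intro a ha
    simp only [Set.mem_setOf_eq] at *
    rw [map_inv, inv10, ha, neg_zero]

theorem mem_BG {τ : G →* SL2} {y : G} : y ∈ BG τ ↔ τ y 1 0 = 0 := Iff.rfl

theorem diag_mul_of_mem_BG {τ : G →* SL2} {y : G} (hy : y ∈ BG τ) : τ y 0 0 * τ y 1 1 = 1 := by
  have := det2 (τ y)
  rw [mem_BG.mp hy] at this
  linear_combination this

/-- the diagonal character of the Borel subgroup -/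
def diagHom (τ : G →* SL2) : ↥(BG τ) →* Fˣ where
  toFun y := Units.mk0 (τ y.1 0 0) (left_ne_zero_of_mul_eq_one (diag_mul_of_mem_BG y.2))
  map_one' := by
    ext
    simp only [Units.val_mk0, Subgroup.coe_one, map_one, one00, Units.val_one]
  map_mul' := by
    intro a b
    ext
    simp only [Units.val_mul, Units.val_mk0, Subgroup.coe_mul, map_mul, mul00]
    rw [mem_BG.mp b.2]; ring

theorem diagHom_val (τ : G →* SL2) (y : ↥(BG τ)) :
    ((diagHom τ y : Fˣ) : F) = (τ y.1) 0 0 := rfl

/-- the square of the diagonal character -/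
def sqHom (τ : G →* SL2) : ↥(BG τ) →* Fˣ := (powMonoidHom 2).comp (diagHom τ)

theorem sqHom_val (τ : G →* SL2) (y : ↥(BG τ)) :
    ((sqHom τ y : Fˣ) : F) = (τ y.1) 0 0 ^ 2 := rfl

/-- a unipotent-type element in standard position -/
structure Std (τ : G →* Matrix.SpecialLinearGroup (Fin 2) F) (x : G) : Prop where
  inj : Function.Injective τ
  h10 : τ x 1 0 = 0
  hd : τ x 0 0 = τ x 1 1
  hZ : x ∉ ZZ τ

namespace Std

variable {τ : G →* Matrix.SpecialLinearGroup (Fin 2) F} {x : G} (h : Std τ x)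
include h

theorem sq : τ x 0 0 * τ x 0 0 = 1 := by
  have := det2 (τ x)
  rw [h.h10, ← h.hd] at this
  linear_combination this

theorem b_ne : τ x 0 1 ≠ 0 := by
  intro hb
  apply h.hZ
  rw [mem_ZZ]
  have hs := h.sq
  have : τ x 0 0 = 1 ∨ τ x 0 0 = -1 := by
    have : (τ x 0 0 - 1) * (τ x 0 0 + 1) = 0 := by linear_combination hs
    rcases mul_eq_zero.mp this with h1 | h1
    · left; linear_combination h1
    · right; linear_combination h1
  rcases this with h1 | h1
  · left
    apply ext2 <;> simp only [one00, one01, one10, one11]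
    · exact h1
    · exact hb
    · exact h.h10
    · rw [← h.hd]; exact h1
  · right
    apply ext2 <;> simp only [neg00, neg01, neg10, neg11, one00, one01, one10, one11]
    · exact h1
    · rw [hb]; simp
    · rw [h.h10]; simp
    · rw [← h.hd]; exact h1

theorem e_ne : τ x 0 0 ≠ 0 := left_ne_zero_of_mul_eq_one h.sq

/-- the centralizer in standard position -/
theorem mem_M_iff (y : G) : y ∈ M x ↔ τ y 1 0 = 0 ∧ τ y 0 0 = τ y 1 1 := by
  rw [mem_M]
  have hb := h.b_ne
  constructor
  · intro hc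
    have hc' : τ x * τ y = τ y * τ x := by rw [← map_mul, ← map_mul, hc]
    obtain ⟨x00, x01, x10, x11⟩ := entries_of_eq hc'
    simp only [mul00, mul01, mul10, mul11, h.h10] at x00 x01 x10 x11
    have h1 : τ y 1 0 = 0 := by
      have : τ x 0 1 * τ y 1 0 = 0 := by linear_combination x00
      rcases mul_eq_zero.mp this with h2 | h2
      · exact absurd h2 hb
      · exact h2
    refine ⟨h1, ?_⟩
    have : τ x 0 1 * (τ y 1 1 - τ y 0 0) = 0 := by
      rw [← h.hd] at x01; linear_combination x01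
    rcases mul_eq_zero.mp this with h2 | h2
    · exact absurd h2 hb
    · linear_combination -h2
  · rintro ⟨h1, h2⟩
    apply h.inj
    rw [map_mul, map_mul]
    apply ext2 <;> simp only [mul00, mul01, mul10, mul11, h.h10, h1, ← h.hd, ← h2] <;> ring

theorem M_le_BG : M x ≤ BG τ := fun y hy => ((h.mem_M_iff y).mp hy).1

/-- conjugating `x` by `g` -/
theorem conj_entry (g : G) : τ (g * x * g⁻¹) 1 0 = -(τ g 1 0 ^ 2 * τ x 0 1) := by
  rw [map_mul, map_mul, map_inv]
  simp only [mul00, mul01, mul10, mul11, inv00, inv01, inv10, inv11, h.h10, ← h.hd]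
  ring

/-- the normalizer of the centralizer is the Borel subgroup -/
theorem normalizer_eq : Subgroup.normalizer (M x : Set G) = BG τ := by
  ext g
  rw [(ct_of_rep τ h.inj).mem_normalizer_M h.hZ, ← mem_M, h.mem_M_iff, mem_BG, h.conj_entry]
  constructor
  · rintro ⟨h1, _⟩
    have : τ g 1 0 ^ 2 * τ x 0 1 = 0 := by linear_combination -h1
    rcases mul_eq_zero.mp this with h2 | h2
    · exact pow_eq_zero_iff (two_ne_zero) |>.mp h2
    · exact absurd h2 h.b_ne
  · intro h1
    refine ⟨by rw [h1]; ring, ?_⟩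
    have hdg := det2 (τ g)
    rw [h1] at hdg
    rw [map_mul, map_mul, map_inv]
    simp only [mul00, mul01, mul10, mul11, inv00, inv01, inv10, inv11, h.h10, ← h.hd, h1]
    ring

/-- the kernel of the squared diagonal character is the centralizer -/
theorem sqHom_eq_one_iff (y : ↥(BG τ)) : sqHom τ y = 1 ↔ (y : G) ∈ M x := by
  rw [h.mem_M_iff, Units.ext_iff, sqHom_val, Units.val_one]
  have h1 := diag_mul_of_mem_BG y.2
  have hne : τ y.1 0 0 ≠ 0 := left_ne_zero_of_mul_eq_one h1
  constructor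
  · intro h2
    refine ⟨mem_BG.mp y.2, ?_⟩
    have : τ y.1 0 0 * (τ y.1 0 0 - τ y.1 1 1) = 0 := by linear_combination h2 - h1
    rcases mul_eq_zero.mp this with h3 | h3
    · exact absurd h3 hne
    · linear_combination h3
  · rintro ⟨_, h2⟩
    rw [← h2] at h1
    linear_combination h1

theorem ker_sqHom : (sqHom τ).ker = (M x).subgroupOf (BG τ) := by
  ext y
  rw [MonoidHom.mem_ker, h.sqHom_eq_one_iff, Subgroup.mem_subgroupOf]

/-- the index of the centralizer in its normalizer -/
theorem ee_eq : ee x = Nat.card (sqHom τ).range := by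
  unfold ee
  rw [h.normalizer_eq, ← Subgroup.index_ker, h.ker_sqHom]
  rfl

theorem diag_sq {y : G} (hy : y ∈ M x) : τ y 0 0 * τ y 0 0 = 1 := by
  obtain ⟨h1, h2⟩ := (h.mem_M_iff y).mp hy
  have := diag_mul_of_mem_BG (mem_BG.mpr h1)
  rw [← h2] at this
  exact this

/-- the additive character of the centralizer -/
def rho : ↥(M x) →* Multiplicative F where
  toFun y := Multiplicative.ofAdd (τ y.1 0 1 * τ y.1 0 0)
  map_one' := by
    simp only [Subgroup.coe_one, map_one, one01, one00, zero_mul, ofAdd_zero]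
  map_mul' := by
    intro a b
    rw [← ofAdd_add]
    congr 1
    obtain ⟨a1, a2⟩ := (h.mem_M_iff a.1).mp a.2
    obtain ⟨b1, b2⟩ := (h.mem_M_iff b.1).mp b.2
    have sa := h.diag_sq a.2
    have sb := h.diag_sq b.2
    simp only [Subgroup.coe_mul, map_mul, mul00, mul01, a1, b1, ← a2, ← b2]
    linear_combination (τ a.1 0 1 * τ a.1 0 0) * sb + (τ b.1 0 1 * τ b.1 0 0) * sa

theorem rho_apply (y : ↥(M x)) : h.rho y = Multiplicative.ofAdd (τ y.1 0 1 * τ y.1 0 0) := rfl

theorem ker_rho : h.rho.ker = (ZZ τ).subgroupOf (M x) := by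
  ext y
  rw [MonoidHom.mem_ker, Subgroup.mem_subgroupOf, h.rho_apply, ofAdd_eq_one, mem_ZZ]
  obtain ⟨y1, y2⟩ := (h.mem_M_iff y.1).mp y.2
  have sy := h.diag_sq y.2
  have hne : τ y.1 0 0 ≠ 0 := left_ne_zero_of_mul_eq_one sy
  constructor
  · intro h0
    have h01 : τ y.1 0 1 = 0 := by
      rcases mul_eq_zero.mp h0 with h1 | h1
      · exact h1
      · exact absurd h1 hne
    have : τ y.1 0 0 = 1 ∨ τ y.1 0 0 = -1 := by
      have : (τ y.1 0 0 - 1) * (τ y.1 0 0 + 1) = 0 := by linear_combination sy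
      rcases mul_eq_zero.mp this with h1 | h1
      · left; linear_combination h1
      · right; linear_combination h1
    rcases this with h1 | h1
    · left
      apply ext2 <;> simp only [one00, one01, one10, one11]
      · exact h1
      · exact h01
      · exact y1
      · rw [← y2]; exact h1
    · right
      apply ext2 <;> simp only [neg00, neg01, neg10, neg11, one00, one01, one10, one11]
      · exact h1
      · rw [h01]; simp
      · rw [y1]; simp
      · rw [← y2]; exact h1
  · rintro (h1 | h1)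
    · rw [h1]; simp only [one01, zero_mul]
    · rw [h1]; simp only [neg01, one01, neg_zero, zero_mul]

/-- the set of parameters of the unipotent elements -/
def VV : Set F := {c | Multiplicative.ofAdd c ∈ h.rho.range}

theorem mem_VV {c : F} : c ∈ h.VV ↔ ∃ y : ↥(M x), τ y.1 0 1 * τ y.1 0 0 = c := by
  unfold VV
  rw [Set.mem_setOf_eq, MonoidHom.mem_range]
  constructor
  · rintro ⟨y, hy⟩
    exact ⟨y, Multiplicative.ofAdd.injective hy⟩
  · rintro ⟨y, hy⟩
    exact ⟨y, by rw [h.rho_apply, hy]⟩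

theorem zero_mem_VV : (0 : F) ∈ h.VV := by
  show Multiplicative.ofAdd (0 : F) ∈ h.rho.range
  rw [ofAdd_zero]; exact Subgroup.one_mem _

theorem add_mem_VV {a b : F} (ha : a ∈ h.VV) (hb : b ∈ h.VV) : a + b ∈ h.VV := by
  show Multiplicative.ofAdd (a + b) ∈ h.rho.range
  rw [ofAdd_add]; exact Subgroup.mul_mem _ ha hb

theorem neg_mem_VV {a : F} (ha : a ∈ h.VV) : -a ∈ h.VV := by
  show Multiplicative.ofAdd (-a) ∈ h.rho.range
  rw [ofAdd_neg]; exact Subgroup.inv_mem _ ha

theorem ncard_VV : h.VV.ncard = Nat.card h.rho.range := by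
  rw [← Nat.card_coe_set_eq]
  apply Nat.card_congr
  exact
    { toFun := fun c => ⟨Multiplicative.ofAdd c.1, c.2⟩
      invFun := fun r => ⟨Multiplicative.toAdd r.1, by
        show Multiplicative.ofAdd (Multiplicative.toAdd r.1) ∈ h.rho.range
        rw [ofAdd_toAdd]; exact r.2⟩
      left_inv := fun c => by ext; rfl
      right_inv := fun r => by ext; rfl }

theorem card_mul_ncard_VV [Finite G] : Nat.card (ZZ τ) * h.VV.ncard = aa x := by
  unfold aa
  rw [h.ncard_VV, ← Subgroup.index_ker, ← Subgroup.card_mul_index h.rho.ker, h.ker_rho]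
  congr 1
  exact (Nat.card_congr (Subgroup.subgroupOfEquivOfLe ((ct_of_rep τ h.inj).Z_le_M x)).toEquiv).symm

theorem b_mem_VV : τ x 0 1 * τ x 0 0 ∈ h.VV := h.mem_VV.mpr ⟨⟨x, self_mem_M x⟩, rfl⟩

theorem b_ne' : τ x 0 1 * τ x 0 0 ≠ 0 := mul_ne_zero h.b_ne h.e_ne

/-- the squares of the diagonal entries act on the parameters -/
theorem smul_mem_VV {t : Fˣ} (ht : t ∈ (sqHom τ).range) {c : F} (hc : c ∈ h.VV) :
    (t : F) * c ∈ h.VV := by
  obtain ⟨g, rfl⟩ := ht
  obtain ⟨u, rfl⟩ := h.mem_VV.mp hc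
  obtain ⟨u1, u2⟩ := (h.mem_M_iff u.1).mp u.2
  have hg : τ g.1 1 0 = 0 := mem_BG.mp g.2
  have hdg := diag_mul_of_mem_BG g.2
  have hmem : g.1 * u.1 * g.1⁻¹ ∈ M x := by
    rw [h.mem_M_iff, map_mul, map_mul, map_inv]
    simp only [mul00, mul01, mul10, mul11, inv00, inv01, inv10, inv11, hg, u1, ← u2]
    constructor
    · ring
    · ring
  rw [h.mem_VV]
  refine ⟨⟨g.1 * u.1 * g.1⁻¹, hmem⟩, ?_⟩
  rw [sqHom_val]
  simp only [map_mul, map_inv, mul00, mul01, mul10, mul11, inv00, inv01, inv10, inv11, hg, u1,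
    ← u2]
  linear_combination (τ g.1 0 0 ^ 2 * τ u.1 0 1 * τ u.1 0 0 + τ g.1 0 0 * τ u.1 0 0 ^ 2 * τ g.1 0 1 -
    τ g.1 0 0 * τ u.1 0 0 ^ 2 * τ g.1 0 1) * hdg

end Std

end Cfsg.Agent.Lib.Helper14.Dk
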