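import Mathlib
import Cfsg.Agent.Lib.Helper14.DkStd

set_option autoImplicit false

/-!
# A group with a faithful representation in `SL₂(F)`, `F` finite, is a Dickson group
-/

namespace Cfsg.Agent.Lib.Helper14.Dk

open Matrix Cfsg.Agent.Lib.Helper2.SL2

variable {F : Type*} [Field F] {G : Type*} [Group G]

local notation "SL2" => Matrix.SpecialLinearGroup (Fin 2) F

namespace Std

variable {τ : G →* Matrix.SpecialLinearGroup (Fin 2) F} {x : G} (h : Std τ x)
include h

/-- the complement of the unipotent radical is a torus -/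
theorem P_tor [Finite G] [Finite F] (hk : 2 ≤ ee x) :
    ∃ y, y ∉ ZZ τ ∧ ¬ UU τ y ∧ aa y = Nat.card (ZZ τ) * ee x ∧
      M y ≤ Subgroup.normalizer (M x : Set G) := by
  have hct := ct_of_rep τ h.inj
  obtain ⟨⟨t₀, ht₀⟩, hgen⟩ := IsCyclic.exists_generator (α := (sqHom τ).range)
  obtain ⟨y₀, rfl⟩ := ht₀
  have hcardS : Nat.card (sqHom τ).range = ee x := h.ee_eq.symm
  -- the generator is not 1
  have hne1 : sqHom τ y₀ ≠ 1 := by
    intro h1
    have : ∀ s : (sqHom τ).range, s = 1 := by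
      intro s
      obtain ⟨k, hk'⟩ := Subgroup.mem_zpowers_iff.mp (hgen s)
      rw [← hk']
      have : (⟨sqHom τ y₀, ⟨y₀, rfl⟩⟩ : (sqHom τ).range) = 1 := Subtype.ext h1
      rw [this, _root_.one_zpow]
    have : Nat.card (sqHom τ).range = 1 := by
      have : Subsingleton (sqHom τ).range := ⟨fun a b => by rw [this a, this b]⟩
      exact Nat.card_unique
    omega
  have hy₀M : (y₀ : G) ∉ M x := fun hm => hne1 ((h.sqHom_eq_one_iff y₀).mpr hm)
  have hy₀Z : (y₀ : G) ∉ ZZ τ := fun hz => hy₀M (hct.Z_le_M x hz)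
  have h10 : τ y₀.1 1 0 = 0 := mem_BG.mp y₀.2
  have hdg := diag_mul_of_mem_BG y₀.2
  have hne : τ y₀.1 0 0 ≠ τ y₀.1 1 1 := by
    intro he
    apply hne1
    rw [Units.ext_iff, sqHom_val, Units.val_one]
    rw [← he] at hdg
    linear_combination hdg
  have hU : ¬ UU τ y₀.1 := by
    intro hU
    unfold UU tr2 at hU
    apply hne
    have : (τ y₀.1 0 0 - τ y₀.1 1 1) ^ 2 = 0 := by linear_combination hU - 4 * hdg
    have := pow_eq_zero_iff (two_ne_zero) |>.mp this
    linear_combination this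
  have hle : M y₀.1 ≤ BG τ := by
    intro a ha
    rw [mem_M] at ha
    have hc' : τ y₀.1 * τ a = τ a * τ y₀.1 := by rw [← map_mul, ← map_mul, ha]
    obtain ⟨_, _, x10, _⟩ := entries_of_eq hc'
    simp only [mul10, h10] at x10
    rw [mem_BG]
    have : τ a 1 0 * (τ y₀.1 0 0 - τ y₀.1 1 1) = 0 := by linear_combination -x10
    rcases mul_eq_zero.mp this with h1 | h1
    · exact h1
    · exact absurd (sub_eq_zero.mp h1) hne
  refine ⟨y₀.1, hy₀Z, hU, ?_, by rw [h.normalizer_eq]; exact hle⟩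
  -- the order of the centralizer of y₀
  let ψ' : ↥(M y₀.1) →* Fˣ := (sqHom τ).comp (Subgroup.inclusion hle)
  have hker : ψ'.ker = (ZZ τ).subgroupOf (M y₀.1) := by
    ext a
    rw [MonoidHom.mem_ker, Subgroup.mem_subgroupOf]
    show sqHom τ (Subgroup.inclusion hle a) = 1 ↔ _
    rw [h.sqHom_eq_one_iff]
    show (a : G) ∈ M x ↔ _
    constructor
    · intro hax
      have hne' : M x ≠ M y₀.1 := by
        intro he
        apply hy₀M
        rw [he]; exact self_mem_M _
      exact hct.inf_le_Z h.hZ hy₀Z hne' ⟨hax, a.2⟩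
    · intro haZ
      exact hct.Z_le_M x haZ
  have hrange : ψ'.range = (sqHom τ).range := by
    apply le_antisymm
    · rintro _ ⟨a, rfl⟩
      exact ⟨Subgroup.inclusion hle a, rfl⟩
    · rintro s hs
      obtain ⟨k, hk'⟩ := Subgroup.mem_zpowers_iff.mp (hgen ⟨s, hs⟩)
      have hk'' : (sqHom τ y₀) ^ k = s := by
        have := congrArg Subtype.val hk'
        simpa using this
      rw [← hk'']
      apply Subgroup.zpow_mem
      exact ⟨⟨y₀.1, self_mem_M _⟩, rfl⟩
  unfold aa
  rw [← Subgroup.card_mul_index ψ'.ker, Subgroup.index_ker, hker, hrange, hcardS]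
  congr 1
  exact Nat.card_congr (Subgroup.subgroupOfEquivOfLe (hct.Z_le_M _)).toEquiv

/-- `k + 1 ≤ q_H` -/
theorem P_le [Finite G] [Finite F] : Nat.card (ZZ τ) * (ee x + 1) ≤ aa x := by
  classical
  rw [← h.card_mul_ncard_VV]
  apply Nat.mul_le_mul_left
  rw [h.ee_eq, ← Nat.card_coe_set_eq]
  -- an injection Option S → V
  have : Nat.card (Option ↥(sqHom τ).range) = Nat.card ↥(sqHom τ).range + 1 :=
    Finite.card_option
  rw [← this]
  let f : Option ↥(sqHom τ).range → ↥h.VV := fun o =>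
    match o with
    | none => ⟨0, h.zero_mem_VV⟩
    | some t => ⟨(t.1 : F) * (τ x 0 1 * τ x 0 0), h.smul_mem_VV t.2 h.b_mem_VV⟩
  apply Nat.card_le_card_of_injective f
  intro a b hab
  have hb' := h.b_ne'
  cases a with
  | none =>
    cases b with
    | none => rfl
    | some t =>
      exfalso
      have h0 : (0 : F) = (t.1 : F) * (τ x 0 1 * τ x 0 0) := congrArg Subtype.val hab
      exact (mul_ne_zero (Units.ne_zero t.1) hb') h0.symm
  | some s =>
    cases b with
    | none =>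
      exfalso
      have : (s.1 : F) * (τ x 0 1 * τ x 0 0) = 0 := congrArg Subtype.val hab
      exact (mul_ne_zero (Units.ne_zero s.1) hb') this
    | some t =>
      have : (s.1 : F) * (τ x 0 1 * τ x 0 0) = (t.1 : F) * (τ x 0 1 * τ x 0 0) :=
        congrArg Subtype.val hab
      have := mul_right_cancel₀ hb' this
      congr 1
      exact Subtype.ext (Units.ext this)

/-- `k` divides `q - 1` -/
theorem ee_dvd [Fintype F] : ee x ∣ Fintype.card F - 1 := by
  rw [h.ee_eq]
  have := Subgroup.card_subgroup_dvd_card (sqHom τ).range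
  rwa [Nat.card_units, Nat.card_eq_fintype_card (α := F)] at this

theorem P_cop [Fintype F] (p : ℕ) [Fact p.Prime] [CharP F p] : (ee x).Coprime p := by
  obtain ⟨n, hp, hq⟩ := FiniteField.card F p
  have h1 := h.ee_dvd
  rw [hq] at h1
  apply Nat.Coprime.coprime_dvd_left h1
  have hpos : 0 < p ^ (n : ℕ) := pow_pos hp.pos _
  rw [Nat.coprime_comm, Nat.Prime.coprime_iff_not_dvd hp]
  intro hdvd
  have h3 : p ∣ p ^ (n : ℕ) := dvd_pow_self p n.ne_zero
  have h4 : p ∣ p ^ (n : ℕ) - (p ^ (n : ℕ) - 1) := Nat.dvd_sub h3 hdvd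
  have h5 : p ^ (n : ℕ) - (p ^ (n : ℕ) - 1) = 1 := by omega
  rw [h5] at h4
  exact hp.one_lt.ne' (Nat.dvd_one.mp h4)

end Std

/-- a constructor for elements of `SL₂` -/
def mk2 (a b c d : F) (h : a * d - b * c = 1) : SL2 :=
  ⟨!![a, b; c, d], by rw [Matrix.det_fin_two_of]; exact h⟩

@[simp] theorem mk2_00 (a b c d : F) (h : a * d - b * c = 1) : (mk2 a b c d h) 0 0 = a := rfl
@[simp] theorem mk2_01 (a b c d : F) (h : a * d - b * c = 1) : (mk2 a b c d h) 0 1 = b := rfl
@[simp] theorem mk2_10 (a b c d : F) (h : a * d - b * c = 1) : (mk2 a b c d h) 1 0 = c := rfl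
@[simp] theorem mk2_11 (a b c d : F) (h : a * d - b * c = 1) : (mk2 a b c d h) 1 1 = d := rfl

theorem diag_eq_of_upper (g : SL2) (h10 : g 1 0 = 0) (h4 : tr2 g ^ 2 = 4) : g 0 0 = g 1 1 := by
  unfold tr2 at h4
  have hd := det2 g
  rw [h10] at hd
  have : (g 0 0 - g 1 1) ^ 2 = 0 := by linear_combination h4 - 4 * hd
  have := pow_eq_zero_iff (two_ne_zero) |>.mp this
  linear_combination this

/-- a unipotent-type element can be conjugated to upper triangular form -/
theorem exists_conj_upper (a : SL2) (h4 : tr2 a ^ 2 = 4) : ∃ c : SL2, (c * a * c⁻¹) 1 0 = 0 := by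
  by_cases h10 : a 1 0 = 0
  · exact ⟨1, by simpa using h10⟩
  have hd := det2 a
  have key : ∀ e : F, e * e = 1 → a 0 0 + a 1 1 = 2 * e → ∃ c : SL2, (c * a * c⁻¹) 1 0 = 0 := by
    intro e he htr
    refine ⟨(mk2 (e - a 1 1) (-(a 1 0)⁻¹) (a 1 0) 0 (by field_simp; ring))⁻¹, ?_⟩
    rw [inv_inv]
    simp only [mul00, mul01, mul10, mul11, inv00, inv01, inv10, inv11, mk2_00, mk2_01, mk2_10,
      mk2_11]
    have h00 : a 0 0 = 2 * e - a 1 1 := by linear_combination htr
    rw [h00] at hd ⊢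
    linear_combination (a 1 0) * hd - (a 1 0) * he
  unfold tr2 at h4
  have : (a 0 0 + a 1 1 - 2) * (a 0 0 + a 1 1 + 2) = 0 := by linear_combination h4
  rcases mul_eq_zero.mp this with h | h
  · exact key 1 (by ring) (by linear_combination h)
  · exact key (-1) (by ring) (by linear_combination h)

theorem exists_std (τ : G →* SL2) (hτ : Function.Injective τ) {x : G} (hx : x ∉ ZZ τ)
    (hU : UU τ x) : ∃ c : SL2, Std ((MulAut.conj c).toMonoidHom.comp τ) x := by
  obtain ⟨c, hc⟩ := exists_conj_upper (τ x) hU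
  refine ⟨c, ?_⟩
  have e : ((MulAut.conj c).toMonoidHom.comp τ) x = c * τ x * c⁻¹ := rfl
  refine ⟨?_, by rw [e]; exact hc, ?_, by rw [ZZ_conj]; exact hx⟩
  · exact (MulAut.conj c).injective.comp hτ
  · rw [e]
    apply diag_eq_of_upper _ hc
    rw [tr2_conj]; exact hU

/-- a finite group with a faithful representation in `SL₂(F)` is a Dickson group -/
theorem data_of_rep [Fintype F] (p : ℕ) [Fact p.Prime] [CharP F p] [Finite G] (τ : G →* SL2)
    (hτ : Function.Injective τ) : Data (ZZ τ) p (UU τ) where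
  toCT := ct_of_rep τ hτ
  pZ := card_ZZ_coprime p τ hτ
  Zcard := card_ZZ_le τ hτ
  U_conj := fun x g hU => UU_conj τ x g hU
  U_comm := fun x y hx _ hxy hU => UU_comm τ x y hx hxy hU
  U_pow := fun x _ hU => UU_pow p τ x hU
  T_inv := fun x g _ hU hc => T_inv_rep τ hτ x g hU hc
  P_cop := fun x hx hU => by
    obtain ⟨c, hc⟩ := exists_std τ hτ hx hU
    exact hc.P_cop p
  P_le := fun x hx hU => by
    obtain ⟨c, hc⟩ := exists_std τ hτ hx hU
    have := hc.P_le
    rwa [ZZ_conj] at this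
  P_tor := fun x hx hU hk => by
    obtain ⟨c, hc⟩ := exists_std τ hτ hx hU
    obtain ⟨y, h1, h2, h3, h4⟩ := hc.P_tor hk
    rw [ZZ_conj] at h1 h3
    rw [UU_conj_rep] at h2
    exact ⟨y, h1, h2, h3, h4⟩

end Cfsg.Agent.Lib.Helper14.Dk
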