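import Mathlib
import Cfsg.Agent.Lib.Helper14.DkRep

set_option autoImplicit false

/-!
# The field of definition of a unipotent-type centralizer
-/

namespace Cfsg.Agent.Lib.Helper14.Dk

section subfield

variable {F : Type*} [Field F] [Fintype F]

/-- the stabilizer of an additive subgroup of a finite field is a subfield -/
def stabField (V : AddSubgroup F) : Subfield F where
  carrier := {e | ∀ c ∈ V, e * c ∈ V}
  mul_mem' := fun {a b} ha hb c hc => by rw [mul_assoc]; exact ha _ (hb c hc)
  one_mem' := fun c hc => by rwa [one_mul]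
  add_mem' := fun {a b} ha hb c hc => by rw [add_mul]; exact V.add_mem (ha c hc) (hb c hc)
  zero_mem' := fun c _ => by rw [zero_mul]; exact V.zero_mem
  neg_mem' := fun {a} ha c hc => by rw [neg_mul]; exact V.neg_mem (ha c hc)
  inv_mem' := fun a ha => by
    by_cases h0 : a = 0
    · subst h0
      intro c _
      rw [inv_zero, zero_mul]; exact V.zero_mem
    · have hpow : ∀ n : ℕ, ∀ c ∈ V, a ^ n * c ∈ V := by
        intro n
        induction n with
        | zero => intro c hc; rwa [pow_zero, one_mul]
        | succ n ih =>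
          intro c hc
          rw [pow_succ, mul_assoc]
          exact ih _ (ha c hc)
      have h1 : a ^ (Fintype.card F - 1) = 1 := FiniteField.pow_card_sub_one_eq_one a h0
      have h2 : 2 ≤ Fintype.card F := Fintype.one_lt_card
      have h3 : a⁻¹ = a ^ (Fintype.card F - 2) := by
        apply inv_eq_of_mul_eq_one_right
        rw [← pow_succ']
        have : Fintype.card F - 2 + 1 = Fintype.card F - 1 := by omega
        rw [this, h1]
      intro c hc
      show a⁻¹ * c ∈ V
      rw [h3]
      exact hpow _ c hc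

theorem mem_stabField {V : AddSubgroup F} {e : F} : e ∈ stabField V ↔ ∀ c ∈ V, e * c ∈ V :=
  Iff.rfl

/-- `V` as a vector space over its stabilizer -/
def stabModule (V : AddSubgroup F) : Submodule (stabField V) F where
  carrier := V
  add_mem' := V.add_mem
  zero_mem' := V.zero_mem
  smul_mem' := fun e c hc => by
    rw [Subfield.smul_def, smul_eq_mul]
    exact e.2 c hc

theorem card_pow_of_VS (V : AddSubgroup F) (S : Subgroup Fˣ)
    (hSV : ∀ t ∈ S, ∀ c ∈ V, (t : F) * c ∈ V) (hne : ∃ c ∈ V, c ≠ 0)
    (hle : Nat.card V ≤ 2 * Nat.card S + 1) :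
    ∃ m, 1 ≤ m ∧ Nat.card V ^ m = Fintype.card F := by
  classical
  set E := stabField V with hE
  -- `S` injects into the nonzero elements of `E`
  have hSE : Nat.card S + 1 ≤ Nat.card E := by
    rw [← Finite.card_option]
    let f : Option S → E := fun o => o.elim 0 (fun t => ⟨(t.1 : F), hSV t.1 t.2⟩)
    apply Nat.card_le_card_of_injective f
    intro a b hab
    rcases a with _ | a <;> rcases b with _ | b
    · rfl
    · exfalso
      have : (0 : F) = (b.1 : F) := congrArg Subtype.val hab
      exact b.1.ne_zero this.symm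
    · exfalso
      have : (a.1 : F) = 0 := congrArg Subtype.val hab
      exact a.1.ne_zero this
    · have : (a.1 : F) = (b.1 : F) := congrArg Subtype.val hab
      congr 1
      exact Subtype.ext (Units.ext this)
  have hV1 : 2 ≤ Nat.card V := by
    obtain ⟨c, hc, hc0⟩ := hne
    have : Nontrivial V := ⟨⟨⟨c, hc⟩, 0, fun h => hc0 (congrArg Subtype.val h)⟩⟩
    exact Finite.one_lt_card
  have hcardV : Nat.card V = Nat.card E ^ Module.finrank E (stabModule V) :=
    Module.natCard_eq_pow_finrank (K := E) (V := stabModule V)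
  have hcardF : Nat.card F = Nat.card E ^ Module.finrank E F :=
    Module.natCard_eq_pow_finrank (K := E) (V := F)
  have hE2 : 2 ≤ Nat.card E := by
    have : 1 ≤ Nat.card S := Nat.card_pos
    omega
  set j := Module.finrank E (stabModule V) with hj
  have hj1 : j = 1 := by
    rcases Nat.lt_or_ge j 1 with h0 | h1
    · have : j = 0 := by omega
      rw [this, pow_zero] at hcardV
      omega
    · rcases Nat.lt_or_ge j 2 with h2 | h2
      · omega
      · exfalso
        have h3 : Nat.card E ^ 2 ≤ Nat.card E ^ j := Nat.pow_le_pow_right (by omega) h2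
        have h4 : (Nat.card S + 1) ^ 2 ≤ Nat.card E ^ 2 := Nat.pow_le_pow_left hSE 2
        have h5 : 1 ≤ Nat.card S := Nat.card_pos
        nlinarith
  rw [hj1, pow_one] at hcardV
  refine ⟨Module.finrank E F, ?_, ?_⟩
  · rcases Nat.eq_zero_or_pos (Module.finrank E F) with h0 | h0
    · rw [h0, pow_zero, Nat.card_eq_fintype_card] at hcardF
      have : 2 ≤ Fintype.card F := Fintype.one_lt_card
      omega
    · exact h0
  · rw [hcardV, ← hcardF, Nat.card_eq_fintype_card]

end subfield

section borel

open Cfsg.Agent.Lib.Helper2.SL2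

variable {G : Type*} [Group G] {F : Type*} [Field F]

local notation "SL2" => Matrix.SpecialLinearGroup (Fin 2) F

/-- the coordinates of an upper triangular matrix -/
def bgCoord (τ : G →* SL2) (y : ↥(BG τ)) : F × Fˣ := (τ y.1 0 1, diagHom τ y)

theorem bgCoord_injective (τ : G →* SL2) (hτ : Function.Injective τ) :
    Function.Injective (bgCoord τ) := by
  intro y y' h
  have h1 : τ y.1 0 1 = τ y'.1 0 1 := congrArg Prod.fst h
  have h2 : τ y.1 0 0 = τ y'.1 0 0 := congrArg (fun u => ((u.2 : Fˣ) : F)) h
  apply Subtype.ext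
  apply hτ
  have d1 := diag_mul_of_mem_BG y.2
  have d2 := diag_mul_of_mem_BG y'.2
  apply ext2 h2 h1
  · rw [mem_BG.mp y.2, mem_BG.mp y'.2]
  · have hne : τ y.1 0 0 ≠ 0 := left_ne_zero_of_mul_eq_one d1
    apply mul_left_cancel₀ hne
    rw [d1, h2, d2]

theorem card_prod_units [Fintype F] :
    Nat.card (F × Fˣ) = Fintype.card F * (Fintype.card F - 1) := by
  rw [Nat.card_prod, Nat.card_units, Nat.card_eq_fintype_card]

theorem card_BG_le [Fintype F] [Finite G] (τ : G →* SL2) (hτ : Function.Injective τ) :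
    Nat.card (BG τ) ≤ Fintype.card F * (Fintype.card F - 1) := by
  rw [← card_prod_units]
  exact Nat.card_le_card_of_injective _ (bgCoord_injective τ hτ)

theorem card_le_of_BG_top [Fintype F] [Finite G] (τ : G →* SL2) (hτ : Function.Injective τ)
    (hB : BG τ = ⊤) : Nat.card G ≤ Fintype.card F * (Fintype.card F - 1) := by
  have := card_BG_le τ hτ
  rwa [hB, Subgroup.card_top] at this

theorem card_BG_id [Fintype F] :
    Nat.card (BG (MonoidHom.id SL2)) = Fintype.card F * (Fintype.card F - 1) := by
  rw [← card_prod_units]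
  apply Nat.card_eq_of_bijective (bgCoord (MonoidHom.id SL2))
  refine ⟨bgCoord_injective _ (fun _ _ h => h), ?_⟩
  rintro ⟨b, a⟩
  have hdet : (a : F) * ((a⁻¹ : Fˣ) : F) - b * 0 = 1 := by
    rw [mul_zero, sub_zero, ← Units.val_mul, mul_inv_cancel, Units.val_one]
  refine ⟨⟨mk2 (a : F) b 0 ((a⁻¹ : Fˣ) : F) hdet, ?_⟩, ?_⟩
  · rw [mem_BG]
    simp
  · unfold bgCoord
    apply Prod.ext
    · simp
    · apply Units.ext
      rw [diagHom_val]
      simp

/-- the parameters of a unipotent-type centralizer and the torus acting on them -/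
theorem exists_VS [Finite G] (τ : G →* SL2) (hτ : Function.Injective τ) {x : G}
    (hx : x ∉ ZZ τ) (hU : UU τ x) :
    ∃ (V : AddSubgroup F) (S : Subgroup Fˣ), Nat.card (ZZ τ) * Nat.card V = aa x ∧
      Nat.card S = ee x ∧ (∀ t ∈ S, ∀ c ∈ V, (t : F) * c ∈ V) ∧ ∃ c ∈ V, c ≠ 0 := by
  obtain ⟨c, hc⟩ := exists_std τ hτ hx hU
  let V : AddSubgroup F :=
    { carrier := hc.VV
      add_mem' := fun ha hb => hc.add_mem_VV ha hb
      zero_mem' := hc.zero_mem_VV
      neg_mem' := fun ha => hc.neg_mem_VV ha }
  refine ⟨V, (sqHom ((MulAut.conj c).toMonoidHom.comp τ)).range, ?_, hc.ee_eq.symm, ?_, ?_⟩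
  · have h1 := hc.card_mul_ncard_VV
    rw [ZZ_conj] at h1
    rw [← h1]
    rfl
  · intro t ht v hv
    exact hc.smul_mem_VV ht hv
  · exact ⟨_, hc.b_mem_VV, hc.b_ne'⟩

/-- the order of the field is a power of the order of a unipotent-type centralizer with a
large torus normalizing it -/
theorem field_card_pow [Fintype F] [Finite G] (τ : G →* SL2) (hτ : Function.Injective τ) {x : G}
    (hx : x ∉ ZZ τ) (hU : UU τ x) {k qH : ℕ} (hee : ee x = k)
    (haa : aa x = Nat.card (ZZ τ) * qH) (hle : qH ≤ 2 * k + 1) :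
    ∃ m, 1 ≤ m ∧ qH ^ m = Fintype.card F := by
  obtain ⟨V, S, h1, h2, h3, h4⟩ := exists_VS τ hτ hx hU
  have hd : 0 < Nat.card (ZZ τ) := Nat.card_pos
  have hV : Nat.card V = qH := by
    rw [haa] at h1
    exact Nat.eq_of_mul_eq_mul_left hd h1
  have := card_pow_of_VS V S h3 h4 (by rw [hV, h2, hee]; exact hle)
  rwa [hV] at this

end borel

end Cfsg.Agent.Lib.Helper14.Dk
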