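import Mathlib

set_option autoImplicit false

/-!
# The Diophantine analysis of the class equation
-/

namespace Cfsg.Agent.Lib.Helper14.Dk.Arith

theorem cls_facts (n e gi g : ℕ) (hg : 0 < g) (h : n * e * gi = g) (hgi : 2 ≤ gi) :
    1 ≤ n ∧ 2 * n ≤ n * gi ∧ e * (n * gi) = g := by
  refine ⟨?_, ?_, ?_⟩
  · rcases Nat.eq_zero_or_pos n with rfl | hn
    · simp at h; omega
    · exact hn
  · have := Nat.mul_le_mul_left n hgi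
    omega
  · rw [← h]; ring

/-- one class of tori, no unipotent elements: the group is the torus -/
theorem T1 (n e g₁ g : ℕ) (hg : 0 < g) (h1 : n * e * g₁ = g) (hg₁ : 2 ≤ g₁)
    (he : e = 1 ∨ e = 2) (heq : g + n = 1 + n * g₁) : e = 1 ∧ n = 1 := by
  obtain ⟨hn, hP, hE⟩ := cls_facts n e g₁ g hg h1 hg₁
  rcases he with rfl | rfl
  · refine ⟨rfl, ?_⟩
    omega
  · exfalso
    omega

/-- two classes of tori, no unipotent elements -/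
theorem T2 (n₁ e₁ g₁ n₂ e₂ g₂ g : ℕ) (hg : 0 < g) (h1 : n₁ * e₁ * g₁ = g) (hg₁ : 2 ≤ g₁)
    (he₁ : e₁ = 1 ∨ e₁ = 2) (h2 : n₂ * e₂ * g₂ = g) (hg₂ : 2 ≤ g₂)
    (he₂ : e₂ = 1 ∨ e₂ = 2) (heq : g + n₁ + n₂ = 1 + n₁ * g₁ + n₂ * g₂) :
    (e₁ = 1 ∧ e₂ = 2 ∧ ((g₁ = 2 ∧ n₂ = 1) ∨ (g₁ = 3 ∧ g₂ = 2 ∧ g = 12))) ∨
    (e₂ = 1 ∧ e₁ = 2 ∧ ((g₂ = 2 ∧ n₁ = 1) ∨ (g₂ = 3 ∧ g₁ = 2 ∧ g = 12))) := by
  obtain ⟨hn₁, hP₁, hE₁⟩ := cls_facts n₁ e₁ g₁ g hg h1 hg₁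
  obtain ⟨hn₂, hP₂, hE₂⟩ := cls_facts n₂ e₂ g₂ g hg h2 hg₂
  have key : ∀ (n₁ g₁ n₂ g₂ : ℕ), 1 ≤ n₁ → 1 ≤ n₂ → 2 ≤ g₁ → 2 ≤ g₂ → 1 * (n₁ * g₁) = g →
      2 * (n₂ * g₂) = g → g + n₁ + n₂ = 1 + n₁ * g₁ + n₂ * g₂ →
      ((g₁ = 2 ∧ n₂ = 1) ∨ (g₁ = 3 ∧ g₂ = 2 ∧ g = 12)) := by
    intro n₁ g₁ n₂ g₂ hn₁ hn₂ hg₁ hg₂ hE₁ hE₂ heq
    have hg₁c : g₁ = 2 ∨ g₁ = 3 ∨ 4 ≤ g₁ := by omega
    rcases hg₁c with rfl | rfl | h4
    · left; refine ⟨rfl, ?_⟩; omega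
    · right
      have hg₂c : g₂ = 2 ∨ 3 ≤ g₂ := by omega
      rcases hg₂c with rfl | h3
      · refine ⟨rfl, rfl, ?_⟩; omega
      · exfalso
        have := Nat.mul_le_mul_left n₂ h3
        omega
    · exfalso
      have := Nat.mul_le_mul_left n₁ h4
      have := Nat.mul_le_mul_left n₂ hg₂
      omega
  rcases he₁ with rfl | rfl <;> rcases he₂ with rfl | rfl
  · exfalso; omega
  · left; exact ⟨rfl, rfl, key n₁ g₁ n₂ g₂ hn₁ hn₂ hg₁ hg₂ hE₁ hE₂ heq⟩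
  · right; exact ⟨rfl, rfl, key n₂ g₂ n₁ g₁ hn₂ hn₁ hg₂ hg₁ hE₂ hE₁ (by omega)⟩
  · exfalso; omega

/-- the core of the three-class case with `g₁ = 2` -/
theorem T3core (n₁ n₂ g₂ n₃ g₃ h : ℕ) (hn₁ : 1 ≤ n₁) (hn₂ : 1 ≤ n₂) (hn₃ : 1 ≤ n₃)
    (hg₂ : 2 ≤ g₂) (hg₃ : 2 ≤ g₃) (h1 : n₁ * 2 = h) (h2 : n₂ * g₂ = h) (h3 : n₃ * g₃ = h)
    (heq : n₁ + n₂ + n₃ = 1 + h) :
    n₂ = 1 ∨ n₃ = 1 ∨ (h = 6 ∧ g₂ = 3 ∧ g₃ = 3) ∨
      (h = 12 ∧ ((g₂ = 3 ∧ g₃ = 4) ∨ (g₂ = 4 ∧ g₃ = 3))) ∨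
      (h = 30 ∧ ((g₂ = 3 ∧ g₃ = 5) ∨ (g₂ = 5 ∧ g₃ = 3))) := by
  have key : ∀ (n₂ g₃ n₃ : ℕ), 1 ≤ n₂ → 1 ≤ n₃ → 3 ≤ g₃ → n₂ * 3 = h → n₃ * g₃ = h →
      n₁ + n₂ + n₃ = 1 + h → (h = 6 ∧ g₃ = 3) ∨ (h = 12 ∧ g₃ = 4) ∨ (h = 30 ∧ g₃ = 5) := by
    intro n₂ g₃ n₃ hn₂ hn₃ hg₃ h2 h3 heq
    have hc : g₃ = 3 ∨ g₃ = 4 ∨ g₃ = 5 ∨ 6 ≤ g₃ := by omega
    rcases hc with rfl | rfl | rfl | h6
    · left; refine ⟨?_, rfl⟩; omega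
    · right; left; refine ⟨?_, rfl⟩; omega
    · right; right; refine ⟨?_, rfl⟩; omega
    · exfalso
      have := Nat.mul_le_mul_left n₃ h6
      omega
  have hg₂c : g₂ = 2 ∨ g₂ = 3 ∨ 4 ≤ g₂ := by omega
  have hg₃c : g₃ = 2 ∨ g₃ = 3 ∨ 4 ≤ g₃ := by omega
  rcases hg₂c with rfl | rfl | h24
  · right; left; omega
  · rcases hg₃c with rfl | rfl | h34
    · left; omega
    · rcases key n₂ 3 n₃ hn₂ hn₃ le_rfl h2 h3 heq with ⟨a, _⟩ | ⟨_, b⟩ | ⟨_, b⟩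
      · right; right; left; exact ⟨a, rfl, rfl⟩
      · omega
      · omega
    · rcases key n₂ g₃ n₃ hn₂ hn₃ (by omega) h2 h3 heq with ⟨a, b⟩ | ⟨a, b⟩ | ⟨a, b⟩
      · omega
      · right; right; right; left; exact ⟨a, Or.inl ⟨rfl, b⟩⟩
      · right; right; right; right; exact ⟨a, Or.inl ⟨rfl, b⟩⟩
  · rcases hg₃c with rfl | rfl | h34
    · left; omega
    · rcases key n₃ g₂ n₂ hn₃ hn₂ (by omega) h3 h2 (by omega) with ⟨a, b⟩ | ⟨a, b⟩ | ⟨a, b⟩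
      · omega
      · right; right; right; left; exact ⟨a, Or.inr ⟨b, rfl⟩⟩
      · right; right; right; right; exact ⟨a, Or.inr ⟨b, rfl⟩⟩
    · exfalso
      have := Nat.mul_le_mul_left n₂ h24
      have := Nat.mul_le_mul_left n₃ h34
      omega

/-- the profile of three classes of tori -/
def Prof3 (g g₁ g₂ g₃ : ℕ) : Prop :=
  (g = 12 ∧ ((g₁ = 3 ∧ g₂ = 3 ∧ g₃ = 2) ∨ (g₁ = 3 ∧ g₃ = 3 ∧ g₂ = 2) ∨
    (g₂ = 3 ∧ g₃ = 3 ∧ g₁ = 2))) ∨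
  (g = 24 ∧ ((g₁ = 2 ∧ g₂ = 3 ∧ g₃ = 4) ∨ (g₁ = 2 ∧ g₂ = 4 ∧ g₃ = 3) ∨
    (g₁ = 3 ∧ g₂ = 2 ∧ g₃ = 4) ∨ (g₁ = 3 ∧ g₂ = 4 ∧ g₃ = 2) ∨
    (g₁ = 4 ∧ g₂ = 2 ∧ g₃ = 3) ∨ (g₁ = 4 ∧ g₂ = 3 ∧ g₃ = 2))) ∨
  (g = 60 ∧ ((g₁ = 2 ∧ g₂ = 3 ∧ g₃ = 5) ∨ (g₁ = 2 ∧ g₂ = 5 ∧ g₃ = 3) ∨
    (g₁ = 3 ∧ g₂ = 2 ∧ g₃ = 5) ∨ (g₁ = 3 ∧ g₂ = 5 ∧ g₃ = 2) ∨
    (g₁ = 5 ∧ g₂ = 2 ∧ g₃ = 3) ∨ (g₁ = 5 ∧ g₂ = 3 ∧ g₃ = 2)))

/-- three classes of tori, no unipotent elements -/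
theorem T3 (n₁ e₁ g₁ n₂ e₂ g₂ n₃ e₃ g₃ g : ℕ) (hg : 0 < g)
    (h1 : n₁ * e₁ * g₁ = g) (hg₁ : 2 ≤ g₁) (he₁ : e₁ = 1 ∨ e₁ = 2)
    (h2 : n₂ * e₂ * g₂ = g) (hg₂ : 2 ≤ g₂) (he₂ : e₂ = 1 ∨ e₂ = 2)
    (h3 : n₃ * e₃ * g₃ = g) (hg₃ : 2 ≤ g₃) (he₃ : e₃ = 1 ∨ e₃ = 2)
    (heq : g + n₁ + n₂ + n₃ = 1 + n₁ * g₁ + n₂ * g₂ + n₃ * g₃) :
    e₁ = 2 ∧ e₂ = 2 ∧ e₃ = 2 ∧ (n₁ = 1 ∨ n₂ = 1 ∨ n₃ = 1 ∨ Prof3 g g₁ g₂ g₃) := by
  obtain ⟨hn₁, hP₁, hE₁⟩ := cls_facts n₁ e₁ g₁ g hg h1 hg₁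
  obtain ⟨hn₂, hP₂, hE₂⟩ := cls_facts n₂ e₂ g₂ g hg h2 hg₂
  obtain ⟨hn₃, hP₃, hE₃⟩ := cls_facts n₃ e₃ g₃ g hg h3 hg₃
  have e1 : e₁ = 2 := by
    rcases he₁ with rfl | rfl
    · exfalso; rcases he₂ with rfl | rfl <;> rcases he₃ with rfl | rfl <;> omega
    · rfl
  have e2 : e₂ = 2 := by
    rcases he₂ with rfl | rfl
    · exfalso; rcases he₁ with rfl | rfl <;> rcases he₃ with rfl | rfl <;> omega
    · rfl
  have e3 : e₃ = 2 := by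
    rcases he₃ with rfl | rfl
    · exfalso; rcases he₁ with rfl | rfl <;> rcases he₂ with rfl | rfl <;> omega
    · rfl
  subst e1 e2 e3
  refine ⟨rfl, rfl, rfl, ?_⟩
  -- all products equal h
  obtain ⟨h, rfl⟩ : ∃ h, g = 2 * h := ⟨n₁ * g₁, by omega⟩
  have q1 : n₁ * g₁ = h := by omega
  have q2 : n₂ * g₂ = h := by omega
  have q3 : n₃ * g₃ = h := by omega
  have hsum : n₁ + n₂ + n₃ = 1 + h := by omega
  -- some gᵢ is 2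
  have hmin : g₁ = 2 ∨ g₂ = 2 ∨ g₃ = 2 := by
    by_contra hcon
    push Not at hcon
    have a1 : 3 ≤ g₁ := by omega
    have a2 : 3 ≤ g₂ := by omega
    have a3 : 3 ≤ g₃ := by omega
    have := Nat.mul_le_mul_left n₁ a1
    have := Nat.mul_le_mul_left n₂ a2
    have := Nat.mul_le_mul_left n₃ a3
    omega
  unfold Prof3
  rcases hmin with rfl | rfl | rfl
  · rcases T3core n₁ n₂ g₂ n₃ g₃ h hn₁ hn₂ hn₃ hg₂ hg₃ q1 q2 q3 hsum with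
      a | a | ⟨a, b, c⟩ | ⟨a, ⟨b, c⟩ | ⟨b, c⟩⟩ | ⟨a, ⟨b, c⟩ | ⟨b, c⟩⟩
    · right; left; exact a
    · right; right; left; exact a
    · right; right; right; left; refine ⟨by omega, ?_⟩; right; right; exact ⟨b, c, rfl⟩
    · right; right; right; right; left; refine ⟨by omega, ?_⟩; left; exact ⟨rfl, b, c⟩
    · right; right; right; right; left; refine ⟨by omega, ?_⟩; right; left; exact ⟨rfl, b, c⟩
    · right; right; right; right; right; refine ⟨by omega, ?_⟩; left; exact ⟨rfl, b, c⟩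
    · right; right; right; right; right; refine ⟨by omega, ?_⟩; right; left; exact ⟨rfl, b, c⟩
  · rcases T3core n₂ n₁ g₁ n₃ g₃ h hn₂ hn₁ hn₃ hg₁ hg₃ q2 q1 q3 (by omega) with
      a | a | ⟨a, b, c⟩ | ⟨a, ⟨b, c⟩ | ⟨b, c⟩⟩ | ⟨a, ⟨b, c⟩ | ⟨b, c⟩⟩
    · left; exact a
    · right; right; left; exact a
    · right; right; right; left; refine ⟨by omega, ?_⟩; right; left; exact ⟨b, c, rfl⟩
    · right; right; right; right; left; refine ⟨by omega, ?_⟩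
      right; right; left; exact ⟨b, rfl, c⟩
    · right; right; right; right; left; refine ⟨by omega, ?_⟩
      right; right; right; right; left; exact ⟨b, rfl, c⟩
    · right; right; right; right; right; refine ⟨by omega, ?_⟩
      right; right; left; exact ⟨b, rfl, c⟩
    · right; right; right; right; right; refine ⟨by omega, ?_⟩
      right; right; right; right; left; exact ⟨b, rfl, c⟩
  · rcases T3core n₃ n₁ g₁ n₂ g₂ h hn₃ hn₁ hn₂ hg₁ hg₂ q3 q1 q2 (by omega) with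
      a | a | ⟨a, b, c⟩ | ⟨a, ⟨b, c⟩ | ⟨b, c⟩⟩ | ⟨a, ⟨b, c⟩ | ⟨b, c⟩⟩
    · left; exact a
    · right; left; exact a
    · right; right; right; left; refine ⟨by omega, ?_⟩; left; exact ⟨b, c, rfl⟩
    · right; right; right; right; left; refine ⟨by omega, ?_⟩
      right; right; right; left; exact ⟨b, c, rfl⟩
    · right; right; right; right; left; refine ⟨by omega, ?_⟩
      right; right; right; right; right; exact ⟨b, c, rfl⟩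
    · right; right; right; right; right; refine ⟨by omega, ?_⟩
      right; right; right; left; exact ⟨b, c, rfl⟩
    · right; right; right; right; right; refine ⟨by omega, ?_⟩
      right; right; right; right; right; exact ⟨b, c, rfl⟩

/-- four classes of tori are too many -/
theorem T4 (n₁ e₁ g₁ n₂ e₂ g₂ n₃ e₃ g₃ n₄ e₄ g₄ g R : ℕ) (hg : 0 < g)
    (h1 : n₁ * e₁ * g₁ = g) (hg₁ : 2 ≤ g₁) (he₁ : e₁ = 1 ∨ e₁ = 2)
    (h2 : n₂ * e₂ * g₂ = g) (hg₂ : 2 ≤ g₂) (he₂ : e₂ = 1 ∨ e₂ = 2)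
    (h3 : n₃ * e₃ * g₃ = g) (hg₃ : 2 ≤ g₃) (he₃ : e₃ = 1 ∨ e₃ = 2)
    (h4 : n₄ * e₄ * g₄ = g) (hg₄ : 2 ≤ g₄) (he₄ : e₄ = 1 ∨ e₄ = 2)
    (heq : g + n₁ + n₂ + n₃ + n₄ = 1 + n₁ * g₁ + n₂ * g₂ + n₃ * g₃ + n₄ * g₄ + R) : False := by
  obtain ⟨hn₁, hP₁, hE₁⟩ := cls_facts n₁ e₁ g₁ g hg h1 hg₁
  obtain ⟨hn₂, hP₂, hE₂⟩ := cls_facts n₂ e₂ g₂ g hg h2 hg₂
  obtain ⟨hn₃, hP₃, hE₃⟩ := cls_facts n₃ e₃ g₃ g hg h3 hg₃
  obtain ⟨hn₄, hP₄, hE₄⟩ := cls_facts n₄ e₄ g₄ g hg h4 hg₄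
  have b1 : g ≤ 2 * (n₁ * g₁) := by rcases he₁ with rfl | rfl <;> omega
  have b2 : g ≤ 2 * (n₂ * g₂) := by rcases he₂ with rfl | rfl <;> omega
  have b3 : g ≤ 2 * (n₃ * g₃) := by rcases he₃ with rfl | rfl <;> omega
  have b4 : g ≤ 2 * (n₄ * g₄) := by rcases he₄ with rfl | rfl <;> omega
  omega

theorem p_facts (np k q g : ℕ) (hg : 0 < g) (hp : np * k * q = g) (hq : 2 ≤ q) :
    1 ≤ np ∧ 2 * np ≤ np * q ∧ k * (np * q) = g := by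
  refine ⟨?_, ?_, ?_⟩
  · rcases Nat.eq_zero_or_pos np with rfl | hn
    · simp at hp; omega
    · exact hn
  · have := Nat.mul_le_mul_left np hq
    omega
  · rw [← hp]; ring

/-- unipotent elements, no tori -/
theorem P0 (np k q g : ℕ) (hg : 0 < g) (hp : np * k * q = g) (hq : 2 ≤ q) (hk : 1 ≤ k)
    (heq : g + np = 1 + np * q) : np = 1 ∧ k = 1 := by
  obtain ⟨hn, hP, hE⟩ := p_facts np k q g hg hp hq
  have hkc : k = 1 ∨ 2 ≤ k := by omega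
  rcases hkc with rfl | h2
  · refine ⟨?_, rfl⟩; omega
  · exfalso
    have := Nat.mul_le_mul_right (np * q) h2
    omega

/-- unipotent elements and one class of tori -/
theorem P1 (np k q n₁ e₁ g₁ g : ℕ) (hg : 0 < g) (hp : np * k * q = g) (hq : 2 ≤ q) (hk : 1 ≤ k)
    (h1 : n₁ * e₁ * g₁ = g) (hg₁ : 2 ≤ g₁) (he₁ : e₁ = 1 ∨ e₁ = 2)
    (hK : 2 ≤ k → g₁ = k)
    (heq : g + np + n₁ = 1 + np * q + n₁ * g₁) :
    np = 1 ∨ (e₁ = 2 ∧ k = 1 ∧ ((q = 2 ∧ n₁ = 1) ∨ (q = 3 ∧ g₁ = 2 ∧ g = 12))) := by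
  obtain ⟨hn, hP, hE⟩ := p_facts np k q g hg hp hq
  obtain ⟨hn₁, hP₁, hE₁⟩ := cls_facts n₁ e₁ g₁ g hg h1 hg₁
  have hkc : k = 1 ∨ 2 ≤ k := by omega
  rcases hkc with rfl | h2
  · rcases he₁ with rfl | rfl
    · exfalso; omega
    · right
      refine ⟨rfl, rfl, ?_⟩
      have hqc : q = 2 ∨ q = 3 ∨ 4 ≤ q := by omega
      rcases hqc with rfl | rfl | h4
      · left; refine ⟨rfl, ?_⟩; omega
      · right
        have hc : g₁ = 2 ∨ 3 ≤ g₁ := by omega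
        rcases hc with rfl | h3
        · refine ⟨rfl, rfl, ?_⟩; omega
        · exfalso
          have := Nat.mul_le_mul_left n₁ h3
          omega
      · exfalso
        have := Nat.mul_le_mul_left np h4
        omega
  · have hgk := hK h2
    subst hgk
    have hc : n₁ * e₁ = np * q := by
      apply Nat.eq_of_mul_eq_mul_right (show 0 < g₁ by omega)
      rw [h1, ← hp]; ring
    rcases he₁ with rfl | rfl
    · left; omega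
    · exfalso; omega

/-- the conclusion in the main case -/
def PSLd (q k g' g : ℕ) : Prop :=
  (k + 1 = q ∧ g' = q + 1 ∧ g = q * k * g') ∨
  (2 * k + 1 = q ∧ 2 * g' = q + 1 ∧ g = 2 * (q * k * g')) ∨
  (q = 3 ∧ k = 2 ∧ g' = 5 ∧ g = 60)

theorem psl_arith (j s k g₂ : ℕ) (hj : 1 ≤ j) (hk2 : 2 ≤ k) (hks : k ≤ s + 1)
    (h : (1 + j * s) * g₂ = (1 + j * s + 2 * j) * k) :
    (j = 1 ∧ k = s + 1 ∧ g₂ = s + 3) ∨ (j = 1 ∧ 2 * k = s + 1 ∧ 2 * g₂ = s + 3) ∨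
      (s = 1 ∧ j = 3 ∧ k = 2 ∧ g₂ = 5) := by
  have hge : k ≤ g₂ := by
    by_contra hlt
    push Not at hlt
    have h1 : (1 + j * s) * g₂ < (1 + j * s) * k :=
      Nat.mul_lt_mul_of_pos_left hlt (by omega)
    have h2 : (1 + j * s) * k ≤ (1 + j * s + 2 * j) * k := Nat.mul_le_mul_right k (by omega)
    omega
  obtain ⟨m, rfl⟩ : ∃ m, g₂ = k + m := ⟨g₂ - k, by omega⟩
  have h' : (1 + j * s) * m = 2 * j * k := by
    have e1 : (1 + j * s) * k + (1 + j * s) * m = (1 + j * s) * k + 2 * j * k := by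
      rw [← mul_add, h]; ring
    exact Nat.add_left_cancel e1
  have hcop : Nat.Coprime j (1 + j * s) := by simp
  have hjm : j ∣ m := by
    apply hcop.dvd_of_dvd_mul_left
    rw [h']
    exact ⟨2 * k, by ring⟩
  obtain ⟨r, rfl⟩ := hjm
  have h'' : (1 + j * s) * r = 2 * k := by
    apply Nat.eq_of_mul_eq_mul_left (show 0 < j by omega)
    calc j * ((1 + j * s) * r) = (1 + j * s) * (j * r) := by ring
      _ = 2 * j * k := h'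
      _ = j * (2 * k) := by ring
  have hr : 1 ≤ r := by
    rcases Nat.eq_zero_or_pos r with rfl | hr
    · simp at h''; omega
    · exact hr
  have hjc : j = 1 ∨ 2 ≤ j := by omega
  rcases hjc with rfl | hj2
  · have hrc : r = 1 ∨ r = 2 ∨ 3 ≤ r := by omega
    rcases hrc with rfl | rfl | h3
    · right; left; refine ⟨rfl, ?_, ?_⟩ <;> omega
    · left; refine ⟨rfl, ?_, ?_⟩ <;> omega
    · exfalso
      have := Nat.mul_le_mul_left (1 + 1 * s) h3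
      omega
  · have hs : 1 ≤ s := by omega
    have hjs : 2 * s ≤ j * s := Nat.mul_le_mul_right s hj2
    have hr1 : r = 1 := by
      by_contra hne
      have h2r : 2 ≤ r := by omega
      have := Nat.mul_le_mul_left (1 + j * s) h2r
      omega
    subst hr1
    have hjc' : j = 2 ∨ 3 ≤ j := by omega
    rcases hjc' with rfl | h3
    · exfalso; omega
    · have hjs3 : 3 * s ≤ j * s := Nat.mul_le_mul_right s h3
      have hs1 : s = 1 := by omega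
      subst hs1
      right; right
      refine ⟨rfl, ?_, ?_, ?_⟩ <;> omega

/-- the main case: unipotent elements, two classes of tori with `e = 2`, the first one
being the class of the complement `K` -/
theorem P2core (np k q n₁ n₂ g₂ g : ℕ) (hg : 0 < g) (hp : np * k * q = g) (hq : 2 ≤ q)
    (hk2 : 2 ≤ k) (hkq : k + 1 ≤ q) (hmod : np % q = 1)
    (h1 : n₁ * 2 * k = g) (h2 : n₂ * 2 * g₂ = g) (hg₂ : 2 ≤ g₂)
    (heq : g + np + n₁ + n₂ = 1 + np * q + n₁ * k + n₂ * g₂) :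
    np = 1 ∨ PSLd q k g₂ g := by
  obtain ⟨hn, hP, hE⟩ := p_facts np k q g hg hp hq
  obtain ⟨hn₁, hP₁, hE₁⟩ := cls_facts n₁ 2 k g hg h1 hk2
  obtain ⟨hn₂, hP₂, hE₂⟩ := cls_facts n₂ 2 g₂ g hg h2 hg₂
  by_cases hnp : np = 1
  · left; exact hnp
  right
  obtain ⟨s, rfl⟩ : ∃ s, q = s + 2 := ⟨q - 2, by omega⟩
  -- np = 1 + j q
  obtain ⟨j, hj⟩ : ∃ j, np = 1 + j * (s + 2) := by
    refine ⟨np / (s + 2), ?_⟩
    have := Nat.div_add_mod np (s + 2)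
    rw [hmod] at this
    rw [mul_comm] at this
    omega
  have hj1 : 1 ≤ j := by
    rcases Nat.eq_zero_or_pos j with rfl | hj'
    · exfalso; apply hnp; omega
    · exact hj'
  -- 2 n₁ = np q
  have hc1 : n₁ * 2 = np * (s + 2) := by
    apply Nat.eq_of_mul_eq_mul_right (show 0 < k by omega)
    rw [h1, ← hp]; ring
  -- n₂ = 1 + n₁ - np
  have hc2 : np + n₂ = 1 + n₁ := by omega
  -- 2 n₂ = (s+2) (1 + j s)
  have hc3 : 2 * n₂ = (s + 2) * (1 + j * s) := by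
    have e1 : 2 * n₂ + 2 * np = 2 + np * (s + 2) := by omega
    rw [hj] at e1
    have e2 : (s + 2) * (1 + j * s) + 2 * (1 + j * (s + 2)) =
        2 + (1 + j * (s + 2)) * (s + 2) := by ring
    omega
  -- n₂ g₂ = n₁ k
  have hc4 : n₂ * g₂ = n₁ * k := by omega
  have hmain : (1 + j * s) * g₂ = (1 + j * s + 2 * j) * k := by
    apply Nat.eq_of_mul_eq_mul_left (show 0 < s + 2 by omega)
    calc (s + 2) * ((1 + j * s) * g₂) = (2 * n₂) * g₂ := by rw [hc3]; ring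
      _ = 2 * (n₂ * g₂) := by ring
      _ = 2 * (n₁ * k) := by rw [hc4]
      _ = (n₁ * 2) * k := by ring
      _ = np * (s + 2) * k := by rw [hc1]
      _ = (1 + j * (s + 2)) * (s + 2) * k := by rw [hj]
      _ = (s + 2) * ((1 + j * s + 2 * j) * k) := by ring
  have hg' : g = (1 + j * (s + 2)) * k * (s + 2) := by rw [← hp, hj]
  unfold PSLd
  rcases psl_arith j s k g₂ hj1 hk2 (by omega) hmain with ⟨rfl, a, b⟩ | ⟨rfl, a, b⟩ | ⟨rfl, rfl, a, b⟩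
  · left
    subst a b
    refine ⟨by omega, by omega, ?_⟩
    rw [hg']; ring
  · right; left
    refine ⟨by omega, by omega, ?_⟩
    rw [hg']
    have : 2 * g₂ = s + 3 := b
    calc (1 + 1 * (s + 2)) * k * (s + 2) = (s + 3) * k * (s + 2) := by ring
      _ = (2 * g₂) * k * (s + 2) := by rw [this]
      _ = 2 * ((s + 2) * k * g₂) := by ring
  · right; right
    subst a b
    refine ⟨rfl, rfl, rfl, ?_⟩
    rw [hg']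

/-- unipotent elements and two classes of tori -/
theorem P2 (np k q n₁ e₁ g₁ n₂ e₂ g₂ g : ℕ) (hg : 0 < g) (hp : np * k * q = g) (hq : 2 ≤ q)
    (hk : 1 ≤ k) (hkq : k + 1 ≤ q) (hmod : np % q = 1)
    (h1 : n₁ * e₁ * g₁ = g) (hg₁ : 2 ≤ g₁) (he₁ : e₁ = 1 ∨ e₁ = 2)
    (h2 : n₂ * e₂ * g₂ = g) (hg₂ : 2 ≤ g₂) (he₂ : e₂ = 1 ∨ e₂ = 2)
    (hK : 2 ≤ k → g₁ = k ∨ g₂ = k)
    (heq : g + np + n₁ + n₂ = 1 + np * q + n₁ * g₁ + n₂ * g₂) :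
    np = 1 ∨ (e₁ = 2 ∧ e₂ = 2 ∧ 2 ≤ k ∧
      ((g₁ = k ∧ PSLd q k g₂ g) ∨ (g₂ = k ∧ PSLd q k g₁ g))) := by
  obtain ⟨hn, hP, hE⟩ := p_facts np k q g hg hp hq
  obtain ⟨hn₁, hP₁, hE₁⟩ := cls_facts n₁ e₁ g₁ g hg h1 hg₁
  obtain ⟨hn₂, hP₂, hE₂⟩ := cls_facts n₂ e₂ g₂ g hg h2 hg₂
  have b1 : g ≤ 2 * (n₁ * g₁) := by rcases he₁ with rfl | rfl <;> omega
  have b2 : g ≤ 2 * (n₂ * g₂) := by rcases he₂ with rfl | rfl <;> omega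
  have hkc : k = 1 ∨ 2 ≤ k := by omega
  rcases hkc with rfl | hk2
  · exfalso; omega
  have hgk : 2 * (np * q) ≤ g := by
    have := Nat.mul_le_mul_right (np * q) hk2
    omega
  -- the class of `K`
  have key : ∀ (n₁ e₁ n₂ e₂ g₂ : ℕ), n₁ * e₁ * k = g → (e₁ = 1 ∨ e₁ = 2) → n₂ * e₂ * g₂ = g →
      2 ≤ g₂ → (e₂ = 1 ∨ e₂ = 2) → g + np + n₁ + n₂ = 1 + np * q + n₁ * k + n₂ * g₂ →
      np = 1 ∨ (e₁ = 2 ∧ e₂ = 2 ∧ PSLd q k g₂ g) := by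
    intro n₁ e₁ n₂ e₂ g₂ h1 he₁ h2 hg₂ he₂ heq
    obtain ⟨hn₁, hP₁, hE₁⟩ := cls_facts n₁ e₁ k g hg h1 hk2
    obtain ⟨hn₂, hP₂, hE₂⟩ := cls_facts n₂ e₂ g₂ g hg h2 hg₂
    have hc : n₁ * e₁ = np * q := by
      apply Nat.eq_of_mul_eq_mul_right (show 0 < k by omega)
      rw [h1, ← hp]; ring
    rcases he₁ with rfl | rfl <;> rcases he₂ with rfl | rfl
    · exfalso; omega
    · exfalso; omega
    · exfalso; omega
    · rcases P2core np k q n₁ n₂ g₂ g hg hp hq hk2 hkq hmod h1 h2 hg₂ heq with a | a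
      · left; exact a
      · right; exact ⟨rfl, rfl, a⟩
  rcases hK hk2 with rfl | rfl
  · rcases key n₁ e₁ n₂ e₂ g₂ h1 he₁ h2 hg₂ he₂ heq with a | ⟨a, b, c⟩
    · left; exact a
    · right; exact ⟨a, b, hk2, Or.inl ⟨rfl, c⟩⟩
  · rcases key n₂ e₂ n₁ e₁ g₁ h2 he₂ h1 hg₁ he₁ (by omega) with a | ⟨a, b, c⟩
    · left; exact a
    · right; exact ⟨b, a, hk2, Or.inr ⟨rfl, c⟩⟩

/-- unipotent elements and three classes of tori: impossible -/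
theorem P3 (np k q n₁ e₁ g₁ n₂ e₂ g₂ n₃ e₃ g₃ g : ℕ) (hg : 0 < g) (hp : np * k * q = g)
    (hq : 2 ≤ q) (hk : 1 ≤ k) (hkq : k + 1 ≤ q)
    (h1 : n₁ * e₁ * g₁ = g) (hg₁ : 2 ≤ g₁) (he₁ : e₁ = 1 ∨ e₁ = 2)
    (h2 : n₂ * e₂ * g₂ = g) (hg₂ : 2 ≤ g₂) (he₂ : e₂ = 1 ∨ e₂ = 2)
    (h3 : n₃ * e₃ * g₃ = g) (hg₃ : 2 ≤ g₃) (he₃ : e₃ = 1 ∨ e₃ = 2)
    (hK : 2 ≤ k → g₁ = k ∨ g₂ = k ∨ g₃ = k)
    (heq : g + np + n₁ + n₂ + n₃ = 1 + np * q + n₁ * g₁ + n₂ * g₂ + n₃ * g₃) : False := by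
  obtain ⟨hn, hP, hE⟩ := p_facts np k q g hg hp hq
  obtain ⟨hn₁, hP₁, hE₁⟩ := cls_facts n₁ e₁ g₁ g hg h1 hg₁
  obtain ⟨hn₂, hP₂, hE₂⟩ := cls_facts n₂ e₂ g₂ g hg h2 hg₂
  obtain ⟨hn₃, hP₃, hE₃⟩ := cls_facts n₃ e₃ g₃ g hg h3 hg₃
  have b1 : g ≤ 2 * (n₁ * g₁) := by rcases he₁ with rfl | rfl <;> omega
  have b2 : g ≤ 2 * (n₂ * g₂) := by rcases he₂ with rfl | rfl <;> omega
  have b3 : g ≤ 2 * (n₃ * g₃) := by rcases he₃ with rfl | rfl <;> omega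
  have hkc : k = 1 ∨ 2 ≤ k := by omega
  rcases hkc with rfl | hk2
  · omega
  -- for the class of `K`: `np q - np + P - n ≥ g/2`
  have key : ∀ (n e : ℕ), n * e * k = g → (e = 1 ∨ e = 2) → g + 2 * np + 2 * n ≤
      2 * (np * q) + 2 * (n * k) := by
    intro n e h1 he
    obtain ⟨hn₁, hP₁, hE₁⟩ := cls_facts n e k g hg h1 hk2
    have hc : n * e = np * q := by
      apply Nat.eq_of_mul_eq_mul_right (show 0 < k by omega)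
      rw [h1, ← hp]; ring
    rcases he with rfl | rfl
    · omega
    · omega
  rcases hK hk2 with rfl | rfl | rfl
  · have := key n₁ e₁ h1 he₁; omega
  · have := key n₂ e₂ h2 he₂; omega
  · have := key n₃ e₃ h3 he₃; omega

end Cfsg.Agent.Lib.Helper14.Dk.Arith
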