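import Mathlib
import Cfsg.Agent.Lib.Helper14.DkData
import Cfsg.Agent.Lib.Helper14.DkArith

set_option autoImplicit false

/-!
# The numerical classification of "Dickson groups"
-/

namespace Cfsg.Agent.Lib.Helper14.Dk

open scoped Pointwise

variable {G : Type*} [Group G]

section defs

variable (Z : Subgroup G) (U : G → Prop)

/-- the group is a torus -/
def IsCyc : Prop := ∃ x, x ∉ Z ∧ ¬ U x ∧ M x = ⊤
/-- the group normalizes a unipotent-type centralizer -/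
def IsBor : Prop := ∃ x, x ∉ Z ∧ U x ∧ Subgroup.normalizer (M x : Set G) = ⊤
/-- the group has a torus of index two -/
def IsDih : Prop := ∃ x, x ∉ Z ∧ ¬ U x ∧ nn x = 1 ∧ ee x = 2
/-- no unipotent-type elements -/
def NoUni : Prop := ∀ y, y ∉ Z → ¬ U y
/-- the invariants of the unipotent-type elements -/
def HasUni (k q : ℕ) : Prop :=
  (∃ x, x ∉ Z ∧ U x) ∧ ∀ y, y ∉ Z → U y → ee y = k ∧ aa y = Nat.card Z * q
/-- a torus with given invariants exists -/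
def HasTor (e gi : ℕ) : Prop := ∃ y, y ∉ Z ∧ ¬ U y ∧ ee y = e ∧ aa y = Nat.card Z * gi
/-- the invariants of all tori are in the list -/
def TorIn (ts : List (ℕ × ℕ)) : Prop :=
  ∀ y, y ∉ Z → ¬ U y → ∃ t ∈ ts, ee y = t.1 ∧ aa y = Nat.card Z * t.2

def IsA4 : Prop := Nat.card G = Nat.card Z * 12 ∧
  ((NoUni Z U ∧ HasTor Z U 1 3 ∧ HasTor Z U 2 2 ∧ TorIn Z U [(1, 3), (2, 2)]) ∨
   (HasUni Z U 1 3 ∧ HasTor Z U 2 2 ∧ TorIn Z U [(2, 2)]))

def IsS4 : Prop := Nat.card G = Nat.card Z * 24 ∧ NoUni Z U ∧ HasTor Z U 2 2 ∧ HasTor Z U 2 3 ∧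
  HasTor Z U 2 4 ∧ TorIn Z U [(2, 2), (2, 3), (2, 4)]

def IsA5 : Prop := Nat.card G = Nat.card Z * 60 ∧ NoUni Z U ∧ HasTor Z U 2 2 ∧ HasTor Z U 2 3 ∧
  HasTor Z U 2 5 ∧ TorIn Z U [(2, 2), (2, 3), (2, 5)]

def IsPSL : Prop := ∃ k q g₂ g, Nat.card G = Nat.card Z * g ∧ 2 ≤ k ∧ HasUni Z U k q ∧
  Arith.PSLd q k g₂ g ∧ HasTor Z U 2 k ∧ HasTor Z U 2 g₂ ∧ TorIn Z U [(2, k), (2, g₂)]

end defs

namespace Data

variable {Z : Subgroup G} {p : ℕ} {U : G → Prop} (h : Data Z p U) [Finite G]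
include h

theorem card_Z_lt_aa {x : G} (hx : x ∉ Z) : Nat.card Z < aa x := by
  by_contra hle
  push Not at hle
  have : Z = M x := Subgroup.eq_of_le_of_card_ge (h.toCT.Z_le_M x) hle
  apply hx
  rw [this]
  exact self_mem_M x

theorem tor_info {g : ℕ} (hg : Nat.card G = Nat.card Z * g) {x : G} (hx : x ∉ Z) (hU : ¬ U x) :
    ∃ gi w, 2 ≤ gi ∧ aa x = Nat.card Z * gi ∧ nn x * ee x * gi = g ∧ (ee x = 1 ∨ ee x = 2) ∧
      (E Z x).ncard = Nat.card Z * w ∧ w + nn x = nn x * gi := by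
  have hd : 0 < Nat.card Z := Nat.card_pos
  obtain ⟨gi, hgi⟩ : Nat.card Z ∣ aa x := Subgroup.card_dvd_of_le (h.toCT.Z_le_M x)
  have hlt := h.card_Z_lt_aa hx
  have hgi2 : 2 ≤ gi := by
    by_contra hc
    have : gi ≤ 1 := by omega
    have := Nat.mul_le_mul_left (Nat.card Z) this
    omega
  refine ⟨gi, nn x * (gi - 1), hgi2, hgi, ?_, h.ee_torus hx hU, ?_, ?_⟩
  · apply Nat.eq_of_mul_eq_mul_left hd
    rw [← hg, ← nn_mul_ee_mul_aa x, hgi]; ring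
  · rw [h.toCT.ncard_E hx]
    show nn x * (aa x - Nat.card Z) = _
    rw [hgi]
    have : Nat.card Z * gi - Nat.card Z = Nat.card Z * (gi - 1) := by
      rw [Nat.mul_sub_one]
    rw [this]; ring
  · obtain ⟨m, rfl⟩ : ∃ m, gi = m + 1 := ⟨gi - 1, by omega⟩
    simp; ring

theorem uni_info [Fact p.Prime] {g : ℕ} (hg : Nat.card G = Nat.card Z * g) {x : G} (hx : x ∉ Z)
    (hU : U x) :
    ∃ q w, 2 ≤ q ∧ aa x = Nat.card Z * q ∧ nn x * ee x * q = g ∧ 1 ≤ ee x ∧ ee x + 1 ≤ q ∧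
      nn x % q = 1 ∧ (E Z x).ncard = Nat.card Z * w ∧ w + nn x = nn x * q := by
  have hd : 0 < Nat.card Z := Nat.card_pos
  obtain ⟨q, hq, hq2, hmod⟩ := h.np_mod hx hU
  refine ⟨q, nn x * (q - 1), hq2, hq, ?_, ee_pos x, ?_, hmod, ?_, ?_⟩
  · apply Nat.eq_of_mul_eq_mul_left hd
    rw [← hg, ← nn_mul_ee_mul_aa x, hq]; ring
  · have := h.P_le x hx hU
    rw [hq] at this
    exact Nat.le_of_mul_le_mul_left this hd
  · rw [h.toCT.ncard_E hx]
    show nn x * (aa x - Nat.card Z) = _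
    rw [hq]
    have : Nat.card Z * q - Nat.card Z = Nat.card Z * (q - 1) := by
      rw [Nat.mul_sub_one]
    rw [this]; ring
  · obtain ⟨m, rfl⟩ : ∃ m, q = m + 1 := ⟨q - 1, by omega⟩
    simp; ring

/-- the torus-type elements form a saturated set -/
theorem tor_sat : ∀ x ∈ {x : G | x ∉ Z ∧ ¬ U x}, E Z x ⊆ {x : G | x ∉ Z ∧ ¬ U x} := by
  rintro x ⟨hx, hU⟩ y ⟨hy, g, hg⟩
  refine ⟨hy, fun hUy => hU ?_⟩
  have h1 : U (g * y * g⁻¹) := h.U_conj y g hUy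
  exact h.U_comm _ x (by rwa [h.toCT.conj_mem_Z_iff]) hx hg.symm h1

theorem uni_eq_E [Fact p.Prime] {x : G} (hx : x ∉ Z) (hU : U x) :
    {y : G | y ∉ Z ∧ U y} = E Z x := by
  ext y
  constructor
  · rintro ⟨hy, hUy⟩
    exact h.ptype_equiv hx hU hy hUy
  · rintro ⟨hy, g, hg⟩
    refine ⟨hy, ?_⟩
    have h1 : U (g * y * g⁻¹) := h.U_comm x _ hx (by rwa [h.toCT.conj_mem_Z_iff]) hg hU
    have h2 := h.U_conj _ g⁻¹ h1
    have e : g⁻¹ * (g * y * g⁻¹) * g⁻¹⁻¹ = y := by group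
    rwa [e] at h2

/-- the class equation -/
theorem class_eq :
    Nat.card G = Nat.card Z + {x : G | x ∉ Z ∧ ¬ U x}.ncard + {x : G | x ∉ Z ∧ U x}.ncard := by
  classical
  have h1 : ((⊤ : Subgroup G) : Set G) \ (Z : Set G) =
      {x : G | x ∉ Z ∧ ¬ U x} ∪ {x : G | x ∉ Z ∧ U x} := by
    ext x
    simp only [Subgroup.coe_top, Set.mem_diff, Set.mem_univ, SetLike.mem_coe, true_and,
      Set.mem_union, Set.mem_setOf_eq]
    tauto
  have h2 := card_diff_subgroup (le_top : Z ≤ (⊤ : Subgroup G))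
  rw [h1, Set.ncard_union_eq ?_ (Set.toFinite _) (Set.toFinite _), Subgroup.card_top] at h2
  · have : Nat.card Z ≤ Nat.card G := by
      have := Subgroup.card_le_card_group Z
      exact this
    omega
  · rw [Set.disjoint_left]
    rintro x ⟨_, h3⟩ ⟨_, h4⟩
    exact h3 h4

omit [Finite G] in
theorem torIn_of_reps (l : List G)
    (hcov : ∀ x ∈ {x : G | x ∉ Z ∧ ¬ U x}, ∃ r ∈ l, x ∈ E Z r)
    (hl : ∀ r ∈ l, r ∉ Z) [Finite G]
    (ts : List (ℕ × ℕ)) (hts : ∀ r ∈ l, ∃ t ∈ ts, ee r = t.1 ∧ aa r = Nat.card Z * t.2) :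
    TorIn Z U ts := by
  intro y hy hUy
  obtain ⟨r, hr, hyr⟩ := hcov y ⟨hy, hUy⟩
  obtain ⟨t, ht, h1, h2⟩ := hts r hr
  obtain ⟨i1, _, i3⟩ := h.toCT.invariants (hl r hr) hyr
  exact ⟨t, ht, by rw [i3, h1], by rw [i1, h2]⟩

theorem hasUni_of [Fact p.Prime] {x : G} (hx : x ∉ Z) (hU : U x) {q : ℕ}
    (haq : aa x = Nat.card Z * q) : HasUni Z U (ee x) q := by
  refine ⟨⟨x, hx, hU⟩, fun y hy hUy => ?_⟩
  obtain ⟨i1, _, i3⟩ := h.toCT.invariants hx (h.ptype_equiv hx hU hy hUy)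
  exact ⟨i3, by rw [i1, haq]⟩

/-- two inequivalent tori of order `3` do not exist -/
theorem no_two_three {a b : G} (ha : a ∉ Z) (hb : b ∉ Z) (hab : a ∉ E Z b)
    (haa : aa a = Nat.card Z * 3) (hbb : aa b = Nat.card Z * 3) : False := by
  have : Fact (Nat.Prime 3) := ⟨by norm_num⟩
  have hd : 0 < Nat.card Z := Nat.card_pos
  have hcop : (Nat.card Z).Coprime 3 := by
    have := h.Zcard
    have h12 : Nat.card Z = 1 ∨ Nat.card Z = 2 := by omega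
    rcases h12 with h1 | h1 <;> rw [h1] <;> norm_num
  have key : ∀ c : G, c ∉ Z → aa c = Nat.card Z * 3 →
      ∃ u : G, u ∉ Z ∧ u ^ 3 = 1 ∧ c * u = u * c := by
    intro c hc hcc
    have h3 : 3 ∣ Nat.card (M c) := by
      show 3 ∣ aa c
      rw [hcc]; exact Dvd.intro_left _ rfl
    obtain ⟨u, hu⟩ := exists_prime_orderOf_dvd_card' 3 h3
    have hu3 : (u : G) ^ 3 = 1 := by
      have := pow_orderOf_eq_one u
      rw [hu] at this
      exact congrArg Subtype.val this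
    have hu1 : (u : G) ≠ 1 := by
      intro he
      have : u = 1 := Subtype.ext he
      rw [this, orderOf_one] at hu
      omega
    refine ⟨u, not_mem_Z_of_pow' hcop hu1 (m := 1) (by rw [pow_one]; exact hu3), hu3, ?_⟩
    exact mem_M.mp u.2
  obtain ⟨u, huZ, hu3, hau⟩ := key a ha haa
  obtain ⟨u', hu'Z, hu'3, hbu'⟩ := key b hb hbb
  have h1 : u' ∈ E Z u := h.toCT.equiv_of_prime_pow 3 hcop huZ hu3 hu'Z hu'3
  have h2 : a ∈ E Z u := ⟨ha, 1, by simpa using hau.symm⟩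
  have h3 : u' ∈ E Z b := ⟨hu'Z, 1, by simpa using hbu'⟩
  apply hab
  exact h.toCT.E_trans huZ hb h2 (h.toCT.E_trans hu'Z hb (CT.E_symm huZ h1) h3)

end Data

end Cfsg.Agent.Lib.Helper14.Dk
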