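import Mathlib
import Cfsg.Agent.Lib.Helper14.DkMain

set_option autoImplicit false

/-!
# The numerical classification: the case analysis
-/

namespace Cfsg.Agent.Lib.Helper14.Dk

open scoped Pointwise

variable {G : Type*} [Group G]

namespace Data

variable {Z : Subgroup G} {p : ℕ} {U : G → Prop} (h : Data Z p U) [Finite G]
include h

theorem isCyc_of {a : G} (ha : a ∉ Z) (hUa : ¬ U a) (hn : nn a = 1) (he : ee a = 1) :
    IsCyc Z U := by
  refine ⟨a, ha, hUa, ?_⟩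
  have h1 : Subgroup.normalizer (M a : Set G) = ⊤ := Subgroup.index_eq_one.mp hn
  have h2 : Subgroup.normalizer (M a : Set G) ≤ M a := Subgroup.relIndex_eq_one.mp he
  rw [h1] at h2
  exact top_le_iff.mp h2

theorem isBor_of {a : G} (ha : a ∉ Z) (hUa : U a) (hn : nn a = 1) : IsBor Z U :=
  ⟨a, ha, hUa, Subgroup.index_eq_one.mp hn⟩

/-- the case without unipotent-type elements -/
theorem main_noU (hno : NoUni Z U) :
    Z = ⊤ ∨ IsCyc Z U ∨ IsDih Z U ∨ IsA4 Z U ∨ IsS4 Z U ∨ IsA5 Z U := by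
  classical
  have hd : 0 < Nat.card Z := Nat.card_pos
  obtain ⟨g, hg⟩ : Nat.card Z ∣ Nat.card G := Subgroup.card_subgroup_dvd_card Z
  have hgpos : 0 < g := by
    rcases Nat.eq_zero_or_pos g with rfl | hpos
    · have : 0 < Nat.card G := Nat.card_pos
      omega
    · exact hpos
  obtain ⟨l, hl1, hl2, hl3, hl4⟩ :=
    h.toCT.exists_reps {x | x ∉ Z ∧ ¬ U x} (fun x hx => hx.1) h.tor_sat
  have hce := h.class_eq
  have hempty : {x : G | x ∉ Z ∧ U x} = ∅ := by
    ext x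
    simp only [Set.mem_setOf_eq, Set.mem_empty_iff_false, iff_false, not_and]
    exact fun hx => hno x hx
  rw [hempty, Set.ncard_empty, hl4, add_zero] at hce
  have hlZ : ∀ r ∈ l, r ∉ Z := fun r hr => (hl1 r hr).1
  rcases l with _ | ⟨a, _ | ⟨b, _ | ⟨c, _ | ⟨d', rest⟩⟩⟩⟩
  · -- no classes
    left
    simp only [List.map_nil, List.sum_nil, add_zero] at hce
    exact Subgroup.eq_top_of_card_eq Z hce.symm
  · -- one class
    right; left
    obtain ⟨haZ, hUa⟩ := hl1 a List.mem_cons_self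
    obtain ⟨ga, wa, hga, haa, hna, hea, hEa, hwa⟩ := h.tor_info hg haZ hUa
    simp only [List.map_cons, List.map_nil, List.sum_cons, List.sum_nil, add_zero] at hce
    rw [hEa, hg] at hce
    have e1 : g = 1 + wa := by
      apply Nat.eq_of_mul_eq_mul_left hd
      rw [hce]; ring
    obtain ⟨e, n⟩ := Arith.T1 (nn a) (ee a) ga g hgpos hna hga hea (by omega)
    exact h.isCyc_of haZ hUa n e
  · -- two classes
    obtain ⟨haZ, hUa⟩ := hl1 a List.mem_cons_self
    obtain ⟨hbZ, hUb⟩ := hl1 b (List.mem_cons_of_mem _ List.mem_cons_self)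
    obtain ⟨ga, wa, hga, haa, hna, hea, hEa, hwa⟩ := h.tor_info hg haZ hUa
    obtain ⟨gb, wb, hgb, hbb, hnb, heb, hEb, hwb⟩ := h.tor_info hg hbZ hUb
    simp only [List.map_cons, List.map_nil, List.sum_cons, List.sum_nil, add_zero] at hce
    rw [hEa, hEb, hg] at hce
    have e1 : g = 1 + wa + wb := by
      apply Nat.eq_of_mul_eq_mul_left hd
      rw [hce]; ring
    have hcov : ∀ x ∈ {x : G | x ∉ Z ∧ ¬ U x}, ∃ r ∈ [a, b], x ∈ E Z r := hl3
    rcases Arith.T2 (nn a) (ee a) ga (nn b) (ee b) gb g hgpos hna hga hea hnb hgb heb (by omega)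
      with ⟨e1', e2', ⟨g1, n2⟩ | ⟨g1, g2, g12⟩⟩ | ⟨e2', e1', ⟨g2, n1⟩ | ⟨g2, g1, g12⟩⟩
    · right; right; left
      exact ⟨b, hbZ, hUb, n2, e2'⟩
    · right; right; right; left
      refine ⟨by rw [hg, g12], Or.inl ⟨hno, ⟨a, haZ, hUa, e1', by rw [haa, g1]⟩,
        ⟨b, hbZ, hUb, e2', by rw [hbb, g2]⟩, ?_⟩⟩
      apply h.torIn_of_reps [a, b] hcov hlZ
      intro r hr
      simp only [List.mem_cons, List.not_mem_nil, or_false] at hr
      rcases hr with rfl | rfl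
      · exact ⟨(1, 3), by simp, e1', by rw [haa, g1]⟩
      · exact ⟨(2, 2), by simp, e2', by rw [hbb, g2]⟩
    · right; right; left
      exact ⟨a, haZ, hUa, n1, e1'⟩
    · right; right; right; left
      refine ⟨by rw [hg, g12], Or.inl ⟨hno, ⟨b, hbZ, hUb, e2', by rw [hbb, g2]⟩,
        ⟨a, haZ, hUa, e1', by rw [haa, g1]⟩, ?_⟩⟩
      apply h.torIn_of_reps [a, b] hcov hlZ
      intro r hr
      simp only [List.mem_cons, List.not_mem_nil, or_false] at hr
      rcases hr with rfl | rfl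
      · exact ⟨(2, 2), by simp, e1', by rw [haa, g1]⟩
      · exact ⟨(1, 3), by simp, e2', by rw [hbb, g2]⟩
  · -- three classes
    obtain ⟨haZ, hUa⟩ := hl1 a List.mem_cons_self
    obtain ⟨hbZ, hUb⟩ := hl1 b (List.mem_cons_of_mem _ List.mem_cons_self)
    obtain ⟨hcZ, hUc⟩ := hl1 c (List.mem_cons_of_mem _ (List.mem_cons_of_mem _ List.mem_cons_self))
    obtain ⟨ga, wa, hga, haa, hna, hea, hEa, hwa⟩ := h.tor_info hg haZ hUa
    obtain ⟨gb, wb, hgb, hbb, hnb, heb, hEb, hwb⟩ := h.tor_info hg hbZ hUb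
    obtain ⟨gc, wc, hgc, hcc, hnc, hec, hEc, hwc⟩ := h.tor_info hg hcZ hUc
    simp only [List.map_cons, List.map_nil, List.sum_cons, List.sum_nil, add_zero] at hce
    rw [hEa, hEb, hEc, hg] at hce
    have e1 : g = 1 + wa + wb + wc := by
      apply Nat.eq_of_mul_eq_mul_left hd
      rw [hce]; ring
    have hcov : ∀ x ∈ {x : G | x ∉ Z ∧ ¬ U x}, ∃ r ∈ [a, b, c], x ∈ E Z r := hl3
    simp only [List.pairwise_cons, List.mem_cons, List.not_mem_nil, or_false, forall_eq_or_imp,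
      forall_eq, IsEmpty.forall_iff, implies_true, List.Pairwise.nil, and_true] at hl2
    obtain ⟨⟨hab, hac⟩, hbc⟩ := hl2
    obtain ⟨e1', e2', e3', hcase⟩ := Arith.T3 (nn a) (ee a) ga (nn b) (ee b) gb (nn c) (ee c) gc g
      hgpos hna hga hea hnb hgb heb hnc hgc hec (by omega)
    have mk : ∀ (ta tb tc : ℕ) , ga = ta → gb = tb → gc = tc →
        TorIn Z U [(2, ta), (2, tb), (2, tc)] := by
      intro ta tb tc h1 h2 h3
      apply h.torIn_of_reps [a, b, c] hcov hlZ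
      intro r hr
      simp only [List.mem_cons, List.not_mem_nil, or_false] at hr
      rcases hr with rfl | rfl | rfl
      · exact ⟨(2, ta), by simp, e1', by rw [haa, h1]⟩
      · exact ⟨(2, tb), by simp, e2', by rw [hbb, h2]⟩
      · exact ⟨(2, tc), by simp, e3', by rw [hcc, h3]⟩
    have perm : ∀ (t1 t2 t3 : ℕ × ℕ) (ts : List (ℕ × ℕ)),
        (∀ t, t ∈ [t1, t2, t3] → t ∈ ts) → TorIn Z U [t1, t2, t3] → TorIn Z U ts := by
      intro t1 t2 t3 ts hsub hT y hy hUy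
      obtain ⟨t, ht, h1, h2⟩ := hT y hy hUy
      exact ⟨t, hsub t ht, h1, h2⟩
    have tA : ∀ t : ℕ, ga = t → HasTor Z U 2 t := fun t ht => ⟨a, haZ, hUa, e1', by rw [haa, ht]⟩
    have tB : ∀ t : ℕ, gb = t → HasTor Z U 2 t := fun t ht => ⟨b, hbZ, hUb, e2', by rw [hbb, ht]⟩
    have tC : ∀ t : ℕ, gc = t → HasTor Z U 2 t := fun t ht => ⟨c, hcZ, hUc, e3', by rw [hcc, ht]⟩
    rcases hcase with n1 | n1 | n1 | hprof
    · right; right; left; exact ⟨a, haZ, hUa, n1, e1'⟩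
    · right; right; left; exact ⟨b, hbZ, hUb, n1, e2'⟩
    · right; right; left; exact ⟨c, hcZ, hUc, n1, e3'⟩
    · rcases hprof with ⟨g12, hh⟩ | ⟨g24, hh⟩ | ⟨g60, hh⟩
      · exfalso
        rcases hh with ⟨h1, h2, _⟩ | ⟨h1, h2, _⟩ | ⟨h1, h2, _⟩
        · exact h.no_two_three haZ hbZ hab (by rw [haa, h1]) (by rw [hbb, h2])
        · exact h.no_two_three haZ hcZ hac (by rw [haa, h1]) (by rw [hcc, h2])
        · exact h.no_two_three hbZ hcZ hbc (by rw [hbb, h1]) (by rw [hcc, h2])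
      · right; right; right; right; left
        refine ⟨by rw [hg, g24], hno, ?_⟩
        rcases hh with ⟨h1, h2, h3⟩ | ⟨h1, h2, h3⟩ | ⟨h1, h2, h3⟩ | ⟨h1, h2, h3⟩ |
          ⟨h1, h2, h3⟩ | ⟨h1, h2, h3⟩
        · exact ⟨tA 2 h1, tB 3 h2, tC 4 h3, perm _ _ _ _ (by simp) (mk _ _ _ h1 h2 h3)⟩
        · exact ⟨tA 2 h1, tC 3 h3, tB 4 h2, perm _ _ _ _ (by simp) (mk _ _ _ h1 h2 h3)⟩
        · exact ⟨tB 2 h2, tA 3 h1, tC 4 h3, perm _ _ _ _ (by simp) (mk _ _ _ h1 h2 h3)⟩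
        · exact ⟨tC 2 h3, tA 3 h1, tB 4 h2, perm _ _ _ _ (by simp) (mk _ _ _ h1 h2 h3)⟩
        · exact ⟨tB 2 h2, tC 3 h3, tA 4 h1, perm _ _ _ _ (by simp) (mk _ _ _ h1 h2 h3)⟩
        · exact ⟨tC 2 h3, tB 3 h2, tA 4 h1, perm _ _ _ _ (by simp) (mk _ _ _ h1 h2 h3)⟩
      · right; right; right; right; right
        refine ⟨by rw [hg, g60], hno, ?_⟩
        rcases hh with ⟨h1, h2, h3⟩ | ⟨h1, h2, h3⟩ | ⟨h1, h2, h3⟩ | ⟨h1, h2, h3⟩ |
          ⟨h1, h2, h3⟩ | ⟨h1, h2, h3⟩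
        · exact ⟨tA 2 h1, tB 3 h2, tC 5 h3, perm _ _ _ _ (by simp) (mk _ _ _ h1 h2 h3)⟩
        · exact ⟨tA 2 h1, tC 3 h3, tB 5 h2, perm _ _ _ _ (by simp) (mk _ _ _ h1 h2 h3)⟩
        · exact ⟨tB 2 h2, tA 3 h1, tC 5 h3, perm _ _ _ _ (by simp) (mk _ _ _ h1 h2 h3)⟩
        · exact ⟨tC 2 h3, tA 3 h1, tB 5 h2, perm _ _ _ _ (by simp) (mk _ _ _ h1 h2 h3)⟩
        · exact ⟨tB 2 h2, tC 3 h3, tA 5 h1, perm _ _ _ _ (by simp) (mk _ _ _ h1 h2 h3)⟩
        · exact ⟨tC 2 h3, tB 3 h2, tA 5 h1, perm _ _ _ _ (by simp) (mk _ _ _ h1 h2 h3)⟩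
  · -- at least four classes
    exfalso
    obtain ⟨haZ, hUa⟩ := hl1 a List.mem_cons_self
    obtain ⟨hbZ, hUb⟩ := hl1 b (List.mem_cons_of_mem _ List.mem_cons_self)
    obtain ⟨hcZ, hUc⟩ := hl1 c (List.mem_cons_of_mem _ (List.mem_cons_of_mem _ List.mem_cons_self))
    obtain ⟨hdZ, hUd⟩ := hl1 d' (List.mem_cons_of_mem _ (List.mem_cons_of_mem _
      (List.mem_cons_of_mem _ List.mem_cons_self)))
    obtain ⟨ga, wa, hga, haa, hna, hea, hEa, hwa⟩ := h.tor_info hg haZ hUa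
    obtain ⟨gb, wb, hgb, hbb, hnb, heb, hEb, hwb⟩ := h.tor_info hg hbZ hUb
    obtain ⟨gc, wc, hgc, hcc, hnc, hec, hEc, hwc⟩ := h.tor_info hg hcZ hUc
    obtain ⟨gd, wd, hgd, hdd, hnd, hed, hEd, hwd⟩ := h.tor_info hg hdZ hUd
    simp only [List.map_cons, List.sum_cons] at hce
    rw [hEa, hEb, hEc, hEd, hg] at hce
    have e1 : 1 + wa + wb + wc + wd ≤ g := by
      apply Nat.le_of_mul_le_mul_left _ hd
      have e2 : Nat.card Z * (1 + wa + wb + wc + wd) = Nat.card Z + Nat.card Z * wa +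
          Nat.card Z * wb + Nat.card Z * wc + Nat.card Z * wd := by ring
      omega
    obtain ⟨R, hR⟩ := Nat.exists_eq_add_of_le e1
    exact Arith.T4 (nn a) (ee a) ga (nn b) (ee b) gb (nn c) (ee c) gc (nn d') (ee d') gd g R
      hgpos hna hga hea hnb hgb heb hnc hgc hec hnd hgd hed (by omega)

/-- the case with unipotent-type elements -/
theorem main_U [Fact p.Prime] {xp : G} (hxp : xp ∉ Z) (hUp : U xp) :
    IsBor Z U ∨ IsDih Z U ∨ IsA4 Z U ∨ IsPSL Z U := by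
  classical
  have hd : 0 < Nat.card Z := Nat.card_pos
  obtain ⟨g, hg⟩ : Nat.card Z ∣ Nat.card G := Subgroup.card_subgroup_dvd_card Z
  have hgpos : 0 < g := by
    rcases Nat.eq_zero_or_pos g with rfl | hpos
    · have : 0 < Nat.card G := Nat.card_pos
      omega
    · exact hpos
  obtain ⟨l, hl1, hl2, hl3, hl4⟩ :=
    h.toCT.exists_reps {x | x ∉ Z ∧ ¬ U x} (fun x hx => hx.1) h.tor_sat
  have hce := h.class_eq
  obtain ⟨q, wp, hq2, haq, hnq, hk1, hkq, hmod, hEp, hwp⟩ := h.uni_info hg hxp hUp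
  rw [h.uni_eq_E hxp hUp, hl4, hEp] at hce
  have hlZ : ∀ r ∈ l, r ∉ Z := fun r hr => (hl1 r hr).1
  have hKgen : 2 ≤ ee xp → ∃ r ∈ l, aa r = Nat.card Z * ee xp := by
    intro hk2
    obtain ⟨y, hyZ, hUy, hay, _⟩ := h.P_tor xp hxp hUp hk2
    obtain ⟨r, hr, hyr⟩ := hl3 y ⟨hyZ, hUy⟩
    obtain ⟨i1, _, _⟩ := h.toCT.invariants (hlZ r hr) hyr
    exact ⟨r, hr, by rw [← i1, hay]⟩
  have hUni : HasUni Z U (ee xp) q := h.hasUni_of hxp hUp haq
  rcases l with _ | ⟨a, _ | ⟨b, _ | ⟨c, _ | ⟨d', rest⟩⟩⟩⟩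
  · -- no tori
    left
    simp only [List.map_nil, List.sum_nil, add_zero] at hce
    rw [hg] at hce
    have e1 : g = 1 + wp := by
      apply Nat.eq_of_mul_eq_mul_left hd
      rw [hce]; ring
    obtain ⟨n1, _⟩ := Arith.P0 (nn xp) (ee xp) q g hgpos hnq hq2 hk1 (by omega)
    exact h.isBor_of hxp hUp n1
  · -- one class of tori
    obtain ⟨haZ, hUa⟩ := hl1 a List.mem_cons_self
    obtain ⟨ga, wa, hga, haa, hna, hea, hEa, hwa⟩ := h.tor_info hg haZ hUa
    simp only [List.map_cons, List.map_nil, List.sum_cons, List.sum_nil, add_zero] at hce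
    rw [hEa, hg] at hce
    have e1 : g = 1 + wa + wp := by
      apply Nat.eq_of_mul_eq_mul_left hd
      rw [hce]; ring
    have hcov : ∀ x ∈ {x : G | x ∉ Z ∧ ¬ U x}, ∃ r ∈ [a], x ∈ E Z r := hl3
    have hK : 2 ≤ ee xp → ga = ee xp := by
      intro hk2
      obtain ⟨r, hr, har⟩ := hKgen hk2
      simp only [List.mem_cons, List.not_mem_nil, or_false] at hr
      subst hr
      rw [haa] at har
      exact Nat.eq_of_mul_eq_mul_left hd har
    rcases Arith.P1 (nn xp) (ee xp) q (nn a) (ee a) ga g hgpos hnq hq2 hk1 hna hga hea hK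
      (by omega) with n1 | ⟨e2, k1, ⟨q2, n1⟩ | ⟨q3, g2, g12⟩⟩
    · left; exact h.isBor_of hxp hUp n1
    · right; left; exact ⟨a, haZ, hUa, n1, e2⟩
    · right; right; left
      refine ⟨by rw [hg, g12], Or.inr ⟨by rw [← k1, ← q3]; exact hUni,
        ⟨a, haZ, hUa, e2, by rw [haa, g2]⟩, ?_⟩⟩
      apply h.torIn_of_reps [a] hcov hlZ
      intro r hr
      simp only [List.mem_cons, List.not_mem_nil, or_false] at hr
      subst hr
      exact ⟨(2, 2), by simp, e2, by rw [haa, g2]⟩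
  · -- two classes
    obtain ⟨haZ, hUa⟩ := hl1 a List.mem_cons_self
    obtain ⟨hbZ, hUb⟩ := hl1 b (List.mem_cons_of_mem _ List.mem_cons_self)
    obtain ⟨ga, wa, hga, haa, hna, hea, hEa, hwa⟩ := h.tor_info hg haZ hUa
    obtain ⟨gb, wb, hgb, hbb, hnb, heb, hEb, hwb⟩ := h.tor_info hg hbZ hUb
    simp only [List.map_cons, List.map_nil, List.sum_cons, List.sum_nil, add_zero] at hce
    rw [hEa, hEb, hg] at hce
    have e1 : g = 1 + wa + wb + wp := by
      apply Nat.eq_of_mul_eq_mul_left hd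
      rw [hce]; ring
    have hcov : ∀ x ∈ {x : G | x ∉ Z ∧ ¬ U x}, ∃ r ∈ [a, b], x ∈ E Z r := hl3
    have hK : 2 ≤ ee xp → ga = ee xp ∨ gb = ee xp := by
      intro hk2
      obtain ⟨r, hr, har⟩ := hKgen hk2
      simp only [List.mem_cons, List.not_mem_nil, or_false] at hr
      rcases hr with rfl | rfl
      · left; rw [haa] at har; exact Nat.eq_of_mul_eq_mul_left hd har
      · right; rw [hbb] at har; exact Nat.eq_of_mul_eq_mul_left hd har
    rcases Arith.P2 (nn xp) (ee xp) q (nn a) (ee a) ga (nn b) (ee b) gb g hgpos hnq hq2 hk1 hkq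
      hmod hna hga hea hnb hgb heb hK (by omega) with n1 | ⟨e1', e2', hk2, hh⟩
    · left; exact h.isBor_of hxp hUp n1
    · right; right; right
      rcases hh with ⟨g1, hpsl⟩ | ⟨g2, hpsl⟩
      · refine ⟨ee xp, q, gb, g, hg, hk2, hUni, hpsl, ⟨a, haZ, hUa, e1', by rw [haa, g1]⟩,
          ⟨b, hbZ, hUb, e2', hbb⟩, ?_⟩
        apply h.torIn_of_reps [a, b] hcov hlZ
        intro r hr
        simp only [List.mem_cons, List.not_mem_nil, or_false] at hr
        rcases hr with rfl | rfl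
        · exact ⟨(2, ee xp), by simp, e1', by rw [haa, g1]⟩
        · exact ⟨(2, gb), by simp, e2', hbb⟩
      · refine ⟨ee xp, q, ga, g, hg, hk2, hUni, hpsl, ⟨b, hbZ, hUb, e2', by rw [hbb, g2]⟩,
          ⟨a, haZ, hUa, e1', haa⟩, ?_⟩
        apply h.torIn_of_reps [a, b] hcov hlZ
        intro r hr
        simp only [List.mem_cons, List.not_mem_nil, or_false] at hr
        rcases hr with rfl | rfl
        · exact ⟨(2, ga), by simp, e1', haa⟩
        · exact ⟨(2, ee xp), by simp, e2', by rw [hbb, g2]⟩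
  · -- three classes
    exfalso
    obtain ⟨haZ, hUa⟩ := hl1 a List.mem_cons_self
    obtain ⟨hbZ, hUb⟩ := hl1 b (List.mem_cons_of_mem _ List.mem_cons_self)
    obtain ⟨hcZ, hUc⟩ := hl1 c (List.mem_cons_of_mem _ (List.mem_cons_of_mem _ List.mem_cons_self))
    obtain ⟨ga, wa, hga, haa, hna, hea, hEa, hwa⟩ := h.tor_info hg haZ hUa
    obtain ⟨gb, wb, hgb, hbb, hnb, heb, hEb, hwb⟩ := h.tor_info hg hbZ hUb
    obtain ⟨gc, wc, hgc, hcc, hnc, hec, hEc, hwc⟩ := h.tor_info hg hcZ hUc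
    simp only [List.map_cons, List.map_nil, List.sum_cons, List.sum_nil, add_zero] at hce
    rw [hEa, hEb, hEc, hg] at hce
    have e1 : g = 1 + wa + wb + wc + wp := by
      apply Nat.eq_of_mul_eq_mul_left hd
      rw [hce]; ring
    have hK : 2 ≤ ee xp → ga = ee xp ∨ gb = ee xp ∨ gc = ee xp := by
      intro hk2
      obtain ⟨r, hr, har⟩ := hKgen hk2
      simp only [List.mem_cons, List.not_mem_nil, or_false] at hr
      rcases hr with rfl | rfl | rfl
      · left; rw [haa] at har; exact Nat.eq_of_mul_eq_mul_left hd har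
      · right; left; rw [hbb] at har; exact Nat.eq_of_mul_eq_mul_left hd har
      · right; right; rw [hcc] at har; exact Nat.eq_of_mul_eq_mul_left hd har
    exact Arith.P3 (nn xp) (ee xp) q (nn a) (ee a) ga (nn b) (ee b) gb (nn c) (ee c) gc g hgpos
      hnq hq2 hk1 hkq hna hga hea hnb hgb heb hnc hgc hec hK (by omega)
  · -- at least four classes
    exfalso
    obtain ⟨haZ, hUa⟩ := hl1 a List.mem_cons_self
    obtain ⟨hbZ, hUb⟩ := hl1 b (List.mem_cons_of_mem _ List.mem_cons_self)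
    obtain ⟨hcZ, hUc⟩ := hl1 c (List.mem_cons_of_mem _ (List.mem_cons_of_mem _ List.mem_cons_self))
    obtain ⟨hdZ, hUd⟩ := hl1 d' (List.mem_cons_of_mem _ (List.mem_cons_of_mem _
      (List.mem_cons_of_mem _ List.mem_cons_self)))
    obtain ⟨ga, wa, hga, haa, hna, hea, hEa, hwa⟩ := h.tor_info hg haZ hUa
    obtain ⟨gb, wb, hgb, hbb, hnb, heb, hEb, hwb⟩ := h.tor_info hg hbZ hUb
    obtain ⟨gc, wc, hgc, hcc, hnc, hec, hEc, hwc⟩ := h.tor_info hg hcZ hUc
    obtain ⟨gd, wd, hgd, hdd, hnd, hed, hEd, hwd⟩ := h.tor_info hg hdZ hUd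
    simp only [List.map_cons, List.sum_cons] at hce
    rw [hEa, hEb, hEc, hEd, hg] at hce
    have e1 : 1 + wa + wb + wc + wd ≤ g := by
      apply Nat.le_of_mul_le_mul_left _ hd
      have e2 : Nat.card Z * (1 + wa + wb + wc + wd) = Nat.card Z + Nat.card Z * wa +
          Nat.card Z * wb + Nat.card Z * wc + Nat.card Z * wd := by ring
      omega
    obtain ⟨R, hR⟩ := Nat.exists_eq_add_of_le e1
    exact Arith.T4 (nn a) (ee a) ga (nn b) (ee b) gb (nn c) (ee c) gc (nn d') (ee d') gd g R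
      hgpos hna hga hea hnb hgb heb hnc hgc hec hnd hgd hed (by omega)

/-- the numerical classification -/
theorem main [Fact p.Prime] :
    Z = ⊤ ∨ IsCyc Z U ∨ IsBor Z U ∨ IsDih Z U ∨ IsA4 Z U ∨ IsS4 Z U ∨ IsA5 Z U ∨ IsPSL Z U := by
  by_cases hp : ∃ x, x ∉ Z ∧ U x
  · obtain ⟨xp, hxp, hUp⟩ := hp
    rcases h.main_U hxp hUp with a | a | a | a
    · right; right; left; exact a
    · right; right; right; left; exact a
    · right; right; right; right; left; exact a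
    · right; right; right; right; right; right; right; exact a
  · have hno : NoUni Z U := fun y hy hUy => hp ⟨y, hy, hUy⟩
    rcases h.main_noU hno with a | a | a | a | a | a
    · left; exact a
    · right; left; exact a
    · right; right; right; left; exact a
    · right; right; right; right; left; exact a
    · right; right; right; right; right; left; exact a
    · right; right; right; right; right; right; left; exact a

end Data

end Cfsg.Agent.Lib.Helper14.Dk
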