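import Mathlib

set_option autoImplicit false

/-! Definitions for S6000: the standard Pauli-type group of order 64 inside `GL 4 F`
(generated by `i • 1` and the four Pauli matrices `X1, Z1, X2, Z2`, index `2 * x1 + x2`),
the abstract predicate `PauliLike`, and the explicit normalizing elements used as representatives. -/

namespace Cfsg.Agent.Lib.Helper14.P4

open Matrix

variable {F : Type*} [Field F]

/-- `X ⊗ 1`. -/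
def mX1 : Matrix (Fin 4) (Fin 4) F := !![0,0,1,0; 0,0,0,1; 1,0,0,0; 0,1,0,0]
/-- `1 ⊗ X`. -/
def mX2 : Matrix (Fin 4) (Fin 4) F := !![0,1,0,0; 1,0,0,0; 0,0,0,1; 0,0,1,0]
/-- `Z ⊗ 1`. -/
def mZ1 : Matrix (Fin 4) (Fin 4) F := !![1,0,0,0; 0,1,0,0; 0,0,-1,0; 0,0,0,-1]
/-- `1 ⊗ Z`. -/
def mZ2 : Matrix (Fin 4) (Fin 4) F := !![1,0,0,0; 0,-1,0,0; 0,0,1,0; 0,0,0,-1]
/-- the controlled-`Z` matrix `diag(1,1,1,-1)`. -/
def mCZ : Matrix (Fin 4) (Fin 4) F := !![1,0,0,0; 0,1,0,0; 0,0,1,0; 0,0,0,-1]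

theorem mX1_mul_self : (mX1 : Matrix (Fin 4) (Fin 4) F) * mX1 = 1 := by
  ext a b; fin_cases a <;> fin_cases b <;> simp [mX1, Matrix.mul_apply, Fin.sum_univ_four]
theorem mX2_mul_self : (mX2 : Matrix (Fin 4) (Fin 4) F) * mX2 = 1 := by
  ext a b; fin_cases a <;> fin_cases b <;> simp [mX2, Matrix.mul_apply, Fin.sum_univ_four]
theorem mZ1_mul_self : (mZ1 : Matrix (Fin 4) (Fin 4) F) * mZ1 = 1 := by
  ext a b; fin_cases a <;> fin_cases b <;> simp [mZ1, Matrix.mul_apply, Fin.sum_univ_four]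
theorem mZ2_mul_self : (mZ2 : Matrix (Fin 4) (Fin 4) F) * mZ2 = 1 := by
  ext a b; fin_cases a <;> fin_cases b <;> simp [mZ2, Matrix.mul_apply, Fin.sum_univ_four]
theorem mCZ_mul_self : (mCZ : Matrix (Fin 4) (Fin 4) F) * mCZ = 1 := by
  ext a b; fin_cases a <;> fin_cases b <;> simp [mCZ, Matrix.mul_apply, Fin.sum_univ_four]

def gX1 : GL (Fin 4) F := ⟨mX1, mX1, mX1_mul_self, mX1_mul_self⟩
def gX2 : GL (Fin 4) F := ⟨mX2, mX2, mX2_mul_self, mX2_mul_self⟩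
def gZ1 : GL (Fin 4) F := ⟨mZ1, mZ1, mZ1_mul_self, mZ1_mul_self⟩
def gZ2 : GL (Fin 4) F := ⟨mZ2, mZ2, mZ2_mul_self, mZ2_mul_self⟩
def gCZ : GL (Fin 4) F := ⟨mCZ, mCZ, mCZ_mul_self, mCZ_mul_self⟩

/-- the scalar matrix `c • 1` as an element of `GL 4 F`, for `c ≠ 0`. -/
def gScal (c : F) (hc : c ≠ 0) : GL (Fin 4) F :=
  ⟨c • 1, c⁻¹ • 1, by rw [Matrix.smul_mul, Matrix.mul_smul, smul_smul, mul_one, mul_inv_cancel₀ hc, one_smul],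
    by rw [Matrix.smul_mul, Matrix.mul_smul, smul_smul, mul_one, inv_mul_cancel₀ hc, one_smul]⟩

theorem ne_zero_of_sq (i : F) (hi : i * i = -1) : i ≠ 0 := by
  rintro rfl; simp at hi

/-- `i • 1`. -/
def gI (i : F) (hi : i * i = -1) : GL (Fin 4) F := gScal i (ne_zero_of_sq i hi)

@[simp] theorem coe_gX1 : ((gX1 : GL (Fin 4) F) : Matrix (Fin 4) (Fin 4) F) = mX1 := rfl
@[simp] theorem coe_gX2 : ((gX2 : GL (Fin 4) F) : Matrix (Fin 4) (Fin 4) F) = mX2 := rfl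
@[simp] theorem coe_gZ1 : ((gZ1 : GL (Fin 4) F) : Matrix (Fin 4) (Fin 4) F) = mZ1 := rfl
@[simp] theorem coe_gZ2 : ((gZ2 : GL (Fin 4) F) : Matrix (Fin 4) (Fin 4) F) = mZ2 := rfl
@[simp] theorem coe_gCZ : ((gCZ : GL (Fin 4) F) : Matrix (Fin 4) (Fin 4) F) = mCZ := rfl
@[simp] theorem coe_gScal (c : F) (hc : c ≠ 0) :
    ((gScal c hc : GL (Fin 4) F) : Matrix (Fin 4) (Fin 4) F) = c • 1 := rfl
@[simp] theorem coe_gI (i : F) (hi : i * i = -1) :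
    ((gI i hi : GL (Fin 4) F) : Matrix (Fin 4) (Fin 4) F) = i • 1 := rfl

/-- The standard group `4 ∘ 2^{1+4}` of order 64. -/
def R0 (i : F) (hi : i * i = -1) : Subgroup (GL (Fin 4) F) :=
  Subgroup.closure {gI i hi, gX1, gZ1, gX2, gZ2}

/-- Abstract properties of the group `4 ∘ 2^{1+4}` in its 4-dimensional representation. -/
structure PauliLike (R : Subgroup (GL (Fin 4) F)) : Prop where
  card : Nat.card R = 64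
  comm : ∀ M : Matrix (Fin 4) (Fin 4) F,
    (∀ g ∈ R, M * (g : Matrix (Fin 4) (Fin 4) F) = (g : Matrix (Fin 4) (Fin 4) F) * M) →
      ∃ c : F, M = c • (1 : Matrix (Fin 4) (Fin 4) F)
  sq : ∀ g ∈ R, (g : Matrix (Fin 4) (Fin 4) F) * (g : Matrix (Fin 4) (Fin 4) F) = 1 ∨
    (g : Matrix (Fin 4) (Fin 4) F) * (g : Matrix (Fin 4) (Fin 4) F) = -1
  anti : ∀ g ∈ R, ∀ h ∈ R,
    (g : Matrix (Fin 4) (Fin 4) F) * (h : Matrix (Fin 4) (Fin 4) F) =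
        (h : Matrix (Fin 4) (Fin 4) F) * (g : Matrix (Fin 4) (Fin 4) F) ∨
      (g : Matrix (Fin 4) (Fin 4) F) * (h : Matrix (Fin 4) (Fin 4) F) =
        -((h : Matrix (Fin 4) (Fin 4) F) * (g : Matrix (Fin 4) (Fin 4) F))
  unit : ∀ i : F, i * i = -1 → ∃ g ∈ R, (g : Matrix (Fin 4) (Fin 4) F) = i • 1

/-! ### explicit normalizing elements (entries in `ℤ[i, 1/2]`) -/

/-- an element of order 5 normalizing `R0`: `Y5 X1 Y5⁻¹ = -i X1 X2 Z1`, `Y5 X2 Y5⁻¹ = X1 Z2`,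
`Y5 Z1 Y5⁻¹ = X1`, `Y5 Z2 Y5⁻¹ = X2`. -/
def mY5 (i : F) : Matrix (Fin 4) (Fin 4) F :=
  (2 : F)⁻¹ • !![-i,-i,1,-1; -i,i,1,1; -i,-i,-1,1; -i,i,-1,-1]
/-- the inverse of `mY5`. -/
def mY5i (i : F) : Matrix (Fin 4) (Fin 4) F :=
  (2 : F)⁻¹ • !![i,i,i,i; i,-i,i,-i; 1,1,-1,-1; -1,1,1,-1]

/-- `M ⊗ 1`, of order 3 with `YA² + YA + 1 = 0`: `YA X1 YA⁻¹ = Z1`, `YA Z1 YA⁻¹ = i X1 Z1`,
commutes with `X2, Z2`. -/
def mYA (i : F) : Matrix (Fin 4) (Fin 4) F :=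
  (2 : F)⁻¹ • !![-1-i,0,-1-i,0; 0,-1-i,0,-1-i; 1-i,0,-1+i,0; 0,1-i,0,-1+i]
/-- the inverse (= square) of `mYA`. -/
def mYAi (i : F) : Matrix (Fin 4) (Fin 4) F :=
  (2 : F)⁻¹ • !![-1+i,0,1+i,0; 0,-1+i,0,1+i; -1+i,0,-1-i,0; 0,-1+i,0,-1-i]

/-- `M ⊗ M`, of order 3 with `YB² + YB + 1 ≠ 0`: `YB X1 YB⁻¹ = Z1`, `YB X2 YB⁻¹ = Z2`,
`YB Z1 YB⁻¹ = i X1 Z1`, `YB Z2 YB⁻¹ = i X2 Z2`. -/
def mYB (i : F) : Matrix (Fin 4) (Fin 4) F :=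
  (2 : F)⁻¹ • !![i,i,i,i; -1,1,-1,1; -1,-1,1,1; -i,i,i,-i]
/-- the inverse (= square) of `mYB`. -/
def mYBi (i : F) : Matrix (Fin 4) (Fin 4) F :=
  (2 : F)⁻¹ • !![-i,-1,-1,i; -i,1,-1,-i; -i,-1,1,-i; -i,1,1,i]

end Cfsg.Agent.Lib.Helper14.P4
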