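import Mathlib

set_option autoImplicit false

namespace Cfsg.Agent.Lib.Helper14

open Module Polynomial

section
variable {F : Type*} [Field F] [Fintype F]

theorem card_mod_two_of_two_ne_zero (h2 : (2 : F) ≠ 0) : Fintype.card F % 2 = 1 := by
  apply FiniteField.odd_card_of_char_ne_two
  intro h
  apply h2
  have : CharP F 2 := by rw [← h]; exact ringChar.charP F
  have := CharP.cast_eq_zero F 2
  exact_mod_cast this

/-- Binary forms over a finite field of odd characteristic are universal. -/
theorem exists_binary_rep (h2 : (2 : F) ≠ 0) (a b c : F) (ha : a ≠ 0) (hb : b ≠ 0) :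
    ∃ x y : F, a * x ^ 2 + b * y ^ 2 = c := by
  have hf : degree (C a * X ^ 2 : F[X]) = 2 := by
    rw [degree_C_mul_X_pow 2 ha]; rfl
  have hg : degree (C b * X ^ 2 - C c : F[X]) = 2 := by
    rw [degree_sub_C, degree_C_mul_X_pow 2 hb]; rfl
    rw [degree_C_mul_X_pow 2 hb]; norm_num
  obtain ⟨x, y, hxy⟩ := FiniteField.exists_root_sum_quadratic hf hg (card_mod_two_of_two_ne_zero h2)
  refine ⟨x, y, ?_⟩
  simp only [eval_mul, eval_C, eval_pow, eval_X, eval_sub] at hxy
  linear_combination hxy

end

section
variable {F : Type*} [Field F] [Fintype F]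

/-- Over a finite field of odd characteristic, a nondegenerate symmetric bilinear form has an
orthogonal basis whose vectors, except possibly the last, have norm `1`. -/
theorem exists_normalized_orthogonal_basis (h2 : (2 : F) ≠ 0) :
    ∀ (d : ℕ) {V : Type*} [AddCommGroup V] [Module F V] [FiniteDimensional F V]
      (B : LinearMap.BilinForm F V), B.IsSymm → B.Nondegenerate → finrank F V = d + 1 →
      ∃ v : Basis (Fin (d + 1)) F V, B.IsOrthoᵢ v ∧
        ∀ i : Fin (d + 1), i ≠ Fin.last d → B (v i) (v i) = 1 := by
  intro d
  induction d with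
  | zero =>
    intro V _ _ _ B _ _ hd
    refine ⟨Module.finBasisOfFinrankEq F V hd, ?_, ?_⟩
    · intro i j hij
      exact absurd (Fin.ext (by omega)) hij
    · intro i hi
      exact absurd (Fin.ext (by have := (Fin.last 0).isLt; omega)) hi
  | succ d ih =>
    intro V _ _ _ B hS hN hd
    have : Invertible (2 : F) := invertibleOfNonzero h2
    -- find x with B x x = 1
    obtain ⟨u, hu⟩ := LinearMap.BilinForm.exists_orthogonal_basis (LinearMap.BilinForm.isSymm_iff.mp hS)
    have hfin : finrank F V = d + 2 := hd
    let i0 : Fin (finrank F V) := ⟨0, by omega⟩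
    let i1 : Fin (finrank F V) := ⟨1, by omega⟩
    have hi01 : i0 ≠ i1 := by
      intro h; have := congrArg Fin.val h; simp [i0, i1] at this
    have ha : B (u i0) (u i0) ≠ 0 := LinearMap.BilinForm.iIsOrtho.not_isOrtho_basis_self_of_nondegenerate hu hN i0
    have hb : B (u i1) (u i1) ≠ 0 := LinearMap.BilinForm.iIsOrtho.not_isOrtho_basis_self_of_nondegenerate hu hN i1
    obtain ⟨s, t, hst⟩ := exists_binary_rep h2 _ _ 1 ha hb
    have h01 : B (u i0) (u i1) = 0 := hu hi01
    have h10 : B (u i1) (u i0) = 0 := hu hi01.symm
    set x : V := s • u i0 + t • u i1 with hxdef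
    have hx1 : B x x = 1 := by
      rw [hxdef]
      simp only [map_add, map_smul, LinearMap.add_apply, LinearMap.smul_apply, smul_eq_mul, h01,
        h10, mul_zero, add_zero, zero_add]
      linear_combination hst
    have hx : B x x ≠ 0 := by rw [hx1]; exact one_ne_zero
    have hd' := hd
    rw [← Submodule.finrank_add_eq_of_isCompl
      (LinearMap.BilinForm.isCompl_span_singleton_orthogonal hx).symm,
      finrank_span_singleton (ne_zero_of_map hx)] at hd'
    have hd'' : finrank F (B.orthogonal (F ∙ x)) = d + 1 := by omega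
    have hN' := LinearMap.BilinForm.restrict_nondegenerate_orthogonal_spanSingleton B hN
      hS.isRefl hx
    have hS' : (B.restrict (B.orthogonal (F ∙ x))).IsSymm := hS.restrict _
    obtain ⟨v', hv₁, hv₂⟩ := ih (B.restrict (B.orthogonal (F ∙ x))) hS' hN' hd''
    let b :=
      Basis.mkFinCons x v'
        (by
          rintro c y hy hc
          rw [add_eq_zero_iff_neg_eq] at hc
          rw [← hc, Submodule.neg_mem_iff] at hy
          have := (LinearMap.BilinForm.isCompl_span_singleton_orthogonal hx).disjoint
          rw [Submodule.disjoint_def] at this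
          have := this (c • x) (Submodule.smul_mem _ _ <| Submodule.mem_span_singleton_self _) hy
          exact (smul_eq_zero.1 this).resolve_right fun h => hx <| h.symm ▸ map_zero _)
        (by
          intro y
          refine ⟨-B x y / B x x, fun z hz => ?_⟩
          obtain ⟨c, rfl⟩ := Submodule.mem_span_singleton.1 hz
          rw [map_smul, LinearMap.smul_apply, map_add, map_smul, smul_eq_mul, smul_eq_mul,
            div_mul_cancel₀ _ hx, add_neg_cancel, mul_zero])
    refine ⟨b, ?_, ?_⟩
    · rw [Basis.coe_mkFinCons]
      intro j i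
      refine Fin.cases ?_ (fun i => ?_) i <;> refine Fin.cases ?_ (fun j => ?_) j <;> intro hij <;>
        simp only [Function.onFun, Fin.cons_zero, Fin.cons_succ, Function.comp_apply]
      · exact (hij rfl).elim
      · rw [← hS.eq]
        exact (v' j).prop _ (Submodule.mem_span_singleton_self x)
      · exact (v' i).prop _ (Submodule.mem_span_singleton_self x)
      · exact hv₁ (ne_of_apply_ne _ hij)
    · intro i
      rw [Basis.coe_mkFinCons]
      refine Fin.cases ?_ (fun j => ?_) i
      · intro _
        simpa using hx1
      · intro hj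
        have hj' : j ≠ Fin.last d := by
          intro h; apply hj; rw [h]; rfl
        simpa using hv₂ j hj'

end


section disc
variable {F : Type*} [Field F] {V : Type*} [AddCommGroup V] [Module F V]

theorem disc_change {ι : Type*} [Fintype ι] [DecidableEq ι] (B : LinearMap.BilinForm F V)
    (b b' : Basis ι F V) :
    (LinearMap.BilinForm.toMatrix b' B).det
      = (b.toMatrix b').det ^ 2 * (LinearMap.BilinForm.toMatrix b B).det := by
  rw [← LinearMap.BilinForm.toMatrix_mul_basis_toMatrix b b' B, Matrix.det_mul, Matrix.det_mul,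
    Matrix.det_transpose]
  ring

theorem disc_normalized {d : ℕ} (B : LinearMap.BilinForm F V) (v : Basis (Fin (d + 1)) F V)
    (hO : B.IsOrthoᵢ v) (h1 : ∀ i : Fin (d + 1), i ≠ Fin.last d → B (v i) (v i) = 1) :
    (LinearMap.BilinForm.toMatrix v B).det = B (v (Fin.last d)) (v (Fin.last d)) := by
  have hdiag : LinearMap.BilinForm.toMatrix v B = Matrix.diagonal (fun i => B (v i) (v i)) := by
    ext i j
    rw [LinearMap.BilinForm.toMatrix_apply, Matrix.diagonal_apply]
    split_ifs with h
    · rw [h]
    · exact hO h
  rw [hdiag, Matrix.det_diagonal, Fin.prod_univ_castSucc]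
  have : ∀ i : Fin d, B (v (Fin.castSucc i)) (v (Fin.castSucc i)) = 1 :=
    fun i => h1 _ (Fin.castSucc_lt_last i).ne
  simp [this]

end disc

section classify
variable {F : Type*} [Field F] [Fintype F]

/-- Classification: nondegenerate symmetric bilinear forms of the same dimension over a finite field
of odd characteristic whose discriminants differ by a square are isometric. -/
theorem exists_isometry_of_disc (h2 : (2 : F) ≠ 0) (d : ℕ)
    {V : Type*} [AddCommGroup V] [Module F V] [FiniteDimensional F V]
    {V' : Type*} [AddCommGroup V'] [Module F V'] [FiniteDimensional F V']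
    (B : LinearMap.BilinForm F V) (hS : B.IsSymm) (hN : B.Nondegenerate)
    (B' : LinearMap.BilinForm F V') (hS' : B'.IsSymm) (hN' : B'.Nondegenerate)
    (b : Basis (Fin (d + 1)) F V) (b' : Basis (Fin (d + 1)) F V')
    (s : F) (hs : s ≠ 0)
    (hdisc : (LinearMap.BilinForm.toMatrix b B).det
      = s ^ 2 * (LinearMap.BilinForm.toMatrix b' B').det) :
    ∃ g : V ≃ₗ[F] V', ∀ x y, B' (g x) (g y) = B x y := by
  have hd : finrank F V = d + 1 := by rw [finrank_eq_card_basis b]; simp
  have hd' : finrank F V' = d + 1 := by rw [finrank_eq_card_basis b']; simp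
  obtain ⟨v, hvO, hv1⟩ := exists_normalized_orthogonal_basis h2 d B hS hN hd
  obtain ⟨v', hvO', hv1'⟩ := exists_normalized_orthogonal_basis h2 d B' hS' hN' hd'
  set e := B (v (Fin.last d)) (v (Fin.last d)) with he
  set e' := B' (v' (Fin.last d)) (v' (Fin.last d)) with he'
  have h1 : e = (b.toMatrix v).det ^ 2 * (LinearMap.BilinForm.toMatrix b B).det := by
    rw [he, ← disc_normalized B v hvO hv1, disc_change B b v]
  have h1' : e' = (b'.toMatrix v').det ^ 2 * (LinearMap.BilinForm.toMatrix b' B').det := by
    rw [he', ← disc_normalized B' v' hvO' hv1', disc_change B' b' v']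
  have hP' : (b'.toMatrix v').det ≠ 0 := by
    have := (Basis.invertibleToMatrix b' v')
    exact (Matrix.isUnit_iff_isUnit_det _).mp (isUnit_of_invertible _) |>.ne_zero
  have hP : (b.toMatrix v).det ≠ 0 := by
    have := (Basis.invertibleToMatrix b v)
    exact (Matrix.isUnit_iff_isUnit_det _).mp (isUnit_of_invertible _) |>.ne_zero
  set t : F := (b.toMatrix v).det * s / (b'.toMatrix v').det with ht
  have ht0 : t ≠ 0 := div_ne_zero (mul_ne_zero hP hs) hP'
  have het : e = t ^ 2 * e' := by
    rw [h1, h1', hdisc, ht]
    field_simp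
  let w : Fin (d + 1) → Fˣ := fun i => if i = Fin.last d then Units.mk0 t ht0 else 1
  let g : V ≃ₗ[F] V' := v.equiv (v'.unitsSMul w) (Equiv.refl _)
  refine ⟨g, ?_⟩
  have hg : ∀ i, g (v i) = w i • v' i := by
    intro i
    simp only [g, Basis.equiv_apply, Equiv.refl_apply, Basis.unitsSMul_apply]
  have key : B'.comp g.toLinearMap g.toLinearMap = B := by
    apply LinearMap.BilinForm.ext_basis v
    intro i j
    simp only [LinearMap.BilinForm.comp_apply, LinearEquiv.coe_coe, hg]
    simp only [Units.smul_def, map_smul, LinearMap.smul_apply, smul_eq_mul]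
    by_cases hij : i = j
    · subst hij
      by_cases hi : i = Fin.last d
      · subst hi
        simp only [w, if_true, Units.val_mk0]
        rw [← he, ← he', het]; ring
      · simp only [w, if_neg hi, Units.val_one, one_mul]
        rw [hv1 i hi, hv1' i hi]
    · rw [hvO hij, hvO' hij]; ring
  intro x y
  have := congrArg (fun C : LinearMap.BilinForm F V => C x y) key
  simpa using this

end classify

end Cfsg.Agent.Lib.Helper14
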