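import Mathlib
import Cfsg.Agent.Lib.Helper14.FiniteQuad
import Cfsg.Agent.S0833

set_option autoImplicit false
open Module TensorProduct

namespace Cfsg.Agent.Lib.Helper14

section tensor
variable {F : Type*} [Field F]
variable {U W : Type*} [AddCommGroup U] [Module F U] [AddCommGroup W] [Module F W]

theorem toMatrix_tmul {ι κ : Type*} [Fintype ι] [Fintype κ] [DecidableEq ι] [DecidableEq κ]
    (b : Basis ι F U) (c : Basis κ F W) (B₁ : LinearMap.BilinForm F U) (B₂ : LinearMap.BilinForm F W) :
    LinearMap.BilinForm.toMatrix (b.tensorProduct c) (B₁.tmul B₂)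
      = Matrix.kroneckerMap (· * ·) (LinearMap.BilinForm.toMatrix b B₁)
          (LinearMap.BilinForm.toMatrix c B₂) := by
  ext ⟨i, j⟩ ⟨i', j'⟩
  simp [LinearMap.BilinForm.toMatrix_apply, Basis.tensorProduct_apply, mul_comm]

theorem det_toMatrix_tmul {ι κ : Type*} [Fintype ι] [Fintype κ] [DecidableEq ι] [DecidableEq κ]
    (b : Basis ι F U) (c : Basis κ F W) (B₁ : LinearMap.BilinForm F U) (B₂ : LinearMap.BilinForm F W) :
    (LinearMap.BilinForm.toMatrix (b.tensorProduct c) (B₁.tmul B₂)).det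
      = (LinearMap.BilinForm.toMatrix b B₁).det ^ Fintype.card κ
        * (LinearMap.BilinForm.toMatrix c B₂).det ^ Fintype.card ι := by
  rw [toMatrix_tmul]
  have := Matrix.det_kronecker (LinearMap.BilinForm.toMatrix b B₁) (LinearMap.BilinForm.toMatrix c B₂)
  rw [this]

theorem tmul_isSymm' (B₁ : LinearMap.BilinForm F U) (B₂ : LinearMap.BilinForm F W)
    (h₁ : B₁.IsSymm) (h₂ : B₂.IsSymm) : LinearMap.BilinForm.IsSymm (B₁.tmul B₂) := by
  rw [LinearMap.BilinForm.isSymm_iff]
  exact LinearMap.IsSymm.tmul (LinearMap.BilinForm.isSymm_iff.mp h₁) (LinearMap.BilinForm.isSymm_iff.mp h₂)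

end tensor

section reindex
variable {F : Type*} [Field F] {V : Type*} [AddCommGroup V] [Module F V]

theorem det_toMatrix_reindex {ι ι' : Type*} [Fintype ι] [DecidableEq ι] [Fintype ι'] [DecidableEq ι']
    (B : LinearMap.BilinForm F V) (b : Basis ι F V) (e : ι ≃ ι') :
    (LinearMap.BilinForm.toMatrix (b.reindex e) B).det = (LinearMap.BilinForm.toMatrix b B).det := by
  have : LinearMap.BilinForm.toMatrix (b.reindex e) B
      = Matrix.reindex e e (LinearMap.BilinForm.toMatrix b B) := by
    ext i j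
    simp [LinearMap.BilinForm.toMatrix_apply]
  rw [this, Matrix.det_reindex_self]

end reindex

section classify'
variable {F : Type*} [Field F] [Fintype F]

theorem exists_isometry_of_disc' (h2 : (2 : F) ≠ 0)
    {V : Type*} [AddCommGroup V] [Module F V] [FiniteDimensional F V]
    {V' : Type*} [AddCommGroup V'] [Module F V'] [FiniteDimensional F V']
    {ι ι' : Type*} [Fintype ι] [DecidableEq ι] [Fintype ι'] [DecidableEq ι'] [Nonempty ι]
    (hcard : Fintype.card ι = Fintype.card ι')
    (B : LinearMap.BilinForm F V) (hS : B.IsSymm) (hN : B.Nondegenerate)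
    (B' : LinearMap.BilinForm F V') (hS' : B'.IsSymm) (hN' : B'.Nondegenerate)
    (b : Basis ι F V) (b' : Basis ι' F V')
    (s : F) (hs : s ≠ 0)
    (hdisc : (LinearMap.BilinForm.toMatrix b B).det
      = s ^ 2 * (LinearMap.BilinForm.toMatrix b' B').det) :
    ∃ g : V ≃ₗ[F] V', ∀ x y, B' (g x) (g y) = B x y := by
  obtain ⟨d, hd⟩ : ∃ d, Fintype.card ι = d + 1 :=
    ⟨Fintype.card ι - 1, by have := Fintype.card_pos (α := ι); omega⟩
  have e : ι ≃ Fin (d + 1) := Fintype.equivFinOfCardEq hd
  have e' : ι' ≃ Fin (d + 1) := Fintype.equivFinOfCardEq (hcard ▸ hd)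
  refine exists_isometry_of_disc h2 d B hS hN B' hS' hN' (b.reindex e) (b'.reindex e') s hs ?_
  rw [det_toMatrix_reindex, det_toMatrix_reindex, hdisc]

end classify'

section model
variable {F : Type*} [Field F] [Fintype F]

/-- A nondegenerate symmetric form of dimension `2m` (`m ≥ 1`) over a finite field of odd
characteristic whose discriminant is `(-1)^m` up to squares has a totally isotropic subspace of
dimension `m`. -/
theorem exists_lagrangian_of_disc (h2 : (2 : F) ≠ 0)
    {V : Type*} [AddCommGroup V] [Module F V] [FiniteDimensional F V]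
    (B : LinearMap.BilinForm F V) (hS : B.IsSymm) (hN : B.Nondegenerate)
    (m : ℕ) (hm : 1 ≤ m)
    {ι : Type*} [Fintype ι] [DecidableEq ι] (b : Basis ι F V) (hcard : Fintype.card ι = 2 * m)
    (s : F) (hs : s ≠ 0)
    (hdisc : (LinearMap.BilinForm.toMatrix b B).det = s ^ 2 * (-1) ^ m) :
    ∃ X : Submodule F V, finrank F X = m ∧ ∀ x ∈ X, ∀ y ∈ X, B x y = 0 := by
  classical
  let H : LinearMap.BilinForm F (Fin 2 → F) := Matrix.toBilin' !![0, 1; 1, 0]
  let D : LinearMap.BilinForm F (Fin m → F) := Matrix.toBilin' 1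
  have hHS : H.IsSymm := by
    rw [Matrix.isSymm_toBilin'_iff_isSymm]
    ext i j; fin_cases i <;> fin_cases j <;> rfl
  have hDS : D.IsSymm := by
    rw [Matrix.isSymm_toBilin'_iff_isSymm]
    exact Matrix.isSymm_one
  have hHdet : (!![0, 1; 1, 0] : Matrix (Fin 2) (Fin 2) F).det = -1 := by
    rw [Matrix.det_fin_two_of]; ring
  have hHN : H.Nondegenerate := by
    apply LinearMap.BilinForm.nondegenerate_toBilin'_of_det_ne_zero'
    rw [hHdet]; simp
  have hDN : D.Nondegenerate := by
    apply LinearMap.BilinForm.nondegenerate_toBilin'_of_det_ne_zero'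
    simp
  have hTS := tmul_isSymm' H D hHS hDS
  have hTN := Cfsg.Agent.S0833.tmul_nondegenerate H D hHN hDN
  let b' := (Pi.basisFun F (Fin 2)).tensorProduct (Pi.basisFun F (Fin m))
  have hdet' : (LinearMap.BilinForm.toMatrix b' (H.tmul D)).det = (-1) ^ m := by
    rw [det_toMatrix_tmul]
    rw [LinearMap.BilinForm.toMatrix_basisFun, LinearMap.BilinForm.toMatrix_basisFun]
    simp only [H, D, LinearMap.BilinForm.toMatrix'_toBilin', hHdet, Matrix.det_one, one_pow,
      mul_one, Fintype.card_fin]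
  have : Nonempty ι := by
    apply Fintype.card_pos_iff.mp; omega
  obtain ⟨g, hg⟩ := exists_isometry_of_disc' h2 (ι := ι) (ι' := Fin 2 × Fin m)
    (by rw [hcard]; simp) B hS hN (H.tmul D) hTS hTN b b' s hs (by rw [hdisc, hdet'])
  -- Lagrangian in the model
  let e0 : Fin 2 → F := ![1, 0]
  have he0 : e0 ≠ 0 := by
    intro h
    have := congrFun h 0
    simp [e0] at this
  have hti : ∀ x ∈ Submodule.span F {e0}, ∀ y ∈ Submodule.span F {e0}, H x y = 0 := by
    intro x hx y hy
    obtain ⟨c, rfl⟩ := Submodule.mem_span_singleton.mp hx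
    obtain ⟨c', rfl⟩ := Submodule.mem_span_singleton.mp hy
    have : H e0 e0 = 0 := by
      simp [H, e0, Matrix.toBilin'_apply', Matrix.mulVec, dotProduct, Fin.sum_univ_two]
    simp [this]
  obtain ⟨X₀, hX₀, hX₀ti⟩ := Cfsg.Agent.S0833.exists_isotropic H D (Submodule.span F {e0}) hti
  refine ⟨X₀.map g.symm.toLinearMap, ?_, ?_⟩
  · rw [LinearEquiv.finrank_map_eq, hX₀, finrank_span_singleton he0]
    simp
  · rintro _ ⟨x, hx, rfl⟩ _ ⟨y, hy, rfl⟩
    have := hg (g.symm x) (g.symm y)
    simp only [LinearEquiv.apply_symm_apply] at this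
    simp only [LinearEquiv.coe_coe]
    rw [← this]
    exact hX₀ti x hx y hy

end model

end Cfsg.Agent.Lib.Helper14
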