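import Mathlib
import Cfsg.Agent.Lib.Helper14.FiniteQuad2

set_option autoImplicit false
open Module TensorProduct Matrix

namespace Cfsg.Agent.Lib.Helper14

section lagr_disc
variable {F : Type*} [Field F]

theorem det_fromBlocks_swap {n : Type*} [Fintype n] [DecidableEq n] :
    (Matrix.fromBlocks (0 : Matrix n n F) (1 : Matrix n n F) (1 : Matrix n n F)
      (0 : Matrix n n F)).det = (-1) ^ Fintype.card n := by
  have h1 : Matrix.fromBlocks (1 : Matrix n n F) (1 : Matrix n n F) (0 : Matrix n n F)
        (1 : Matrix n n F)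
      * Matrix.fromBlocks (0 : Matrix n n F) (1 : Matrix n n F) (1 : Matrix n n F) (0 : Matrix n n F)
      = Matrix.fromBlocks (1 : Matrix n n F) (1 : Matrix n n F) (1 : Matrix n n F)
        (0 : Matrix n n F) := by
    rw [Matrix.fromBlocks_multiply]; simp
  have h2 : (Matrix.fromBlocks (1 : Matrix n n F) (1 : Matrix n n F) (0 : Matrix n n F)
        (1 : Matrix n n F)).det = 1 := by
    rw [Matrix.det_fromBlocks_zero₂₁]; simp
  have h3 : (Matrix.fromBlocks (1 : Matrix n n F) (1 : Matrix n n F) (1 : Matrix n n F)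
        (0 : Matrix n n F)).det = (-1) ^ Fintype.card n := by
    rw [Matrix.det_fromBlocks_one₁₁]; simp [Matrix.det_neg]
  have := congrArg Matrix.det h1
  rw [Matrix.det_mul, h2, one_mul, h3] at this
  exact this

theorem det_fromBlocks_zero₁₁ {n : Type*} [Fintype n] [DecidableEq n] (P Q R : Matrix n n F) :
    (Matrix.fromBlocks 0 P Q R).det = (-1) ^ Fintype.card n * (P.det * Q.det) := by
  have h1 : Matrix.fromBlocks 0 P Q R = Matrix.fromBlocks P 0 R Q
      * Matrix.fromBlocks (0 : Matrix n n F) (1 : Matrix n n F) (1 : Matrix n n F)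
        (0 : Matrix n n F) := by
    rw [Matrix.fromBlocks_multiply]; simp
  rw [h1, Matrix.det_mul, Matrix.det_fromBlocks_zero₁₂, det_fromBlocks_swap]; ring

/-- A nondegenerate symmetric form of dimension `2m` with a totally isotropic subspace of
dimension `m` has discriminant `(-1)^m` up to squares. -/
theorem disc_of_lagrangian {V : Type*} [AddCommGroup V] [Module F V] [FiniteDimensional F V]
    (B : LinearMap.BilinForm F V) (hS : B.IsSymm) (hN : B.Nondegenerate) (m : ℕ)
    (hV : finrank F V = 2 * m) (X : Submodule F V) (hX : finrank F X = m)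
    (hti : ∀ x ∈ X, ∀ y ∈ X, B x y = 0) :
    ∃ (b : Basis (Fin m ⊕ Fin m) F V) (p : F), p ≠ 0 ∧
      (LinearMap.BilinForm.toMatrix b B).det = (-1) ^ m * p ^ 2 := by
  classical
  obtain ⟨Y, hXY⟩ := Submodule.exists_isCompl X
  have hY : finrank F Y = m := by
    have := Submodule.finrank_add_eq_of_isCompl hXY
    omega
  let bX := Module.finBasisOfFinrankEq F X hX
  let bY := Module.finBasisOfFinrankEq F Y hY
  let b : Basis (Fin m ⊕ Fin m) F V := (bX.prod bY).map (Submodule.prodEquivOfIsCompl X Y hXY)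
  have hbl : ∀ i, b (Sum.inl i) = (bX i : V) := by
    intro i
    simp [b]
  have hbr : ∀ j, b (Sum.inr j) = (bY j : V) := by
    intro j
    simp [b]
  have hM : LinearMap.BilinForm.toMatrix b B
      = Matrix.fromBlocks 0 (LinearMap.BilinForm.toMatrix b B).toBlocks₁₂
          (LinearMap.BilinForm.toMatrix b B).toBlocks₁₂ᵀ
          (LinearMap.BilinForm.toMatrix b B).toBlocks₂₂ := by
    conv_lhs => rw [← Matrix.fromBlocks_toBlocks (LinearMap.BilinForm.toMatrix b B)]
    congr 1
    · ext i j
      simp only [Matrix.toBlocks₁₁, Matrix.of_apply, LinearMap.BilinForm.toMatrix_apply, hbl,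
        Matrix.zero_apply]
      exact hti _ (bX i).2 _ (bX j).2
    · ext i j
      simp only [Matrix.toBlocks₂₁, Matrix.toBlocks₁₂, Matrix.of_apply, Matrix.transpose_apply,
        LinearMap.BilinForm.toMatrix_apply]
      exact hS.eq _ _
  have hdet := det_fromBlocks_zero₁₁ (LinearMap.BilinForm.toMatrix b B).toBlocks₁₂
    (LinearMap.BilinForm.toMatrix b B).toBlocks₁₂ᵀ (LinearMap.BilinForm.toMatrix b B).toBlocks₂₂
  rw [← hM, Matrix.det_transpose, Fintype.card_fin] at hdet
  refine ⟨b, (LinearMap.BilinForm.toMatrix b B).toBlocks₁₂.det, ?_, ?_⟩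
  · intro h0
    have hne := (LinearMap.BilinForm.nondegenerate_iff_det_ne_zero b).mp hN
    rw [hdet, h0] at hne
    simp at hne
  · rw [hdet]; ring

end lagr_disc

end Cfsg.Agent.Lib.Helper14
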