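import Mathlib
import Cfsg.Prelude.Def_Classical
import Cfsg.Agent.Lib.Helper14.FiniteQuad3
set_option autoImplicit false
open Module

namespace Cfsg.Agent.Lib.Helper14

/-- A "quadratic function" `Q` with polar form `B`. -/
structure QSys {F V : Type*} [Field F] [AddCommGroup V] [Module F V]
    (Q : V → F) (B : LinearMap.BilinForm F V) : Prop where
  add : ∀ x y, Q (x + y) = Q x + Q y + B x y
  smul : ∀ (c : F) x, Q (c • x) = c ^ 2 * Q x
  nondeg : B.Nondegenerate
  symm : ∀ x y, B x y = B y x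

namespace QSys
variable {F V : Type*} [Field F] [AddCommGroup V] [Module F V]
variable {Q : V → F} {B : LinearMap.BilinForm F V} (h : QSys Q B)
include h

theorem map_zero : Q 0 = 0 := by
  have := h.smul 0 0
  simpa using this

theorem self : ∀ x, B x x = 2 * Q x := by
  intro x
  have h1 := h.add x x
  have h2 := h.smul 2 x
  rw [two_smul] at h2
  rw [h2] at h1
  linear_combination -h1

theorem isRefl : B.IsRefl := fun x y hxy => by rw [h.symm, hxy]

theorem polar_eq_zero (W : Submodule F V) (hW : ∀ w ∈ W, Q w = 0) :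
    ∀ x ∈ W, ∀ y ∈ W, B x y = 0 := by
  intro x hx y hy
  have := h.add x y
  rw [hW _ (W.add_mem hx hy), hW x hx, hW y hy] at this
  linear_combination -this

theorem le_orthogonal (W : Submodule F V) (hW : ∀ w ∈ W, Q w = 0) : W ≤ B.orthogonal W :=
  fun x hx y hy => h.polar_eq_zero W hW y hy x hx

theorem map_sub_smul (a w : V) (c : F) : Q (a - c • w) = Q a + c ^ 2 * Q w - c * B a w := by
  have := h.add a (-(c • w))
  rw [← sub_eq_add_neg] at this
  rw [this]
  have h2 : Q (-(c • w)) = c ^ 2 * Q w := by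
    rw [← neg_smul, h.smul]; ring
  rw [h2]
  simp only [map_neg, map_smul, smul_eq_mul]
  ring

/-- singular vectors `w`, `z` with `B w z = 1` spanning a hyperbolic plane: `Q (u + a w + b z) = a b`
for `u` singular and orthogonal to both. -/
theorem map_hyp (u w z : V) (a b : F) (hu : Q u = 0) (hw : Q w = 0) (hz : Q z = 0)
    (huw : B u w = 0) (huz : B u z = 0) (hwz : B w z = 1) :
    Q (u + a • w + b • z) = a * b := by
  rw [h.add, h.add, h.smul, h.smul, hu, hw, hz]
  simp only [map_add, map_smul, LinearMap.add_apply, LinearMap.smul_apply, smul_eq_mul, huw, huz, hwz]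
  ring

theorem ts_sup_span (U : Submodule F V) (hU : ∀ u ∈ U, Q u = 0) (x : V) (hx : x ∈ B.orthogonal U)
    (hQx : Q x = 0) : ∀ w ∈ U ⊔ Submodule.span F {x}, Q w = 0 := by
  intro w hw
  obtain ⟨u, hu, s, hs, rfl⟩ := Submodule.mem_sup.mp hw
  obtain ⟨c, rfl⟩ := Submodule.mem_span_singleton.mp hs
  rw [h.add, h.smul, hU u hu, hQx]
  simp only [map_smul, smul_eq_mul]
  rw [hx u hu]; ring

omit h in
theorem finrank_sup_span [FiniteDimensional F V] (U : Submodule F V) (x : V) (hx : x ∉ U) :
    finrank F ↥(U ⊔ Submodule.span F {x}) = finrank F U + 1 := by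
  have hx0 : x ≠ 0 := fun h0 => hx (h0 ▸ U.zero_mem)
  have hdisj : Disjoint U (Submodule.span F {x}) :=
    (Submodule.disjoint_span_singleton' hx0).mpr hx
  have := Submodule.finrank_sup_add_finrank_inf_eq U (Submodule.span F {x})
  rw [hdisj.eq_bot, finrank_bot, add_zero, finrank_span_singleton hx0] at this
  exact this

variable [FiniteDimensional F V]

theorem orthogonal_sup_eq (L U : Submodule F V) :
    B.orthogonal (L ⊔ U) = B.orthogonal L ⊓ B.orthogonal U := by
  apply le_antisymm
  · exact le_inf (LinearMap.BilinForm.orthogonal_le le_sup_left)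
      (LinearMap.BilinForm.orthogonal_le le_sup_right)
  · rintro x ⟨hxL, hxU⟩ y hy
    obtain ⟨l, hl, u, hu, rfl⟩ := Submodule.mem_sup.mp hy
    show B (l + u) x = 0
    rw [map_add, LinearMap.add_apply, hxL l hl, hxU u hu, add_zero]

theorem exists_singular (m : ℕ) (hV : finrank F V = 2 * m) (L : Submodule F V)
    (hL : finrank F L = m) (hLs : ∀ l ∈ L, Q l = 0)
    (U : Submodule F V) (hU : finrank F U + 1 = m) (hUs : ∀ u ∈ U, Q u = 0) :
    ∃ w ∈ B.orthogonal U, w ∉ U ∧ Q w = 0 := by
  by_contra hcon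
  push Not at hcon
  have hLperp : B.orthogonal L = L := by
    symm
    apply Submodule.eq_of_le_of_finrank_eq (h.le_orthogonal L hLs)
    rw [LinearMap.BilinForm.finrank_orthogonal h.nondeg, hV, hL]; omega
  have hle : B.orthogonal (L ⊔ U) ≤ L ⊓ U := by
    rw [h.orthogonal_sup_eq, hLperp]
    rintro x ⟨hxL, hxU⟩
    refine ⟨hxL, ?_⟩
    by_contra hxU'
    exact hcon x hxU hxU' (hLs x hxL)
  have h1 := Submodule.finrank_mono hle
  rw [LinearMap.BilinForm.finrank_orthogonal h.nondeg, hV] at h1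
  have h2 := Submodule.finrank_sup_add_finrank_inf_eq L U
  have h3 : finrank F ↥(L ⊔ U) ≤ 2 * m := hV ▸ Submodule.finrank_le _
  omega

/-- hyperbolic pair in `U^⊥` -/
theorem exists_hyp_pair (m : ℕ) (hV : finrank F V = 2 * m) (L : Submodule F V)
    (hL : finrank F L = m) (hLs : ∀ l ∈ L, Q l = 0)
    (U : Submodule F V) (hU : finrank F U + 1 = m) (hUs : ∀ u ∈ U, Q u = 0) :
    ∃ w ∈ B.orthogonal U, ∃ z ∈ B.orthogonal U, Q w = 0 ∧ Q z = 0 ∧ B w z = 1 := by
  obtain ⟨w, hwU, hwnU, hQw⟩ := h.exists_singular m hV L hL hLs U hU hUs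
  have hex : ∃ z ∈ B.orthogonal U, B z w ≠ 0 := by
    by_contra hcon
    push Not at hcon
    apply hwnU
    rw [← LinearMap.BilinForm.orthogonal_orthogonal h.nondeg h.isRefl U]
    exact fun z hz => hcon z hz
  obtain ⟨z, hzU, hzw⟩ := hex
  -- normalise
  obtain ⟨z₁, hz₁U, hz₁w⟩ : ∃ z₁ ∈ B.orthogonal U, B z₁ w = 1 := by
    refine ⟨(B z w)⁻¹ • z, Submodule.smul_mem _ _ hzU, ?_⟩
    rw [map_smul, LinearMap.smul_apply, smul_eq_mul, inv_mul_cancel₀ hzw]
  refine ⟨w, hwU, z₁ - Q z₁ • w, Submodule.sub_mem _ hz₁U (Submodule.smul_mem _ _ hwU), hQw, ?_, ?_⟩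
  · rw [h.map_sub_smul, hQw, hz₁w]; ring
  · rw [map_sub, map_smul, h.self w, hQw, h.symm w z₁, hz₁w]; simp

theorem card_two (m : ℕ) (hV : finrank F V = 2 * m) (L : Submodule F V)
    (hL : finrank F L = m) (hLs : ∀ l ∈ L, Q l = 0)
    (U : Submodule F V) (hU : finrank F U + 1 = m) (hUs : ∀ u ∈ U, Q u = 0) :
    Nat.card {W : Submodule F V // finrank F W = m ∧ (∀ w ∈ W, Q w = 0) ∧ U ≤ W} = 2 := by
  obtain ⟨w, hwU, z, hzU, hQw, hQz, hwz⟩ := h.exists_hyp_pair m hV L hL hLs U hU hUs
  have hUperp : finrank F (B.orthogonal U) = m + 1 := by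
    rw [LinearMap.BilinForm.finrank_orthogonal h.nondeg, hV]; omega
  have hww : B w w = 0 := by rw [h.self, hQw, mul_zero]
  have hzz : B z z = 0 := by rw [h.self, hQz, mul_zero]
  have hzw : B z w = 1 := by rw [h.symm, hwz]
  -- B w vanishes on U ⊔ span{w}
  have hW₁perp : ∀ y ∈ U ⊔ Submodule.span F {w}, B w y = 0 := by
    intro y hy
    obtain ⟨u, hu, s, hs, rfl⟩ := Submodule.mem_sup.mp hy
    obtain ⟨c, rfl⟩ := Submodule.mem_span_singleton.mp hs
    rw [map_add, map_smul, hww, h.symm w u, hwU u hu]; simp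
  have hwnU : w ∉ U := by
    intro hw
    have := hzU w hw
    rw [hwz] at this
    exact one_ne_zero this
  have hznW₁ : z ∉ U ⊔ Submodule.span F {w} := by
    intro hz
    have := hW₁perp z hz
    rw [hwz] at this
    exact one_ne_zero this
  have hznU : z ∉ U := fun hz => hznW₁ (le_sup_left (a := U) hz)
  have hW₁ts := h.ts_sup_span U hUs w hwU hQw
  have hW₂ts := h.ts_sup_span U hUs z hzU hQz
  have hW₁fr : finrank F ↥(U ⊔ Submodule.span F {w}) = m := by
    rw [finrank_sup_span U w hwnU, hU]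
  have hW₂fr : finrank F ↥(U ⊔ Submodule.span F {z}) = m := by
    rw [finrank_sup_span U z hznU, hU]
  -- U^⊥ = U ⊔ span w ⊔ span z
  have hT : U ⊔ Submodule.span F {w} ⊔ Submodule.span F {z} = B.orthogonal U := by
    apply Submodule.eq_of_le_of_finrank_eq
    · refine sup_le (sup_le (h.le_orthogonal U hUs) ?_) ?_
      · rw [Submodule.span_singleton_le_iff_mem]; exact hwU
      · rw [Submodule.span_singleton_le_iff_mem]; exact hzU
    · rw [finrank_sup_span _ z hznW₁, hW₁fr, hUperp]
  rw [Nat.card_eq_two_iff]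
  refine ⟨⟨U ⊔ Submodule.span F {w}, hW₁fr, hW₁ts, le_sup_left⟩,
    ⟨U ⊔ Submodule.span F {z}, hW₂fr, hW₂ts, le_sup_left⟩, ?_, ?_⟩
  · intro heq
    have : U ⊔ Submodule.span F {w} = U ⊔ Submodule.span F {z} := congrArg Subtype.val heq
    apply hznW₁
    rw [this]
    exact le_sup_right (a := U) (Submodule.mem_span_singleton_self z)
  · rw [Set.eq_univ_iff_forall]
    rintro ⟨W, hWfr, hWts, hUW⟩
    -- W ≤ U^⊥
    have hWperp : W ≤ B.orthogonal U := by
      intro x hx u hu
      exact h.polar_eq_zero W hWts u (hUW hu) x hx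
    -- pick x ∈ W \ U
    obtain ⟨x, hxW, hxU⟩ : ∃ x ∈ W, x ∉ U := by
      by_contra hcon
      push Not at hcon
      have : W ≤ U := hcon
      have := Submodule.finrank_mono this
      omega
    have hxT : x ∈ U ⊔ Submodule.span F {w} ⊔ Submodule.span F {z} := by
      rw [hT]; exact hWperp hxW
    obtain ⟨y, hy, s, hs, hyx⟩ := Submodule.mem_sup.mp hxT
    obtain ⟨u, hu, s', hs', huy⟩ := Submodule.mem_sup.mp hy
    obtain ⟨b, rfl⟩ := Submodule.mem_span_singleton.mp hs
    obtain ⟨a, rfl⟩ := Submodule.mem_span_singleton.mp hs'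
    have hQx : Q x = a * b := by
      rw [← hyx, ← huy]
      exact h.map_hyp u w z a b (hUs u hu) hQw hQz (hwU u hu) (hzU u hu) hwz
    rw [hWts x hxW] at hQx
    have hab : a = 0 ∨ b = 0 := by
      rcases mul_eq_zero.mp hQx.symm with h0 | h0
      · exact Or.inl h0
      · exact Or.inr h0
    simp only [Set.mem_insert_iff, Set.mem_singleton_iff, Subtype.mk.injEq]
    rcases hab with ha | hb
    · -- a = 0: x = u + b z, b ≠ 0, so z ∈ W
      right
      symm
      apply Submodule.eq_of_le_of_finrank_eq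
      · refine sup_le hUW ?_
        rw [Submodule.span_singleton_le_iff_mem]
        have hb0 : b ≠ 0 := by
          rintro rfl
          apply hxU
          rw [← hyx, ← huy, ha]; simpa using hu
        have : z = b⁻¹ • (x - u) := by
          rw [← hyx, ← huy, ha]; simp [hb0]
        rw [this]
        exact W.smul_mem _ (W.sub_mem hxW (hUW hu))
      · rw [hW₂fr, hWfr]
    · left
      symm
      apply Submodule.eq_of_le_of_finrank_eq
      · refine sup_le hUW ?_
        rw [Submodule.span_singleton_le_iff_mem]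
        have ha0 : a ≠ 0 := by
          rintro rfl
          apply hxU
          rw [← hyx, ← huy, hb]; simpa using hu
        have : w = a⁻¹ • (x - u) := by
          rw [← hyx, ← huy, hb]; simp [ha0]
        rw [this]
        exact W.smul_mem _ (W.sub_mem hxW (hUW hu))
      · rw [hW₁fr, hWfr]

end QSys

section plus
variable (m : ℕ) (F : Type*) [Field F]

/-- polar form of `quadFormPlus` -/
noncomputable def polarPlus : LinearMap.BilinForm F (Fin m ⊕ Fin m → F) :=
  Matrix.toBilin' (Matrix.fromBlocks (0 : Matrix (Fin m) (Fin m) F) (1 : Matrix (Fin m) (Fin m) F)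
    (1 : Matrix (Fin m) (Fin m) F) (0 : Matrix (Fin m) (Fin m) F))

theorem polarPlus_apply (x y : Fin m ⊕ Fin m → F) :
    polarPlus m F x y = ∑ i, x (.inl i) * y (.inr i) + ∑ i, x (.inr i) * y (.inl i) := by
  unfold polarPlus
  rw [Matrix.toBilin'_apply', dotProduct, Fintype.sum_sum_type, Matrix.fromBlocks_mulVec]
  simp

theorem polarPlus_nondeg : (polarPlus m F).Nondegenerate := by
  apply LinearMap.BilinForm.nondegenerate_toBilin'_of_det_ne_zero'
  rw [det_fromBlocks_swap]
  exact pow_ne_zero _ (by simp)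

theorem qsys_plus : QSys (Cfsg.quadFormPlus m F) (polarPlus m F) where
  add x y := by
    rw [polarPlus_apply]
    simp only [Cfsg.quadFormPlus, Pi.add_apply]
    rw [← Finset.sum_add_distrib, ← Finset.sum_add_distrib, ← Finset.sum_add_distrib]
    apply Finset.sum_congr rfl
    intro i _
    ring
  smul c x := by
    simp only [Cfsg.quadFormPlus, Pi.smul_apply, smul_eq_mul]
    rw [Finset.mul_sum]
    apply Finset.sum_congr rfl
    intro i _
    ring
  nondeg := polarPlus_nondeg m F
  symm x y := by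
    rw [polarPlus_apply, polarPlus_apply, add_comm]
    congr 1 <;> (apply Finset.sum_congr rfl; intro i _; ring)

/-- the standard maximal totally singular subspace -/
def stdL : Submodule F (Fin m ⊕ Fin m → F) :=
  LinearMap.ker (LinearMap.funLeft F F (Sum.inr : Fin m → Fin m ⊕ Fin m))

theorem mem_stdL (x : Fin m ⊕ Fin m → F) : x ∈ stdL m F ↔ ∀ i, x (.inr i) = 0 := by
  unfold stdL
  rw [LinearMap.mem_ker]
  constructor
  · intro h i
    exact congrFun h i
  · intro h
    ext i
    exact h i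

theorem stdL_singular : ∀ l ∈ stdL m F, Cfsg.quadFormPlus m F l = 0 := by
  intro l hl
  rw [mem_stdL] at hl
  simp [Cfsg.quadFormPlus, hl]

theorem finrank_stdL : finrank F (stdL m F) = m := by
  have h1 := LinearMap.finrank_range_add_finrank_ker
    (LinearMap.funLeft F F (Sum.inr : Fin m → Fin m ⊕ Fin m))
  have hsurj : Function.Surjective (LinearMap.funLeft F F (Sum.inr : Fin m → Fin m ⊕ Fin m)) :=
    LinearMap.funLeft_surjective_of_injective F F _ Sum.inr_injective
  rw [LinearMap.range_eq_top.mpr hsurj, finrank_top, Module.finrank_fintype_fun_eq_card,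
    Module.finrank_fintype_fun_eq_card, Fintype.card_sum, Fintype.card_fin] at h1
  unfold stdL
  omega

theorem finrank_plus : finrank F (Fin m ⊕ Fin m → F) = 2 * m := by
  rw [Module.finrank_fintype_fun_eq_card, Fintype.card_sum, Fintype.card_fin]; ring

end plus

end Cfsg.Agent.Lib.Helper14
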