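import Mathlib
import Cfsg.Agent.Lib.Helper14.HypQuad
set_option autoImplicit false
open Module

namespace Cfsg.Agent.Lib.Helper14

namespace QSys
variable {F V : Type*} [Field F] [AddCommGroup V] [Module F V] [FiniteDimensional F V]
variable {Q : V → F} {B : LinearMap.BilinForm F V} (h : QSys Q B)
include h

/-- maximal totally singular subspaces are self-orthogonal -/
theorem orthogonal_eq_self (m : ℕ) (hV : finrank F V = 2 * m) (L : Submodule F V)
    (hL : finrank F L = m) (hLs : ∀ l ∈ L, Q l = 0) : B.orthogonal L = L := by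
  symm
  apply Submodule.eq_of_le_of_finrank_eq (h.le_orthogonal L hLs)
  rw [LinearMap.BilinForm.finrank_orthogonal h.nondeg, hV, hL]; omega

/-- the two maximal totally singular subspaces through a submaximal one -/
theorem eq_or_eq_of_le (m : ℕ) (hV : finrank F V = 2 * m)
    (D : Submodule F V) (hD : finrank F D + 1 = m) (hDs : ∀ u ∈ D, Q u = 0)
    (U W Y : Submodule F V)
    (hU : finrank F U = m) (hUs : ∀ l ∈ U, Q l = 0) (hDU : D ≤ U)
    (hW : finrank F W = m) (hWs : ∀ l ∈ W, Q l = 0) (hDW : D ≤ W)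
    (hY : finrank F Y = m) (hYs : ∀ l ∈ Y, Q l = 0) (hDY : D ≤ Y)
    (hUW : U ≠ W) : Y = U ∨ Y = W := by
  have hcard := h.card_two m hV U hU hUs D hD hDs
  rw [Nat.card_eq_two_iff] at hcard
  obtain ⟨x, y, _, hxy⟩ := hcard
  let S := {W : Submodule F V // finrank F W = m ∧ (∀ w ∈ W, Q w = 0) ∧ D ≤ W}
  have hmem : ∀ s : S, s = x ∨ s = y := by
    intro s
    have : s ∈ ({x, y} : Set S) := by rw [hxy]; exact Set.mem_univ s
    simpa using this
  have hU' := hmem ⟨U, hU, hUs, hDU⟩
  have hW' := hmem ⟨W, hW, hWs, hDW⟩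
  have hY' := hmem ⟨Y, hY, hYs, hDY⟩
  have e : ∀ (A A' : Submodule F V) (hA : finrank F A = m ∧ (∀ w ∈ A, Q w = 0) ∧ D ≤ A)
      (hA' : finrank F A' = m ∧ (∀ w ∈ A', Q w = 0) ∧ D ≤ A') (s : S),
      (⟨A, hA⟩ : S) = s → (⟨A', hA'⟩ : S) = s → A = A' := by
    intro A A' hA hA' s h1 h2
    exact congrArg Subtype.val (h1.trans h2.symm)
  rcases hU' with hU' | hU' <;> rcases hW' with hW' | hW' <;> rcases hY' with hY' | hY'
  · exact absurd (e U W _ _ x hU' hW') hUW
  · exact absurd (e U W _ _ x hU' hW') hUW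
  · left; exact e Y U _ _ x hY' hU'
  · right; exact e Y W _ _ y hY' hW'
  · right; exact e Y W _ _ x hY' hW'
  · left; exact e Y U _ _ y hY' hU'
  · exact absurd (e U W _ _ y hU' hW') hUW
  · exact absurd (e U W _ _ y hU' hW') hUW

/-- key lemma: for adjacent maximal totally singular `U`, `W` and any maximal totally singular `X`,
the dimensions of `X ⊓ U` and `X ⊓ W` differ by exactly one. -/
theorem adjacent_step (m : ℕ) (hV : finrank F V = 2 * m) (U W X : Submodule F V)
    (hU : finrank F U = m) (hUs : ∀ l ∈ U, Q l = 0)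
    (hW : finrank F W = m) (hWs : ∀ l ∈ W, Q l = 0)
    (hX : finrank F X = m) (hXs : ∀ l ∈ X, Q l = 0)
    (hadj : finrank F ↥(U ⊓ W) + 1 = m) :
    finrank F ↥(X ⊓ U) = finrank F ↥(X ⊓ W) + 1 ∨ finrank F ↥(X ⊓ W) = finrank F ↥(X ⊓ U) + 1 := by
  set D := U ⊓ W with hDdef
  have hDs : ∀ u ∈ D, Q u = 0 := fun u hu => hUs u hu.1
  have hDU : D ≤ U := inf_le_left
  have hDW : D ≤ W := inf_le_right
  have hUW : U ≠ W := by
    intro heq
    rw [hDdef, heq, inf_idem, hW] at hadj
    omega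
  have hXperp := h.orthogonal_eq_self m hV X hX hXs
  have hUperp := h.orthogonal_eq_self m hV U hU hUs
  have hWperp := h.orthogonal_eq_self m hV W hW hWs
  have hUD : U ≤ B.orthogonal D := by
    rw [← hUperp]; exact LinearMap.BilinForm.orthogonal_le hDU
  have hWD : W ≤ B.orthogonal D := by
    rw [← hWperp]; exact LinearMap.BilinForm.orthogonal_le hDW
  have hDD : D ≤ B.orthogonal D := h.le_orthogonal D hDs
  -- dimension of X ⊓ D^⊥
  have hk : finrank F ↥(X ⊓ B.orthogonal D) = finrank F ↥(X ⊓ D) + 1 := by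
    have h1 : B.orthogonal (X ⊔ D) = X ⊓ B.orthogonal D := by
      rw [h.orthogonal_sup_eq, hXperp]
    have h2 := LinearMap.BilinForm.finrank_orthogonal h.nondeg (X ⊔ D)
    rw [h1, hV] at h2
    have h3 := Submodule.finrank_sup_add_finrank_inf_eq X D
    have h4 : finrank F ↥(X ⊔ D) ≤ 2 * m := hV ▸ Submodule.finrank_le _
    omega
  set Y := (X ⊓ B.orthogonal D) ⊔ D with hYdef
  have hYs : ∀ y ∈ Y, Q y = 0 := by
    intro y hy
    obtain ⟨x, hx, d, hd, rfl⟩ := Submodule.mem_sup.mp hy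
    rw [h.add, hXs x hx.1, hDs d hd, h.symm, hx.2 d hd]; simp
  have hYfr : finrank F Y = m := by
    have h1 := Submodule.finrank_sup_add_finrank_inf_eq (X ⊓ B.orthogonal D) D
    have h2 : (X ⊓ B.orthogonal D) ⊓ D = X ⊓ D := by
      rw [inf_assoc, inf_eq_right.mpr hDD]
    rw [h2, ← hYdef] at h1
    omega
  have hDY : D ≤ Y := le_sup_right
  rcases h.eq_or_eq_of_le m hV D hadj hDs U W Y hU hUs hDU hW hWs hDW hYfr hYs hDY hUW with hYU | hYW
  · left
    have hle : X ⊓ B.orthogonal D ≤ U := hYU ▸ le_sup_left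
    have e1 : X ⊓ U = X ⊓ B.orthogonal D :=
      le_antisymm (le_inf inf_le_left (inf_le_right.trans hUD)) (le_inf inf_le_left hle)
    have e2 : X ⊓ W = X ⊓ D := by
      apply le_antisymm
      · refine le_inf inf_le_left (le_inf ?_ inf_le_right)
        exact (le_inf inf_le_left (inf_le_right.trans hWD)).trans hle
      · exact le_inf inf_le_left (inf_le_right.trans hDW)
    rw [e1, e2, hk]
  · right
    have hle : X ⊓ B.orthogonal D ≤ W := hYW ▸ le_sup_left
    have e1 : X ⊓ W = X ⊓ B.orthogonal D :=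
      le_antisymm (le_inf inf_le_left (inf_le_right.trans hWD)) (le_inf inf_le_left hle)
    have e2 : X ⊓ U = X ⊓ D := by
      apply le_antisymm
      · refine le_inf inf_le_left (le_inf inf_le_right ?_)
        exact (le_inf inf_le_left (inf_le_right.trans hUD)).trans hle
      · exact le_inf inf_le_left (inf_le_right.trans hDU)
    rw [e1, e2, hk]

end QSys

end Cfsg.Agent.Lib.Helper14
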