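import Mathlib
import Cfsg.Agent.Lib.Helper14.HypQuad2
set_option autoImplicit false
open Module

namespace Cfsg.Agent.Lib.Helper14

namespace QSys
variable {F V : Type*} [Field F] [AddCommGroup V] [Module F V] [FiniteDimensional F V]
variable {Q : V → F} {B : LinearMap.BilinForm F V} (h : QSys Q B)
include h

/-- from `U ≠ W` maximal totally singular, get `U'` adjacent to `U` and one step closer to `W`. -/
theorem exists_closer (m : ℕ) (hV : finrank F V = 2 * m) (U W : Submodule F V)
    (hU : finrank F U = m) (hUs : ∀ l ∈ U, Q l = 0)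
    (hW : finrank F W = m) (hWs : ∀ l ∈ W, Q l = 0)
    (hne : finrank F ↥(U ⊓ W) < m) :
    ∃ U' : Submodule F V, finrank F U' = m ∧ (∀ l ∈ U', Q l = 0) ∧
      finrank F ↥(U ⊓ U') + 1 = m ∧ finrank F ↥(U' ⊓ W) = finrank F ↥(U ⊓ W) + 1 := by
  have hUperp := h.orthogonal_eq_self m hV U hU hUs
  -- pick w ∈ W \ U
  obtain ⟨w, hwW, hwU⟩ : ∃ w ∈ W, w ∉ U := by
    by_contra hcon
    push Not at hcon
    have hWU : W ≤ U := hcon
    have : U ⊓ W = W := inf_eq_right.mpr hWU
    rw [this, hW] at hne
    omega
  have hQw : Q w = 0 := hWs w hwW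
  have hw0 : w ≠ 0 := fun h0 => hwU (h0 ▸ U.zero_mem)
  set H := B.orthogonal (Submodule.span F {w}) with hH
  have hHfr : finrank F H = 2 * m - 1 := by
    rw [hH, LinearMap.BilinForm.finrank_orthogonal h.nondeg, hV, finrank_span_singleton hw0]
  have hmemH : ∀ x, x ∈ H ↔ B w x = 0 := by
    intro x
    rw [hH, LinearMap.BilinForm.mem_orthogonal_iff]
    constructor
    · intro hx; exact hx w (Submodule.mem_span_singleton_self w)
    · intro hx n hn
      obtain ⟨c, rfl⟩ := Submodule.mem_span_singleton.mp hn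
      rw [map_smul, LinearMap.smul_apply, hx, smul_zero]
  have hUH : ¬ U ≤ H := by
    intro hle
    apply hwU
    rw [← hUperp]
    intro u hu
    have := (hmemH u).mp (hle hu)
    rw [h.symm]; exact this
  set D := U ⊓ H with hDdef
  have hDfr : finrank F D + 1 = m := by
    have h1 := Submodule.finrank_sup_add_finrank_inf_eq U H
    have h2 : finrank F ↥(U ⊔ H) ≤ 2 * m := hV ▸ Submodule.finrank_le _
    have h3 : finrank F H < finrank F ↥(U ⊔ H) := by
      apply Submodule.finrank_lt_finrank_of_lt
      apply lt_of_le_of_ne le_sup_right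
      intro heq
      apply hUH
      rw [heq]; exact le_sup_left
    have h4 : finrank F ↥(U ⊓ H) ≤ finrank F U := Submodule.finrank_mono inf_le_left
    have h5 : finrank F ↥(U ⊓ H) ≠ finrank F U := by
      intro heq
      apply hUH
      have : U ⊓ H = U := Submodule.eq_of_le_of_finrank_eq inf_le_left heq
      rw [← this]; exact inf_le_right
    rw [← hDdef] at h1
    omega
  have hDs : ∀ d ∈ D, Q d = 0 := fun d hd => hUs d hd.1
  have hwD : w ∈ B.orthogonal D := by
    intro d hd
    have := (hmemH d).mp hd.2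
    rw [h.symm]; exact this
  have hwnD : w ∉ D := fun hw => hwU hw.1
  refine ⟨D ⊔ Submodule.span F {w}, ?_, h.ts_sup_span D hDs w hwD hQw, ?_, ?_⟩
  · rw [finrank_sup_span D w hwnD]; exact hDfr
  · -- U ⊓ U' has dimension m - 1
    have hle : D ≤ U ⊓ (D ⊔ Submodule.span F {w}) := le_inf inf_le_left le_sup_left
    have h1 := Submodule.finrank_mono hle
    have h2 : finrank F ↥(U ⊓ (D ⊔ Submodule.span F {w})) ≤ finrank F U :=
      Submodule.finrank_mono inf_le_left
    have h3 : finrank F ↥(U ⊓ (D ⊔ Submodule.span F {w})) ≠ finrank F U := by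
      intro heq
      have : U ⊓ (D ⊔ Submodule.span F {w}) = U := Submodule.eq_of_le_of_finrank_eq inf_le_left heq
      have hUle : U ≤ D ⊔ Submodule.span F {w} := by rw [← this]; exact inf_le_right
      have hfr : finrank F ↥(D ⊔ Submodule.span F {w}) = m := by
        rw [finrank_sup_span D w hwnD]; exact hDfr
      have : U = D ⊔ Submodule.span F {w} :=
        Submodule.eq_of_le_of_finrank_eq hUle (by rw [hU, hfr])
      apply hwU
      rw [this]
      exact le_sup_right (a := D) (Submodule.mem_span_singleton_self w)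
    omega
  · -- the new subspace is closer to W
    have hfrU' : finrank F ↥(D ⊔ Submodule.span F {w}) = m := by
      rw [finrank_sup_span D w hwnD]; exact hDfr
    have hU'ts := h.ts_sup_span D hDs w hwD hQw
    have hadj : finrank F ↥(U ⊓ (D ⊔ Submodule.span F {w})) + 1 = m := by
      have hle : D ≤ U ⊓ (D ⊔ Submodule.span F {w}) := le_inf inf_le_left le_sup_left
      have h1 := Submodule.finrank_mono hle
      have h2 : finrank F ↥(U ⊓ (D ⊔ Submodule.span F {w})) ≤ finrank F U :=
        Submodule.finrank_mono inf_le_left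
      have h3 : finrank F ↥(U ⊓ (D ⊔ Submodule.span F {w})) ≠ finrank F U := by
        intro heq
        have : U ⊓ (D ⊔ Submodule.span F {w}) = U := Submodule.eq_of_le_of_finrank_eq inf_le_left heq
        have hUle : U ≤ D ⊔ Submodule.span F {w} := by rw [← this]; exact inf_le_right
        have : U = D ⊔ Submodule.span F {w} :=
          Submodule.eq_of_le_of_finrank_eq hUle (by rw [hU, hfrU'])
        apply hwU
        rw [this]
        exact le_sup_right (a := D) (Submodule.mem_span_singleton_self w)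
      omega
    have hstep := h.adjacent_step m hV U (D ⊔ Submodule.span F {w}) W hU hUs hfrU' hU'ts hW hWs hadj
    -- lower bound
    have hUWH : U ⊓ W ≤ D := by
      refine le_inf inf_le_left ?_
      intro x hx
      rw [hmemH]
      exact h.polar_eq_zero W hWs w hwW x hx.2
    have hlow : (U ⊓ W) ⊔ Submodule.span F {w} ≤ (D ⊔ Submodule.span F {w}) ⊓ W := by
      apply sup_le
      · exact le_inf (hUWH.trans le_sup_left) inf_le_right
      · rw [Submodule.span_singleton_le_iff_mem]
        exact ⟨le_sup_right (a := D) (Submodule.mem_span_singleton_self w), hwW⟩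
    have hlow' := Submodule.finrank_mono hlow
    rw [finrank_sup_span (U ⊓ W) w (fun hw => hwU hw.1)] at hlow'
    rw [inf_comm W U, inf_comm W (D ⊔ Submodule.span F {w})] at hstep
    omega

/-- the parity theorem -/
theorem parity (m : ℕ) (hV : finrank F V = 2 * m) :
    ∀ (c : ℕ) (U W X : Submodule F V),
    (finrank F U = m ∧ ∀ l ∈ U, Q l = 0) → (finrank F W = m ∧ ∀ l ∈ W, Q l = 0) →
    (finrank F X = m ∧ ∀ l ∈ X, Q l = 0) → m - finrank F ↥(U ⊓ W) = c →
    Even ((m - finrank F ↥(U ⊓ W)) + (m - finrank F ↥(W ⊓ X)) + (m - finrank F ↥(U ⊓ X))) := by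
  intro c
  induction c with
  | zero =>
    intro U W X hU hW hX hc
    have h1 : finrank F ↥(U ⊓ W) ≤ finrank F U := Submodule.finrank_mono inf_le_left
    have h2 : finrank F ↥(U ⊓ W) = m := by omega
    have e1 : U ⊓ W = U := Submodule.eq_of_le_of_finrank_eq inf_le_left (by rw [h2, hU.1])
    have e2 : U ⊓ W = W := Submodule.eq_of_le_of_finrank_eq inf_le_right (by rw [h2, hW.1])
    have : U = W := e1.symm.trans e2
    subst this
    rw [inf_idem, hU.1]
    simp only [Nat.sub_self, zero_add]
    exact Even.add_self _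
  | succ c ih =>
    intro U W X hU hW hX hc
    have hne : finrank F ↥(U ⊓ W) < m := by omega
    obtain ⟨U', hU'fr, hU's, hadj, hcl⟩ := h.exists_closer m hV U W hU.1 hU.2 hW.1 hW.2 hne
    have hih := ih U' W X ⟨hU'fr, hU's⟩ hW hX (by omega)
    have hstep := h.adjacent_step m hV U U' X hU.1 hU.2 hU'fr hU's hX.1 hX.2 hadj
    rw [inf_comm X U, inf_comm X U'] at hstep
    have b1 : finrank F ↥(U ⊓ X) ≤ m := hU.1 ▸ Submodule.finrank_mono inf_le_left
    have b2 : finrank F ↥(U' ⊓ X) ≤ m := hU'fr ▸ Submodule.finrank_mono inf_le_left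
    have b3 : finrank F ↥(W ⊓ X) ≤ m := hW.1 ▸ Submodule.finrank_mono inf_le_left
    have b4 : finrank F ↥(U' ⊓ W) ≤ m := hU'fr ▸ Submodule.finrank_mono inf_le_left
    rw [Nat.even_iff] at hih ⊢
    omega

end QSys

section plus
variable (m : ℕ) (F : Type*) [Field F]

/-- the opposite standard maximal totally singular subspace -/
def stdL' : Submodule F (Fin m ⊕ Fin m → F) :=
  LinearMap.ker (LinearMap.funLeft F F (Sum.inl : Fin m → Fin m ⊕ Fin m))

theorem mem_stdL' (x : Fin m ⊕ Fin m → F) : x ∈ stdL' m F ↔ ∀ i, x (.inl i) = 0 := by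
  unfold stdL'
  rw [LinearMap.mem_ker]
  constructor
  · intro h i
    exact congrFun h i
  · intro h
    ext i
    exact h i

theorem stdL'_singular : ∀ l ∈ stdL' m F, Cfsg.quadFormPlus m F l = 0 := by
  intro l hl
  rw [mem_stdL'] at hl
  simp [Cfsg.quadFormPlus, hl]

theorem finrank_stdL' : finrank F (stdL' m F) = m := by
  have h1 := LinearMap.finrank_range_add_finrank_ker
    (LinearMap.funLeft F F (Sum.inl : Fin m → Fin m ⊕ Fin m))
  have hsurj : Function.Surjective (LinearMap.funLeft F F (Sum.inl : Fin m → Fin m ⊕ Fin m)) :=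
    LinearMap.funLeft_surjective_of_injective F F _ Sum.inl_injective
  rw [LinearMap.range_eq_top.mpr hsurj, finrank_top, Module.finrank_fintype_fun_eq_card,
    Module.finrank_fintype_fun_eq_card, Fintype.card_sum, Fintype.card_fin] at h1
  unfold stdL'
  omega

theorem stdL_inf_stdL' : stdL m F ⊓ stdL' m F = ⊥ := by
  rw [eq_bot_iff]
  rintro x ⟨h1, h2⟩
  rw [SetLike.mem_coe, mem_stdL] at h1
  rw [SetLike.mem_coe, mem_stdL'] at h2
  rw [Submodule.mem_bot]
  ext a
  rcases a with i | i
  · exact h2 i
  · exact h1 i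

end plus

end Cfsg.Agent.Lib.Helper14
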