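import Mathlib
import Cfsg.Prelude.Def_Classical
import Cfsg.Agent.Lib.Helper40.HermMatrix
import Cfsg.Agent.Lib.Helper2.BGLin

/-!
# S5953 hive ("Tu", owner helper14): definitions

`PSU_n(q)` acting on totally isotropic `m`-spaces: which primes `r` have all elements of order `r`
fixing a point.  `F` has `q ^ 2` elements, `τ = tauHom hF : a ↦ a ^ q`.

Abstract layer = `Cfsg.Agent.Lib.Helper40.Herm` (`HInv`, `HIsotropic`, `HNondegOn`, `IsHermitian`, `hperp`,
`stdHerm`, `hexists_isometry`, `htypeI_iso`, …) and `Cfsg.Agent.Lib.Helper2.BG` (`Inv`, `AllIrrDeg`,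
`exists_inv_compl_in`, `dvd_finrank_of_inv`, …).
-/

set_option autoImplicit false

namespace Cfsg.Agent.Lib.Helper14.Tu

open Cfsg.Agent.Lib.Helper40.Herm Cfsg.Agent.Lib.Helper2.BG

/-- the matrix `A` fixes a totally isotropic `m`-space of the standard hermitian space -/
def Fixes {F : Type*} [Field F] (n q m : ℕ) (A : Matrix (Fin n) (Fin n) F) : Prop :=
  ∃ W : Submodule F (Fin n → F), Module.finrank F ↥W = m ∧
    (∀ u ∈ W, ∀ v ∈ W, Cfsg.hermForm n F q u v = 0) ∧ W.map (Matrix.toLin' A) ≤ W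

/-- the set of totally isotropic `m`-spaces -/
abbrev Omega (F : Type*) [Field F] (n q m : ℕ) : Type _ :=
  {W : Submodule F (Fin n → F) // Module.finrank F ↥W = m ∧
    (∀ u ∈ W, ∀ v ∈ W, Cfsg.hermForm n F q u v = 0)}

/-- `b` = degree over `𝔽_{q²}` of the irreducible factors of `Φ_r`, from `i = ord_r(q)` -/
def bOf (i : ℕ) : ℕ := if Even i then i / 2 else i

/-- `c` = `ord_r(-q)` = smallest dimension of a nondegenerate space with an isometry of order `r`
without fixed vectors, from `i = ord_r(q)` -/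
def cOf (i : ℕ) : ℕ := if i % 4 = 0 then i else if i % 4 = 2 then i / 2 else 2 * i

/-- `x` is a "derangement of order `r`": in `SU`, `x ^ r` scalar, `x` not scalar, fixing no t.i. `m`-space -/
def IsBad {F : Type*} [Field F] (n q m r : ℕ) (x : Matrix.SpecialLinearGroup (Fin n) F) : Prop :=
  x ∈ Cfsg.SU n F q ∧
  (∃ z : F, ((x ^ r : Matrix.SpecialLinearGroup (Fin n) F) : Matrix (Fin n) (Fin n) F) =
      z • (1 : Matrix (Fin n) (Fin n) F)) ∧
  (∀ z : F, (x : Matrix (Fin n) (Fin n) F) ≠ z • (1 : Matrix (Fin n) (Fin n) F)) ∧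
  ¬ Fixes n q m (x : Matrix (Fin n) (Fin n) F)

section ctx
variable {F : Type*} [Field F] [Fintype F] {q : ℕ} {V : Type*} [AddCommGroup V] [Module F V]

/-- the abstract context: a hermitian form `H` for `τ = tauHom hF` and an isometry `g` with
`g ^ N = 1`, `N` invertible in `F` (so `g` is semisimple) -/
structure Ctx (hF : Fintype.card F = q ^ 2) (H : V →ₗ[F] V →ₛₗ[tauHom hF] F)
    (g : Module.End F V) (N : ℕ) : Prop where
  herm : IsHermitian H
  inv : HInv H g
  pos : 0 < N
  pow : g ^ N = 1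
  ne : (N : F) ≠ 0

end ctx

end Cfsg.Agent.Lib.Helper14.Tu
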