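import Mathlib
import Cfsg.Agent.Lib.Helper89.A5Sub
import Cfsg.Agent.Lib.Helper38.AltFive

set_option autoImplicit false

/-!
Counting the subgroups of a finite group isomorphic to `A₅` through `(3,5,2)`-generating pairs:
the number of pairs `(x, y)` with `x ≠ 1`, `x³ = y⁵ = (xy)² = 1` is `120` times the number of
subgroups isomorphic to `A₅`.
-/

namespace Cfsg.Agent.Lib.Helper14.A5Pairs

open Cfsg.Agent.Lib.Helper89 Cfsg.Agent.Lib.Helper89.A5Iso Cfsg.Agent.Lib.Helper89.A5Pres

/-- the alternating group of degree five -/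
abbrev A5 : Type := alternatingGroup (Fin 5)

/-- `(3,5,2)`-pairs -/
def IsPair {G : Type*} [Group G] (x y : G) : Prop :=
  x ≠ 1 ∧ x ^ 3 = 1 ∧ y ^ 5 = 1 ∧ (x * y) ^ 2 = 1

/-- the type of `(3,5,2)`-pairs -/
def Pairs (G : Type*) [Group G] : Type _ := {p : G × G // IsPair p.1 p.2}

theorem aA_pow : aA ^ 3 = 1 := by
  apply Subtype.ext
  rw [Subgroup.coe_pow]
  show a' ^ 3 = 1
  decide

theorem bA_pow : bA ^ 5 = 1 := by
  apply Subtype.ext
  rw [Subgroup.coe_pow]
  show b' ^ 5 = 1
  decide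

theorem ab_pow : (aA * bA) ^ 2 = 1 := by
  apply Subtype.ext
  rw [Subgroup.coe_pow, Subgroup.coe_mul]
  show (a' * b') ^ 2 = 1
  decide

theorem aA_ne : aA ≠ 1 := by
  intro h
  have := congrArg Subtype.val h
  revert this
  show a' ≠ 1
  decide

theorem isPair_gens : IsPair aA bA := ⟨aA_ne, aA_pow, bA_pow, ab_pow⟩

theorem a5PresEquiv_X : a5PresEquiv A5Iso.X = aA :=
  PresentedGroup.toGroup.of relA

theorem a5PresEquiv_Y : a5PresEquiv A5Iso.Y = bA :=
  PresentedGroup.toGroup.of relA

theorem a5Hom_aA {G : Type*} [Group G] (X Y : G) (h3 : X ^ 3 = 1) (h5 : Y ^ 5 = 1)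
    (h2 : (X * Y) ^ 2 = 1) : a5Hom X Y h3 h5 h2 aA = X := by
  have h : a5PresEquiv.symm aA = A5Iso.X := by
    rw [MulEquiv.symm_apply_eq, a5PresEquiv_X]
  show PresentedGroup.toGroup (a5_rels_hold X Y h3 h5 h2) (a5PresEquiv.symm aA) = X
  rw [h]
  exact PresentedGroup.toGroup.of (a5_rels_hold X Y h3 h5 h2)

theorem a5Hom_bA {G : Type*} [Group G] (X Y : G) (h3 : X ^ 3 = 1) (h5 : Y ^ 5 = 1)
    (h2 : (X * Y) ^ 2 = 1) : a5Hom X Y h3 h5 h2 bA = Y := by
  have h : a5PresEquiv.symm bA = A5Iso.Y := by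
    rw [MulEquiv.symm_apply_eq, a5PresEquiv_Y]
  show PresentedGroup.toGroup (a5_rels_hold X Y h3 h5 h2) (a5PresEquiv.symm bA) = Y
  rw [h]
  exact PresentedGroup.toGroup.of (a5_rels_hold X Y h3 h5 h2)

/-- the index enumeration of `A₅` -/
def e60 (i : Fin 60) : A5 := ev aA bA (nfw i)

theorem e60_injective : Function.Injective e60 := fun i j h => evA_inj i j h

theorem e60_bijective : Function.Bijective e60 := by
  rw [Fintype.bijective_iff_injective_and_card]
  refine ⟨e60_injective, ?_⟩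
  have := Cfsg.Agent.Lib.Helper38.card_alt5
  rw [Nat.card_eq_fintype_card] at this
  rw [this]
  rfl

theorem e60_zero : e60 0 = 1 := rfl

theorem gen_mem_closure (k : Fin 2) : gen aA bA k ∈ Subgroup.closure ({aA, bA} : Set A5) := by
  fin_cases k
  · exact Subgroup.subset_closure (by simp [gen])
  · exact Subgroup.subset_closure (by simp [gen])

theorem ev_mem_closure (w : List (Fin 2)) : ev aA bA w ∈ Subgroup.closure ({aA, bA} : Set A5) := by
  induction w with
  | nil => exact one_mem _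
  | cons k w ih => exact mul_mem (gen_mem_closure k) ih

theorem closure_gens : Subgroup.closure ({aA, bA} : Set A5) = ⊤ := by
  rw [eq_top_iff]
  intro t _
  obtain ⟨i, rfl⟩ := e60_bijective.2 t
  exact ev_mem_closure _

/-- the left action of a word on indices -/
def act (w : List (Fin 2)) (j : Fin 60) : Fin 60 := w.foldr (fun k idx => mulTbl idx k) j

theorem relE1 : ∀ t : A5, aA * (aA * (aA * t)) = t := by
  intro t
  rw [← mul_assoc, ← mul_assoc, ← pow_two, ← pow_succ, aA_pow, one_mul]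

theorem relE2 : ∀ t : A5, bA * (bA * (bA * (bA * (bA * t)))) = t := by
  intro t
  have : bA * bA * bA * bA * bA = 1 := by
    have := bA_pow
    rw [pow_succ, pow_succ, pow_succ, pow_succ, pow_one] at this
    exact this
  rw [← mul_assoc, ← mul_assoc, ← mul_assoc, ← mul_assoc, this, one_mul]

theorem relE3 : ∀ t : A5, aA * (bA * (aA * (bA * t))) = t := by
  intro t
  have : aA * bA * aA * bA = 1 := by
    have := ab_pow
    rw [pow_two, ← mul_assoc] at this
    exact this
  rw [← mul_assoc, ← mul_assoc, ← mul_assoc, this, one_mul]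

theorem ev_mul_e60 (w : List (Fin 2)) (j : Fin 60) : ev aA bA w * e60 j = e60 (act w j) := by
  induction w with
  | nil => simp [ev, act]
  | cons k w ih =>
    show gen aA bA k * ev aA bA w * e60 j = e60 (mulTbl (act w j) k)
    rw [mul_assoc, ih]
    exact table_step aA bA relE1 relE2 relE3 (act w j) k

/-- multiplication on indices -/
def mulIdx (i j : Fin 60) : Fin 60 := act (nfw i) j

theorem e60_mul (i j : Fin 60) : e60 i * e60 j = e60 (mulIdx i j) := ev_mul_e60 _ _

/-- powers on indices -/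
def powIdx (i : Fin 60) : ℕ → Fin 60
  | 0 => 0
  | (n + 1) => mulIdx i (powIdx i n)

theorem e60_pow (i : Fin 60) (n : ℕ) : e60 i ^ n = e60 (powIdx i n) := by
  induction n with
  | zero => rw [pow_zero]; rfl
  | succ n ih => rw [pow_succ', ih, e60_mul]; rfl

/-- the pair condition on indices -/
def condIdx (p : Fin 60 × Fin 60) : Prop :=
  p.1 ≠ 0 ∧ powIdx p.1 3 = 0 ∧ powIdx p.2 5 = 0 ∧ powIdx (mulIdx p.1 p.2) 2 = 0

instance : DecidablePred condIdx := fun p => by unfold condIdx; infer_instance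

theorem e60_eq_one_iff (i : Fin 60) : e60 i = 1 ↔ i = 0 := by
  rw [← e60_zero]
  exact e60_injective.eq_iff

theorem isPair_iff (i j : Fin 60) : IsPair (e60 i) (e60 j) ↔ condIdx (i, j) := by
  unfold IsPair condIdx
  rw [e60_pow, e60_pow, e60_mul, e60_pow, e60_eq_one_iff, e60_eq_one_iff, e60_eq_one_iff,
    Ne, e60_eq_one_iff]

theorem card_condIdx : Fintype.card {p : Fin 60 × Fin 60 // condIdx p} = 120 := by
  decide +kernel

theorem card_pairs_A5 : Nat.card (Pairs A5) = 120 := by
  have e : {p : Fin 60 × Fin 60 // condIdx p} ≃ Pairs A5 := by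
    refine Equiv.subtypeEquiv (Equiv.prodCongr (Equiv.ofBijective e60 e60_bijective)
      (Equiv.ofBijective e60 e60_bijective)) ?_
    rintro ⟨i, j⟩
    exact (isPair_iff i j).symm
  rw [← Nat.card_congr e, Nat.card_eq_fintype_card, card_condIdx]

theorem isPair_map_iff {H K : Type*} [Group H] [Group K] (e : H ≃* K) (x y : H) :
    IsPair (e x) (e y) ↔ IsPair x y := by
  unfold IsPair
  rw [← map_pow, ← map_pow, ← map_mul, ← map_pow, Ne, map_eq_one_iff e e.injective,
    map_eq_one_iff e e.injective, map_eq_one_iff e e.injective, map_eq_one_iff e e.injective]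

/-- transport of pairs along an isomorphism -/
def pairsCongr {H K : Type*} [Group H] [Group K] (e : H ≃* K) : Pairs H ≃ Pairs K :=
  Equiv.subtypeEquiv (Equiv.prodCongr e.toEquiv e.toEquiv) (by
    rintro ⟨x, y⟩
    exact (isPair_map_iff e x y).symm)

theorem isPair_coe_iff {G : Type*} [Group G] (H : Subgroup G) (x y : H) :
    IsPair (x : G) (y : G) ↔ IsPair x y := by
  unfold IsPair
  simp only [Ne, Subtype.ext_iff, Subgroup.coe_pow, Subgroup.coe_mul, Subgroup.coe_one]

section main

variable {G : Type*} [Group G]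

theorem closure_eq_range {x y : G} (h : IsPair x y) :
    Subgroup.closure ({x, y} : Set G) = (a5Hom x y h.2.1 h.2.2.1 h.2.2.2).range := by
  rw [MonoidHom.range_eq_map, ← closure_gens, MonoidHom.map_closure, Set.image_pair, a5Hom_aA,
    a5Hom_bA]

theorem closure_equiv {x y : G} (h : IsPair x y) :
    Nonempty (Subgroup.closure ({x, y} : Set G) ≃* A5) := by
  have e1 := (MonoidHom.ofInjective
    (a5Hom_injective x y h.2.1 h.2.2.1 h.2.2.2 h.1)).symm
  exact ⟨(MulEquiv.subgroupCongr (closure_eq_range h)).trans e1⟩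

theorem card_of_equiv {H : Subgroup G} (h : Nonempty (H ≃* A5)) : Nat.card H = 60 := by
  obtain ⟨e⟩ := h
  rw [Nat.card_congr e.toEquiv]
  exact Cfsg.Agent.Lib.Helper38.card_alt5

/-- the subgroup generated by a pair -/
def subOf (p : Pairs G) : {H : Subgroup G // Nonempty (H ≃* A5)} :=
  ⟨Subgroup.closure ({p.1.1, p.1.2} : Set G), closure_equiv p.2⟩

theorem closure_eq_of_mem [Finite G] {x y : G} (h : IsPair x y) (H : Subgroup G)
    (hH : Nonempty (H ≃* A5)) (hx : x ∈ H) (hy : y ∈ H) :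
    Subgroup.closure ({x, y} : Set G) = H := by
  apply Subgroup.eq_of_le_of_card_ge
  · rw [Subgroup.closure_le]
    rintro t (rfl | rfl)
    · exact hx
    · exact hy
  · rw [card_of_equiv hH, card_of_equiv (closure_equiv h)]

theorem mem_of_subOf_eq (p : Pairs G) (H : Subgroup G) (hH : Nonempty (H ≃* A5))
    (h : subOf p = ⟨H, hH⟩) : p.1.1 ∈ H ∧ p.1.2 ∈ H := by
  have h1 : Subgroup.closure ({p.1.1, p.1.2} : Set G) = H := congrArg Subtype.val h
  have hx : p.1.1 ∈ Subgroup.closure ({p.1.1, p.1.2} : Set G) :=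
    Subgroup.subset_closure (by simp)
  have hy : p.1.2 ∈ Subgroup.closure ({p.1.1, p.1.2} : Set G) :=
    Subgroup.subset_closure (by simp)
  rw [h1] at hx hy
  exact ⟨hx, hy⟩

/-- the fibre of `subOf` over `H` is the set of pairs of `H` -/
def fiberEquiv [Finite G] (H : Subgroup G) (hH : Nonempty (H ≃* A5)) :
    {p : Pairs G // subOf p = ⟨H, hH⟩} ≃ Pairs H where
  toFun p := ⟨(⟨p.1.1.1, (mem_of_subOf_eq p.1 H hH p.2).1⟩,
    ⟨p.1.1.2, (mem_of_subOf_eq p.1 H hH p.2).2⟩), (isPair_coe_iff H _ _).mp p.1.2⟩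
  invFun q := ⟨⟨((q.1.1 : G), (q.1.2 : G)), (isPair_coe_iff H _ _).mpr q.2⟩, by
    apply Subtype.ext
    simp only [subOf]
    exact closure_eq_of_mem ((isPair_coe_iff H _ _).mpr q.2) H hH q.1.1.2 q.1.2.2⟩
  left_inv p := by
    apply Subtype.ext
    apply Subtype.ext
    rfl
  right_inv q := by
    apply Subtype.ext
    rfl

theorem card_eq_of_fibers' {α β : Type*} [Finite α] [Finite β] (f : α → β) (c : ℕ)
    (h : ∀ b, Nat.card {a // f a = b} = c) : Nat.card α = Nat.card β * c := by
  classical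
  have := Fintype.ofFinite β
  rw [← Nat.card_congr (Equiv.sigmaFiberEquiv f), Nat.card_sigma]
  simp only [h, Finset.sum_const, Finset.card_univ, smul_eq_mul, Nat.card_eq_fintype_card]

instance [Finite G] : Finite (Pairs G) := Subtype.finite

/-- the number of `(3,5,2)`-pairs is `120` times the number of subgroups isomorphic to `A₅` -/
theorem card_pairs [Finite G] :
    Nat.card (Pairs G) = Nat.card {H : Subgroup G // Nonempty (H ≃* A5)} * 120 := by
  apply card_eq_of_fibers' subOf
  rintro ⟨H, hH⟩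
  rw [Nat.card_congr (fiberEquiv H hH)]
  obtain ⟨e⟩ := hH
  rw [Nat.card_congr (pairsCongr e), card_pairs_A5]

end main

end Cfsg.Agent.Lib.Helper14.A5Pairs
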