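import Mathlib
import Cfsg.Agent.Lib.Helper14.A5Pairs

set_option autoImplicit false

/-!
In a simple group of order 660 with exactly 22 subgroups isomorphic to `A₅`, these subgroups
form two conjugacy classes.
-/

namespace Cfsg.Agent.Lib.Helper14.A5Classes

open Cfsg.Agent.Lib.Helper14.A5Pairs
open scoped Pointwise

variable {G : Type*} [Group G]

/-- the conjugacy class of a subgroup -/
def cls (H : Subgroup G) : Set (Subgroup G) := Set.range (fun g : G => MulAut.conj g • H)

theorem mem_cls_self (H : Subgroup G) : H ∈ cls H := ⟨1, by simp⟩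

theorem conj_smul_eq_iff (g : G) (H : Subgroup G) :
    MulAut.conj g • H = H ↔ g ∈ Subgroup.normalizer (H : Set G) := by
  rw [Subgroup.mem_set_normalizer_iff]
  constructor
  · intro h x
    constructor
    · intro hx
      have : MulAut.conj g • x ∈ MulAut.conj g • H := Subgroup.smul_mem_pointwise_smul x _ H hx
      rw [h] at this
      simpa [MulAut.smul_def] using this
    · intro hx
      have h1 : MulAut.conj g • x ∈ MulAut.conj g • H := by
        rw [h]; simpa [MulAut.smul_def] using hx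
      exact (Subgroup.smul_mem_pointwise_smul_iff).mp h1
  · intro h
    ext x
    rw [Subgroup.mem_pointwise_smul_iff_inv_smul_mem]
    have := h ((MulAut.conj g)⁻¹ • x)
    rw [SetLike.mem_coe, SetLike.mem_coe] at this
    rw [this]
    simp only [MulAut.smul_def, MulAut.inv_apply, MulAut.conj_symm_apply]
    have e : g * (g⁻¹ * x * g) * g⁻¹ = x := by group
    rw [e]

theorem ncard_cls [Finite G] (H : Subgroup G) :
    (cls H).ncard = (Subgroup.normalizer (H : Set G)).index := by
  let _ : MulAction G (Subgroup G) := MulAction.compHom (Subgroup G) (MulAut.conj : G →* MulAut G)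
  have h1 : cls H = MulAction.orbit G H := rfl
  have h2 : MulAction.stabilizer G H = Subgroup.normalizer (H : Set G) := by
    ext g
    rw [MulAction.mem_stabilizer_iff]
    exact conj_smul_eq_iff g H
  rw [h1, ← h2, MulAction.index_stabilizer]

theorem index_normalizer [Finite G] [IsSimpleGroup G] (hG : Nat.card G = 660) (H : Subgroup G)
    (hH : Nat.card H = 60) : (Subgroup.normalizer (H : Set G)).index = 11 := by
  have h1 : H.index = 11 := by
    have := H.card_mul_index
    rw [hG, hH] at this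
    omega
  have h2 := Subgroup.relIndex_mul_index (Subgroup.le_normalizer (H := H))
  rw [h1] at h2
  have h3 : (Subgroup.normalizer (H : Set G)).index ∣ 11 := Dvd.intro_left _ h2
  rcases (Nat.dvd_prime (by norm_num)).mp h3 with h | h
  · exfalso
    have htop : Subgroup.normalizer (H : Set G) = ⊤ := Subgroup.index_eq_one.mp h
    have hn : H.Normal := Subgroup.normalizer_eq_top_iff.mp htop
    rcases hn.eq_bot_or_eq_top with hb | ht
    · rw [hb] at hH
      simp at hH
    · rw [ht, Subgroup.card_top, hG] at hH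
      omega
  · exact h

theorem cls_subset {H : Subgroup G} (hH : Nonempty (H ≃* A5)) :
    cls H ⊆ {K : Subgroup G | Nonempty (K ≃* A5)} := by
  rintro K ⟨g, rfl⟩
  obtain ⟨e⟩ := hH
  exact ⟨(Subgroup.equivSMul (MulAut.conj g) H).symm.trans e⟩

theorem two_classes [Finite G] [IsSimpleGroup G] (hG : Nat.card G = 660)
    (hS : Nat.card {H : Subgroup G // Nonempty (H ≃* A5)} = 22) :
    ∃ H K : Subgroup G, Nonempty (H ≃* A5) ∧ Nonempty (K ≃* A5) ∧
      (∀ g : G, MulAut.conj g • H ≠ K) ∧
      ∀ L : Subgroup G, Nonempty (L ≃* A5) →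
        ∃ g : G, MulAut.conj g • L = H ∨ MulAut.conj g • L = K := by
  set S : Set (Subgroup G) := {K : Subgroup G | Nonempty (K ≃* A5)} with hSdef
  have hS' : S.ncard = 22 := by
    rw [← Nat.card_coe_set_eq]
    exact hS
  have hcls : ∀ H ∈ S, (cls H).ncard = 11 := by
    intro H hH
    rw [ncard_cls, index_normalizer hG H (card_of_equiv hH)]
  obtain ⟨H₁, hH₁⟩ : S.Nonempty := Set.nonempty_of_ncard_ne_zero (by rw [hS']; norm_num)
  have hC₁ := hcls H₁ hH₁
  obtain ⟨H₂, hH₂, hH₂'⟩ : ∃ K ∈ S, K ∉ cls H₁ :=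
    Set.exists_mem_notMem_of_ncard_lt_ncard (by rw [hC₁, hS']; norm_num) (Set.toFinite _)
  have hC₂ := hcls H₂ hH₂
  have hdisj : Disjoint (cls H₁) (cls H₂) := by
    rw [Set.disjoint_left]
    rintro K ⟨g, rfl⟩ ⟨g', hg'⟩
    simp only at hg'
    apply hH₂'
    refine ⟨g'⁻¹ * g, ?_⟩
    show MulAut.conj (g'⁻¹ * g) • H₁ = H₂
    rw [map_mul, mul_smul]
    show MulAut.conj g'⁻¹ • (MulAut.conj g • H₁) = H₂
    rw [← hg', ← mul_smul, ← map_mul, inv_mul_cancel, map_one, one_smul]
  have hunion : cls H₁ ∪ cls H₂ = S := by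
    apply Set.eq_of_subset_of_ncard_le
    · exact Set.union_subset (cls_subset hH₁) (cls_subset hH₂)
    · rw [Set.ncard_union_eq hdisj (Set.toFinite _) (Set.toFinite _), hC₁, hC₂, hS']
    · exact Set.toFinite _
  refine ⟨H₁, H₂, hH₁, hH₂, ?_, ?_⟩
  · intro g hg
    exact hH₂' ⟨g, hg⟩
  · intro L hL
    have hL' : L ∈ cls H₁ ∪ cls H₂ := by rw [hunion]; exact hL
    rcases hL' with ⟨g, hg⟩ | ⟨g, hg⟩
    · refine ⟨g⁻¹, Or.inl ?_⟩
      show MulAut.conj g⁻¹ • L = H₁
      rw [← hg]
      show MulAut.conj g⁻¹ • (MulAut.conj g • H₁) = H₁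
      rw [← mul_smul, ← map_mul, inv_mul_cancel, map_one, one_smul]
    · refine ⟨g⁻¹, Or.inr ?_⟩
      show MulAut.conj g⁻¹ • L = H₂
      rw [← hg]
      show MulAut.conj g⁻¹ • (MulAut.conj g • H₂) = H₂
      rw [← mul_smul, ← map_mul, inv_mul_cancel, map_one, one_smul]

end Cfsg.Agent.Lib.Helper14.A5Classes
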