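import Mathlib
import Cfsg.Agent.Lib.Helper22.CgDefs
import Cfsg.Agent.Lib.Helper67.UnionConj

/-! Cg hive (S4257): second hand of CG2 (absorption) by helper14, as a core lemma with the
leaves CG0, CG1a, CG1b as explicit hypotheses. -/

set_option autoImplicit false

namespace Cfsg.Agent.Lib.Helper22.Cg

open Subgroup

universe u

/-- the conjugacy class of `z` as a set. -/
def cg2h14_Cl {G : Type u} [Group G] (z : G) : Set G := {w | ∃ k : G, w = k * z * k⁻¹}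

theorem cg2h14_ncard {G : Type u} [Group G] (z : G) : (cg2h14_Cl z).ncard = cs z := by
  show (cg2h14_Cl z).ncard = (centralizer ({z} : Set G)).index
  rw [← Cfsg.Agent.Lib.Helper67.ncard_carrier_eq_index]
  congr 1
  ext w
  constructor
  · rintro ⟨k, rfl⟩
    rw [ConjClasses.mem_carrier_iff_mk_eq, ConjClasses.mk_eq_mk_iff_isConj, isConj_comm, isConj_iff]
    exact ⟨k, rfl⟩
  · intro hw
    have hw' := hw
    rw [ConjClasses.mem_carrier_iff_mk_eq, ConjClasses.mk_eq_mk_iff_isConj, isConj_comm, isConj_iff] at hw'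
    obtain ⟨k, hk⟩ := hw'
    exact ⟨k, hk.symm⟩

theorem cg2h14_Cl_eq {G : Type u} [Group G] (z k : G) :
    cg2h14_Cl (k * z * k⁻¹) = cg2h14_Cl z := by
  ext w
  constructor
  · rintro ⟨l, rfl⟩
    exact ⟨l * k, by group⟩
  · rintro ⟨l, rfl⟩
    exact ⟨l * k⁻¹, by group⟩

theorem cg2h14_core {G : Type u} [Group G] [Finite G]
    (h0 : ∀ x k : G, cs (k * x * k⁻¹) = cs x)
    (h1a : ∀ x y : G, (cs x).Coprime (cs y) → ∀ g h : G,
      ∃ k : G, (g * x * g⁻¹) * (h * y * h⁻¹) = k * (x * y) * k⁻¹)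
    (h1b : ∀ x y : G, (cs x).Coprime (cs y) → cs (x * y) ∣ cs x * cs y)
    (x y : G) (hc : (cs x).Coprime (cs y))
    (hlt : cs y < cs x)
    (hC : ∀ z : G, cs z ∣ cs x * cs y → cs z ∣ cs x ∨ cs z ∣ cs y) (g h k : G) :
    ∃ k' : G, (k * x * k⁻¹) * ((g * y * g⁻¹) * (h * y * h⁻¹)⁻¹) = k' * x * k'⁻¹ := by
  have hfin : ∀ s : Set G, s.Finite := fun s => Set.toFinite s
  have hxpos : 0 < cs x := Nat.pos_of_ne_zero Subgroup.index_ne_zero_of_finite
  -- the key fact for every conjugate of y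
  have key : ∀ l : G, (fun w => w * (l * y * l⁻¹)) '' (cg2h14_Cl x) = cg2h14_Cl (x * y) := by
    intro l
    have hcs : cs (l * y * l⁻¹) = cs y := h0 y l
    have hc' : (cs x).Coprime (cs (l * y * l⁻¹)) := by rw [hcs]; exact hc
    have hsub : (fun w => w * (l * y * l⁻¹)) '' (cg2h14_Cl x) ⊆ cg2h14_Cl (x * y) := by
      rintro _ ⟨w, ⟨m, rfl⟩, rfl⟩
      obtain ⟨k1, hk1⟩ := h1a x y hc m l
      exact ⟨k1, hk1⟩
    have hinj : Function.Injective (fun w : G => w * (l * y * l⁻¹)) :=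
      fun a b hab => mul_right_cancel hab
    have hcard1 : ((fun w => w * (l * y * l⁻¹)) '' (cg2h14_Cl x)).ncard = cs x := by
      rw [Set.ncard_image_of_injective _ hinj, cg2h14_ncard]
    have hle : cs x ≤ cs (x * y) := by
      rw [← hcard1, ← cg2h14_ncard (x * y)]
      exact Set.ncard_le_ncard hsub (hfin _)
    have hdvd : cs (x * y) ∣ cs x := by
      rcases hC (x * y) (h1b x y hc) with h | h
      · exact h
      · exfalso
        have hypos : 0 < cs y := Nat.pos_of_ne_zero Subgroup.index_ne_zero_of_finite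
        have := Nat.le_of_dvd hypos h
        omega
    have hge : cs (x * y) ≤ cs x := Nat.le_of_dvd hxpos hdvd
    apply Set.eq_of_subset_of_ncard_le hsub _ (hfin _)
    rw [hcard1, cg2h14_ncard]
    exact hge
  have hmem : (k * x * k⁻¹) * (g * y * g⁻¹) ∈
      (fun w => w * (g * y * g⁻¹)) '' (cg2h14_Cl x) := ⟨k * x * k⁻¹, ⟨k, rfl⟩, rfl⟩
  rw [key g, ← key h] at hmem
  obtain ⟨w, ⟨k', rfl⟩, hw⟩ := hmem
  refine ⟨k', ?_⟩
  have hw' : k' * x * k'⁻¹ * (h * y * h⁻¹) = k * x * k⁻¹ * (g * y * g⁻¹) := hw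
  calc (k * x * k⁻¹) * ((g * y * g⁻¹) * (h * y * h⁻¹)⁻¹)
      = (k * x * k⁻¹ * (g * y * g⁻¹)) * (h * y * h⁻¹)⁻¹ := by simp only [mul_assoc]
    _ = (k' * x * k'⁻¹ * (h * y * h⁻¹)) * (h * y * h⁻¹)⁻¹ := by rw [hw']
    _ = k' * x * k'⁻¹ := by rw [mul_inv_cancel_right]

end Cfsg.Agent.Lib.Helper22.Cg
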