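import Mathlib

set_option autoImplicit false

/-! Chen's lemma (S4184), basic lemmas: helper14 second hand. -/

namespace Cfsg.Agent.Lib.Helper14.Chen

open Subgroup

variable {G : Type*} [Group G]

/-- `n` carries the full `p`-part of `N` for every prime `p ∈ S` dividing `N`. -/
def h14chen_Full (N : ℕ) (S : Set ℕ) (n : ℕ) : Prop :=
  ∀ p ∈ S, p.Prime → p ∣ N → p ^ (N.factorization p) ∣ n

theorem h14chen_Full_of_dvd {N : ℕ} {S : Set ℕ} {n m : ℕ} (h : h14chen_Full N S n) (hd : n ∣ m) :
    h14chen_Full N S m := fun p hp hpp hpN => (h p hp hpp hpN).trans hd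

/-- commuting elements of coprime order: the centralizer of the product lies in that of `x`. -/
theorem h14chen_centralizer_mul_le {x y : G} (hc : Commute x y)
    (hco : (orderOf x).Coprime (orderOf y)) :
    centralizer ({x * y} : Set G) ≤ centralizer ({x} : Set G) := by
  intro g hg
  rw [mem_centralizer_singleton_iff] at hg ⊢
  obtain ⟨m, hm⟩ := exists_pow_eq_self_of_coprime (x := x) (n := orderOf y) hco.symm
  have h1 : (x * y) ^ (orderOf y) = x ^ (orderOf y) := by
    rw [hc.mul_pow, pow_orderOf_eq_one, mul_one]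
  have h2 : x = (x * y) ^ (orderOf y * m) := by
    rw [pow_mul, h1, hm]
  have h3 : Commute g (x * y) := hg
  have h4 : Commute g ((x * y) ^ (orderOf y * m)) := h3.pow_right _
  rw [← h2] at h4
  exact h4

theorem h14chen_centralizer_mul_le' {x y : G} (hc : Commute x y)
    (hco : (orderOf x).Coprime (orderOf y)) :
    centralizer ({x * y} : Set G) ≤ centralizer ({y} : Set G) := by
  have := h14chen_centralizer_mul_le hc.symm hco.symm
  rwa [hc.symm.eq] at this

theorem h14chen_idx_dvd_mul {x y : G} (hc : Commute x y)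
    (hco : (orderOf x).Coprime (orderOf y)) :
    (centralizer ({x} : Set G)).index ∣ (centralizer ({x * y} : Set G)).index :=
  index_dvd_of_le (h14chen_centralizer_mul_le hc hco)

theorem h14chen_idx_dvd_mul' {x y : G} (hc : Commute x y)
    (hco : (orderOf x).Coprime (orderOf y)) :
    (centralizer ({y} : Set G)).index ∣ (centralizer ({x * y} : Set G)).index :=
  index_dvd_of_le (h14chen_centralizer_mul_le' hc hco)

/-- a nontrivial `p`-subgroup has a nontrivial element commuting with all of it. -/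
theorem h14chen_exists_central [Finite G] {p : ℕ} [Fact p.Prime] (Q : Subgroup G)
    (hQ : IsPGroup p Q) (hne : Q ≠ ⊥) :
    ∃ u ∈ Q, u ≠ 1 ∧ ∀ v ∈ Q, v * u = u * v := by
  haveI : Nontrivial Q := (Subgroup.nontrivial_iff_ne_bot Q).mpr hne
  haveI := hQ.center_nontrivial
  obtain ⟨⟨z, hz⟩, hz1⟩ := exists_ne (1 : Subgroup.center Q)
  refine ⟨z, z.2, ?_, ?_⟩
  · intro h
    apply hz1
    apply Subtype.ext
    apply Subtype.ext
    simpa using h
  · intro v hv
    have := Subgroup.mem_center_iff.mp hz ⟨v, hv⟩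
    exact congrArg Subtype.val this

/-- elements of a `p`-subgroup have `p`-power order. -/
theorem h14chen_orderOf_dvd_pow {p : ℕ} (Q : Subgroup G) (hQ : IsPGroup p Q) {u : G} (hu : u ∈ Q) :
    ∃ k, orderOf u ∣ p ^ k := by
  obtain ⟨k, hk⟩ := hQ ⟨u, hu⟩
  refine ⟨k, orderOf_dvd_of_pow_eq_one ?_⟩
  have := congrArg Subtype.val hk
  simpa using this

theorem h14chen_coprime_of_pelts {a b : ℕ} (ha : a.Prime) (hb : b.Prime) (hab : a ≠ b) {x y : G}
    (hx : ∃ k, orderOf x ∣ a ^ k) (hy : ∃ k, orderOf y ∣ b ^ k) :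
    (orderOf x).Coprime (orderOf y) := by
  obtain ⟨k, hk⟩ := hx
  obtain ⟨l, hl⟩ := hy
  have h0 : (a ^ k).Coprime (b ^ l) := Nat.Coprime.pow k l ((Nat.coprime_primes ha hb).mpr hab)
  exact Nat.Coprime.coprime_dvd_left hk (Nat.Coprime.coprime_dvd_right hl h0)

/-- if the Sylow `p`-subgroup `P` centralizes `y` then `p ∤ idx y`. -/
theorem h14chen_not_dvd_idx [Finite G] {p : ℕ} [Fact p.Prime] (P : Sylow p G) {y : G}
    (hy : ∀ v ∈ P, v * y = y * v) : ¬ p ∣ (centralizer ({y} : Set G)).index := by
  intro h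
  have hle : (P : Subgroup G) ≤ centralizer ({y} : Set G) := by
    intro v hv
    rw [mem_centralizer_singleton_iff]
    exact hy v hv
  exact P.not_dvd_index (h.trans (index_dvd_of_le hle))

/-- valuation bookkeeping: if `idx ∣ N` and `b ^ v_b(N) ∣ idx` then
`v_b |G| = v_b |C| + v_b N`. -/
theorem h14chen_val_eq [Finite G] {b N : ℕ} (hb : b.Prime) (hN : N ≠ 0) (C : Subgroup G)
    (h0 : C.index ∣ N) (hfull : b ^ (N.factorization b) ∣ C.index) :
    (Nat.card G).factorization b = (Nat.card C).factorization b + N.factorization b := by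
  have hidx0 : C.index ≠ 0 := Subgroup.index_ne_zero_of_finite
  have hC0 : Nat.card C ≠ 0 := Nat.card_pos.ne'
  have h1 : C.index.factorization b = N.factorization b := by
    apply le_antisymm
    · exact (Nat.factorization_le_iff_dvd hidx0 hN).mpr h0 b
    · exact (hb.pow_dvd_iff_le_factorization hidx0).mp hfull
  rw [← C.card_mul_index, Nat.factorization_mul hC0 hidx0, Finsupp.add_apply, h1]

end Cfsg.Agent.Lib.Helper14.Chen
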