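import Mathlib
import Cfsg.Agent.Lib.Helper14.ChenA

set_option autoImplicit false

/-! Chen's lemma (S4184), the core argument on the `G` side: helper14 second hand. -/

namespace Cfsg.Agent.Lib.Helper14.Chen

open Subgroup

variable {G : Type*} [Group G] [Finite G]

theorem h14chen_fact_ne_zero {p N : ℕ} (hp : p.Prime) (hN : N ≠ 0) (h : p ∣ N) :
    N.factorization p ≠ 0 := by
  have := (hp.dvd_iff_one_le_factorization hN).mp h
  omega

theorem h14chen_core (N : ℕ) (hN : N ≠ 0) (S : Set ℕ)
    (H0 : ∀ g : G, (centralizer ({g} : Set G)).index ∣ N)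
    (H1 : ∀ g : G, g ≠ 1 → h14chen_Full N S (centralizer ({g} : Set G)).index ∨
      h14chen_Full N Sᶜ (centralizer ({g} : Set G)).index)
    (H2 : ∀ g : G, ¬ (h14chen_Full N S (centralizer ({g} : Set G)).index ∧
      h14chen_Full N Sᶜ (centralizer ({g} : Set G)).index))
    {a b : ℕ} (ha : a.Prime) (haS : a ∈ S) (haN : a ∣ N) (haG : a ∣ Nat.card G)
    (hb : b.Prime) (hbS : b ∉ S) (hbN : b ∣ N) :
    (Nat.card G).factorization b ≤ N.factorization b := by
  by_contra hlt
  rw [not_le] at hlt
  haveI : Fact a.Prime := ⟨ha⟩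
  haveI : Fact b.Prime := ⟨hb⟩
  have hab : a ≠ b := fun h => hbS (h ▸ haS)
  have hbS' : b ∈ Sᶜ := hbS
  have hG0 : Nat.card G ≠ 0 := Nat.card_pos.ne'
  -- the element z
  obtain Pa : Sylow a G := default
  have hPane : (Pa : Subgroup G) ≠ ⊥ := by
    intro h
    have hc := Pa.card_eq_multiplicity
    rw [h, Subgroup.card_bot] at hc
    have h0 := h14chen_fact_ne_zero ha hG0 haG
    have := Nat.one_lt_pow h0 ha.one_lt
    omega
  obtain ⟨z, hzP, hz1, hzc⟩ := h14chen_exists_central (Pa : Subgroup G) Pa.isPGroup' hPane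
  have hz_na : ¬ a ∣ (centralizer ({z} : Set G)).index := h14chen_not_dvd_idx Pa hzc
  have hz_notS : ¬ h14chen_Full N S (centralizer ({z} : Set G)).index := by
    intro hf
    have := hf a haS ha haN
    apply hz_na
    exact (dvd_pow_self a (h14chen_fact_ne_zero ha hN haN)).trans this
  have hzfull : h14chen_Full N Sᶜ (centralizer ({z} : Set G)).index :=
    (H1 z hz1).resolve_left hz_notS
  have hz_ord := h14chen_orderOf_dvd_pow (Pa : Subgroup G) Pa.isPGroup' hzP
  have hvz := h14chen_val_eq hb hN (centralizer ({z} : Set G)) (H0 z) (hzfull b hbS' hb hbN)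
  -- Q : a Sylow b-subgroup of C(z)
  obtain Q0 : Sylow b (centralizer ({z} : Set G)) := default
  obtain ⟨Q, hQ⟩ : ∃ Q : Subgroup G,
      Q = (Q0 : Subgroup (centralizer ({z} : Set G))).map (centralizer ({z} : Set G)).subtype :=
    ⟨_, rfl⟩
  have hQp : IsPGroup b Q := by rw [hQ]; exact Q0.isPGroup'.map _
  have hQcard : Nat.card Q = b ^ (Nat.card (centralizer ({z} : Set G))).factorization b := by
    rw [hQ, Subgroup.card_map_of_injective (centralizer ({z} : Set G)).subtype_injective]
    exact Q0.card_eq_multiplicity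
  have hQC : Q ≤ centralizer ({z} : Set G) := by rw [hQ]; exact Subgroup.map_subtype_le _
  have hk : (Nat.card (centralizer ({z} : Set G))).factorization b ≠ 0 := by omega
  have hQne : Q ≠ ⊥ := by
    intro h
    rw [h, Subgroup.card_bot] at hQcard
    have := Nat.one_lt_pow hk hb.one_lt
    omega
  obtain ⟨B, hQB⟩ := hQp.exists_le_sylow
  have hBne : (B : Subgroup G) ≠ ⊥ := fun h => hQne (le_bot_iff.mp (h ▸ hQB))
  obtain ⟨y, hyB, hy1, hyc⟩ := h14chen_exists_central (B : Subgroup G) B.isPGroup' hBne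
  have hy_nb : ¬ b ∣ (centralizer ({y} : Set G)).index := h14chen_not_dvd_idx B hyc
  have hy_notS' : ¬ h14chen_Full N Sᶜ (centralizer ({y} : Set G)).index := by
    intro hf
    have := hf b hbS' hb hbN
    apply hy_nb
    exact (dvd_pow_self b (h14chen_fact_ne_zero hb hN hbN)).trans this
  have hyfull : h14chen_Full N S (centralizer ({y} : Set G)).index :=
    (H1 y hy1).resolve_right hy_notS'
  have hy_ord := h14chen_orderOf_dvd_pow (B : Subgroup G) B.isPGroup' hyB
  -- the element u
  obtain ⟨u, huQ, hu1, huc⟩ := h14chen_exists_central Q hQp hQne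
  have hu_ord := h14chen_orderOf_dvd_pow Q hQp huQ
  have huz : Commute u z := by
    have := hQC huQ
    rw [mem_centralizer_singleton_iff] at this
    exact this
  have hco_uz : (orderOf u).Coprime (orderOf z) :=
    h14chen_coprime_of_pelts hb ha hab.symm hu_ord hz_ord
  have hu_notS : ¬ h14chen_Full N S (centralizer ({u} : Set G)).index := by
    intro hf
    apply H2 (u * z)
    exact ⟨h14chen_Full_of_dvd hf (h14chen_idx_dvd_mul huz hco_uz),
      h14chen_Full_of_dvd hzfull (h14chen_idx_dvd_mul' huz hco_uz)⟩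
  have hufull : h14chen_Full N Sᶜ (centralizer ({u} : Set G)).index :=
    (H1 u hu1).resolve_left hu_notS
  have hvu := h14chen_val_eq hb hN (centralizer ({u} : Set G)) (H0 u) (hufull b hbS' hb hbN)
  have hkk : (Nat.card (centralizer ({u} : Set G))).factorization b =
      (Nat.card (centralizer ({z} : Set G))).factorization b := by omega
  -- R = Q ⊔ ⟨y⟩
  obtain ⟨R, hR⟩ : ∃ R : Subgroup G, R = Q ⊔ Subgroup.zpowers y := ⟨_, rfl⟩
  have hRB : R ≤ B := by
    rw [hR]; exact sup_le hQB (Subgroup.zpowers_le.mpr hyB)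
  have hRCu : R ≤ centralizer ({u} : Set G) := by
    rw [hR]
    apply sup_le
    · intro v hv
      rw [mem_centralizer_singleton_iff]
      exact huc v hv
    · rw [Subgroup.zpowers_le, mem_centralizer_singleton_iff]
      exact (hyc u (hQB huQ)).symm
  have hRp : IsPGroup b R := B.isPGroup'.to_le hRB
  obtain ⟨m, hm⟩ := hRp.exists_card_eq
  have h1 : b ^ m ∣ Nat.card (centralizer ({u} : Set G)) := by
    rw [← hm]; exact Subgroup.card_dvd_of_le hRCu
  have h2 : m ≤ (Nat.card (centralizer ({u} : Set G))).factorization b :=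
    (hb.pow_dvd_iff_le_factorization Nat.card_pos.ne').mp h1
  have hQR : Q ≤ R := by rw [hR]; exact le_sup_left
  have hcard_le : Nat.card R ≤ Nat.card Q := by
    rw [hm, hQcard]
    exact Nat.pow_le_pow_right hb.pos (by omega)
  have hQeqR : Q = R := Subgroup.eq_of_le_of_card_ge hQR hcard_le
  have hyQ : y ∈ Q := by
    rw [hQeqR, hR]
    exact Subgroup.mem_sup_right (Subgroup.mem_zpowers y)
  have hyz : Commute y z := by
    have := hQC hyQ
    rw [mem_centralizer_singleton_iff] at this
    exact this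
  have hco_yz : (orderOf y).Coprime (orderOf z) :=
    h14chen_coprime_of_pelts hb ha hab.symm hy_ord hz_ord
  exact H2 (y * z) ⟨h14chen_Full_of_dvd hyfull (h14chen_idx_dvd_mul hyz hco_yz),
    h14chen_Full_of_dvd hzfull (h14chen_idx_dvd_mul' hyz hco_yz)⟩

end Cfsg.Agent.Lib.Helper14.Chen
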