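import Mathlib
import Cfsg.Agent.Lib.Helper14.ChenB
import Cfsg.Agent.Lib.Helper67.UnionConj
import Cfsg.Agent.Lib.Helper69.ClassSize

set_option autoImplicit false

/-! Chen's lemma (S4184), the `G` side assembled: helper14 second hand. -/

namespace Cfsg.Agent.Lib.Helper14.Chen

open Subgroup

variable {G : Type*} [Group G] [Finite G]

/-- if no centralizer index is divisible by `p` and the centre is trivial, `p ∤ |G|`. -/
theorem h14chen_not_dvd_card (hZ : Subgroup.center G = ⊥) {p : ℕ} (hp : p.Prime)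
    (h : ∀ g : G, ¬ p ∣ (centralizer ({g} : Set G)).index) :
    (Nat.card G).factorization p = 0 := by
  haveI : Fact p.Prime := ⟨hp⟩
  obtain P : Sylow p G := default
  have htop : centralizer ((P : Subgroup G) : Set G) = ⊤ := by
    apply Cfsg.Agent.Lib.Helper67.eq_top_of_forall_exists_conj_mem
    intro x
    obtain ⟨P', hP'⟩ := Cfsg.Agent.Lib.Helper69.exists_sylow_le_of_not_dvd_index
      (centralizer ({x} : Set G)) (h x)
    exact Cfsg.Agent.Lib.Helper69.exists_conj_mem_centralizer_sylow P P' x hP'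
  have hle : (P : Subgroup G) ≤ ⊥ := by
    rw [← hZ]
    intro u hu
    rw [Subgroup.mem_center_iff]
    intro g
    have hg : g ∈ centralizer ((P : Subgroup G) : Set G) := by rw [htop]; trivial
    rw [Subgroup.mem_centralizer_iff] at hg
    exact (hg u hu).symm
  have hbot : (P : Subgroup G) = ⊥ := le_bot_iff.mp hle
  have hc := P.card_eq_multiplicity
  rw [hbot, Subgroup.card_bot] at hc
  by_contra h0
  have := Nat.one_lt_pow h0 hp.one_lt
  omega

theorem h14chen_gside (N : ℕ) (hN : N ≠ 0) (A : Set ℕ) (hZ : Subgroup.center G = ⊥)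
    (H0 : ∀ g : G, (centralizer ({g} : Set G)).index ∣ N)
    (H1 : ∀ g : G, g ≠ 1 → h14chen_Full N A (centralizer ({g} : Set G)).index ∨
      h14chen_Full N Aᶜ (centralizer ({g} : Set G)).index)
    (H2 : ∀ g : G, ¬ (h14chen_Full N A (centralizer ({g} : Set G)).index ∧
      h14chen_Full N Aᶜ (centralizer ({g} : Set G)).index))
    (H3a : ∃ g : G, h14chen_Full N A (centralizer ({g} : Set G)).index)
    (H3b : ∃ g : G, h14chen_Full N Aᶜ (centralizer ({g} : Set G)).index)
    (ha : ∃ a ∈ A, a.Prime ∧ a ∣ N) (hb : ∃ b ∉ A, b.Prime ∧ b ∣ N) :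
    Nat.card G = N := by
  have hG0 : Nat.card G ≠ 0 := Nat.card_pos.ne'
  obtain ⟨g1, hg1⟩ := H3a
  obtain ⟨g2, hg2⟩ := H3b
  have hdvd : N ∣ Nat.card G := by
    rw [← Nat.factorization_prime_le_iff_dvd hN hG0]
    intro p hp
    by_cases hpN : p ∣ N
    · by_cases hpA : p ∈ A
      · have := (hg1 p hpA hp hpN).trans (Subgroup.index_dvd_card _)
        exact (hp.pow_dvd_iff_le_factorization hG0).mp this
      · have := (hg2 p hpA hp hpN).trans (Subgroup.index_dvd_card _)
        exact (hp.pow_dvd_iff_le_factorization hG0).mp this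
    · rw [Nat.factorization_eq_zero_of_not_dvd hpN]
      exact Nat.zero_le _
  have hcc : (Aᶜ)ᶜ = A := compl_compl A
  have hle : ∀ p, p.Prime → (Nat.card G).factorization p ≤ N.factorization p := by
    intro p hp
    by_cases hpN : p ∣ N
    · obtain ⟨a, haA, hap, haN⟩ := ha
      obtain ⟨b, hbA, hbp, hbN⟩ := hb
      by_cases hpA : p ∈ A
      · refine h14chen_core N hN Aᶜ H0 ?_ ?_ hbp hbA hbN (hbN.trans hdvd) hp (fun h => h hpA) hpN
        · intro g hg
          rw [hcc]
          exact (H1 g hg).symm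
        · intro g hh
          rw [hcc] at hh
          exact H2 g ⟨hh.2, hh.1⟩
      · exact h14chen_core N hN A H0 H1 H2 hap haA haN (haN.trans hdvd) hp hpA hpN
    · have h0 : (Nat.card G).factorization p = 0 := by
        apply h14chen_not_dvd_card hZ hp
        intro g hg
        exact hpN (hg.trans (H0 g))
      omega
  have hdvd' : Nat.card G ∣ N := (Nat.factorization_prime_le_iff_dvd hG0 hN).mp hle
  exact Nat.dvd_antisymm hdvd' hdvd

end Cfsg.Agent.Lib.Helper14.Chen
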