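import Mathlib
import Cfsg.Agent.Lib.Helper14.ChenC

set_option autoImplicit false

/-! Chen's lemma (S4184), the `M` side and the final statement: helper14 second hand. -/

namespace Cfsg.Agent.Lib.Helper14.Chen

open Subgroup

variable {M : Type*} [Group M] [Finite M]

/-- the prime graph is disconnected along `S`. -/
def h14chen_Disc (M : Type*) [Group M] (S : Set ℕ) : Prop :=
  ∀ a ∈ S, ∀ b ∉ S, a.Prime → b.Prime → a ∣ Nat.card M → b ∣ Nat.card M →
    ¬ ∃ x : M, orderOf x = a * b

theorem h14chen_disc_compl {S : Set ℕ} (h : h14chen_Disc M S) : h14chen_Disc M Sᶜ := by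
  intro a ha b hb hap hbp haM hbM hx
  obtain ⟨x, hx⟩ := hx
  have hbS : b ∈ S := by
    by_contra h'
    exact hb h'
  have haS : a ∉ S := ha
  exact h b hbS a haS hbp hap hbM haM ⟨x, by rw [hx, mul_comm]⟩

theorem h14chen_centralizer_one : centralizer ({(1 : M)} : Set M) = ⊤ := by
  rw [eq_top_iff]
  intro g _
  rw [mem_centralizer_singleton_iff]
  simp

theorem h14chen_mside_full {S : Set ℕ} (hd : h14chen_Disc M S) {m : M} {r : ℕ} (hr : r.Prime)
    (hrS : r ∈ S) (hrm : r ∣ orderOf m) :
    h14chen_Full (Nat.card M) Sᶜ (centralizer ({m} : Set M)).index := by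
  intro b hbS hb hbM
  have hbS' : b ∉ S := hbS
  have hnot : ¬ b ∣ Nat.card (centralizer ({m} : Set M)) := by
    intro hdiv
    haveI : Fact b.Prime := ⟨hb⟩
    obtain ⟨y, hy⟩ := exists_prime_orderOf_dvd_card' b hdiv
    have hy' : orderOf (y : M) = b := by rw [Subgroup.orderOf_coe]; exact hy
    have hm0 : orderOf m ≠ 0 := (orderOf_pos m).ne'
    have hx'ord : orderOf (m ^ (orderOf m / r)) = r := orderOf_pow_orderOf_div hm0 hrm
    have hcomm : Commute (m ^ (orderOf m / r)) (y : M) := by
      have := y.2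
      rw [mem_centralizer_singleton_iff] at this
      have hc : Commute (y : M) m := this
      exact (hc.pow_right _).symm
    have hco : (orderOf (m ^ (orderOf m / r))).Coprime (orderOf (y : M)) := by
      rw [hx'ord, hy']
      exact (Nat.coprime_primes hr hb).mpr (fun h => hbS' (h ▸ hrS))
    have hord := hcomm.orderOf_mul_eq_mul_orderOf_of_coprime hco
    rw [hx'ord, hy'] at hord
    have hrM : r ∣ Nat.card M := hrm.trans (orderOf_dvd_natCard m)
    exact hd r hrS b hbS' hr hb hrM hbM ⟨_, hord⟩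
  have hcard := (centralizer ({m} : Set M)).card_mul_index
  have h1 : b ^ ((Nat.card M).factorization b) ∣
      Nat.card (centralizer ({m} : Set M)) * (centralizer ({m} : Set M)).index := by
    rw [hcard]
    exact Nat.ordProj_dvd _ _
  have hcop : (b ^ ((Nat.card M).factorization b)).Coprime
      (Nat.card (centralizer ({m} : Set M))) :=
    Nat.Coprime.pow_left _ ((Nat.Prime.coprime_iff_not_dvd hb).mpr hnot)
  exact hcop.dvd_of_dvd_mul_left h1

theorem h14chen_mside_not_both {S : Set ℕ} (hp : ∃ p : ℕ, p.Prime ∧ p ∣ Nat.card M) (m : M) :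
    ¬ (h14chen_Full (Nat.card M) S (centralizer ({m} : Set M)).index ∧
      h14chen_Full (Nat.card M) Sᶜ (centralizer ({m} : Set M)).index) := by
  rintro ⟨h1, h2⟩
  have hM0 : Nat.card M ≠ 0 := Nat.card_pos.ne'
  have hidx0 : (centralizer ({m} : Set M)).index ≠ 0 := Subgroup.index_ne_zero_of_finite
  have hdvd : Nat.card M ∣ (centralizer ({m} : Set M)).index := by
    rw [← Nat.factorization_prime_le_iff_dvd hM0 hidx0]
    intro p hp
    by_cases hpM : p ∣ Nat.card M
    · by_cases hpS : p ∈ S
      · exact (hp.pow_dvd_iff_le_factorization hidx0).mp (h1 p hpS hp hpM)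
      · exact (hp.pow_dvd_iff_le_factorization hidx0).mp (h2 p hpS hp hpM)
    · rw [Nat.factorization_eq_zero_of_not_dvd hpM]
      exact Nat.zero_le _
  have hcard := (centralizer ({m} : Set M)).card_mul_index
  have hidx : (centralizer ({m} : Set M)).index = Nat.card M :=
    Nat.dvd_antisymm (index_dvd_card _) hdvd
  rw [hidx] at hcard
  have hC1 : Nat.card (centralizer ({m} : Set M)) = 1 := by
    have : Nat.card (centralizer ({m} : Set M)) * Nat.card M = 1 * Nat.card M := by
      rw [hcard, one_mul]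
    exact Nat.eq_of_mul_eq_mul_right (Nat.pos_of_ne_zero hM0) this
  have hbot : centralizer ({m} : Set M) = ⊥ := Subgroup.card_eq_one.mp hC1
  have hm : m ∈ centralizer ({m} : Set M) := by
    rw [mem_centralizer_singleton_iff]
  rw [hbot, Subgroup.mem_bot] at hm
  rw [hm, h14chen_centralizer_one, Subgroup.card_top] at hC1
  obtain ⟨p, hpp, hpM⟩ := hp
  rw [hC1] at hpM
  exact hpp.one_lt.ne' (Nat.dvd_one.mp hpM)

theorem h14chen_mside_or {A : Set ℕ} (hd : h14chen_Disc M A) {m : M} (hm : m ≠ 1) :
    h14chen_Full (Nat.card M) A (centralizer ({m} : Set M)).index ∨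
      h14chen_Full (Nat.card M) Aᶜ (centralizer ({m} : Set M)).index := by
  have h1 : orderOf m ≠ 1 := fun h => hm (orderOf_eq_one_iff.mp h)
  obtain ⟨r, hr, hrm⟩ := Nat.exists_prime_and_dvd h1
  by_cases hrA : r ∈ A
  · exact Or.inr (h14chen_mside_full hd hr hrA hrm)
  · left
    have := h14chen_mside_full (h14chen_disc_compl hd) hr (show r ∈ Aᶜ from hrA) hrm
    rwa [compl_compl] at this

/-- **Chen's lemma** in the shape of S4184. -/
theorem h14chen_main {G M : Type*}
    [Group G] [Finite G] [Group M] [Finite M] (hZG : Subgroup.center G = ⊥)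
    (h : Set.range (fun g : G => (Subgroup.centralizer ({g} : Set G)).index) =
      Set.range (fun g : M => (Subgroup.centralizer ({g} : Set M)).index))
    (hdisc : ∃ A : Set ℕ, (∃ a ∈ A, a.Prime ∧ a ∣ Nat.card M) ∧
      (∃ b ∉ A, b.Prime ∧ b ∣ Nat.card M) ∧
      ∀ a ∈ A, ∀ b ∉ A, a.Prime → b.Prime → a ∣ Nat.card M → b ∣ Nat.card M →
        ¬ ∃ x : M, orderOf x = a * b) :
    Nat.card G = Nat.card M := by
  obtain ⟨A, ⟨a, haA, hap, haM⟩, ⟨b, hbA, hbp, hbM⟩, hd⟩ := hdisc
  have hd' : h14chen_Disc M A := hd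
  have hGM : ∀ g : G, ∃ m : M, (centralizer ({m} : Set M)).index =
      (centralizer ({g} : Set G)).index := by
    intro g
    have hg : (centralizer ({g} : Set G)).index ∈
        Set.range (fun g : G => (Subgroup.centralizer ({g} : Set G)).index) := ⟨g, rfl⟩
    rw [h] at hg
    exact hg
  have hMG : ∀ m : M, ∃ g : G, (centralizer ({g} : Set G)).index =
      (centralizer ({m} : Set M)).index := by
    intro m
    have hm : (centralizer ({m} : Set M)).index ∈
        Set.range (fun g : M => (Subgroup.centralizer ({g} : Set M)).index) := ⟨m, rfl⟩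
    rw [← h] at hm
    exact hm
  refine h14chen_gside (Nat.card M) Nat.card_pos.ne' A hZG ?_ ?_ ?_ ?_ ?_
    ⟨a, haA, hap, haM⟩ ⟨b, hbA, hbp, hbM⟩
  · intro g
    obtain ⟨m, hm⟩ := hGM g
    rw [← hm]
    exact index_dvd_card _
  · intro g hg
    obtain ⟨m, hm⟩ := hGM g
    rw [← hm]
    apply h14chen_mside_or hd'
    rintro rfl
    apply hg
    rw [h14chen_centralizer_one, index_top] at hm
    have htop : centralizer ({g} : Set G) = ⊤ := Subgroup.index_eq_one.mp hm.symm
    have hgc : g ∈ Subgroup.center G := by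
      rw [Subgroup.mem_center_iff]
      intro k
      have hk : k ∈ centralizer ({g} : Set G) := by rw [htop]; trivial
      rw [mem_centralizer_singleton_iff] at hk
      exact hk
    rw [hZG, Subgroup.mem_bot] at hgc
    exact hgc
  · intro g
    obtain ⟨m, hm⟩ := hGM g
    rw [← hm]
    exact h14chen_mside_not_both ⟨a, hap, haM⟩ m
  · haveI : Fact b.Prime := ⟨hbp⟩
    obtain ⟨m, hm⟩ := exists_prime_orderOf_dvd_card' b hbM
    obtain ⟨g, hg⟩ := hMG m
    refine ⟨g, ?_⟩
    rw [hg]
    have := h14chen_mside_full (h14chen_disc_compl hd') hbp (show b ∈ Aᶜ from hbA)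
      (m := m) (by rw [hm])
    rwa [compl_compl] at this
  · haveI : Fact a.Prime := ⟨hap⟩
    obtain ⟨m, hm⟩ := exists_prime_orderOf_dvd_card' a haM
    obtain ⟨g, hg⟩ := hMG m
    refine ⟨g, ?_⟩
    rw [hg]
    exact h14chen_mside_full hd' hap haA (m := m) (by rw [hm])

end Cfsg.Agent.Lib.Helper14.Chen
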