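import Mathlib
import Cfsg.Agent.Lib.Helper14.DkRep
import Cfsg.Agent.S0800

set_option autoImplicit false

/-!
# Tori: the centralizer of a semisimple element is cyclic of order dividing `q ± 1`
-/

namespace Cfsg.Agent.Lib.Helper14.Dk

open Matrix Cfsg.Agent.Lib.Helper2.SL2

variable {F : Type*} [Field F] {G : Type*} [Group G]

local notation "SL2" => Matrix.SpecialLinearGroup (Fin 2) F

/-- elements commuting with an upper triangular matrix with distinct diagonal entries are upper
triangular -/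
theorem upper_of_commute (τ : G →* SL2) {y₀ : G} (h10 : τ y₀ 1 0 = 0)
    (hne : τ y₀ 0 0 ≠ τ y₀ 1 1) : M y₀ ≤ BG τ := by
  intro a ha
  rw [mem_M] at ha
  have hc' : τ y₀ * τ a = τ a * τ y₀ := by rw [← map_mul, ← map_mul, ha]
  obtain ⟨_, _, x10, _⟩ := entries_of_eq hc'
  simp only [mul10, h10] at x10
  rw [mem_BG]
  have : τ a 1 0 * (τ y₀ 0 0 - τ y₀ 1 1) = 0 := by linear_combination -x10
  rcases mul_eq_zero.mp this with h1 | h1
  · exact h1
  · exact absurd (sub_eq_zero.mp h1) hne

/-- the split case -/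
theorem torus_split [Finite G] (τ : G →* SL2) (hτ : Function.Injective τ) {x : G}
    (h10 : τ x 1 0 = 0) (hne : τ x 0 0 ≠ τ x 1 1) : IsCyclic (M x) := by
  have hle := upper_of_commute τ h10 hne
  let f : ↥(M x) →* F := (Units.coeHom F).comp ((diagHom τ).comp (Subgroup.inclusion hle))
  apply isCyclic_of_injective_ringHom f
  rw [injective_iff_map_eq_one]
  intro y hy
  have h00 : τ y.1 0 0 = 1 := hy
  have hy10 : τ y.1 1 0 = 0 := mem_BG.mp (hle y.2)
  have hdy := det2 (τ y.1)
  rw [hy10, h00] at hdy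
  have h11 : τ y.1 1 1 = 1 := by linear_combination hdy
  have hc := mem_M.mp y.2
  have hc' : τ x * τ y.1 = τ y.1 * τ x := by rw [← map_mul, ← map_mul, hc]
  obtain ⟨_, x01, _, _⟩ := entries_of_eq hc'
  simp only [mul01, h00, h11, h10] at x01
  have h01 : τ y.1 0 1 = 0 := by
    have : τ y.1 0 1 * (τ x 0 0 - τ x 1 1) = 0 := by linear_combination x01
    rcases mul_eq_zero.mp this with h1 | h1
    · exact h1
    · exact absurd (sub_eq_zero.mp h1) hne
  apply Subtype.ext
  apply hτ
  rw [Subgroup.coe_one, map_one]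
  apply ext2 <;> simp only [one00, one01, one10, one11] <;> assumption

/-- conjugating an element with an eigenvalue in `F` to upper triangular form -/
theorem exists_conj_upper' (a : SL2) (l : F) (hl : l * (tr2 a - l) = 1) :
    ∃ c : SL2, (c * a * c⁻¹) 1 0 = 0 := by
  by_cases h10 : a 1 0 = 0
  · exact ⟨1, by simpa using h10⟩
  have hd := det2 a
  unfold tr2 at hl
  refine ⟨(mk2 (l - a 1 1) (-(a 1 0)⁻¹) (a 1 0) 0 (by field_simp; ring))⁻¹, ?_⟩
  rw [inv_inv]
  simp only [mul00, mul01, mul10, mul11, inv00, inv01, inv10, inv11, mk2_00, mk2_01, mk2_10,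
    mk2_11]
  linear_combination (a 1 0) * hd - (a 1 0) * hl

section nonsplit

/-- the ring `F[A]` -/
def Kr (A : SL2) : Subring (Matrix (Fin 2) (Fin 2) F) where
  carrier := {M | ∃ α β : F, M = α • (1 : Matrix (Fin 2) (Fin 2) F) + β • (A : Matrix (Fin 2) (Fin 2) F)}
  mul_mem' := by
    rintro _ _ ⟨α, β, rfl⟩ ⟨α', β', rfl⟩
    refine ⟨α * α' - β * β', α * β' + α' * β + β * β' * (A 0 0 + A 1 1), ?_⟩
    have hd := det2 A
    ext i j
    fin_cases i <;> fin_cases j <;>
      simp [Matrix.mul_apply, Fin.sum_univ_two, Matrix.add_apply, Matrix.smul_apply] <;>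
      first | ring1 | linear_combination (-(β * β')) * hd | linear_combination (β * β') * hd
  one_mem' := ⟨1, 0, by simp⟩
  add_mem' := by
    rintro _ _ ⟨α, β, rfl⟩ ⟨α', β', rfl⟩
    exact ⟨α + α', β + β', by rw [add_smul, add_smul]; abel⟩
  zero_mem' := ⟨0, 0, by simp⟩
  neg_mem' := by
    rintro _ ⟨α, β, rfl⟩
    exact ⟨-α, -β, by rw [neg_smul, neg_smul]; abel⟩

theorem Kr_comm (A : SL2) (a b : Kr A) : a * b = b * a := by
  obtain ⟨_, α, β, rfl⟩ := a
  obtain ⟨_, α', β', rfl⟩ := b
  apply Subtype.ext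
  show (α • (1 : Matrix (Fin 2) (Fin 2) F) + β • (A : Matrix (Fin 2) (Fin 2) F)) *
    (α' • (1 : Matrix (Fin 2) (Fin 2) F) + β' • (A : Matrix (Fin 2) (Fin 2) F)) =
    (α' • (1 : Matrix (Fin 2) (Fin 2) F) + β' • (A : Matrix (Fin 2) (Fin 2) F)) *
    (α • (1 : Matrix (Fin 2) (Fin 2) F) + β • (A : Matrix (Fin 2) (Fin 2) F))
  ext i j
  fin_cases i <;> fin_cases j <;>
    simp [Matrix.mul_apply, Fin.sum_univ_two, Matrix.add_apply, Matrix.smul_apply] <;> ring

theorem det_lin (A : SL2) (α β : F) :
    (α • (1 : Matrix (Fin 2) (Fin 2) F) + β • (A : Matrix (Fin 2) (Fin 2) F)).det =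
      α ^ 2 + α * β * (A 0 0 + A 1 1) + β ^ 2 := by
  have hd := det2 A
  rw [Matrix.det_fin_two]
  simp [Matrix.add_apply, Matrix.smul_apply]
  linear_combination (β ^ 2) * hd

/-- in the nonsplit case the nonzero elements of `F[A]` are invertible -/
theorem det_ne_zero_of_nonsplit (A : SL2) (hns : ∀ l : F, l * (tr2 A - l) ≠ 1) {α β : F}
    (h : α ≠ 0 ∨ β ≠ 0) :
    (α • (1 : Matrix (Fin 2) (Fin 2) F) + β • (A : Matrix (Fin 2) (Fin 2) F)).det ≠ 0 := by
  rw [det_lin]
  intro h0
  by_cases hβ : β = 0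
  · subst hβ
    rcases h with h | h
    · apply h
      have : α ^ 2 = 0 := by linear_combination h0
      exact pow_eq_zero_iff (two_ne_zero) |>.mp this
    · exact h rfl
  · apply hns (-(α / β))
    unfold tr2
    field_simp
    linear_combination -h0

instance Kr_commRing (A : SL2) : CommRing (Kr A) :=
  { (Kr A).toRing with mul_comm := Kr_comm A }

theorem Kr_isDomain (A : SL2) (hns : ∀ l : F, l * (tr2 A - l) ≠ 1) : IsDomain (Kr A) := by
  have hnz : NoZeroDivisors (Kr A) := by
    constructor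
    intro a b hab
    obtain ⟨Ma, α, β, rfl⟩ := a
    by_cases h0 : α ≠ 0 ∨ β ≠ 0
    · right
      have hdet := det_ne_zero_of_nonsplit A hns h0
      have hab' : (α • (1 : Matrix (Fin 2) (Fin 2) F) + β • (A : Matrix (Fin 2) (Fin 2) F)) *
          (b : Matrix (Fin 2) (Fin 2) F) = 0 := congrArg Subtype.val hab
      have hu : IsUnit (α • (1 : Matrix (Fin 2) (Fin 2) F) +
          β • (A : Matrix (Fin 2) (Fin 2) F)).det := isUnit_iff_ne_zero.mpr hdet
      have := congrArg (fun M => (α • (1 : Matrix (Fin 2) (Fin 2) F) +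
          β • (A : Matrix (Fin 2) (Fin 2) F))⁻¹ * M) hab'
      simp only [mul_zero] at this
      rw [← mul_assoc, Matrix.nonsing_inv_mul _ hu, one_mul] at this
      exact Subtype.ext this
    · left
      push Not at h0
      obtain ⟨rfl, rfl⟩ := h0
      apply Subtype.ext
      simp
  have hnt : Nontrivial (Kr A) := by
    refine ⟨⟨0, 1, ?_⟩⟩
    intro h
    have := congrArg (fun M : Kr A => (M : Matrix (Fin 2) (Fin 2) F) 0 0) h
    simp at this
  exact NoZeroDivisors.to_isDomain _

/-- the centralizer of a nonsplit element lies in `F[A]` -/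
theorem mem_Kr_of_commute (A B : SL2) (h10 : A 1 0 ≠ 0) (hc : A * B = B * A) :
    (B : Matrix (Fin 2) (Fin 2) F) ∈ Kr A := by
  obtain ⟨x00, x01, x10, x11⟩ := entries_of_eq hc
  simp only [mul00, mul01, mul10, mul11] at x00 x01 x10 x11
  refine ⟨B 0 0 - B 1 0 / A 1 0 * A 0 0, B 1 0 / A 1 0, ?_⟩
  ext i j
  fin_cases i <;> fin_cases j <;>
    simp [Matrix.add_apply, Matrix.smul_apply] <;> field_simp
  · first | linear_combination x00 | linear_combination -x00
  · first | linear_combination x10 | linear_combination -x10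

/-- the nonsplit case -/
theorem torus_nonsplit [Finite G] (τ : G →* SL2) (hτ : Function.Injective τ) {x : G}
    (hns : ∀ l : F, l * (tr2 (τ x) - l) ≠ 1) : IsCyclic (M x) := by
  have h10 : τ x 1 0 ≠ 0 := by
    intro h0
    apply hns (τ x 0 0)
    have hd := det2 (τ x)
    rw [h0] at hd
    unfold tr2
    linear_combination hd
  have := Kr_isDomain (τ x) hns
  let f : ↥(M x) →* Kr (τ x) :=
    { toFun := fun y => ⟨(τ y.1 : Matrix (Fin 2) (Fin 2) F), mem_Kr_of_commute (τ x) (τ y.1) h10 (by
        rw [← map_mul, ← map_mul, mem_M.mp y.2])⟩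
      map_one' := by
        apply Subtype.ext
        simp
      map_mul' := by
        intro a b
        apply Subtype.ext
        simp }
  apply isCyclic_of_injective_ringHom f
  intro a b hab
  apply Subtype.ext
  apply hτ
  apply Subtype.ext
  have := congrArg (fun z : Kr (τ x) => (z : Matrix (Fin 2) (Fin 2) F)) hab
  exact this

end nonsplit

/-- the centralizer of a semisimple element is cyclic -/
theorem torus_isCyclic [Finite G] (τ : G →* SL2) (hτ : Function.Injective τ) {x : G}
    (hU : ¬ UU τ x) : IsCyclic (M x) := by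
  by_cases hs : ∃ l : F, l * (tr2 (τ x) - l) = 1
  · obtain ⟨l, hl⟩ := hs
    obtain ⟨c, hc⟩ := exists_conj_upper' (τ x) l hl
    let τ' : G →* SL2 := (MulAut.conj c).toMonoidHom.comp τ
    have e : τ' x = c * τ x * c⁻¹ := rfl
    have hτ' : Function.Injective τ' := (MulAut.conj c).injective.comp hτ
    apply torus_split τ' hτ' (by rw [e]; exact hc)
    intro heq
    apply hU
    unfold UU
    rw [← tr2_conj c (τ x), ← e]
    have hd := det2 (τ' x)
    rw [e, hc, ← e] at hd
    unfold tr2
    rw [← heq] at hd ⊢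
    linear_combination 4 * hd
  · push Not at hs
    exact torus_nonsplit τ hτ hs

/-- an element of order `p` is unipotent -/
theorem tr_of_pow_char (p : ℕ) [Fact p.Prime] [CharP F p] (g : SL2) (hg : g ^ p = 1) :
    tr2 g = 2 := by
  set A : Matrix (Fin 2) (Fin 2) F := (g : Matrix (Fin 2) (Fin 2) F) with hA
  have hAp : A ^ p = 1 := by
    have := congrArg (fun z : SL2 => (z : Matrix (Fin 2) (Fin 2) F)) hg
    simpa using this
  have hchar : CharP (Matrix (Fin 2) (Fin 2) F) p := Matrix.charP p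
  set N : Matrix (Fin 2) (Fin 2) F := A - 1 with hN
  have hNp : N ^ p = 0 := by
    rw [hN, sub_pow_char_of_commute p (Commute.one_right A), hAp, one_pow, sub_self]
  have hdet : N.det = 0 := by
    have : N.det ^ p = 0 := by rw [← Matrix.det_pow, hNp]; simp
    exact pow_eq_zero_iff (Fact.out : p.Prime).ne_zero |>.mp this
  have hCH : N * N = N.trace • N := by
    rw [Matrix.det_fin_two] at hdet
    ext i j
    fin_cases i <;> fin_cases j <;>
      simp [Matrix.mul_apply, Fin.sum_univ_two, Matrix.trace, Matrix.smul_apply] <;>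
      first | ring1 | linear_combination hdet | linear_combination -hdet
  have hpow : ∀ k : ℕ, N ^ (k + 1) = N.trace ^ k • N := by
    intro k
    induction k with
    | zero => simp
    | succ k ih =>
      rw [pow_succ, ih, Matrix.smul_mul, hCH, smul_smul, pow_succ]
  have hp := (Fact.out : p.Prime)
  obtain ⟨k, hk⟩ : ∃ k, p = k + 1 := ⟨p - 1, by have := hp.pos; omega⟩
  have h0 : N.trace ^ k • N = 0 := by rw [← hpow, ← hk, hNp]
  have htr : N.trace = 0 := by
    rcases smul_eq_zero.mp h0 with h1 | h1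
    · rcases Nat.eq_zero_or_pos k with rfl | hkpos
      · exfalso
        rw [hk] at hp
        exact Nat.not_prime_one hp
      · exact pow_eq_zero_iff hkpos.ne' |>.mp h1
    · rw [h1]; simp
  have : N.trace = tr2 g - 2 := by
    rw [hN, Matrix.trace_sub, Matrix.trace_one, Matrix.trace_fin_two]
    unfold tr2
    simp [hA]
  rw [this] at htr
  linear_combination htr

/-- the order of a torus divides `q - 1` or `q + 1` -/
theorem torus_card_dvd [Fintype F] [Finite G] (p : ℕ) [Fact p.Prime] [CharP F p] (τ : G →* SL2)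
    (hτ : Function.Injective τ) {x : G} (hx : x ∉ ZZ τ) (hU : ¬ UU τ x) :
    aa x ∣ Fintype.card F - 1 ∨ aa x ∣ Fintype.card F + 1 := by
  have hcyc := torus_isCyclic τ hτ hU
  obtain ⟨y₀, hy₀⟩ := IsCyclic.exists_generator (α := ↥(M x))
  have hord : orderOf y₀ = Nat.card (M x) := orderOf_eq_card_of_forall_mem_zpowers hy₀
  have hord' : orderOf (τ y₀.1) = aa x := by
    rw [orderOf_injective τ hτ, Subgroup.orderOf_coe, hord]
    rfl
  rw [← hord']
  apply Cfsg.Agent.S0800.result rfl p
  rw [Nat.coprime_comm, Nat.Prime.coprime_iff_not_dvd (Fact.out : p.Prime)]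
  intro hdvd
  obtain ⟨m, hm⟩ := hdvd
  -- u = (τ y₀)^m has order p
  have hup : (τ y₀.1 ^ m) ^ p = 1 := by
    rw [← pow_mul, mul_comm, ← hm, pow_orderOf_eq_one]
  have hu1 : τ y₀.1 ^ m ≠ 1 := by
    intro h1
    have := orderOf_dvd_of_pow_eq_one h1
    rw [hm] at this
    have hmpos : 0 < m := by
      rcases Nat.eq_zero_or_pos m with rfl | h
      · rw [mul_zero] at hm
        have : 0 < orderOf (τ y₀.1) := by
          rw [hord']; exact aa_pos x
        omega
      · exact h
    have := Nat.le_of_dvd hmpos this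
    have hp2 := (Fact.out : p.Prime).two_le
    nlinarith
  have htr := tr_of_pow_char p _ hup
  have hyZ : y₀.1 ^ m ∉ ZZ τ := by
    rw [mem_ZZ, map_pow]
    rintro (h1 | h1)
    · exact hu1 h1
    · -- then 2 = -2, so -1 = 1
      rw [h1] at htr
      unfold tr2 at htr
      simp only [neg00, neg11, one00, one11] at htr
      apply hu1
      rw [h1]
      have h4 : (2 : F) ^ 2 = 0 := by linear_combination -htr
      have h20 : (2 : F) = 0 := pow_eq_zero_iff (two_ne_zero) |>.mp h4
      have h11 : (-1 : F) = 1 := by linear_combination -h20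
      apply ext2 <;> simp only [neg00, neg01, neg10, neg11, one00, one01, one10, one11] <;>
        simp [h11]
  apply hU
  have hUu : UU τ (y₀.1 ^ m) := by
    unfold UU
    rw [map_pow, htr]; norm_num
  have hcomm : (y₀.1 ^ m) * x = x * (y₀.1 ^ m) := by
    have : y₀.1 ^ m ∈ M x := (M x).pow_mem y₀.2 m
    exact (mem_M.mp this).symm
  exact UU_comm τ _ x hyZ hcomm hUu

end Cfsg.Agent.Lib.Helper14.Dk
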