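import Mathlib
import Cfsg.Agent.Lib.Helper14.DkMain2
import Cfsg.Agent.Lib.Helper14.DkField
import Cfsg.Agent.Lib.Helper14.DkTorus
import Cfsg.Agent.Lib.Helper38.SLCard

set_option autoImplicit false

/-!
# Subgroups of `SL₂(q)`: orders
-/

namespace Cfsg.Agent.Lib.Helper14.Dk

open Cfsg.Agent.Lib.Helper2.SL2

section

variable {F : Type*} [Field F] [Fintype F]

local notation "SL2" => Matrix.SpecialLinearGroup (Fin 2) F

theorem two_eq_zero_of_even (h : Even (Fintype.card F)) : (2 : F) = 0 := by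
  have h1 : ringChar F = 2 := FiniteField.even_card_iff_char_two.mpr (Nat.even_iff.mp h)
  haveI : CharP F 2 := by rw [← h1]; exact ringChar.charP F
  exact CharTwo.two_eq_zero

theorem two_ne_zero_of_odd (h : Odd (Fintype.card F)) : (2 : F) ≠ 0 := by
  apply Ring.two_ne_zero
  intro h1
  have := FiniteField.even_card_iff_char_two.mp h1
  have := Nat.odd_iff.mp h
  omega

theorem neg_one_eq_one_of_even (h : Even (Fintype.card F)) : (-1 : SL2) = 1 := by
  have h20 := two_eq_zero_of_even h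
  have h11 : (-1 : F) = 1 := by linear_combination -h20
  apply ext2 <;> simp only [neg00, neg01, neg10, neg11, one00, one01, one10, one11] <;>
    simp [h11]

theorem neg_one_ne_one_of_odd (h : Odd (Fintype.card F)) : (-1 : SL2) ≠ 1 := by
  intro h1
  have := (entries_of_eq h1).1
  rw [neg00, one00] at this
  apply two_ne_zero_of_odd h
  linear_combination -this

variable {G : Type*} [Group G]

theorem card_ZZ_of_even (h : Even (Fintype.card F)) (τ : G →* SL2) (hτ : Function.Injective τ) :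
    Nat.card (ZZ τ) = 1 := by
  have : ZZ τ = ⊥ := by
    rw [eq_bot_iff]
    intro x hx
    rw [Subgroup.mem_bot]
    apply hτ
    rw [map_one]
    rcases mem_ZZ.mp hx with h1 | h1
    · exact h1
    · rw [h1, neg_one_eq_one_of_even h]
  rw [this]
  simp

theorem card_ZZ_of_odd (h : Odd (Fintype.card F)) (Y : Subgroup SL2)
    (hZ : Subgroup.center SL2 ≤ Y) : Nat.card (ZZ Y.subtype) = 2 := by
  have hle := card_ZZ_le Y.subtype Y.subtype_injective
  have hmem : (⟨-1, hZ neg_one_mem_center⟩ : ↥Y) ∈ ZZ Y.subtype := by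
    rw [mem_ZZ]; right; rfl
  haveI : Nontrivial (ZZ Y.subtype) := by
    refine ⟨⟨⟨_, hmem⟩, 1, ?_⟩⟩
    intro h1
    have h2 : (-1 : SL2) = 1 := congrArg (fun z : ZZ Y.subtype => ((z : ↥Y) : SL2)) h1
    exact neg_one_ne_one_of_odd h h2
  have : 1 < Nat.card (ZZ Y.subtype) := Finite.one_lt_card
  omega

end

theorem psld_le {qH k g₂ g : ℕ} (h : Arith.PSLd qH k g₂ g) (hk : 2 ≤ k) :
    qH ≤ 2 * k + 1 ∧ 3 ≤ qH := by
  rcases h with ⟨h1, _, _⟩ | ⟨h1, _, _⟩ | ⟨h1, h2, _, _⟩ <;> omega

theorem num_small (q n d : ℕ) (hq4 : 4 ≤ q) (hq : q ∉ ({2, 3, 5, 7, 9, 11} : Finset ℕ))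
    (hdeven : Even q → d = 1) (hd : d = 1 ∨ d = 2) (hn : n = 12 ∨ n = 24 ∨ n = 60)
    (hdvd : d * n ∣ q * (q ^ 2 - 1)) (hne : d * n ≠ q * (q ^ 2 - 1)) : d * n ≤ q * (q - 1) := by
  rcases Nat.lt_or_ge q 13 with hlt | hge
  · simp only [Finset.mem_insert, Finset.mem_singleton, not_or] at hq
    have heven : Even q := by
      interval_cases q <;> first | omega | decide
    have hd1 := hdeven heven
    subst hd1
    rw [one_mul] at *
    interval_cases q <;> rcases hn with rfl | rfl | rfl <;> omega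
  · have h1 : 13 * 12 ≤ q * (q - 1) := Nat.mul_le_mul hge (by omega)
    rcases hd with rfl | rfl <;> rcases hn with rfl | rfl | rfl <;> omega

theorem num_psl (q qH k g₂ g d m : ℕ) (hP : Arith.PSLd qH k g₂ g) (hk : 2 ≤ k) (hm : 1 ≤ m)
    (hqm : qH ^ m = q) (hd : d = 1 ∨ d = 2) (hdodd : Odd q → d = 2)
    (hq : q ∉ ({2, 3, 5, 7, 9, 11} : Finset ℕ))
    (hle : d * g ≤ q * (q ^ 2 - 1)) (hne : d * g ≠ q * (q ^ 2 - 1)) : d * g ≤ q * (q - 1) := by
  simp only [Finset.mem_insert, Finset.mem_singleton, not_or] at hq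
  rcases Nat.lt_or_ge m 2 with hm1 | hm2
  · have : m = 1 := by omega
    subst this
    rw [pow_one] at hqm
    subst hqm
    exfalso
    rcases hP with ⟨h1, h2, h3⟩ | ⟨h1, h2, h3⟩ | ⟨h1, h2, h3, h4⟩
    · -- g = q (q-1) (q+1)
      have e : g = qH * (qH ^ 2 - 1) := by
        subst h1 h2 h3
        have : (k + 1) ^ 2 - 1 = k * (k + 1 + 1) := by
          have : (k + 1) ^ 2 = k * (k + 1 + 1) + 1 := by ring
          omega
        rw [this]; ring
      rcases hd with rfl | rfl
      · apply hne; rw [one_mul, e]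
      · rw [e] at hle
        have : 0 < qH * (qH ^ 2 - 1) := by
          apply Nat.mul_pos (by omega)
          have : 2 ^ 2 ≤ qH ^ 2 := Nat.pow_le_pow_left (by omega) 2
          omega
        omega
    · have hodd : Odd qH := ⟨k, by omega⟩
      have hd2 := hdodd hodd
      subst hd2
      apply hne
      subst h1 h3
      have : (2 * k + 1) ^ 2 - 1 = 2 * k * (2 * g₂) := by
        have : (2 * k + 1) ^ 2 = 2 * k * (2 * k + 1 + 1) + 1 := by ring
        rw [h2]; omega
      rw [this]; ring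
    · omega
  · have hs3 := (psld_le hP hk).2
    have hqs : qH * qH ≤ q := by
      rw [← hqm, ← pow_two]
      exact Nat.pow_le_pow_right (by omega) hm2
    have hmono : qH * qH * (qH * qH - 1) ≤ q * (q - 1) :=
      Nat.mul_le_mul hqs (by omega)
    rcases hP with ⟨h1, h2, h3⟩ | ⟨h1, h2, h3⟩ | ⟨h1, h2, h3, h4⟩
    · refine le_trans ?_ hmono
      obtain ⟨t, rfl⟩ : ∃ t, qH = t + 3 := ⟨qH - 3, by omega⟩
      have e1 : (t + 3) * (t + 3) - 1 = t * t + 6 * t + 8 := by
        have : (t + 3) * (t + 3) = t * t + 6 * t + 8 + 1 := by ring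
        omega
      rw [e1]
      have hk' : k = t + 2 := by omega
      subst hk' h2 h3
      rcases hd with rfl | rfl <;> nlinarith
    · refine le_trans ?_ hmono
      obtain ⟨t, rfl⟩ : ∃ t, qH = t + 3 := ⟨qH - 3, by omega⟩
      have e1 : (t + 3) * (t + 3) - 1 = t * t + 6 * t + 8 := by
        have : (t + 3) * (t + 3) = t * t + 6 * t + 8 + 1 := by ring
        omega
      rw [e1]
      have : 2 * g = (t + 3) * (2 * k) * (2 * g₂) := by
        rw [h3]; ring
      have h2k : 2 * k = t + 2 := by omega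
      have h2g : 2 * g₂ = t + 4 := by omega
      rw [h2k, h2g] at this
      rcases hd with rfl | rfl <;> nlinarith
    · -- qH = 3, g = 60, q = 3^m, m ≥ 3
      subst h1 h4
      have hm3 : 3 ≤ m := by
        rcases Nat.lt_or_ge m 3 with h | h
        · have : m = 2 := by omega
          subst this
          norm_num at hqm
          omega
        · exact h
      have h27 : 27 ≤ q := by
        rw [← hqm]
        calc 27 = 3 ^ 3 := by norm_num
          _ ≤ 3 ^ m := Nat.pow_le_pow_right (by omega) hm3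
      have : 27 * 26 ≤ q * (q - 1) := Nat.mul_le_mul h27 (by omega)
      rcases hd with rfl | rfl <;> omega


section

variable {F : Type*} [Field F] [Fintype F]

local notation "SL2" => Matrix.SpecialLinearGroup (Fin 2) F

/-- a proper subgroup of `SL₂(q)` containing the centre has order at most `q (q - 1)` -/
theorem card_le_of_proper (p : ℕ) [Fact p.Prime] [CharP F p] (Y : Subgroup SL2)
    (hZ : Subgroup.center SL2 ≤ Y) (hY : Y ≠ ⊤)
    (hq : Fintype.card F ∉ ({2, 3, 5, 7, 9, 11} : Finset ℕ)) :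
    Nat.card Y ≤ Fintype.card F * (Fintype.card F - 1) := by
  have hq2 : 2 ≤ Fintype.card F := Fintype.one_lt_card
  have hq4 : 4 ≤ Fintype.card F := by
    simp only [Finset.mem_insert, Finset.mem_singleton, not_or] at hq
    omega
  have hL : Nat.card SL2 = Fintype.card F * (Fintype.card F ^ 2 - 1) :=
    Cfsg.Agent.Lib.Helper38.card_SL2
  have hdvd : Nat.card Y ∣ Fintype.card F * (Fintype.card F ^ 2 - 1) :=
    hL ▸ Subgroup.card_subgroup_dvd_card Y
  have hne : Nat.card Y ≠ Fintype.card F * (Fintype.card F ^ 2 - 1) := by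
    intro h
    apply hY
    exact Subgroup.eq_top_of_card_eq Y (h.trans hL.symm)
  have hLpos : 0 < Fintype.card F * (Fintype.card F ^ 2 - 1) := by
    rw [← hL]; exact Nat.card_pos
  have hle : Nat.card Y ≤ Fintype.card F * (Fintype.card F ^ 2 - 1) := Nat.le_of_dvd hLpos hdvd
  have hτ : Function.Injective Y.subtype := Y.subtype_injective
  have D := data_of_rep p Y.subtype hτ
  have hd2 : Nat.card (ZZ Y.subtype) ≤ 2 := card_ZZ_le Y.subtype hτ
  have hd1 : 0 < Nat.card (ZZ Y.subtype) := Nat.card_pos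
  have hd : Nat.card (ZZ Y.subtype) = 1 ∨ Nat.card (ZZ Y.subtype) = 2 := by omega
  have hdeven : Even (Fintype.card F) → Nat.card (ZZ Y.subtype) = 1 :=
    fun h => card_ZZ_of_even h Y.subtype hτ
  have hdodd : Odd (Fintype.card F) → Nat.card (ZZ Y.subtype) = 2 :=
    fun h => card_ZZ_of_odd h Y hZ
  have htor : ∀ x : ↥Y, x ∉ ZZ Y.subtype → ¬ UU Y.subtype x → aa x ≤ Fintype.card F + 1 := by
    intro x hx hU
    rcases torus_card_dvd p Y.subtype hτ hx hU with h | h
    · have := Nat.le_of_dvd (by omega) h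
      omega
    · exact Nat.le_of_dvd (by omega) h
  have hbig : 2 * (Fintype.card F + 1) ≤ Fintype.card F * (Fintype.card F - 1) := by
    obtain ⟨t, ht⟩ : ∃ t, Fintype.card F = t + 4 := ⟨Fintype.card F - 4, by omega⟩
    rw [ht]
    have : t + 4 - 1 = t + 3 := by omega
    rw [this]
    nlinarith
  rcases D.main with h | h | h | h | h | h | h | h
  · -- central
    have : Nat.card Y = Nat.card (ZZ Y.subtype) := by rw [h, Subgroup.card_top]
    omega
  · obtain ⟨x, hx, hU, hM⟩ := h
    have h1 := htor x hx hU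
    have h2 : aa x = Nat.card Y := by
      show Nat.card (M x) = _
      rw [hM, Subgroup.card_top]
    omega
  · obtain ⟨x, hx, hU, hN⟩ := h
    obtain ⟨c, hc⟩ := exists_std Y.subtype hτ hx hU
    rw [hc.normalizer_eq] at hN
    exact card_le_of_BG_top _ hc.inj hN
  · obtain ⟨x, hx, hU, hn, he⟩ := h
    have h1 := htor x hx hU
    have h2 := nn_mul_ee_mul_aa x
    rw [hn, he] at h2
    omega
  · obtain ⟨hc, -⟩ := h
    rw [hc] at hdvd hne ⊢
    exact num_small _ 12 _ hq4 hq hdeven hd (Or.inl rfl) hdvd hne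
  · obtain ⟨hc, -⟩ := h
    rw [hc] at hdvd hne ⊢
    exact num_small _ 24 _ hq4 hq hdeven hd (Or.inr (Or.inl rfl)) hdvd hne
  · obtain ⟨hc, -⟩ := h
    rw [hc] at hdvd hne ⊢
    exact num_small _ 60 _ hq4 hq hdeven hd (Or.inr (Or.inr rfl)) hdvd hne
  · obtain ⟨k, qH, g₂, g, hg, hk2, ⟨⟨x, hx, hUx⟩, hall⟩, hP, -, -, -⟩ := h
    obtain ⟨hee, haa⟩ := hall x hx hUx
    obtain ⟨hle', -⟩ := psld_le hP hk2
    obtain ⟨m, hm1, hm⟩ := field_card_pow Y.subtype hτ hx hUx hee haa hle'
    rw [hg] at hle hne ⊢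
    exact num_psl _ qH k g₂ g _ m hP hk2 hm1 hm hd hdodd hq hle hne

end

end Cfsg.Agent.Lib.Helper14.Dk
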