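import Mathlib
import Cfsg.Agent.Lib.Helper14.DkSub
import Cfsg.Agent.Lib.Helper61.DihedralLift

set_option autoImplicit false

/-!
# The normalizer of a torus: dihedral structure
-/

namespace Cfsg.Agent.Lib.Helper14.Dk

section abstract

variable {G : Type*} [Group G]

namespace Data

variable {Z : Subgroup G} {p : ℕ} {U : G → Prop} (h : Data Z p U)
include h

/-- elements of the torus are of torus type -/
theorem tor_notU {x : G} (hx : x ∉ Z) (hU : ¬ U x) {y : G} (hy : y ∈ M x) (hyZ : y ∉ Z) :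
    ¬ U y := fun hUy => hU (h.U_comm y x hyZ hx (mem_M.mp hy).symm hUy)

/-- elements of the normalizer outside the torus invert the torus -/
theorem tor_inv {x : G} (hx : x ∉ Z) (hU : ¬ U x) {s : G}
    (hs : s ∈ Subgroup.normalizer (M x : Set G)) (hsT : s ∉ M x) {y : G} (hy : y ∈ M x)
    (hyZ : y ∉ Z) : s * y * s⁻¹ = y⁻¹ := by
  have hM : M y = M x := h.toCT.M_eq_of_mem hx hyZ hy
  have hUy := h.tor_notU hx hU hy hyZ
  rw [← hM] at hs hsT
  have hc := (h.toCT.mem_normalizer_M hyZ s).mp hs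
  rcases h.T_inv y s hyZ hUy hc with h1 | h1
  · exfalso
    apply hsT
    rw [mem_M]
    have : s * y * s⁻¹ * s = y * s := by rw [h1]
    rw [← this]; group
  · exact h1

theorem tor_sq_mem {x : G} (hee : ee x = 2) {s : G}
    (hs : s ∈ Subgroup.normalizer (M x : Set G)) : s * s ∈ M x := by
  have h2 : ((M x).subgroupOf (Subgroup.normalizer (M x : Set G))).index = 2 := hee
  have := Subgroup.mul_mem_iff_of_index_two h2
    (a := (⟨s, hs⟩ : ↥(Subgroup.normalizer (M x : Set G)))) (b := ⟨s, hs⟩)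
  have h3 := this.mpr Iff.rfl
  exact h3

theorem tor_sq {x : G} (hx : x ∉ Z) (hee : ee x = 2) {s : G}
    (hs : s ∈ Subgroup.normalizer (M x : Set G)) (hsT : s ∉ M x) : s * s ∈ Z := by
  have h1 := h.tor_sq_mem hee hs
  by_contra hZ
  have hM : M (s * s) = M x := h.toCT.M_eq_of_mem hx hZ h1
  apply hsT
  rw [← hM, mem_M]
  group

theorem tor_coset {x : G} (hee : ee x = 2) {s n : G}
    (hs : s ∈ Subgroup.normalizer (M x : Set G)) (hsT : s ∉ M x)
    (hn : n ∈ Subgroup.normalizer (M x : Set G)) (hnT : n ∉ M x) : s⁻¹ * n ∈ M x := by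
  have h2 : ((M x).subgroupOf (Subgroup.normalizer (M x : Set G))).index = 2 := hee
  have := Subgroup.mul_mem_iff_of_index_two h2
    (a := (⟨s, hs⟩ : ↥(Subgroup.normalizer (M x : Set G)))⁻¹) (b := ⟨n, hn⟩)
  have h3 := this.mpr ⟨fun h' => absurd ((Subgroup.inv_mem_iff _).mp h') (by
    rw [Subgroup.mem_subgroupOf]; exact hsT), fun h' => absurd h' (by
    rw [Subgroup.mem_subgroupOf]; exact hnT)⟩
  exact h3

theorem exists_not_mem_tor {x : G} (hee : ee x = 2) :
    ∃ s ∈ Subgroup.normalizer (M x : Set G), s ∉ M x := by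
  by_contra hcon
  push Not at hcon
  have : Subgroup.normalizer (M x : Set G) ≤ M x := hcon
  have h1 : ee x = 1 := Subgroup.relIndex_eq_one.mpr this
  omega

end Data

/-- a variant of the recognition of dihedral groups -/
theorem nonempty_dihedral_closure (a x : G) (ha2 : a * a = 1)
    (hax : a * x * a⁻¹ = x⁻¹) (hns : a ∉ Subgroup.zpowers x) :
    Nonempty (↥(Subgroup.closure ({a, x} : Set G)) ≃* DihedralGroup (orderOf x)) := by
  have haH : a ∈ Subgroup.closure ({a, x} : Set G) := Subgroup.subset_closure (by simp)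
  have hxH : x ∈ Subgroup.closure ({a, x} : Set G) := Subgroup.subset_closure (by simp)
  have hainv : a⁻¹ = a := inv_eq_of_mul_eq_one_right ha2
  have hs : (⟨a, haH⟩ : ↥(Subgroup.closure ({a, x} : Set G))) * ⟨a, haH⟩ = 1 :=
    Subtype.ext ha2
  have hsx : (⟨a, haH⟩ : ↥(Subgroup.closure ({a, x} : Set G))) * ⟨x, hxH⟩ * ⟨a, haH⟩
      = (⟨x, hxH⟩ : ↥(Subgroup.closure ({a, x} : Set G)))⁻¹ := by
    apply Subtype.ext
    simp only [Subgroup.coe_mul, Subgroup.coe_inv]
    rw [← hax, hainv]
  have hns' : (⟨a, haH⟩ : ↥(Subgroup.closure ({a, x} : Set G))) ∉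
      Subgroup.zpowers (⟨x, hxH⟩ : ↥(Subgroup.closure ({a, x} : Set G))) := by
    rintro ⟨k, hk⟩
    apply hns
    refine ⟨k, ?_⟩
    have := congrArg Subtype.val hk
    simpa using this
  have hgen : Subgroup.closure ({⟨a, haH⟩, ⟨x, hxH⟩} : Set ↥(Subgroup.closure ({a, x} : Set G)))
      = ⊤ := by
    have h := Subgroup.closure_closure_coe_preimage (k := ({a, x} : Set G))
    have hset : (Subtype.val ⁻¹' ({a, x} : Set G) : Set ↥(Subgroup.closure ({a, x} : Set G)))
        = {⟨a, haH⟩, ⟨x, hxH⟩} := by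
      ext ⟨g, hg⟩
      simp [Subtype.ext_iff]
    rw [hset] at h
    exact h
  have e := Cfsg.Agent.Lib.Helper61.dihedralEquiv _ _ hs hsx hns' hgen
  have ho : orderOf (⟨x, hxH⟩ : ↥(Subgroup.closure ({a, x} : Set G))) = orderOf x :=
    Subgroup.orderOf_mk x hxH
  rw [ho] at e
  exact ⟨e.symm⟩

/-- the order of the image of a subgroup containing the kernel -/
theorem card_map_mk (Z : Subgroup G) [Z.Normal] (T : Subgroup G) (hZT : Z ≤ T) :
    Nat.card Z * Nat.card (T.map (QuotientGroup.mk' Z)) = Nat.card T := by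
  set f : ↥T →* G ⧸ Z := (QuotientGroup.mk' Z).comp T.subtype with hf
  have h1 := Subgroup.card_mul_index f.ker
  have hr : f.range = T.map (QuotientGroup.mk' Z) := by
    rw [hf, MonoidHom.range_comp, Subgroup.range_subtype]
  have hk : f.ker = Z.subgroupOf T := by
    rw [hf, ← MonoidHom.comap_ker, QuotientGroup.ker_mk']
    rfl
  rw [Subgroup.index_ker, hr, hk] at h1
  rw [← h1]
  congr 1
  exact (Nat.card_congr (Subgroup.subgroupOfEquivOfLe hZT).toEquiv).symm

/-- the quotient of a "dihedral type" subgroup by a central subgroup is dihedral -/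
theorem dihedral_quotient (Z : Subgroup G) [Z.Normal] (N T : Subgroup G) [Finite T]
    (hZT : Z ≤ T) (x₀ s : G) (hT : T = Subgroup.zpowers x₀) (hsN : s ∈ N) (hTN : T ≤ N)
    (hs : s ∉ T) (hs2 : s * s ∈ Z) (hinv : s * x₀ * s⁻¹ = x₀⁻¹)
    (hcos : ∀ n ∈ N, n ∉ T → s⁻¹ * n ∈ T) :
    Nonempty (↥(N.map (QuotientGroup.mk' Z)) ≃* DihedralGroup (Nat.card T / Nat.card Z)) := by
  set π := QuotientGroup.mk' Z with hπ
  have hx₀T : x₀ ∈ T := by rw [hT]; exact Subgroup.mem_zpowers x₀
  have h1 : π s * π s = 1 := by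
    rw [← map_mul]
    rw [← MonoidHom.mem_ker, QuotientGroup.ker_mk']
    exact hs2
  have h2 : π s * π x₀ * (π s)⁻¹ = (π x₀)⁻¹ := by
    rw [← map_inv, ← map_mul, ← map_mul, hinv, map_inv]
  have h3 : π s ∉ Subgroup.zpowers (π x₀) := by
    rintro ⟨k, hk⟩
    apply hs
    have hk' : π (x₀ ^ k) = π s := by rw [map_zpow]; exact hk
    have : (x₀ ^ k)⁻¹ * s ∈ Z := by
      rw [← QuotientGroup.ker_mk' Z, MonoidHom.mem_ker, map_mul, map_inv]
      show (π (x₀ ^ k))⁻¹ * π s = 1
      rw [hk', inv_mul_cancel]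
    have h4 : (x₀ ^ k)⁻¹ * s ∈ T := hZT this
    have h5 : x₀ ^ k ∈ T := T.zpow_mem hx₀T k
    have := T.mul_mem h5 h4
    rwa [mul_inv_cancel_left] at this
  obtain ⟨e⟩ := nonempty_dihedral_closure (π s) (π x₀) h1 h2 h3
  have hcl : Subgroup.closure ({π s, π x₀} : Set (G ⧸ Z)) = N.map π := by
    apply le_antisymm
    · rw [Subgroup.closure_le]
      rintro y (rfl | rfl)
      · exact Subgroup.mem_map_of_mem _ hsN
      · exact Subgroup.mem_map_of_mem _ (hTN hx₀T)
    · rintro _ ⟨n, hn, rfl⟩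
      have hsc : π s ∈ Subgroup.closure ({π s, π x₀} : Set (G ⧸ Z)) :=
        Subgroup.subset_closure (by simp)
      have hxc : π x₀ ∈ Subgroup.closure ({π s, π x₀} : Set (G ⧸ Z)) :=
        Subgroup.subset_closure (by simp)
      have hTc : ∀ t ∈ T, π t ∈ Subgroup.closure ({π s, π x₀} : Set (G ⧸ Z)) := by
        intro t ht
        rw [hT] at ht
        obtain ⟨k, rfl⟩ := ht
        rw [map_zpow]
        exact Subgroup.zpow_mem _ hxc k
      by_cases hnT : n ∈ T
      · exact hTc n hnT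
      · have h4 := hTc _ (hcos n hn hnT)
        have h5 := Subgroup.mul_mem _ hsc h4
        rw [← map_mul, mul_inv_cancel_left] at h5
        exact h5
  have hord : orderOf (π x₀) = Nat.card T / Nat.card Z := by
    have h4 := card_map_mk Z T hZT
    have h5 : T.map π = Subgroup.zpowers (π x₀) := by
      rw [hT, MonoidHom.map_zpowers]
    rw [h5, Nat.card_zpowers] at h4
    have hZpos : 0 < Nat.card Z := by
      haveI : Finite Z := Finite.of_injective (Subgroup.inclusion hZT)
        (Subgroup.inclusion_injective hZT)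
      exact Nat.card_pos
    rw [← h4, Nat.mul_div_cancel_left _ hZpos]
  rw [hord] at e
  exact ⟨(MulEquiv.subgroupCongr hcl).symm.trans e⟩

/-- maximal subgroups containing the kernel map to maximal subgroups -/
theorem isCoatom_map_mk (Z : Subgroup G) [Z.Normal] (N : Subgroup G) (hZN : Z ≤ N)
    (hN : IsCoatom N) : IsCoatom (N.map (QuotientGroup.mk' Z)) := by
  have hsurj : Function.Surjective (QuotientGroup.mk' Z) := QuotientGroup.mk'_surjective Z
  have hcm : (N.map (QuotientGroup.mk' Z)).comap (QuotientGroup.mk' Z) = N := by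
    rw [Subgroup.comap_map_eq, QuotientGroup.ker_mk']
    exact sup_eq_left.mpr hZN
  constructor
  · intro htop
    apply hN.1
    rw [← hcm, htop, Subgroup.comap_top]
  · intro K hK
    have h1 : N ≤ K.comap (QuotientGroup.mk' Z) := by
      rw [← hcm]
      exact Subgroup.comap_mono hK.le
    have h2 : N ≠ K.comap (QuotientGroup.mk' Z) := by
      intro heq
      apply hK.ne
      rw [heq, Subgroup.map_comap_eq_self_of_surjective hsurj]
    have h3 := hN.2 _ (lt_of_le_of_ne h1 h2)
    rw [← Subgroup.map_comap_eq_self_of_surjective hsurj K, h3]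
    exact Subgroup.map_top_of_surjective _ hsurj

end abstract

end Cfsg.Agent.Lib.Helper14.Dk
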