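import Mathlib
import Cfsg.Agent.Lib.Helper14.DkSub

set_option autoImplicit false

/-!
# The minimal index of a proper subgroup of `PSL₂(q)`
-/

namespace Cfsg.Agent.Lib.Helper14.Dk

open Cfsg.Agent.Lib.Helper2.SL2

section

variable {F : Type*} [Field F] [Fintype F]

local notation "SL2" => Matrix.SpecialLinearGroup (Fin 2) F
local notation "PSL2" => Matrix.ProjectiveSpecialLinearGroup (Fin 2) F

theorem exists_char_fact (F : Type*) [Field F] [Fintype F] :
    ∃ p : ℕ, Fact p.Prime ∧ CharP F p := by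
  obtain ⟨p, hp⟩ := CharP.exists F
  exact ⟨p, ⟨CharP.char_is_prime F p⟩, hp⟩

theorem card_SL2' : Nat.card SL2 =
    Fintype.card F * (Fintype.card F - 1) * (Fintype.card F + 1) := by
  rw [Cfsg.Agent.Lib.Helper38.card_SL2]
  have hq2 : 2 ≤ Fintype.card F := Fintype.one_lt_card
  obtain ⟨t, ht⟩ : ∃ t, Fintype.card F = t + 1 := ⟨Fintype.card F - 1, by omega⟩
  rw [ht]
  have e1 : (t + 1) ^ 2 - 1 = t * (t + 2) := by
    have : (t + 1) ^ 2 = t * (t + 2) + 1 := by ring
    omega
  rw [e1, Nat.add_sub_cancel]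
  ring

/-- proper subgroups of `SL₂(q)` containing the centre have index at least `q + 1` -/
theorem index_ge_of_proper (Y : Subgroup SL2) (hZ : Subgroup.center SL2 ≤ Y) (hY : Y ≠ ⊤)
    (hq : Fintype.card F ∉ ({2, 3, 5, 7, 9, 11} : Finset ℕ)) :
    Fintype.card F + 1 ≤ Y.index := by
  obtain ⟨p, hp, hc⟩ := exists_char_fact F
  have h1 := card_le_of_proper p Y hZ hY hq
  have h2 := Y.card_mul_index
  rw [card_SL2'] at h2
  by_contra hlt
  push Not at hlt
  have hpos : 0 < Nat.card Y := Nat.card_pos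
  have hq2 : 2 ≤ Fintype.card F := Fintype.one_lt_card
  have h3 : Nat.card Y * Y.index < Nat.card Y * (Fintype.card F + 1) :=
    Nat.mul_lt_mul_of_pos_left hlt hpos
  have h4 : Nat.card Y * (Fintype.card F + 1) ≤
      Fintype.card F * (Fintype.card F - 1) * (Fintype.card F + 1) :=
    Nat.mul_le_mul_right _ h1
  omega

theorem index_ge_of_proper_psl (H : Subgroup PSL2) (hH : H ≠ ⊤)
    (hq : Fintype.card F ∉ ({2, 3, 5, 7, 9, 11} : Finset ℕ)) :
    Fintype.card F + 1 ≤ H.index := by
  have hsurj : Function.Surjective (QuotientGroup.mk' (Subgroup.center SL2)) :=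
    QuotientGroup.mk'_surjective _
  rw [← Subgroup.index_comap_of_surjective H hsurj]
  apply index_ge_of_proper _ _ _ hq
  · intro z hz
    rw [Subgroup.mem_comap]
    have : (QuotientGroup.mk' (Subgroup.center SL2)) z = 1 := by
      rw [← MonoidHom.mem_ker, QuotientGroup.ker_mk']; exact hz
    rw [this]; exact H.one_mem
  · intro h
    apply hH
    rw [eq_top_iff]
    intro y _
    obtain ⟨x, rfl⟩ := hsurj y
    have : x ∈ H.comap (QuotientGroup.mk' (Subgroup.center SL2)) := by rw [h]; trivial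
    exact this

theorem index_BG_id : (BG (MonoidHom.id SL2)).index = Fintype.card F + 1 := by
  have h2 := (BG (MonoidHom.id SL2)).card_mul_index
  rw [card_SL2', card_BG_id] at h2
  have hq2 : 2 ≤ Fintype.card F := Fintype.one_lt_card
  have hpos : 0 < Fintype.card F * (Fintype.card F - 1) := Nat.mul_pos (by omega) (by omega)
  exact Nat.eq_of_mul_eq_mul_left hpos h2

theorem exists_index_psl : ∃ H : Subgroup PSL2, H.index = Fintype.card F + 1 := by
  refine ⟨(BG (MonoidHom.id SL2)).map (QuotientGroup.mk' (Subgroup.center SL2)), ?_⟩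
  rw [Subgroup.index_map_eq _ (QuotientGroup.mk'_surjective _), index_BG_id]
  rw [QuotientGroup.ker_mk']
  intro z hz
  rw [mem_BG]
  rcases (mem_center_iff_pm z).mp hz with rfl | rfl
  · simp
  · simp

end

end Cfsg.Agent.Lib.Helper14.Dk
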