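import Mathlib
import Cfsg.Agent.Lib.Helper14.DkDih
import Cfsg.Agent.Lib.Helper14.DkIndex

set_option autoImplicit false

/-!
# The tori of `SL₂(q)`
-/

namespace Cfsg.Agent.Lib.Helper14.Dk

open Cfsg.Agent.Lib.Helper2.SL2

theorem psl_m_ge_two_lt (q qH k g₂ g d m : ℕ) (hP : Arith.PSLd qH k g₂ g) (hk : 2 ≤ k)
    (hm : 2 ≤ m) (hqm : qH ^ m = q) (hd : d = 1 ∨ d = 2) : d * g < q * (q ^ 2 - 1) := by
  have hs3 := (psld_le hP hk).2
  have hqs : qH * qH ≤ q := by
    rw [← hqm, ← pow_two]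
    exact Nat.pow_le_pow_right (by omega) hm
  have hq2 : (qH * qH) ^ 2 - 1 ≤ q ^ 2 - 1 := by
    have := Nat.pow_le_pow_left hqs 2
    omega
  have hmono : qH * qH * ((qH * qH) ^ 2 - 1) ≤ q * (q ^ 2 - 1) := Nat.mul_le_mul hqs hq2
  refine lt_of_lt_of_le ?_ hmono
  obtain ⟨t, rfl⟩ : ∃ t, qH = t + 3 := ⟨qH - 3, by omega⟩
  have e1 : ((t + 3) * (t + 3)) ^ 2 - 1 = t ^ 4 + 12 * t ^ 3 + 54 * t ^ 2 + 108 * t + 80 := by
    have : ((t + 3) * (t + 3)) ^ 2 = t ^ 4 + 12 * t ^ 3 + 54 * t ^ 2 + 108 * t + 80 + 1 := by ring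
    omega
  rw [e1]
  rcases hP with ⟨h1, h2, h3⟩ | ⟨h1, h2, h3⟩ | ⟨h1, h2, h3, h4⟩
  · have hk' : k = t + 2 := by omega
    subst hk' h2 h3
    rcases hd with rfl | rfl <;> nlinarith [sq_nonneg t, pow_pos (show 0 < t + 1 by omega) 3]
  · have : 2 * g = (t + 3) * (2 * k) * (2 * g₂) := by
      rw [h3]; ring
    have h2k : 2 * k = t + 2 := by omega
    have h2g : 2 * g₂ = t + 4 := by omega
    rw [h2k, h2g] at this
    rcases hd with rfl | rfl <;> nlinarith [sq_nonneg t, pow_pos (show 0 < t + 1 by omega) 3]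
  · have ht : t = 0 := by omega
    subst ht h4
    rcases hd with rfl | rfl <;> norm_num

theorem psl_m_one (q k g₂ g d : ℕ) (hP : Arith.PSLd q k g₂ g) (hk : 2 ≤ k)
    (hd : d = 1 ∨ d = 2) (hdodd : Odd q → d = 2) (hle : d * g ≤ q * (q ^ 2 - 1)) :
    d * g = q * (q ^ 2 - 1) ∧ d * k = q - 1 ∧ d * g₂ = q + 1 := by
  rcases hP with ⟨h1, h2, h3⟩ | ⟨h1, h2, h3⟩ | ⟨h1, h2, h3, h4⟩
  · have e : g = q * (q ^ 2 - 1) := by
      subst h1 h2 h3
      have : (k + 1) ^ 2 - 1 = k * (k + 1 + 1) := by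
        have : (k + 1) ^ 2 = k * (k + 1 + 1) + 1 := by ring
        omega
      rw [this]; ring
    rcases hd with rfl | rfl
    · refine ⟨by rw [one_mul, e], by omega, by omega⟩
    · exfalso
      rw [e] at hle
      have : 0 < q * (q ^ 2 - 1) := by
        apply Nat.mul_pos (by omega)
        have : 2 ^ 2 ≤ q ^ 2 := Nat.pow_le_pow_left (by omega) 2
        omega
      omega
  · have hodd : Odd q := ⟨k, by omega⟩
    have hd2 := hdodd hodd
    subst hd2
    refine ⟨?_, by omega, by omega⟩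
    subst h1 h3
    have : (2 * k + 1) ^ 2 - 1 = 2 * k * (2 * g₂) := by
      have : (2 * k + 1) ^ 2 = 2 * k * (2 * k + 1 + 1) + 1 := by ring
      rw [h2]; omega
    rw [this]; ring
  · exfalso
    have hodd : Odd q := ⟨1, by omega⟩
    have hd2 := hdodd hodd
    subst hd2 h1 h4
    norm_num at hle

section
variable {F : Type*} [Field F] [Fintype F]
local notation "SL2" => Matrix.SpecialLinearGroup (Fin 2) F

/-- the standard unipotent element -/
def uStd : SL2 := mk2 1 1 0 1 (by ring)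

theorem uStd_not_mem : (uStd : SL2) ∉ ZZ (MonoidHom.id SL2) := by
  intro h
  rcases mem_ZZ.mp h with h1 | h1
  · have := (entries_of_eq h1).2.1
    simp [uStd] at this
  · have := (entries_of_eq h1).2.1
    simp [uStd] at this

theorem uStd_UU : UU (MonoidHom.id SL2) (uStd : SL2) := by
  unfold UU tr2
  simp [uStd]
  norm_num

theorem card_ZZ_of_odd_gen {G : Type*} [Group G] (h : Odd (Fintype.card F)) (τ : G →* SL2)
    (hτ : Function.Injective τ) (y : G) (hy : τ y = -1) : Nat.card (ZZ τ) = 2 := by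
  have hle := card_ZZ_le τ hτ
  have : Finite G := Finite.of_injective τ hτ
  have hmem : y ∈ ZZ τ := by
    rw [mem_ZZ]; right; exact hy
  have : Nontrivial (ZZ τ) := by
    refine ⟨⟨⟨_, hmem⟩, 1, ?_⟩⟩
    intro h1
    have h2 : y = 1 := congrArg Subtype.val h1
    rw [h2, map_one] at hy
    exact neg_one_ne_one_of_odd h hy.symm
  have : 1 < Nat.card (ZZ τ) := Finite.one_lt_card
  omega

theorem card_SL2_pos_facts (hq3 : 3 ≤ Fintype.card F) :
    2 * (Fintype.card F + 1) < Fintype.card F * (Fintype.card F - 1) * (Fintype.card F + 1) ∧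
    Fintype.card F * (Fintype.card F - 1) <
      Fintype.card F * (Fintype.card F - 1) * (Fintype.card F + 1) := by
  have h6 : 3 * 2 ≤ Fintype.card F * (Fintype.card F - 1) := Nat.mul_le_mul hq3 (by omega)
  constructor
  · exact Nat.mul_lt_mul_of_pos_right (by omega) (by omega)
  · calc Fintype.card F * (Fintype.card F - 1) = Fintype.card F * (Fintype.card F - 1) * 1 := by
          rw [mul_one]
      _ < _ := Nat.mul_lt_mul_of_pos_left (by omega) (by omega)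

/-- the possible types of `SL₂(q)` itself -/
theorem SL2_type (p : ℕ) [Fact p.Prime] [CharP F p] (hq3 : 3 ≤ Fintype.card F) :
    IsA4 (ZZ (MonoidHom.id SL2)) (UU (MonoidHom.id SL2)) ∨
    IsPSL (ZZ (MonoidHom.id SL2)) (UU (MonoidHom.id SL2)) := by
  have hτ : Function.Injective (MonoidHom.id SL2) := fun _ _ h => h
  have D := data_of_rep p (MonoidHom.id SL2) hτ
  have hL : Nat.card SL2 =
    Fintype.card F * (Fintype.card F - 1) * (Fintype.card F + 1) := card_SL2'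
  obtain ⟨hf1, hf2⟩ := card_SL2_pos_facts hq3
  rcases D.main_U uStd_not_mem uStd_UU with h | h | h | h
  · exfalso
    obtain ⟨x, hx, hU, hN⟩ := h
    obtain ⟨c, hc⟩ := exists_std (MonoidHom.id SL2) hτ hx hU
    rw [hc.normalizer_eq] at hN
    have := card_le_of_BG_top _ hc.inj hN
    omega
  · exfalso
    obtain ⟨x, hx, hU, hn, he⟩ := h
    have h1 : aa x ≤ Fintype.card F + 1 := by
      rcases torus_card_dvd p (MonoidHom.id SL2) hτ hx hU with h | h
      · have := Nat.le_of_dvd (by omega) h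
        omega
      · exact Nat.le_of_dvd (by omega) h
    have h2 := nn_mul_ee_mul_aa x
    rw [hn, he] at h2
    omega
  · left; exact h
  · right; exact h

theorem exists_tori (p : ℕ) [Fact p.Prime] [CharP F p] (hq4 : 4 ≤ Fintype.card F) :
    (∃ x : SL2, x ∉ ZZ (MonoidHom.id SL2) ∧ ¬ UU (MonoidHom.id SL2) x ∧ ee x = 2 ∧
      aa x = Fintype.card F - 1) ∧
    (∃ x : SL2, x ∉ ZZ (MonoidHom.id SL2) ∧ ¬ UU (MonoidHom.id SL2) x ∧ ee x = 2 ∧
      aa x = Fintype.card F + 1) := by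
  have hτ : Function.Injective (MonoidHom.id SL2) := fun _ _ h => h
  have hL : Nat.card SL2 = Fintype.card F * (Fintype.card F ^ 2 - 1) :=
    Cfsg.Agent.Lib.Helper38.card_SL2
  have hd2 : Nat.card (ZZ (MonoidHom.id SL2)) ≤ 2 := card_ZZ_le _ hτ
  have hd1 : 0 < Nat.card (ZZ (MonoidHom.id SL2)) := Nat.card_pos
  have hd : Nat.card (ZZ (MonoidHom.id SL2)) = 1 ∨ Nat.card (ZZ (MonoidHom.id SL2)) = 2 := by
    omega
  have hdodd : Odd (Fintype.card F) → Nat.card (ZZ (MonoidHom.id SL2)) = 2 :=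
    fun h => card_ZZ_of_odd_gen h _ hτ (-1) rfl
  rcases SL2_type (F := F) p (by omega) with h | h
  · exfalso
    obtain ⟨hc, -⟩ := h
    rw [hL] at hc
    have h60 : 4 * (4 ^ 2 - 1) ≤ Fintype.card F * (Fintype.card F ^ 2 - 1) := by
      apply Nat.mul_le_mul hq4
      have := Nat.pow_le_pow_left hq4 2
      omega
    omega
  · obtain ⟨k, qH, g₂, g, hg, hk2, ⟨⟨x, hx, hUx⟩, hall⟩, hP, hT1, hT2, -⟩ := h
    obtain ⟨hee, haa⟩ := hall x hx hUx
    obtain ⟨hle', -⟩ := psld_le hP hk2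
    obtain ⟨m, hm1, hm⟩ := field_card_pow (MonoidHom.id SL2) hτ hx hUx hee haa hle'
    rw [hL] at hg
    rcases Nat.lt_or_ge m 2 with hm2 | hm2
    · have : m = 1 := by omega
      subst this
      rw [pow_one] at hm
      subst hm
      obtain ⟨-, e2, e3⟩ := psl_m_one _ k g₂ g _ hP hk2 hd hdodd (le_of_eq hg.symm)
      obtain ⟨y, hy1, hy2, hy3, hy4⟩ := hT1
      obtain ⟨z, hz1, hz2, hz3, hz4⟩ := hT2
      exact ⟨⟨y, hy1, hy2, hy3, by rw [hy4, e2]⟩, ⟨z, hz1, hz2, hz3, by rw [hz4, e3]⟩⟩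
    · exfalso
      have := psl_m_ge_two_lt _ qH k g₂ g _ m hP hk2 hm2 hm hd
      omega

theorem exists_torus_three (p : ℕ) [Fact p.Prime] [CharP F p] (hq : Fintype.card F = 3) :
    ∃ x : SL2, x ∉ ZZ (MonoidHom.id SL2) ∧ ¬ UU (MonoidHom.id SL2) x ∧ ee x = 2 ∧
      aa x = Fintype.card F + 1 := by
  have hτ : Function.Injective (MonoidHom.id SL2) := fun _ _ h => h
  have hL : Nat.card SL2 = Fintype.card F * (Fintype.card F ^ 2 - 1) :=
    Cfsg.Agent.Lib.Helper38.card_SL2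
  have hdodd : Nat.card (ZZ (MonoidHom.id SL2)) = 2 :=
    card_ZZ_of_odd_gen (by rw [hq]; decide) _ hτ (-1) rfl
  rcases SL2_type (F := F) p (by omega) with h | h
  · obtain ⟨-, ⟨-, -, ⟨y, hy1, hy2, hy3, hy4⟩, -⟩ | ⟨-, ⟨y, hy1, hy2, hy3, hy4⟩, -⟩⟩ := h
    · exact ⟨y, hy1, hy2, hy3, by rw [hy4, hdodd, hq]⟩
    · exact ⟨y, hy1, hy2, hy3, by rw [hy4, hdodd, hq]⟩
  · exfalso
    obtain ⟨k, qH, g₂, g, hg, hk2, ⟨⟨x, hx, hUx⟩, hall⟩, hP, hT1, hT2, -⟩ := h
    obtain ⟨hee, haa⟩ := hall x hx hUx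
    obtain ⟨hle', h3⟩ := psld_le hP hk2
    obtain ⟨m, hm1, hm⟩ := field_card_pow (MonoidHom.id SL2) hτ hx hUx hee haa hle'
    rw [hL, hq, hdodd] at hg
    rw [hq] at hm
    have hqH : qH = 3 := by
      have h1 : qH ∣ 3 := by
        rw [← hm]; exact dvd_pow_self _ (by omega)
      have := Nat.le_of_dvd (by omega) h1
      omega
    subst hqH
    rcases hP with ⟨h1, h2, h3⟩ | ⟨h1, h2, h3⟩ | ⟨h1, h2, h3, h4⟩
    · have : k = 2 := by omega
      subst this h2 h3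
      norm_num at hg
    · omega
    · subst h4
      norm_num at hg

end
end Cfsg.Agent.Lib.Helper14.Dk
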