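import Mathlib
import Cfsg.Agent.Lib.Helper14.DkTori

set_option autoImplicit false

/-!
# Maximality of the normalizers of the tori of `SL₂(q)`
-/

namespace Cfsg.Agent.Lib.Helper14.Dk

open Cfsg.Agent.Lib.Helper2.SL2

theorem num_dih_small (q a d n t₂ : ℕ) (hq3 : 3 ≤ q)
    (ha : (a = q - 1 ∧ q ∉ ({2, 3, 5, 7, 9, 11} : Finset ℕ)) ∨
      (a = q + 1 ∧ q ∉ ({2, 7, 9} : Finset ℕ)))
    (hdeven : Even q → d = 1) (hdodd : Odd q → d = 2)
    (hn : (n = 12 ∧ t₂ = 2) ∨ (n = 24 ∧ (t₂ = 2 ∨ t₂ = 3 ∨ t₂ = 4)) ∨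
      (n = 60 ∧ (t₂ = 2 ∨ t₂ = 3 ∨ t₂ = 5)))
    (hat : a = d * t₂) (hdvd : d * n ∣ q * (q ^ 2 - 1)) (hne : d * n ≠ q * (q ^ 2 - 1)) :
    False := by
  simp only [Finset.mem_insert, Finset.mem_singleton, not_or] at ha
  rcases Nat.even_or_odd q with he | ho
  · have hd := hdeven he
    obtain ⟨r, hr⟩ := he
    subst hd
    have hq11 : q ≤ 11 := by
      rcases hn with ⟨-, rfl⟩ | ⟨-, rfl | rfl | rfl⟩ | ⟨-, rfl | rfl | rfl⟩ <;> omega
    interval_cases q <;>
      rcases hn with ⟨rfl, rfl⟩ | ⟨rfl, rfl | rfl | rfl⟩ | ⟨rfl, rfl | rfl | rfl⟩ <;> omega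
  · have hd := hdodd ho
    obtain ⟨r, hr⟩ := ho
    subst hd
    have hq11 : q ≤ 11 := by
      rcases hn with ⟨-, rfl⟩ | ⟨-, rfl | rfl | rfl⟩ | ⟨-, rfl | rfl | rfl⟩ <;> omega
    interval_cases q <;>
      rcases hn with ⟨rfl, rfl⟩ | ⟨rfl, rfl | rfl | rfl⟩ | ⟨rfl, rfl | rfl | rfl⟩ <;> omega

theorem num_dih_psl (q qH k g₂ g d m a : ℕ) (hP : Arith.PSLd qH k g₂ g) (hk : 2 ≤ k)
    (hm : 2 ≤ m) (hqm : qH ^ m = q) (hd : d = 1 ∨ d = 2)
    (hak : a = d * k ∨ a = d * g₂) (ha : a = q - 1 ∨ a = q + 1) (hq9 : q ≠ 9) : False := by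
  have hs3 := (psld_le hP hk).2
  have hqs : qH * qH ≤ q := by
    rw [← hqm, ← pow_two]
    exact Nat.pow_le_pow_right (by omega) hm
  have h9 : 3 * 3 ≤ qH * qH := Nat.mul_le_mul hs3 hs3
  rcases hP with ⟨h1, h2, h3⟩ | ⟨h1, h2, h3⟩ | ⟨h1, h2, h3, h4⟩
  · -- a ≤ 2 (qH + 1)
    have ha1 : a ≤ 2 * (qH + 1) := by
      rcases hd with rfl | rfl <;> rcases hak with rfl | rfl <;> omega
    have h5 : qH * qH ≤ 2 * qH + 3 := by omega
    have hq3 : qH = 3 := by nlinarith
    subst hq3
    have hq10 : q ≤ 9 := by omega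
    omega
  · have ha1 : a ≤ qH + 1 := by
      rcases hd with rfl | rfl <;> rcases hak with rfl | rfl <;> omega
    have h5 : qH * qH ≤ qH + 2 := by omega
    nlinarith
  · subst h1 h2 h3
    have hq11 : q ≤ 11 := by
      rcases hd with rfl | rfl <;> rcases hak with rfl | rfl <;> omega
    rcases Nat.lt_or_ge m 3 with h | h
    · have : m = 2 := by omega
      subst this
      norm_num at hqm
      omega
    · have : 3 ^ 3 ≤ 3 ^ m := Nat.pow_le_pow_right (by omega) h
      omega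

section transfer

variable {L : Type*} [Group L] (Y : Subgroup L)

theorem M_subtype (y : ↥Y) : M y = (M (y : L)).subgroupOf Y := by
  ext z
  rw [mem_M, Subgroup.mem_subgroupOf, mem_M]
  constructor
  · intro h; exact congrArg Subtype.val h
  · intro h; exact Subtype.ext h

theorem aa_subtype (y : ↥Y) (h : M (y : L) ≤ Y) : aa y = aa (y : L) := by
  unfold aa
  rw [M_subtype]
  exact Nat.card_congr (Subgroup.subgroupOfEquivOfLe h).toEquiv

theorem normalizer_M_subtype (y : ↥Y) (h : M (y : L) ≤ Y) :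
    Subgroup.normalizer (M y : Set ↥Y) =
      (Subgroup.normalizer (M (y : L) : Set L)).subgroupOf Y := by
  rw [M_subtype, Subgroup.subgroupOf_normalizer_eq h]

theorem ee_subtype (y : ↥Y) (hN : Subgroup.normalizer (M (y : L) : Set L) ≤ Y) :
    ee y = ee (y : L) := by
  have h : M (y : L) ≤ Y := le_trans Subgroup.le_normalizer hN
  unfold ee
  rw [normalizer_M_subtype Y y h, M_subtype, Subgroup.relIndex_subgroupOf hN]

theorem nn_subtype (y : ↥Y) (hN : Subgroup.normalizer (M (y : L) : Set L) ≤ Y) :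
    nn y = (Subgroup.normalizer (M (y : L) : Set L)).relIndex Y := by
  have h : M (y : L) ≤ Y := le_trans Subgroup.le_normalizer hN
  unfold nn
  rw [normalizer_M_subtype Y y h]
  rfl

end transfer


section

variable {F : Type*} [Field F] [Fintype F]

local notation "SL2" => Matrix.SpecialLinearGroup (Fin 2) F

theorem card_normalizer_M {G : Type*} [Group G] [Finite G] (x : G) :
    Nat.card (Subgroup.normalizer (M x : Set G)) = ee x * aa x := by
  have h1 := (Subgroup.normalizer (M x : Set G)).card_mul_index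
  have h2 := nn_mul_ee_mul_aa x
  have hpos : 0 < nn x := nn_pos x
  apply Nat.eq_of_mul_eq_mul_left hpos
  show (Subgroup.normalizer (M x : Set G)).index * _ = _
  rw [mul_comm, h1, ← h2]
  unfold nn
  ring

theorem center_le_M (x : SL2) : Subgroup.center SL2 ≤ M x := by
  intro z hz
  rw [mem_M]
  exact (Subgroup.mem_center_iff.mp hz x)

/-- conjugation by an upper triangular matrix preserves the diagonal -/
theorem conj00_of_upper (s y : SL2) (hs : s 1 0 = 0) (hy : y 1 0 = 0) :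
    (s * y * s⁻¹) 0 0 = y 0 0 := by
  have hd := det2 s
  rw [hs] at hd
  simp only [mul00, mul01, mul10, mul11, inv00, inv01, inv10, inv11, hs, hy]
  linear_combination (y 0 0) * hd

theorem normalizer_torus_isCoatom (p : ℕ) [Fact p.Prime] [CharP F p] {x : SL2}
    (hx : x ∉ ZZ (MonoidHom.id SL2)) (hU : ¬ UU (MonoidHom.id SL2) x) (hee : ee x = 2)
    {a : ℕ} (haa : aa x = a)
    (ha : (a = Fintype.card F - 1 ∧ Fintype.card F ∉ ({2, 3, 5, 7, 9, 11} : Finset ℕ)) ∨
      (a = Fintype.card F + 1 ∧ Fintype.card F ∉ ({2, 7, 9} : Finset ℕ))) :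
    IsCoatom (Subgroup.normalizer (M x : Set SL2)) := by
  have hq2 : 2 ≤ Fintype.card F := Fintype.one_lt_card
  have hq3 : 3 ≤ Fintype.card F := by
    simp only [Finset.mem_insert, Finset.mem_singleton, not_or] at ha
    omega
  have ha' : a = Fintype.card F - 1 ∨ a = Fintype.card F + 1 := by
    rcases ha with ⟨h, -⟩ | ⟨h, -⟩
    · left; exact h
    · right; exact h
  have hq9 : Fintype.card F ≠ 9 := by
    simp only [Finset.mem_insert, Finset.mem_singleton, not_or] at ha
    omega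
  have hL : Nat.card SL2 = Fintype.card F * (Fintype.card F ^ 2 - 1) :=
    Cfsg.Agent.Lib.Helper38.card_SL2
  have hL' := card_SL2' (F := F)
  obtain ⟨hf1, hf2⟩ := card_SL2_pos_facts hq3
  have hNcard : Nat.card (Subgroup.normalizer (M x : Set SL2)) = 2 * a := by
    rw [card_normalizer_M, hee, haa]
  constructor
  · intro htop
    rw [htop, Subgroup.card_top, hL'] at hNcard
    omega
  · intro Y hNY
    by_contra hYtop
    have hNleY : Subgroup.normalizer (M x : Set SL2) ≤ Y := hNY.le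
    have hMY : M x ≤ Y := le_trans Subgroup.le_normalizer hNleY
    have hxY : x ∈ Y := hMY (self_mem_M x)
    have hZY : Subgroup.center SL2 ≤ Y := le_trans (center_le_M x) hMY
    have hτ : Function.Injective Y.subtype := Y.subtype_injective
    have D := data_of_rep p Y.subtype hτ
    have hx' : (⟨x, hxY⟩ : ↥Y) ∉ ZZ Y.subtype := by
      rw [mem_ZZ]
      exact fun h => hx (mem_ZZ.mpr h)
    have hU' : ¬ UU Y.subtype (⟨x, hxY⟩ : ↥Y) := hU
    have haa' : aa (⟨x, hxY⟩ : ↥Y) = a := by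
      rw [aa_subtype Y ⟨x, hxY⟩ hMY]; exact haa
    have hee' : ee (⟨x, hxY⟩ : ↥Y) = 2 := by
      rw [ee_subtype Y ⟨x, hxY⟩ hNleY]; exact hee
    have hnn' : 2 ≤ nn (⟨x, hxY⟩ : ↥Y) := by
      have h0 : 0 < nn (⟨x, hxY⟩ : ↥Y) := nn_pos _
      have h1 : nn (⟨x, hxY⟩ : ↥Y) ≠ 1 := by
        rw [nn_subtype Y ⟨x, hxY⟩ hNleY]
        intro h
        exact hNY.not_ge (Subgroup.relIndex_eq_one.mp h)
      omega
    have hcard : Nat.card Y = nn (⟨x, hxY⟩ : ↥Y) * 2 * a := by
      rw [← nn_mul_ee_mul_aa (⟨x, hxY⟩ : ↥Y), hee', haa']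
    have hdvd : Nat.card Y ∣ Fintype.card F * (Fintype.card F ^ 2 - 1) :=
      hL ▸ Subgroup.card_subgroup_dvd_card Y
    have hne : Nat.card Y ≠ Fintype.card F * (Fintype.card F ^ 2 - 1) := by
      intro h
      apply hYtop
      exact Subgroup.eq_top_of_card_eq Y (h.trans hL.symm)
    have hLpos : 0 < Fintype.card F * (Fintype.card F ^ 2 - 1) := by
      rw [← hL]; exact Nat.card_pos
    have hle : Nat.card Y ≤ Fintype.card F * (Fintype.card F ^ 2 - 1) :=
      Nat.le_of_dvd hLpos hdvd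
    have hd2 : Nat.card (ZZ Y.subtype) ≤ 2 := card_ZZ_le Y.subtype hτ
    have hd1 : 0 < Nat.card (ZZ Y.subtype) := Nat.card_pos
    have hd : Nat.card (ZZ Y.subtype) = 1 ∨ Nat.card (ZZ Y.subtype) = 2 := by omega
    have hdeven : Even (Fintype.card F) → Nat.card (ZZ Y.subtype) = 1 :=
      fun h => card_ZZ_of_even h Y.subtype hτ
    have hdodd : Odd (Fintype.card F) → Nat.card (ZZ Y.subtype) = 2 :=
      fun h => card_ZZ_of_odd h Y hZY
    rcases D.main with h | h | h | h | h | h | h | h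
    · -- central
      apply hx'
      rw [h]; trivial
    · -- cyclic
      obtain ⟨y, hy, hUy, hM⟩ := h
      have h1 : M (⟨x, hxY⟩ : ↥Y) = M y :=
        D.toCT.M_eq_of_mem hy hx' (by rw [hM]; trivial)
      have h2 : ee (⟨x, hxY⟩ : ↥Y) = 1 := by
        unfold ee
        rw [Subgroup.relIndex_eq_one, h1, hM]
        exact le_top
      omega
    · -- Borel
      obtain ⟨u, hu, hUu, hN⟩ := h
      obtain ⟨c, hc⟩ := exists_std Y.subtype hτ hu hUu
      rw [hc.normalizer_eq] at hN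
      have hup : ∀ y : ↥Y, ((MulAut.conj c).toMonoidHom.comp Y.subtype) y 1 0 = 0 := by
        intro y
        have : y ∈ BG ((MulAut.conj c).toMonoidHom.comp Y.subtype) := by rw [hN]; trivial
        exact mem_BG.mp this
      obtain ⟨s, hs, hsT⟩ := D.exists_not_mem_tor hee'
      have hinv := D.tor_inv hx' hU' hs hsT (self_mem_M _) hx'
      set τ' := (MulAut.conj c).toMonoidHom.comp Y.subtype with hτ'
      have h1 : (τ' (s * ⟨x, hxY⟩ * s⁻¹)) 0 0 = (τ' ⟨x, hxY⟩) 0 0 := by
        rw [map_mul, map_mul, map_inv]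
        exact conj00_of_upper _ _ (hup s) (hup _)
      rw [hinv, map_inv, inv00] at h1
      have hdet := det2 (τ' ⟨x, hxY⟩)
      rw [hup] at hdet
      apply hU'
      rw [← UU_conj_rep Y.subtype c]
      show tr2 (τ' ⟨x, hxY⟩) ^ 2 = 4
      unfold tr2
      rw [h1]
      rw [h1] at hdet
      linear_combination 4 * hdet
    · -- dihedral
      obtain ⟨y, hy, hUy, hn, he⟩ := h
      have h1 : aa y ≤ Fintype.card F + 1 := by
        rcases torus_card_dvd p Y.subtype hτ hy hUy with h | h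
        · have := Nat.le_of_dvd (by omega) h
          omega
        · exact Nat.le_of_dvd (by omega) h
      have h2 := nn_mul_ee_mul_aa y
      rw [hn, he] at h2
      have h3 : 2 * 2 * a ≤ nn (⟨x, hxY⟩ : ↥Y) * 2 * a :=
        Nat.mul_le_mul_right a (Nat.mul_le_mul_right 2 hnn')
      simp only [Finset.mem_insert, Finset.mem_singleton, not_or] at ha
      omega
    · -- A4
      obtain ⟨hc, ⟨-, -, -, hT⟩ | ⟨-, -, hT⟩⟩ := h
      · obtain ⟨t, ht, ht1, ht2⟩ := hT _ hx' hU'
        rw [hee'] at ht1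
        rw [haa'] at ht2
        rw [hc] at hdvd hne
        simp only [List.mem_cons, List.not_mem_nil, or_false] at ht
        rcases ht with rfl | rfl
        · simp at ht1
        · exact num_dih_small _ a _ 12 2 hq3 ha hdeven hdodd (Or.inl ⟨rfl, rfl⟩) ht2 hdvd hne
      · obtain ⟨t, ht, ht1, ht2⟩ := hT _ hx' hU'
        rw [haa'] at ht2
        rw [hc] at hdvd hne
        simp only [List.mem_cons, List.not_mem_nil, or_false] at ht
        subst ht
        exact num_dih_small _ a _ 12 2 hq3 ha hdeven hdodd (Or.inl ⟨rfl, rfl⟩) ht2 hdvd hne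
    · -- S4
      obtain ⟨hc, -, -, -, -, hT⟩ := h
      obtain ⟨t, ht, ht1, ht2⟩ := hT _ hx' hU'
      rw [haa'] at ht2
      rw [hc] at hdvd hne
      simp only [List.mem_cons, List.not_mem_nil, or_false] at ht
      refine num_dih_small _ a _ 24 t.2 hq3 ha hdeven hdodd (Or.inr (Or.inl ⟨rfl, ?_⟩)) ht2 hdvd hne
      rcases ht with rfl | rfl | rfl <;> simp
    · -- A5
      obtain ⟨hc, -, -, -, -, hT⟩ := h
      obtain ⟨t, ht, ht1, ht2⟩ := hT _ hx' hU'
      rw [haa'] at ht2
      rw [hc] at hdvd hne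
      simp only [List.mem_cons, List.not_mem_nil, or_false] at ht
      refine num_dih_small _ a _ 60 t.2 hq3 ha hdeven hdodd (Or.inr (Or.inr ⟨rfl, ?_⟩)) ht2 hdvd hne
      rcases ht with rfl | rfl | rfl <;> simp
    · -- PSL
      obtain ⟨k, qH, g₂, g, hg, hk2, ⟨⟨u, hu, hUu⟩, hall⟩, hP, -, -, hT⟩ := h
      obtain ⟨hee1, haa1⟩ := hall u hu hUu
      obtain ⟨hle', -⟩ := psld_le hP hk2
      obtain ⟨m, hm1, hm⟩ := field_card_pow Y.subtype hτ hu hUu hee1 haa1 hle'
      rw [hg] at hle hne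
      rcases Nat.lt_or_ge m 2 with hm2 | hm2
      · have : m = 1 := by omega
        subst this
        rw [pow_one] at hm
        subst hm
        exact hne (psl_m_one _ k g₂ g _ hP hk2 hd hdodd hle).1
      · obtain ⟨t, ht, ht1, ht2⟩ := hT _ hx' hU'
        rw [haa'] at ht2
        simp only [List.mem_cons, List.not_mem_nil, or_false] at ht
        refine num_dih_psl _ qH k g₂ g _ m a hP hk2 hm2 hm hd ?_ ha' hq9
        rcases ht with rfl | rfl
        · left; exact ht2
        · right; exact ht2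

end

end Cfsg.Agent.Lib.Helper14.Dk
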