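import Mathlib
import Cfsg.Agent.Lib.Helper14.DkMax

set_option autoImplicit false

/-!
# Maximal dihedral subgroups of `PSL₂(q)`
-/

namespace Cfsg.Agent.Lib.Helper14.Dk

open Cfsg.Agent.Lib.Helper2.SL2

section

variable {F : Type*} [Field F] [Fintype F]

local notation "SL2" => Matrix.SpecialLinearGroup (Fin 2) F
local notation "PSL2" => Matrix.ProjectiveSpecialLinearGroup (Fin 2) F

theorem ZZ_id : ZZ (MonoidHom.id SL2) = Subgroup.center SL2 := by
  ext z
  rw [mem_ZZ, mem_center_iff_pm]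
  rfl

theorem card_center_eq_gcd :
    Nat.card (Subgroup.center SL2) = Nat.gcd 2 (Fintype.card F - 1) := by
  have hτ : Function.Injective (MonoidHom.id SL2) := fun _ _ h => h
  have hq2 : 2 ≤ Fintype.card F := Fintype.one_lt_card
  rw [← ZZ_id]
  rcases Nat.even_or_odd (Fintype.card F) with he | ho
  · rw [card_ZZ_of_even he _ hτ]
    obtain ⟨r, hr⟩ := he
    have : Fintype.card F - 1 = 2 * (r - 1) + 1 := by omega
    rw [this]
    simp
  · rw [card_ZZ_of_odd_gen ho _ hτ (-1) rfl]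
    obtain ⟨r, hr⟩ := ho
    have : Fintype.card F - 1 = 2 * r := by omega
    rw [this]
    simp

theorem exists_dihedral_coatom (p : ℕ) [Fact p.Prime] [CharP F p] {x : SL2}
    (hx : x ∉ ZZ (MonoidHom.id SL2)) (hU : ¬ UU (MonoidHom.id SL2) x) (hee : ee x = 2)
    {a : ℕ} (haa : aa x = a)
    (ha : (a = Fintype.card F - 1 ∧ Fintype.card F ∉ ({2, 3, 5, 7, 9, 11} : Finset ℕ)) ∨
      (a = Fintype.card F + 1 ∧ Fintype.card F ∉ ({2, 7, 9} : Finset ℕ))) :
    ∃ H : Subgroup PSL2, IsCoatom H ∧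
      Nonempty (H ≃* DihedralGroup (a / Nat.gcd 2 (Fintype.card F - 1))) := by
  have hτ : Function.Injective (MonoidHom.id SL2) := fun _ _ h => h
  have D := data_of_rep p (MonoidHom.id SL2) hτ
  have hco := normalizer_torus_isCoatom p hx hU hee haa ha
  have hZN : Subgroup.center SL2 ≤ Subgroup.normalizer (M x : Set SL2) :=
    le_trans (center_le_M x) Subgroup.le_normalizer
  refine ⟨(Subgroup.normalizer (M x : Set SL2)).map (QuotientGroup.mk' (Subgroup.center SL2)),
    isCoatom_map_mk _ _ hZN hco, ?_⟩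
  -- the generator of the torus
  have hcyc := torus_isCyclic (MonoidHom.id SL2) hτ hU
  obtain ⟨g, hg⟩ := IsCyclic.exists_generator (α := ↥(M x))
  have hT : M x = Subgroup.zpowers (g : SL2) := by
    ext y
    constructor
    · intro hy
      obtain ⟨k, hk⟩ := hg ⟨y, hy⟩
      refine ⟨k, ?_⟩
      have := congrArg Subtype.val hk
      simpa using this
    · rintro ⟨k, rfl⟩
      exact (M x).zpow_mem g.2 k
  have hgZ : (g : SL2) ∉ ZZ (MonoidHom.id SL2) := by
    intro hgz
    apply hx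
    have hxm : x ∈ Subgroup.zpowers (g : SL2) := by rw [← hT]; exact self_mem_M x
    obtain ⟨k, hk⟩ := hxm
    rw [← hk]
    exact Subgroup.zpow_mem _ hgz k
  obtain ⟨s, hs, hsT⟩ := D.exists_not_mem_tor hee
  have hs2 := D.tor_sq hx hee hs hsT
  rw [ZZ_id] at hs2
  have hinv := D.tor_inv hx hU hs hsT g.2 hgZ
  have hcos : ∀ n ∈ Subgroup.normalizer (M x : Set SL2), n ∉ M x → s⁻¹ * n ∈ M x :=
    fun n hn hnT => D.tor_coset hee hs hsT hn hnT
  have key := dihedral_quotient (Subgroup.center SL2) (Subgroup.normalizer (M x : Set SL2)) (M x)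
    (center_le_M x) (g : SL2) s hT hs Subgroup.le_normalizer hsT hs2 hinv hcos
  have e1 : Nat.card (M x) = a := haa
  rw [e1, card_center_eq_gcd] at key
  exact key

theorem exists_dihedral_sub (hq : Fintype.card F ∉ ({2, 3, 5, 7, 9, 11} : Finset ℕ)) :
    ∃ H : Subgroup PSL2, IsCoatom H ∧
      Nonempty (H ≃* DihedralGroup ((Fintype.card F - 1) / Nat.gcd 2 (Fintype.card F - 1))) := by
  obtain ⟨p, hp, hc⟩ := exists_char_fact F
  have hq2 : 2 ≤ Fintype.card F := Fintype.one_lt_card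
  have hq4 : 4 ≤ Fintype.card F := by
    simp only [Finset.mem_insert, Finset.mem_singleton, not_or] at hq
    omega
  obtain ⟨⟨x, hx, hU, hee, haa⟩, -⟩ := exists_tori (F := F) p hq4
  exact exists_dihedral_coatom p hx hU hee haa (Or.inl ⟨rfl, hq⟩)

theorem exists_dihedral_add (hq : Fintype.card F ∉ ({2, 7, 9} : Finset ℕ)) :
    ∃ H : Subgroup PSL2, IsCoatom H ∧
      Nonempty (H ≃* DihedralGroup ((Fintype.card F + 1) / Nat.gcd 2 (Fintype.card F - 1))) := by
  obtain ⟨p, hp, hc⟩ := exists_char_fact F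
  have hq2 : 2 ≤ Fintype.card F := Fintype.one_lt_card
  have hq3 : 3 ≤ Fintype.card F := by
    simp only [Finset.mem_insert, Finset.mem_singleton, not_or] at hq
    omega
  rcases Nat.lt_or_ge (Fintype.card F) 4 with h | h
  · have h3 : Fintype.card F = 3 := by omega
    obtain ⟨x, hx, hU, hee, haa⟩ := exists_torus_three (F := F) p h3
    exact exists_dihedral_coatom p hx hU hee haa (Or.inr ⟨rfl, hq⟩)
  · obtain ⟨-, ⟨x, hx, hU, hee, haa⟩⟩ := exists_tori (F := F) p h
    exact exists_dihedral_coatom p hx hU hee haa (Or.inr ⟨rfl, hq⟩)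

end

end Cfsg.Agent.Lib.Helper14.Dk
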