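import Mathlib
import Cfsg.Agent.Lib.Helper14.DkTori
import Cfsg.Agent.Lib.Helper1.PQ3

set_option autoImplicit false

/-!
# Solvability of the proper subgroups of `SL₂(q)` for the minimal simple `q`
-/

namespace Cfsg.Agent.Lib.Helper14.Dk

open Cfsg.Agent.Lib.Helper2.SL2

/-- the list of `q` with `PSL₂(q)` minimal simple -/
def MSList (q : ℕ) : Prop :=
  (∃ r : ℕ, r.Prime ∧ q = 2 ^ r) ∨ (∃ r : ℕ, r.Prime ∧ r ≠ 2 ∧ q = 3 ^ r) ∨
    (q.Prime ∧ 5 < q ∧ (q % 5 = 2 ∨ q % 5 = 3)) ∨ q = 5

theorem odd_of_prime_ne_two {r : ℕ} (hr : r.Prime) (h2 : r ≠ 2) : ∃ j, r = 2 * j + 1 := by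
  rcases hr.eq_two_or_odd with h | h
  · exact absurd h h2
  · exact ⟨r / 2, by omega⟩

theorem MSList.four_le {q : ℕ} (h : MSList q) : 4 ≤ q := by
  rcases h with ⟨r, hr, rfl⟩ | ⟨r, hr, -, rfl⟩ | ⟨-, h, -⟩ | rfl
  · calc 4 = 2 ^ 2 := by norm_num
      _ ≤ 2 ^ r := Nat.pow_le_pow_right (by omega) hr.two_le
  · calc 4 ≤ 3 ^ 2 := by norm_num
      _ ≤ 3 ^ r := Nat.pow_le_pow_right (by omega) hr.two_le
  · omega
  · omega

theorem MSList.sq_mod {q : ℕ} (h : MSList q) : q = 4 ∨ q = 5 ∨ q ^ 2 % 5 = 4 := by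
  rcases h with ⟨r, hr, rfl⟩ | ⟨r, hr, h2, rfl⟩ | ⟨-, -, h⟩ | rfl
  · by_cases h2 : r = 2
    · left; subst h2; norm_num
    · right; right
      obtain ⟨j, rfl⟩ := odd_of_prime_ne_two hr h2
      have : (2 ^ (2 * j + 1)) ^ 2 = 16 ^ j * 4 := by
        rw [← pow_mul, show (2 * j + 1) * 2 = 4 * j + 2 by ring, pow_add, pow_mul]; norm_num
      rw [this, Nat.mul_mod, Nat.pow_mod]
      norm_num
  · right; right
    obtain ⟨j, rfl⟩ := odd_of_prime_ne_two hr h2
    have : (3 ^ (2 * j + 1)) ^ 2 = 81 ^ j * 9 := by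
      rw [← pow_mul, show (2 * j + 1) * 2 = 4 * j + 2 by ring, pow_add, pow_mul]; norm_num
    rw [this, Nat.mul_mod, Nat.pow_mod]
    norm_num
  · right; right
    rw [pow_two, Nat.mul_mod]
    rcases h with h | h <;> rw [h]
  · right; left; rfl

theorem not_five_dvd_of_sq_mod {q : ℕ} (h : q ^ 2 % 5 = 4) : ¬ 5 ∣ q * (q ^ 2 - 1) := by
  intro hdvd
  rcases (Nat.Prime.dvd_mul (by norm_num : Nat.Prime 5)).mp hdvd with h1 | h1
  · obtain ⟨c, rfl⟩ := h1
    have : (5 * c) ^ 2 = 5 * (5 * c * c) := by ring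
    rw [this] at h
    omega
  · omega

/-- perfect powers in the list -/
theorem MSList.pow_eq {q qH m : ℕ} (h : MSList q) (h3 : 3 ≤ qH) (hm : 2 ≤ m) (hqm : qH ^ m = q) :
    qH = 3 ∧ q ^ 2 % 5 = 4 := by
  have key : ∀ p r : ℕ, p.Prime → r.Prime → q = p ^ r → qH = p := by
    intro p r hp hr hq
    have hdvd : qH ∣ p ^ r := by
      rw [← hq, ← hqm]; exact dvd_pow_self _ (by omega)
    obtain ⟨e, he, rfl⟩ := (Nat.dvd_prime_pow hp).mp hdvd
    rw [hq, ← pow_mul] at hqm
    have hem : e * m = r := Nat.pow_right_injective hp.two_le hqm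
    have hmr : m ∣ r := ⟨e, by rw [← hem]; ring⟩
    rcases (Nat.dvd_prime hr).mp hmr with h1 | h1
    · omega
    · subst h1
      have hmpos : 0 < m := by omega
      have : e = 1 := by
        have : e * m = 1 * m := by rw [hem, one_mul]
        exact Nat.eq_of_mul_eq_mul_right hmpos this
      rw [this, pow_one]
  have hprime : q.Prime → False := by
    intro hq
    have hdvd : qH ∣ q := by rw [← hqm]; exact dvd_pow_self _ (by omega)
    rcases (Nat.dvd_prime hq).mp hdvd with h1 | h1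
    · omega
    · rw [h1] at hqm
      have : q ^ 2 ≤ q ^ m := Nat.pow_le_pow_right hq.pos hm
      have : q * q ≤ q := by rw [← pow_two]; omega
      have := hq.two_le
      nlinarith
  have hsq := h.sq_mod
  rcases h with ⟨r, hr, hq⟩ | ⟨r, hr, h2, hq⟩ | ⟨hq, -, -⟩ | rfl
  · have := key 2 r Nat.prime_two hr hq
    omega
  · have h3' := key 3 r Nat.prime_three hr hq
    refine ⟨h3', ?_⟩
    rcases hsq with h4 | h5 | h
    · exfalso
      have : 3 ^ 2 ≤ 3 ^ r := Nat.pow_le_pow_right (by omega) hr.two_le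
      omega
    · exfalso
      have : 3 ^ 2 ≤ 3 ^ r := Nat.pow_le_pow_right (by omega) hr.two_le
      omega
    · exact h
  · exact (hprime hq).elim
  · exact (hprime (by norm_num)).elim

section solv

variable {G : Type*} [Group G]

theorem solvable_of_abelian_ker {C : Type*} [Group C] (g : G →* C) (hC : Group.IsSolvable C)
    (hk : ∀ a ∈ g.ker, ∀ b ∈ g.ker, a * b = b * a) : Group.IsSolvable G := by
  have : Group.IsSolvable ↥g.ker :=
    Group.isSolvable_of_comm (fun a b => Subtype.ext (hk a.1 a.2 b.1 b.2))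
  exact Group.isSolvable_of_ker_le_range g.ker.subtype g (by rw [Subgroup.range_subtype])

theorem solvable_of_card_small [Finite G] (d n : ℕ) (hd : d = 1 ∨ d = 2) (hn : n = 12 ∨ n = 24)
    (h : Nat.card G = d * n) : Group.IsSolvable G := by
  rcases hd with rfl | rfl <;> rcases hn with rfl | rfl
  · exact Cfsg.Agent.Lib.Helper1.pq_all G 2 3 2 Nat.prime_two Nat.prime_three (by rw [h]; norm_num)
  · exact Cfsg.Agent.Lib.Helper1.pq_all G 2 3 3 Nat.prime_two Nat.prime_three (by rw [h]; norm_num)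
  · exact Cfsg.Agent.Lib.Helper1.pq_all G 2 3 3 Nat.prime_two Nat.prime_three (by rw [h]; norm_num)
  · exact Cfsg.Agent.Lib.Helper1.pq_all G 2 3 4 Nat.prime_two Nat.prime_three (by rw [h]; norm_num)

end solv

section

variable {F : Type*} [Field F] [Fintype F]

local notation "SL2" => Matrix.SpecialLinearGroup (Fin 2) F

/-- the proper subgroups of `SL₂(q)` containing the centre are solvable for `q` in the list -/
theorem solvable_of_proper (p : ℕ) [Fact p.Prime] [CharP F p] (Y : Subgroup SL2)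
    (hZ : Subgroup.center SL2 ≤ Y) (hY : Y ≠ ⊤) (hq : MSList (Fintype.card F)) :
    Group.IsSolvable Y := by
  have hq4 : 4 ≤ Fintype.card F := hq.four_le
  have hL : Nat.card SL2 = Fintype.card F * (Fintype.card F ^ 2 - 1) :=
    Cfsg.Agent.Lib.Helper38.card_SL2
  have hdvd : Nat.card Y ∣ Fintype.card F * (Fintype.card F ^ 2 - 1) :=
    hL ▸ Subgroup.card_subgroup_dvd_card Y
  have hne : Nat.card Y ≠ Fintype.card F * (Fintype.card F ^ 2 - 1) := by
    intro h
    apply hY
    exact Subgroup.eq_top_of_card_eq Y (h.trans hL.symm)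
  have hLpos : 0 < Fintype.card F * (Fintype.card F ^ 2 - 1) := by
    rw [← hL]; exact Nat.card_pos
  have hle : Nat.card Y ≤ Fintype.card F * (Fintype.card F ^ 2 - 1) := Nat.le_of_dvd hLpos hdvd
  have hτ : Function.Injective Y.subtype := Y.subtype_injective
  have D := data_of_rep p Y.subtype hτ
  have hd2 : Nat.card (ZZ Y.subtype) ≤ 2 := card_ZZ_le Y.subtype hτ
  have hd1 : 0 < Nat.card (ZZ Y.subtype) := Nat.card_pos
  have hd : Nat.card (ZZ Y.subtype) = 1 ∨ Nat.card (ZZ Y.subtype) = 2 := by omega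
  have hdeven : Even (Fintype.card F) → Nat.card (ZZ Y.subtype) = 1 :=
    fun h => card_ZZ_of_even h Y.subtype hτ
  have hdodd : Odd (Fintype.card F) → Nat.card (ZZ Y.subtype) = 2 :=
    fun h => card_ZZ_of_odd h Y hZ
  -- no subgroups of order `60 d`
  have h60 : Nat.card Y = Nat.card (ZZ Y.subtype) * 60 → False := by
    intro hc
    rcases hq.sq_mod with h4 | h5 | hs
    · have h1 := hdeven (by rw [h4]; decide)
      rw [hc, h1, h4] at hne
      norm_num at hne
    · have h1 := hdodd (by rw [h5]; decide)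
      rw [hc, h1, h5] at hne
      norm_num at hne
    · apply not_five_dvd_of_sq_mod hs
      refine Dvd.dvd.trans ?_ hdvd
      rw [hc]
      exact ⟨Nat.card (ZZ Y.subtype) * 12, by ring⟩
  rcases D.main with h | h | h | h | h | h | h | h
  · -- central
    apply Group.isSolvable_of_comm
    intro a b
    exact D.toCT.central a (by rw [h]; trivial) b
  · obtain ⟨x, hx, hU, hM⟩ := h
    apply Group.isSolvable_of_comm
    intro a b
    exact D.toCT.comm_of_mem hx (by rw [hM]; trivial) (by rw [hM]; trivial)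
  · obtain ⟨x, hx, hU, hN⟩ := h
    obtain ⟨c, hc⟩ := exists_std Y.subtype hτ hx hU
    rw [hc.normalizer_eq] at hN
    have D' := data_of_rep p _ hc.inj
    have hB : Group.IsSolvable ↥(BG ((MulAut.conj c).toMonoidHom.comp Y.subtype)) := by
      apply solvable_of_abelian_ker (sqHom ((MulAut.conj c).toMonoidHom.comp Y.subtype))
        inferInstance
      intro a ha b hb
      rw [hc.ker_sqHom, Subgroup.mem_subgroupOf] at ha hb
      exact Subtype.ext (D'.toCT.comm_of_mem hc.hZ ha hb)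
    let f : ↥Y →* ↥(BG ((MulAut.conj c).toMonoidHom.comp Y.subtype)) :=
      { toFun := fun y => ⟨y, by rw [hN]; trivial⟩
        map_one' := rfl
        map_mul' := fun _ _ => rfl }
    exact Group.isSolvable_of_isSolvable_injective (f := f)
      (fun a b hab => congrArg Subtype.val hab)
  · obtain ⟨x, hx, hU, hn, he⟩ := h
    have hN : Subgroup.normalizer (M x : Set ↥Y) = ⊤ := Subgroup.index_eq_one.mp hn
    have hnorm : (M x).Normal := Subgroup.normalizer_eq_top_iff.mp hN
    have hidx : (M x).index = 2 := by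
      have := Subgroup.relIndex_mul_index (Subgroup.le_normalizer (H := M x))
      rw [hN, Subgroup.index_top, mul_one] at this
      rw [← this]
      have he' : (M x).relIndex (Subgroup.normalizer (M x : Set ↥Y)) = 2 := he
      rw [hN] at he'
      exact he'
    apply solvable_of_abelian_ker (QuotientGroup.mk' (M x))
    · exact Cfsg.Agent.Lib.Helper1.isSolvable_of_card_prime Nat.prime_two hidx
    · intro a ha b hb
      rw [QuotientGroup.ker_mk'] at ha hb
      exact D.toCT.comm_of_mem hx ha hb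
  · obtain ⟨hc, -⟩ := h
    exact solvable_of_card_small _ 12 hd (Or.inl rfl) hc
  · obtain ⟨hc, -⟩ := h
    exact solvable_of_card_small _ 24 hd (Or.inr rfl) hc
  · obtain ⟨hc, -⟩ := h
    exact (h60 hc).elim
  · obtain ⟨k, qH, g₂, g, hg, hk2, ⟨⟨u, hu, hUu⟩, hall⟩, hP, -, -, -⟩ := h
    obtain ⟨hee1, haa1⟩ := hall u hu hUu
    obtain ⟨hle', h3⟩ := psld_le hP hk2
    obtain ⟨m, hm1, hm⟩ := field_card_pow Y.subtype hτ hu hUu hee1 haa1 hle'
    rcases Nat.lt_or_ge m 2 with hm2 | hm2
    · exfalso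
      have : m = 1 := by omega
      subst this
      rw [pow_one] at hm
      subst hm
      rw [hg] at hle hne
      exact hne (psl_m_one _ k g₂ g _ hP hk2 hd hdodd hle).1
    · obtain ⟨hqH, hs⟩ := hq.pow_eq h3 hm2 hm
      subst hqH
      rcases hP with ⟨h1, h2, h3'⟩ | ⟨h1, h2, h3'⟩ | ⟨h1, h2, h3', h4⟩
      · have hk : k = 2 := by omega
        subst hk h2 h3'
        exact solvable_of_card_small _ 24 hd (Or.inr rfl) (by rw [hg])
      · omega
      · subst h4
        exact (h60 hg).elim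

end

end Cfsg.Agent.Lib.Helper14.Dk
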