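import Mathlib
import Cfsg.Agent.Lib.Helper14.DkSolv
import Cfsg.Agent.Lib.Helper14.DkDihMax
import Cfsg.Agent.S0805
import Cfsg.Agent.S0804
import Cfsg.Prelude.Def_CaseTheorems
set_option autoImplicit false
namespace Cfsg.Agent.Lib.Helper14.Dk
open Cfsg.Agent.Lib.Helper2.SL2

theorem A5_not_solvable : ¬ Group.IsSolvable (alternatingGroup (Fin 5)) := by
  intro h
  have hc := (IsSimpleGroup.comm_iff_isSolvable (G := alternatingGroup (Fin 5))).mpr h
  have h1 : (Equiv.swap (0 : Fin 5) 1 * Equiv.swap 1 2 : Equiv.Perm (Fin 5)) ∈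
      alternatingGroup (Fin 5) := by
    rw [Equiv.Perm.mem_alternatingGroup]; decide
  have h2 : (Equiv.swap (0 : Fin 5) 1 * Equiv.swap 1 3 : Equiv.Perm (Fin 5)) ∈
      alternatingGroup (Fin 5) := by
    rw [Equiv.Perm.mem_alternatingGroup]; decide
  have h3 := congrArg Subtype.val (hc ⟨_, h1⟩ ⟨_, h2⟩)
  simp only [Subgroup.coe_mul] at h3
  revert h3
  decide

section
variable {K : Type*} [Field K]
local notation "SL2" => Matrix.SpecialLinearGroup (Fin 2) K
local notation "PSL2" => Matrix.ProjectiveSpecialLinearGroup (Fin 2) K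

theorem psl2_not_comm : ¬ ∀ a b : PSL2, a * b = b * a := by
  intro h
  let u : SL2 := mk2 1 1 0 1 (by ring)
  let l : SL2 := mk2 1 0 1 1 (by ring)
  have h1 := h (QuotientGroup.mk u) (QuotientGroup.mk l)
  rw [← QuotientGroup.mk_mul, ← QuotientGroup.mk_mul, QuotientGroup.eq, mem_center_iff_pm] at h1
  have e00 : (u * l) 0 0 = 2 := by
    rw [mul00]; simp [u, l]; norm_num
  have e01 : (u * l) 0 1 = 1 := by
    rw [mul01]; simp [u, l]
  have f00 : (l * u) 0 0 = 1 := by
    rw [mul00]; simp [u, l]
  have f01 : (l * u) 0 1 = 1 := by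
    rw [mul01]; simp [u, l]
  rcases h1 with h1 | h1
  · have h2 : u * l = l * u := inv_mul_eq_one.mp h1
    have := (entries_of_eq h2).1
    rw [e00, f00] at this
    have : (1 : K) = 0 := by linear_combination this
    exact one_ne_zero this
  · have h2 : l * u = (u * l) * (-1) := inv_mul_eq_iff_eq_mul.mp h1
    have a0 := (entries_of_eq h2).1
    have a1 := (entries_of_eq h2).2.1
    rw [mul00 (u * l), e00, e01, f00, neg00, neg10, one00, one10] at a0
    rw [mul01 (u * l), e00, e01, f01, neg01, neg11, one01, one11] at a1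
    have : (1 : K) = 0 := by linear_combination a0 - a1
    exact one_ne_zero this

end

theorem card_A5 : Nat.card (alternatingGroup (Fin 5)) = 60 := by
  rw [Nat.card_eq_fintype_card]
  have h := two_mul_card_alternatingGroup (α := Fin 5)
  rw [Fintype.card_perm, Fintype.card_fin] at h
  have : (5 : ℕ).factorial = 120 := by decide
  omega

theorem num_subfield (k m q : ℕ) (hk : 4 ≤ k) (hm : 2 ≤ m) (hq : k ^ m = q) :
    2 * (k * (k ^ 2 - 1)) < q * (q ^ 2 - 1) := by
  have hqs : k * k ≤ q := by
    rw [← hq, ← pow_two]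
    exact Nat.pow_le_pow_right (by omega) hm
  have hq2 : (k * k) ^ 2 - 1 ≤ q ^ 2 - 1 := by
    have := Nat.pow_le_pow_left hqs 2
    omega
  have hmono : k * k * ((k * k) ^ 2 - 1) ≤ q * (q ^ 2 - 1) := Nat.mul_le_mul hqs hq2
  refine lt_of_lt_of_le ?_ hmono
  have h1 : k ^ 2 - 1 ≤ (k * k) ^ 2 - 1 := by
    have : k ^ 2 ≤ (k * k) ^ 2 := by
      rw [← pow_two]
      calc k ^ 2 = (k ^ 2) ^ 1 := by rw [pow_one]
        _ ≤ (k ^ 2) ^ 2 := Nat.pow_le_pow_right (by positivity) (by omega)
    omega
  have h2 : 2 * k < k * k := by nlinarith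
  have h3 : 0 < k ^ 2 - 1 := by
    have : 4 ^ 2 ≤ k ^ 2 := Nat.pow_le_pow_left hk 2
    omega
  calc 2 * (k * (k ^ 2 - 1)) = 2 * k * (k ^ 2 - 1) := by ring
    _ < k * k * (k ^ 2 - 1) := Nat.mul_lt_mul_of_pos_right h2 h3
    _ ≤ k * k * ((k * k) ^ 2 - 1) := Nat.mul_le_mul_left _ h1

section
variable {F : Type*} [Field F] [Fintype F]
local notation "SL2" => Matrix.SpecialLinearGroup (Fin 2) F
local notation "PSL2" => Matrix.ProjectiveSpecialLinearGroup (Fin 2) F

theorem card_PSL2_mul (F : Type*) [Field F] [Fintype F] :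
    Nat.card (Matrix.ProjectiveSpecialLinearGroup (Fin 2) F) *
      Nat.card (Subgroup.center (Matrix.SpecialLinearGroup (Fin 2) F)) =
      Fintype.card F * (Fintype.card F ^ 2 - 1) := by
  rw [← Cfsg.Agent.Lib.Helper38.card_SL2]
  exact (Subgroup.card_eq_card_quotient_mul_card_subgroup _).symm

theorem card_center_cases (F : Type*) [Field F] [Fintype F] :
    Nat.card (Subgroup.center (Matrix.SpecialLinearGroup (Fin 2) F)) = 1 ∨
      Nat.card (Subgroup.center (Matrix.SpecialLinearGroup (Fin 2) F)) = 2 := by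
  have h1 : Nat.card (Subgroup.center (Matrix.SpecialLinearGroup (Fin 2) F)) ≤ 2 := card_center_le
  have h2 : 0 < Nat.card (Subgroup.center (Matrix.SpecialLinearGroup (Fin 2) F)) := Nat.card_pos
  omega

theorem subfield_contra (hmin : ∀ H : Subgroup PSL2, H ≠ ⊤ → Group.IsSolvable H)
    (K : Type*) [Field K] [Fintype K] (m : ℕ) (hm : 2 ≤ m)
    (hK : Fintype.card K ^ m = Fintype.card F) (h4 : 4 ≤ Fintype.card K) : False := by
  obtain ⟨ι⟩ := Cfsg.Agent.S0805.exists_ringHom m (by omega) hK
  obtain ⟨H, ⟨e⟩⟩ := Cfsg.Agent.S0805.psl_embed ι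
  have hne : H ≠ ⊤ := by
    intro htop
    have h1 : Nat.card H = Nat.card PSL2 := by rw [htop, Subgroup.card_top]
    have h2 : Nat.card H = Nat.card (Matrix.ProjectiveSpecialLinearGroup (Fin 2) K) :=
      Nat.card_congr e.toEquiv
    have h3 := card_PSL2_mul K
    have h4' := card_PSL2_mul F
    have h5 := num_subfield _ m _ h4 hm hK
    have hdK : 0 < Nat.card (Subgroup.center (Matrix.SpecialLinearGroup (Fin 2) K)) :=
      Nat.card_pos
    have h6 : Nat.card (Matrix.ProjectiveSpecialLinearGroup (Fin 2) K) ≤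
        Fintype.card K * (Fintype.card K ^ 2 - 1) := by
      rw [← h3]
      exact Nat.le_mul_of_pos_right _ hdK
    rcases card_center_cases F with hd | hd <;> rw [hd] at h4' <;> omega
  have hs := hmin H hne
  have hsK : Group.IsSolvable (Matrix.ProjectiveSpecialLinearGroup (Fin 2) K) :=
    Group.isSolvable_of_surjective (f := e.toMonoidHom) e.surjective
  have hsimple : IsSimpleGroup (Matrix.ProjectiveSpecialLinearGroup (Fin 2) K) :=
    Matrix.ProjectiveSpecialLinearGroup.rank_two_simple (by
      rw [Nat.card_eq_fintype_card]; exact h4)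
  exact psl2_not_comm (IsSimpleGroup.comm_iff_isSolvable.mpr hsK)

theorem A5_contra (hmin : ∀ H : Subgroup PSL2, H ≠ ⊤ → Group.IsSolvable H)
    (h5 : 5 ∣ Fintype.card F * (Fintype.card F ^ 2 - 1)) (hbig : 60 < Nat.card PSL2) : False := by
  obtain ⟨H, ⟨e⟩⟩ := (Cfsg.Agent.S0804.result (F := F) rfl).mpr h5
  have hne : H ≠ ⊤ := by
    intro htop
    have h1 : Nat.card H = Nat.card PSL2 := by rw [htop, Subgroup.card_top]
    have h2 : Nat.card H = 60 := by rw [Nat.card_congr e.toEquiv, card_A5]
    omega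
  have hs := hmin H hne
  exact A5_not_solvable (Group.isSolvable_of_surjective (f := e.toMonoidHom) e.surjective)

theorem card_PSL2_big (h7 : 7 ≤ Fintype.card F) : 60 < Nat.card PSL2 := by
  have h1 := card_PSL2_mul F
  have h2 : 7 * (7 ^ 2 - 1) ≤ Fintype.card F * (Fintype.card F ^ 2 - 1) := by
    apply Nat.mul_le_mul h7
    have := Nat.pow_le_pow_left h7 2
    omega
  rcases card_center_cases F with hd | hd <;> rw [hd] at h1 <;> omega

theorem msList_of_minimalSimple (hmin : Cfsg.IsMinimalSimple PSL2) :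
    MSList (Fintype.card F) := by
  obtain ⟨hsimp, hnc, hsol⟩ := hmin
  obtain ⟨p, hp, hc⟩ := exists_char_fact F
  obtain ⟨n, -, hn⟩ := FiniteField.card F p
  have hpp : p.Prime := Fact.out
  have hq2 : 2 ≤ Fintype.card F := Fintype.one_lt_card
  have hPd := card_PSL2_mul F
  have hgcd := card_center_eq_gcd (F := F)
  -- q ≥ 4
  have hq4 : 4 ≤ Fintype.card F := by
    by_contra hlt
    have h23 : Fintype.card F = 2 ∨ Fintype.card F = 3 := by omega
    have hsolv : Group.IsSolvable PSL2 := by
      rcases h23 with h | h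
      · rw [hgcd, h] at hPd
        norm_num at hPd
        exact Cfsg.Agent.Lib.Helper1.pq_all _ 2 3 1 Nat.prime_two Nat.prime_three (by rw [hPd]; norm_num)
      · rw [hgcd, h] at hPd
        norm_num at hPd
        have h12 : Nat.card PSL2 = 12 := by omega
        exact Cfsg.Agent.Lib.Helper1.pq_all _ 2 3 2 Nat.prime_two Nat.prime_three (by rw [h12]; norm_num)
    have hcomm := IsSimpleGroup.comm_iff_isSolvable.mpr hsolv
    exact hnc ⟨⟨hcomm⟩⟩
  rcases Nat.lt_or_ge (n : ℕ) 2 with hn1 | hn2
  · -- q = p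
    have h1 : (n : ℕ) = 1 := by
      have := n.pos
      omega
    rw [h1, pow_one] at hn
    rw [hn] at hq4 ⊢
    by_cases h5 : p = 5
    · right; right; right; exact h5
    · have h7 : 7 ≤ p := by
        by_contra hlt
        have : p = 4 ∨ p = 6 := by omega
        rcases this with h | h <;> rw [h] at hpp <;> revert hpp <;> decide
      by_cases hmod : p % 5 = 2 ∨ p % 5 = 3
      · right; right; left
        exact ⟨hpp, by omega, hmod⟩
      · exfalso
        apply A5_contra hsol _ (card_PSL2_big (by rw [hn]; exact h7))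
        rw [hn]
        have h014 : p % 5 = 0 ∨ p % 5 = 1 ∨ p % 5 = 4 := by omega
        rcases h014 with h | h | h
        · exact Dvd.dvd.mul_right (Nat.dvd_of_mod_eq_zero h) _
        · apply Dvd.dvd.mul_left
          have : p ^ 2 % 5 = 1 := by rw [pow_two, Nat.mul_mod, h]
          have hpos : 1 ≤ p ^ 2 := Nat.one_le_pow _ _ (by omega)
          omega
        · apply Dvd.dvd.mul_left
          have : p ^ 2 % 5 = 1 := by rw [pow_two, Nat.mul_mod, h]
          have hpos : 1 ≤ p ^ 2 := Nat.one_le_pow _ _ (by omega)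
          omega
  · -- q = p ^ n, n ≥ 2
    have hp4 : p < 4 := by
      by_contra hge
      push Not at hge
      exact subfield_contra hsol (ZMod p) n hn2 (by rw [ZMod.card, hn]) (by rw [ZMod.card]; exact hge)
    have hnprime : (n : ℕ).Prime := by
      by_contra hnp
      obtain ⟨e, he, he2, hen⟩ := Nat.exists_dvd_of_not_prime2 hn2 hnp
      have : Fintype (GaloisField p e) := Fintype.ofFinite _
      have hcard : Fintype.card (GaloisField p e) = p ^ e := by
        rw [← Nat.card_eq_fintype_card, GaloisField.card p e (by omega)]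
      obtain ⟨c, hc'⟩ := he
      have hc2 : 2 ≤ c := by
        by_contra hlt
        have : c = 0 ∨ c = 1 := by omega
        rcases this with h | h <;> rw [h] at hc' <;> omega
      refine subfield_contra hsol (GaloisField p e) c hc2 ?_ ?_
      · rw [hcard, ← pow_mul, ← hc', hn]
      · rw [hcard]
        calc 4 = 2 ^ 2 := by norm_num
          _ ≤ p ^ 2 := Nat.pow_le_pow_left hpp.two_le 2
          _ ≤ p ^ e := Nat.pow_le_pow_right hpp.pos he2
    have hp23 : p = 2 ∨ p = 3 := by
      have := hpp.two_le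
      omega
    rcases hp23 with rfl | rfl
    · left
      exact ⟨n, hnprime, hn⟩
    · right; left
      refine ⟨n, hnprime, ?_, hn⟩
      intro h2
      rw [h2] at hn
      norm_num at hn
      apply A5_contra hsol _ (card_PSL2_big (by rw [hn]; norm_num))
      rw [hn]
      norm_num

theorem minimalSimple_of_msList (hq : MSList (Fintype.card F)) :
    Cfsg.IsMinimalSimple PSL2 := by
  obtain ⟨p, hp, hc⟩ := exists_char_fact F
  refine ⟨Matrix.ProjectiveSpecialLinearGroup.rank_two_simple (by
    rw [Nat.card_eq_fintype_card]; exact hq.four_le), ?_, ?_⟩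
  · intro hcomm
    exact psl2_not_comm (K := F) (fun a b => hcomm.is_comm.comm a b)
  · intro H hH
    have hsurj : Function.Surjective (QuotientGroup.mk' (Subgroup.center SL2)) :=
      QuotientGroup.mk'_surjective _
    have hZ : Subgroup.center SL2 ≤ H.comap (QuotientGroup.mk' (Subgroup.center SL2)) := by
      intro z hz
      rw [Subgroup.mem_comap]
      have : (QuotientGroup.mk' (Subgroup.center SL2)) z = 1 := by
        rw [← MonoidHom.mem_ker, QuotientGroup.ker_mk']; exact hz
      rw [this]; exact H.one_mem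
    have hY : H.comap (QuotientGroup.mk' (Subgroup.center SL2)) ≠ ⊤ := by
      intro h
      apply hH
      rw [eq_top_iff]
      intro y _
      obtain ⟨x, rfl⟩ := hsurj y
      have : x ∈ H.comap (QuotientGroup.mk' (Subgroup.center SL2)) := by rw [h]; trivial
      exact this
    have hs := solvable_of_proper p _ hZ hY hq
    exact Group.isSolvable_of_surjective
      (f := (QuotientGroup.mk' (Subgroup.center SL2)).subgroupComap H)
      (MonoidHom.subgroupComap_surjective_of_surjective _ H hsurj)

theorem minimalSimple_iff : Cfsg.IsMinimalSimple PSL2 ↔ MSList (Fintype.card F) :=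
  ⟨msList_of_minimalSimple, minimalSimple_of_msList⟩

end
end Cfsg.Agent.Lib.Helper14.Dk
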