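import Mathlib
import Cfsg.Agent.Lib.Helper14.DkMinSimple
import Cfsg.Agent.S0802
import Cfsg.Agent.S0803

set_option autoImplicit false

/-!
# Maximal subgroups `A₄`, `S₄`, `A₅` of `PSL₂(q)`
-/

namespace Cfsg.Agent.Lib.Helper14.Dk
open Cfsg.Agent.Lib.Helper2.SL2
open scoped commutatorElement

theorem witness_S4 : ∃ a b : Equiv.Perm (Fin 4), ⁅a * a, b * b⁆ ≠ 1 ∧
    ⁅a * a, b * b⁆ * ⁅a * a, b * b⁆ = 1 := by
  refine ⟨Equiv.swap 0 1 * Equiv.swap 1 2, Equiv.swap 0 1 * Equiv.swap 1 3, ?_, ?_⟩ <;> decide +kernel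

theorem witness_A4 : ∃ a b : alternatingGroup (Fin 4), ⁅a * a, b * b⁆ ≠ 1 ∧
    ⁅a * a, b * b⁆ * ⁅a * a, b * b⁆ = 1 := by
  have h1 : (Equiv.swap (0 : Fin 4) 1 * Equiv.swap 1 2 : Equiv.Perm (Fin 4)) ∈
      alternatingGroup (Fin 4) := by
    rw [Equiv.Perm.mem_alternatingGroup]; decide
  have h2 : (Equiv.swap (0 : Fin 4) 1 * Equiv.swap 1 3 : Equiv.Perm (Fin 4)) ∈
      alternatingGroup (Fin 4) := by
    rw [Equiv.Perm.mem_alternatingGroup]; decide
  refine ⟨⟨_, h1⟩, ⟨_, h2⟩, ?_, ?_⟩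
  · intro h
    have := congrArg Subtype.val h
    revert this
    simp only [commutatorElement_def, Subgroup.coe_mul, Subgroup.coe_inv, Subgroup.coe_one]
    decide +kernel
  · apply Subtype.ext
    simp only [commutatorElement_def, Subgroup.coe_mul, Subgroup.coe_inv, Subgroup.coe_one]
    decide +kernel

theorem witness_A5 : ∃ a b : alternatingGroup (Fin 5), ⁅a * a, b * b⁆ ≠ 1 ∧
    ⁅a * a, b * b⁆ * ⁅a * a, b * b⁆ = 1 := by
  have h1 : (Equiv.swap (0 : Fin 5) 1 * Equiv.swap 1 2 : Equiv.Perm (Fin 5)) ∈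
      alternatingGroup (Fin 5) := by
    rw [Equiv.Perm.mem_alternatingGroup]; decide
  have h2 : (Equiv.swap (0 : Fin 5) 1 * Equiv.swap 1 3 : Equiv.Perm (Fin 5)) ∈
      alternatingGroup (Fin 5) := by
    rw [Equiv.Perm.mem_alternatingGroup]; decide
  refine ⟨⟨_, h1⟩, ⟨_, h2⟩, ?_, ?_⟩
  · intro h
    have := congrArg Subtype.val h
    revert this
    simp only [commutatorElement_def, Subgroup.coe_mul, Subgroup.coe_inv, Subgroup.coe_one]
    decide +kernel
  · apply Subtype.ext
    simp only [commutatorElement_def, Subgroup.coe_mul, Subgroup.coe_inv, Subgroup.coe_one]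
    decide +kernel

theorem witness_transfer {G A : Type*} [Group G] [Group A] (H : Subgroup G) (e : H ≃* A)
    (hA : ∃ a b : A, ⁅a * a, b * b⁆ ≠ 1 ∧ ⁅a * a, b * b⁆ * ⁅a * a, b * b⁆ = 1) :
    ∃ a b : G, a ∈ H ∧ b ∈ H ∧ ⁅a * a, b * b⁆ ≠ 1 ∧ ⁅a * a, b * b⁆ * ⁅a * a, b * b⁆ = 1 := by
  obtain ⟨a₀, b₀, h1, h2⟩ := hA
  have hw : e ⁅e.symm a₀ * e.symm a₀, e.symm b₀ * e.symm b₀⁆ = ⁅a₀ * a₀, b₀ * b₀⁆ := by
    rw [map_commutatorElement, map_mul, map_mul, e.apply_symm_apply, e.apply_symm_apply]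
  refine ⟨(e.symm a₀ : G), (e.symm b₀ : G), (e.symm a₀).2, (e.symm b₀).2, ?_, ?_⟩
  · intro h
    apply h1
    rw [← hw]
    have : ⁅e.symm a₀ * e.symm a₀, e.symm b₀ * e.symm b₀⁆ = 1 := Subtype.ext h
    rw [this, map_one]
  · have : ⁅e.symm a₀ * e.symm a₀, e.symm b₀ * e.symm b₀⁆ *
        ⁅e.symm a₀ * e.symm a₀, e.symm b₀ * e.symm b₀⁆ = 1 := by
      apply e.injective
      rw [map_mul, hw, h2, map_one]
    exact congrArg Subtype.val this

section
variable {F : Type*} [Field F] [Fintype F]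
local notation "SL2" => Matrix.SpecialLinearGroup (Fin 2) F
local notation "PSL2" => Matrix.ProjectiveSpecialLinearGroup (Fin 2) F

/-- an identity satisfied by the subgroups of central, cyclic, Borel and dihedral type -/
theorem comm_sq_pow_mem (p : ℕ) [Fact p.Prime] [CharP F p] (X : Subgroup SL2)
    (h : ZZ X.subtype = ⊤ ∨ IsCyc (ZZ X.subtype) (UU X.subtype) ∨
      IsBor (ZZ X.subtype) (UU X.subtype) ∨ IsDih (ZZ X.subtype) (UU X.subtype))
    (a b : ↥X) : ⁅a * a, b * b⁆ ^ p ∈ ZZ X.subtype := by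
  have hτ : Function.Injective X.subtype := X.subtype_injective
  have D := data_of_rep p X.subtype hτ
  rcases h with h | h | h | h
  · rw [h]; trivial
  · obtain ⟨x, hx, hU, hM⟩ := h
    have hc : (a * a) * (b * b) = (b * b) * (a * a) :=
      D.toCT.comm_of_mem hx (by rw [hM]; trivial) (by rw [hM]; trivial)
    rw [commutatorElement_eq_one_iff_mul_comm.mpr hc, one_pow]
    exact Subgroup.one_mem _
  · obtain ⟨u, hu, hUu, hN⟩ := h
    obtain ⟨c, hc⟩ := exists_std X.subtype hτ hu hUu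
    rw [hc.normalizer_eq] at hN
    have hmem : ∀ y : ↥X, y ∈ BG ((MulAut.conj c).toMonoidHom.comp X.subtype) := by
      intro y; rw [hN]; trivial
    have hker : ⁅a * a, b * b⁆ ∈ M u := by
      let s : ↥(BG ((MulAut.conj c).toMonoidHom.comp X.subtype)) := ⟨a * a, hmem _⟩
      let t : ↥(BG ((MulAut.conj c).toMonoidHom.comp X.subtype)) := ⟨b * b, hmem _⟩
      have h1 : ⁅s, t⁆ ∈ (sqHom ((MulAut.conj c).toMonoidHom.comp X.subtype)).ker := by
        rw [MonoidHom.mem_ker, map_commutatorElement,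
          commutatorElement_eq_one_iff_mul_comm, mul_comm]
      rw [hc.ker_sqHom, Subgroup.mem_subgroupOf] at h1
      exact h1
    by_cases hcZ : ⁅a * a, b * b⁆ ∈ ZZ X.subtype
    · exact Subgroup.pow_mem _ hcZ p
    · have hUc : UU X.subtype ⁅a * a, b * b⁆ :=
        D.U_comm u _ hu hcZ (mem_M.mp hker) hUu
      exact D.U_pow _ hcZ hUc
  · obtain ⟨x, hx, hU, hn, he⟩ := h
    have hN : Subgroup.normalizer (M x : Set ↥X) = ⊤ := Subgroup.index_eq_one.mp hn
    have hidx : (M x).index = 2 := by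
      have := Subgroup.relIndex_mul_index (Subgroup.le_normalizer (H := M x))
      rw [hN, Subgroup.index_top, mul_one] at this
      rw [← this]
      have he' : (M x).relIndex (Subgroup.normalizer (M x : Set ↥X)) = 2 := he
      rw [hN] at he'
      exact he'
    have hc : (a * a) * (b * b) = (b * b) * (a * a) :=
      D.toCT.comm_of_mem hx (Subgroup.mul_self_mem_of_index_two hidx a)
        (Subgroup.mul_self_mem_of_index_two hidx b)
    rw [commutatorElement_eq_one_iff_mul_comm.mpr hc, one_pow]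
    exact Subgroup.one_mem _

theorem center_le_comap (K : Subgroup PSL2) :
    Subgroup.center SL2 ≤ K.comap (QuotientGroup.mk' (Subgroup.center SL2)) := by
  intro z hz
  rw [Subgroup.mem_comap]
  have : (QuotientGroup.mk' (Subgroup.center SL2)) z = 1 := by
    rw [← MonoidHom.mem_ker, QuotientGroup.ker_mk']; exact hz
  rw [this]; exact K.one_mem

theorem comap_ne_top {K : Subgroup PSL2} (hK : K ≠ ⊤) :
    K.comap (QuotientGroup.mk' (Subgroup.center SL2)) ≠ ⊤ := by
  intro h
  apply hK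
  rw [eq_top_iff]
  intro y _
  obtain ⟨x, rfl⟩ := QuotientGroup.mk'_surjective (Subgroup.center SL2) y
  have : x ∈ K.comap (QuotientGroup.mk' (Subgroup.center SL2)) := by rw [h]; trivial
  exact this

theorem card_comap_mk (K : Subgroup PSL2) :
    Nat.card (Subgroup.center SL2) * Nat.card K =
      Nat.card (K.comap (QuotientGroup.mk' (Subgroup.center SL2))) := by
  have h1 := card_map_mk (Subgroup.center SL2)
    (K.comap (QuotientGroup.mk' (Subgroup.center SL2))) (center_le_comap K)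
  rw [Subgroup.map_comap_eq_self_of_surjective (QuotientGroup.mk'_surjective _)] at h1
  exact h1

/-- the type of an overgroup of a subgroup containing a "non-metabelian witness" -/
theorem over_types (p : ℕ) [Fact p.Prime] [CharP F p] (hp2 : p ≠ 2)
    (K : Subgroup PSL2) (a b : PSL2) (ha : a ∈ K) (hb : b ∈ K)
    (hc1 : ⁅a * a, b * b⁆ ≠ 1) (hc2 : ⁅a * a, b * b⁆ * ⁅a * a, b * b⁆ = 1) :
    IsA4 (ZZ (K.comap (QuotientGroup.mk' (Subgroup.center SL2))).subtype)
        (UU (K.comap (QuotientGroup.mk' (Subgroup.center SL2))).subtype) ∨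
      IsS4 (ZZ (K.comap (QuotientGroup.mk' (Subgroup.center SL2))).subtype)
        (UU (K.comap (QuotientGroup.mk' (Subgroup.center SL2))).subtype) ∨
      IsA5 (ZZ (K.comap (QuotientGroup.mk' (Subgroup.center SL2))).subtype)
        (UU (K.comap (QuotientGroup.mk' (Subgroup.center SL2))).subtype) ∨
      IsPSL (ZZ (K.comap (QuotientGroup.mk' (Subgroup.center SL2))).subtype)
        (UU (K.comap (QuotientGroup.mk' (Subgroup.center SL2))).subtype) := by
  set X := K.comap (QuotientGroup.mk' (Subgroup.center SL2)) with hX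
  have hτ : Function.Injective X.subtype := X.subtype_injective
  have D := data_of_rep p X.subtype hτ
  have key : ¬ (ZZ X.subtype = ⊤ ∨ IsCyc (ZZ X.subtype) (UU X.subtype) ∨
      IsBor (ZZ X.subtype) (UU X.subtype) ∨ IsDih (ZZ X.subtype) (UU X.subtype)) := by
    intro h
    obtain ⟨a', rfl⟩ := QuotientGroup.mk'_surjective (Subgroup.center SL2) a
    obtain ⟨b', rfl⟩ := QuotientGroup.mk'_surjective (Subgroup.center SL2) b
    have h1 := comm_sq_pow_mem p X h ⟨a', ha⟩ ⟨b', hb⟩
    have h2 : (⁅a' * a', b' * b'⁆ ^ p : SL2) ∈ Subgroup.center SL2 := h1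
    have h3 : (QuotientGroup.mk' (Subgroup.center SL2)) (⁅a' * a', b' * b'⁆ ^ p) = 1 := by
      rw [← MonoidHom.mem_ker, QuotientGroup.ker_mk']; exact h2
    rw [map_pow, map_commutatorElement, map_mul, map_mul] at h3
    obtain ⟨j, hj⟩ : ∃ j, p = 2 * j + 1 := by
      rcases (Fact.out : p.Prime).eq_two_or_odd with h | h
      · exact absurd h hp2
      · exact ⟨p / 2, by omega⟩
    rw [hj, pow_succ, pow_mul, pow_two, hc2, one_pow, one_mul] at h3
    exact hc1 h3
  rcases D.main with h | h | h | h | h | h | h | h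
  · exact (key (Or.inl h)).elim
  · exact (key (Or.inr (Or.inl h))).elim
  · exact (key (Or.inr (Or.inr (Or.inl h)))).elim
  · exact (key (Or.inr (Or.inr (Or.inr h)))).elim
  · left; exact h
  · right; left; exact h
  · right; right; left; exact h
  · right; right; right; exact h

theorem odd_card_of_char_ne_two (p : ℕ) [Fact p.Prime] [CharP F p] (hp2 : p ≠ 2) :
    Odd (Fintype.card F) := by
  obtain ⟨n, -, hn⟩ := FiniteField.card F p
  rw [hn]
  apply Odd.pow
  rcases (Fact.out : p.Prime).eq_two_or_odd with h | h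
  · exact absurd h hp2
  · exact Nat.odd_iff.mpr h

theorem card_center_of_odd (hodd : Odd (Fintype.card F)) :
    Nat.card (Subgroup.center SL2) = 2 := by
  rw [← ZZ_id]
  exact card_ZZ_of_odd_gen hodd _ (fun _ _ h => h) (-1) rfl

theorem two_mul_card_PSL2 (hodd : Odd (Fintype.card F)) :
    2 * Nat.card PSL2 = Fintype.card F * (Fintype.card F ^ 2 - 1) := by
  rw [← card_PSL2_mul F, card_center_of_odd hodd, mul_comm]

/-- the numerical data of a proper overgroup of a subgroup containing a witness -/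
theorem over_numeric (p : ℕ) [Fact p.Prime] [CharP F p] (hp2 : p ≠ 2)
    (H K : Subgroup PSL2) (hHK : H < K) (hK : K ≠ ⊤)
    (hw : ∃ a b : PSL2, a ∈ H ∧ b ∈ H ∧ ⁅a * a, b * b⁆ ≠ 1 ∧
      ⁅a * a, b * b⁆ * ⁅a * a, b * b⁆ = 1) :
    Nat.card H ∣ Nat.card K ∧ Nat.card H < Nat.card K ∧
      2 * Nat.card K ∣ Fintype.card F * (Fintype.card F ^ 2 - 1) ∧
      2 * Nat.card K ≠ Fintype.card F * (Fintype.card F ^ 2 - 1) ∧
      (Nat.card K = 12 ∨ Nat.card K = 24 ∨ Nat.card K = 60 ∨
        ∃ k qH g₂ m, 2 ≤ k ∧ Arith.PSLd qH k g₂ (Nat.card K) ∧ 2 ≤ m ∧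
          qH ^ m = Fintype.card F) := by
  have hodd := odd_card_of_char_ne_two (F := F) p hp2
  obtain ⟨a, b, ha, hb, hc1, hc2⟩ := hw
  have htypes := over_types p hp2 K a b (hHK.le ha) (hHK.le hb) hc1 hc2
  set X := K.comap (QuotientGroup.mk' (Subgroup.center SL2)) with hX
  have hZX : Subgroup.center SL2 ≤ X := center_le_comap K
  have hXtop : X ≠ ⊤ := comap_ne_top hK
  have hτ : Function.Injective X.subtype := X.subtype_injective
  have hd : Nat.card (ZZ X.subtype) = 2 := card_ZZ_of_odd hodd X hZX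
  have hXK : 2 * Nat.card K = Nat.card X := by
    have h1 := card_comap_mk K
    rw [card_center_of_odd hodd] at h1
    exact h1
  have hL : Nat.card SL2 = Fintype.card F * (Fintype.card F ^ 2 - 1) :=
    Cfsg.Agent.Lib.Helper38.card_SL2
  have hdvd : Nat.card X ∣ Fintype.card F * (Fintype.card F ^ 2 - 1) :=
    hL ▸ Subgroup.card_subgroup_dvd_card X
  have hne : Nat.card X ≠ Fintype.card F * (Fintype.card F ^ 2 - 1) := by
    intro h
    apply hXtop
    exact Subgroup.eq_top_of_card_eq X (h.trans hL.symm)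
  have hLpos : 0 < Fintype.card F * (Fintype.card F ^ 2 - 1) := by
    rw [← hL]; exact Nat.card_pos
  have hle : Nat.card X ≤ Fintype.card F * (Fintype.card F ^ 2 - 1) := Nat.le_of_dvd hLpos hdvd
  refine ⟨Subgroup.card_dvd_of_le hHK.le, ?_, hXK ▸ hdvd, hXK ▸ hne, ?_⟩
  · by_contra hcon
    push Not at hcon
    exact hHK.ne (Subgroup.eq_of_le_of_card_ge hHK.le hcon)
  · rcases htypes with h | h | h | h
    · left
      have := h.1
      rw [hd] at this
      omega
    · right; left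
      have := h.1
      rw [hd] at this
      omega
    · right; right; left
      have := h.1
      rw [hd] at this
      omega
    · right; right; right
      obtain ⟨k, qH, g₂, g, hg, hk2, ⟨⟨u, hu, hUu⟩, hall⟩, hP, -, -, -⟩ := h
      obtain ⟨hee1, haa1⟩ := hall u hu hUu
      obtain ⟨hle', -⟩ := psld_le hP hk2
      obtain ⟨m, hm1, hm⟩ := field_card_pow X.subtype hτ hu hUu hee1 haa1 hle'
      have hgK : g = Nat.card K := by
        rw [hd] at hg
        omega
      subst hgK
      refine ⟨k, qH, g₂, m, hk2, hP, ?_, hm⟩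
      by_contra hm2
      have : m = 1 := by omega
      subst this
      rw [pow_one] at hm
      subst hm
      rw [hg] at hle hne
      exact hne (psl_m_one _ k g₂ _ _ hP hk2 (Or.inr hd) (fun _ => hd) hle).1

theorem charP_of_card_prime (p : ℕ) [Fact p.Prime] (hF : Fintype.card F = p) : CharP F p := by
  obtain ⟨p', hp', hc⟩ := exists_char_fact F
  obtain ⟨n, -, hn⟩ := FiniteField.card F p'
  have h1 : p' ∣ p := by
    rw [← hF, hn]; exact dvd_pow_self _ n.pos.ne'
  have h2 : p' = p := by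
    rcases (Nat.dvd_prime (Fact.out : p.Prime)).mp h1 with h | h
    · exact absurd h hp'.out.one_lt.ne'
    · exact h
  rw [← h2]; exact hc

theorem not_prime_pow {q qH m : ℕ} (hq : q.Prime) (hm : 2 ≤ m) (h : qH ^ m = q) : False := by
  have hdvd : qH ∣ q := by rw [← h]; exact dvd_pow_self _ (by omega)
  rcases (Nat.dvd_prime hq).mp hdvd with h1 | h1
  · rw [h1, one_pow] at h
    exact hq.one_lt.ne' h.symm
  · rw [h1] at h
    have : q ^ 2 ≤ q ^ m := Nat.pow_le_pow_right hq.pos hm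
    have h2 := hq.two_le
    nlinarith

theorem card_A4 : Nat.card (alternatingGroup (Fin 4)) = 12 := by
  rw [Nat.card_eq_fintype_card]
  have h := two_mul_card_alternatingGroup (α := Fin 4)
  rw [Fintype.card_perm, Fintype.card_fin] at h
  have : (4 : ℕ).factorial = 24 := by decide
  omega

theorem card_S4 : Nat.card (Equiv.Perm (Fin 4)) = 24 := by
  rw [Nat.card_eq_fintype_card, Fintype.card_perm, Fintype.card_fin]
  decide

/-- `S₄` is maximal in `PSL₂(p)` for `p ≡ ±1 (mod 8)` -/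
theorem exists_S4_coatom (p : ℕ) [Fact p.Prime] (hF : Fintype.card F = p)
    (hp : p % 8 = 1 ∨ p % 8 = 7) :
    ∃ H : Subgroup PSL2, IsCoatom H ∧ Nonempty (H ≃* Equiv.Perm (Fin 4)) := by
  have hpp : p.Prime := Fact.out
  have hc : CharP F p := charP_of_card_prime p hF
  have hp2 : p ≠ 2 := by omega
  have hp7 : 7 ≤ p := by
    by_contra hlt
    have : p = 1 ∨ p = 0 := by omega
    rcases this with h | h <;> rw [h] at hpp <;> revert hpp <;> decide
  have hsq : p ^ 2 % 16 = 1 := by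
    have h16 : p % 16 = 1 ∨ p % 16 = 7 ∨ p % 16 = 9 ∨ p % 16 = 15 := by omega
    rw [Nat.pow_mod]
    rcases h16 with h | h | h | h <;> rw [h]
  obtain ⟨H, ⟨e⟩⟩ := (Cfsg.Agent.S0803.result hF).mpr hsq
  refine ⟨H, ?_, ⟨e⟩⟩
  have hH : Nat.card H = 24 := by rw [Nat.card_congr e.toEquiv, card_S4]
  have hodd := odd_card_of_char_ne_two (F := F) p hp2
  have hP := two_mul_card_PSL2 hodd
  rw [hF] at hP
  have hbig : 7 * (7 ^ 2 - 1) ≤ p * (p ^ 2 - 1) := by
    apply Nat.mul_le_mul hp7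
    have := Nat.pow_le_pow_left hp7 2
    omega
  constructor
  · intro htop
    rw [htop, Subgroup.card_top] at hH
    omega
  · intro K hHK
    by_contra hK
    obtain ⟨h1, h2, h3, h4, h5⟩ := over_numeric p hp2 H K hHK hK (witness_transfer H e witness_S4)
    rw [hH] at h1 h2
    rcases h5 with h | h | h | ⟨k, qH, g₂, m, hk2, hP', hm2, hm⟩
    · omega
    · omega
    · omega
    · rw [hF] at hm
      exact not_prime_pow hpp hm2 hm

/-- `A₄` is maximal in `PSL₂(p)` for `p ≡ ±3 (mod 8)`, `p ≢ ±1 (mod 10)` -/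
theorem exists_A4_coatom (p : ℕ) [Fact p.Prime] (hF : Fintype.card F = p) (h5 : 5 ≤ p)
    (h8 : p % 8 = 3 ∨ p % 8 = 5) (h10 : p % 10 ≠ 1 ∧ p % 10 ≠ 9) :
    ∃ H : Subgroup PSL2, IsCoatom H ∧ Nonempty (H ≃* alternatingGroup (Fin 4)) := by
  have hpp : p.Prime := Fact.out
  have hc : CharP F p := charP_of_card_prime p hF
  have hp2 : p ≠ 2 := by omega
  obtain ⟨H, ⟨e⟩⟩ := (Cfsg.Agent.S0802.result (F := F) p 1 (by rw [hF, pow_one])).mpr
    (fun h => hp2 h.1)
  refine ⟨H, ?_, ⟨e⟩⟩
  have hH : Nat.card H = 12 := by rw [Nat.card_congr e.toEquiv, card_A4]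
  have hodd := odd_card_of_char_ne_two (F := F) p hp2
  have hP := two_mul_card_PSL2 hodd
  rw [hF] at hP
  have hbig : 5 * (5 ^ 2 - 1) ≤ p * (p ^ 2 - 1) := by
    apply Nat.mul_le_mul h5
    have := Nat.pow_le_pow_left h5 2
    omega
  have h16 : p * (p ^ 2 - 1) % 16 = 8 := by
    have e1 : p * (p ^ 2 - 1) = (p - 1) * p * (p + 1) := by
      obtain ⟨t, rfl⟩ : ∃ t, p = t + 1 := ⟨p - 1, by omega⟩
      have : (t + 1) ^ 2 - 1 = t * (t + 2) := by
        have : (t + 1) ^ 2 = t * (t + 2) + 1 := by ring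
        omega
      rw [this, Nat.add_sub_cancel]; ring
    have hr : p % 16 = 3 ∨ p % 16 = 5 ∨ p % 16 = 11 ∨ p % 16 = 13 := by omega
    rw [e1, Nat.mul_mod, Nat.mul_mod (p - 1) p]
    rcases hr with h | h | h | h
    · have a1 : (p - 1) % 16 = 2 := by omega
      have a2 : (p + 1) % 16 = 4 := by omega
      rw [h, a1, a2]
    · have a1 : (p - 1) % 16 = 4 := by omega
      have a2 : (p + 1) % 16 = 6 := by omega
      rw [h, a1, a2]
    · have a1 : (p - 1) % 16 = 10 := by omega
      have a2 : (p + 1) % 16 = 12 := by omega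
      rw [h, a1, a2]
    · have a1 : (p - 1) % 16 = 12 := by omega
      have a2 : (p + 1) % 16 = 14 := by omega
      rw [h, a1, a2]
  constructor
  · intro htop
    rw [htop, Subgroup.card_top] at hH
    omega
  · intro K hHK
    by_contra hK
    obtain ⟨h1, h2, h3, h4, h5'⟩ :=
      over_numeric p hp2 H K hHK hK (witness_transfer H e witness_A4)
    rw [hH] at h1 h2
    rw [hF] at h3 h4
    rcases h5' with h | h | h | ⟨k, qH, g₂, m, hk2, hP', hm2, hm⟩
    · omega
    · rw [h] at h3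
      omega
    · rw [h] at h3 h4
      by_cases hp5 : p = 5
      · rw [hp5] at h4
        norm_num at h4
      · have hmod : p % 10 = 3 ∨ p % 10 = 7 := by
          have hodd' : p % 2 = 1 := by
            rcases hpp.eq_two_or_odd with h | h
            · exact absurd h hp2
            · exact h
          have h5' : p % 5 ≠ 0 := by
            intro h0
            have := (Nat.dvd_prime hpp).mp (Nat.dvd_of_mod_eq_zero h0)
            omega
          omega
        have hs : p ^ 2 % 5 = 4 := by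
          rw [pow_two, Nat.mul_mod]
          rcases hmod with h | h
          · have : p % 5 = 3 := by omega
            rw [this]
          · have : p % 5 = 2 := by omega
            rw [this]
        apply not_five_dvd_of_sq_mod hs
        exact Dvd.dvd.trans ⟨24, by norm_num⟩ h3
    · rw [hF] at hm
      exact not_prime_pow hpp hm2 hm

theorem pow_eq_prime_sq {p qH m : ℕ} (hp : p.Prime) (hm : 2 ≤ m) (h : qH ^ m = p ^ 2) :
    qH = p ∧ m = 2 := by
  have hdvd : qH ∣ p ^ 2 := by rw [← h]; exact dvd_pow_self _ (by omega)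
  obtain ⟨e, he, rfl⟩ := (Nat.dvd_prime_pow hp).mp hdvd
  rw [← pow_mul] at h
  have hem : e * m = 2 := Nat.pow_right_injective hp.two_le h
  have he1 : e = 1 := by
    interval_cases e
    · omega
    · rfl
    · omega
  subst he1
  exact ⟨pow_one p, by omega⟩

theorem num_A5_psl {p k g₂ g : ℕ} (hP : Arith.PSLd p k g₂ g) (h60 : 60 ∣ g) (hlt : 60 < g)
    (hp : p % 10 = 3 ∨ p % 10 = 7) : False := by
  have h5 : 5 ∣ g := Dvd.dvd.trans ⟨12, by norm_num⟩ h60
  have hp5 : Nat.Prime 5 := by norm_num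
  rcases hP with ⟨h1, h2, h3⟩ | ⟨h1, h2, h3⟩ | ⟨h1, h2, h3, h4⟩
  · rw [h3] at h5
    rcases (Nat.Prime.dvd_mul hp5).mp h5 with h | h
    · rcases (Nat.Prime.dvd_mul hp5).mp h with h | h <;> omega
    · omega
  · rw [h3] at h5
    rcases (Nat.Prime.dvd_mul hp5).mp h5 with h | h
    · omega
    · rcases (Nat.Prime.dvd_mul hp5).mp h with h | h
      · rcases (Nat.Prime.dvd_mul hp5).mp h with h | h <;> omega
      · omega
  · omega

/-- `A₅` is maximal in `PSL₂(q)` for `q = p ≡ ±1 (mod 10)` or `q = p²`, `p ≡ ±3 (mod 10)` -/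
theorem exists_A5_coatom (p : ℕ) [Fact p.Prime] [CharP F p]
    (h : (Fintype.card F = p ∧ (p % 10 = 1 ∨ p % 10 = 9)) ∨
      (Fintype.card F = p ^ 2 ∧ (p % 10 = 3 ∨ p % 10 = 7))) :
    ∃ H : Subgroup PSL2, IsCoatom H ∧ Nonempty (H ≃* alternatingGroup (Fin 5)) := by
  have hpp : p.Prime := Fact.out
  have hp2 : p ≠ 2 := by
    rcases h with ⟨-, h⟩ | ⟨-, h⟩ <;> omega
  have hq9 : 9 ≤ Fintype.card F := by
    rcases h with ⟨hF, h⟩ | ⟨hF, h⟩
    · rw [hF]
      have h1 : p ≠ 1 := hpp.one_lt.ne'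
      omega
    · rw [hF]
      have : 3 ≤ p := by omega
      calc 9 = 3 ^ 2 := by norm_num
        _ ≤ p ^ 2 := Nat.pow_le_pow_left this 2
  have h5 : 5 ∣ Fintype.card F * (Fintype.card F ^ 2 - 1) := by
    apply Dvd.dvd.mul_left
    have hq5 : Fintype.card F % 5 = 1 ∨ Fintype.card F % 5 = 4 := by
      rcases h with ⟨hF, h⟩ | ⟨hF, h⟩
      · rw [hF]; omega
      · rw [hF, pow_two, Nat.mul_mod]
        rcases h with h | h
        · have : p % 5 = 3 := by omega
          rw [this]; right; rfl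
        · have : p % 5 = 2 := by omega
          rw [this]; right; rfl
    have hs : Fintype.card F ^ 2 % 5 = 1 := by
      rw [pow_two, Nat.mul_mod]
      rcases hq5 with h | h <;> rw [h]
    have hpos : 1 ≤ Fintype.card F ^ 2 := Nat.one_le_pow _ _ (by omega)
    omega
  obtain ⟨H, ⟨e⟩⟩ := (Cfsg.Agent.S0804.result (F := F) rfl).mpr h5
  refine ⟨H, ?_, ⟨e⟩⟩
  have hH : Nat.card H = 60 := by rw [Nat.card_congr e.toEquiv, card_A5]
  have hodd := odd_card_of_char_ne_two (F := F) p hp2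
  have hP := two_mul_card_PSL2 hodd
  have hbig : 9 * (9 ^ 2 - 1) ≤ Fintype.card F * (Fintype.card F ^ 2 - 1) := by
    apply Nat.mul_le_mul hq9
    have := Nat.pow_le_pow_left hq9 2
    omega
  constructor
  · intro htop
    rw [htop, Subgroup.card_top] at hH
    omega
  · intro K hHK
    by_contra hK
    obtain ⟨h1, h2, h3, h4, h5'⟩ :=
      over_numeric p hp2 H K hHK hK (witness_transfer H e witness_A5)
    rw [hH] at h1 h2
    rcases h5' with h' | h' | h' | ⟨k, qH, g₂, m, hk2, hP', hm2, hm⟩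
    · omega
    · omega
    · omega
    · rcases h with ⟨hF, -⟩ | ⟨hF, hmod⟩
      · rw [hF] at hm
        exact not_prime_pow hpp hm2 hm
      · rw [hF] at hm
        obtain ⟨rfl, -⟩ := pow_eq_prime_sq hpp hm2 hm
        exact num_A5_psl hP' h1 h2 hmod

end
end Cfsg.Agent.Lib.Helper14.Dk
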