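import Mathlib
import Cfsg.Agent.Lib.Helper14.DkSmallMax
import Cfsg.Prelude.Def_OddOrderLocal
set_option autoImplicit false
namespace Cfsg.Agent.Lib.Helper14.Dk
open Cfsg.Agent.Lib.Helper2.SL2
open scoped commutatorElement

/-- characterization of the `{2,3}`-part -/
theorem eq_smooth_part (A M c : ℕ) (hA : A = M * c) (hA0 : A ≠ 0)
    (hsmooth : ∀ r : ℕ, r.Prime → r ∣ M → r = 2 ∨ r = 3) (h2 : ¬ 2 ∣ c) (h3 : ¬ 3 ∣ c) :
    2 ^ A.factorization 2 * 3 ^ A.factorization 3 = M := by
  have hM0 : M ≠ 0 := by rintro rfl; simp at hA; exact hA0 hA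
  have hc0 : c ≠ 0 := by rintro rfl; simp at hA; exact hA0 hA
  have f2 : A.factorization 2 = M.factorization 2 := by
    rw [hA, Nat.factorization_mul hM0 hc0]
    simp [Nat.factorization_eq_zero_of_not_dvd h2]
  have f3 : A.factorization 3 = M.factorization 3 := by
    rw [hA, Nat.factorization_mul hM0 hc0]
    simp [Nat.factorization_eq_zero_of_not_dvd h3]
  rw [f2, f3]
  apply Nat.eq_of_factorization_eq (by positivity) hM0
  intro r
  have h23 : (2 ^ M.factorization 2 * 3 ^ M.factorization 3).factorization r =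
      (if r = 2 then M.factorization 2 else 0) + (if r = 3 then M.factorization 3 else 0) := by
    rw [Nat.factorization_mul (by positivity) (by positivity), Nat.factorization_pow,
      Nat.factorization_pow, Nat.Prime.factorization Nat.prime_two,
      Nat.Prime.factorization Nat.prime_three]
    simp only [Finsupp.coe_add, Finsupp.coe_smul, Pi.add_apply, Pi.smul_apply, smul_eq_mul,
      Finsupp.single_apply]
    by_cases h2' : r = 2
    · subst h2'; norm_num
    · by_cases h3' : r = 3
      · subst h3'; norm_num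
      · have e2 : ¬ (2 = r) := fun h => h2' h.symm
        have e3 : ¬ (3 = r) := fun h => h3' h.symm
        simp [h2', h3', e2, e3]
  rw [h23]
  by_cases hr2 : r = 2
  · subst hr2; simp
  · by_cases hr3 : r = 3
    · subst hr3; simp
    · simp only [hr2, hr3, if_false, add_zero]
      symm
      by_cases hrp : r.Prime
      · apply Nat.factorization_eq_zero_of_not_dvd
        intro hdvd
        rcases hsmooth r hrp hdvd with h | h
        · exact hr2 h
        · exact hr3 h
      · exact Nat.factorization_eq_zero_of_not_prime M hrp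


theorem smooth_decomp (A : ℕ) (hA : A ≠ 0) :
    ∃ c, A = 2 ^ A.factorization 2 * 3 ^ A.factorization 3 * c ∧ ¬ 2 ∣ c ∧ ¬ 3 ∣ c := by
  have h1 := Nat.ordProj_mul_ordCompl_eq_self A 2
  have h2 : ¬ 2 ∣ A / 2 ^ A.factorization 2 := Nat.not_dvd_ordCompl Nat.prime_two hA
  have hA1 : A / 2 ^ A.factorization 2 ≠ 0 := by
    intro h0
    rw [h0, mul_zero] at h1
    exact hA h1.symm
  have h3 := Nat.ordProj_mul_ordCompl_eq_self (A / 2 ^ A.factorization 2) 3
  have h4 : ¬ 3 ∣ (A / 2 ^ A.factorization 2) / 3 ^ (A / 2 ^ A.factorization 2).factorization 3 :=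
    Nat.not_dvd_ordCompl Nat.prime_three hA1
  have h5 : (A / 2 ^ A.factorization 2).factorization 3 = A.factorization 3 := by
    rw [Nat.factorization_ordCompl]
    simp
  rw [h5] at h3 h4
  refine ⟨(A / 2 ^ A.factorization 2) / 3 ^ A.factorization 3, ?_, ?_, h4⟩
  · rw [mul_assoc, h3, h1]
  · intro h
    apply h2
    rw [← h3]
    exact Dvd.dvd.mul_left h _

theorem dihedral_sub {G : Type*} [Group G] (T₀ : Subgroup G) [Finite T₀] (s : G) (hs : s ∉ T₀)
    (hs2 : s * s ∈ T₀) (hinv : ∀ t ∈ T₀, s * t * s⁻¹ = t⁻¹) :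
    ∃ H' : Subgroup G, T₀ ≤ H' ∧ Nat.card H' = 2 * Nat.card T₀ := by
  have hinv' : ∀ t ∈ T₀, s⁻¹ * t * s = t⁻¹ := by
    intro t ht
    have := hinv t⁻¹ (T₀.inv_mem ht)
    rw [inv_inv] at this
    calc s⁻¹ * t * s = s⁻¹ * (s * t⁻¹ * s⁻¹) * s := by rw [this]
      _ = t⁻¹ := by group
  have hs2' : s⁻¹ * s⁻¹ ∈ T₀ := by
    have := T₀.inv_mem hs2
    rwa [mul_inv_rev] at this
  let H' : Subgroup G :=
    { carrier := {y | y ∈ T₀ ∨ s⁻¹ * y ∈ T₀}
      one_mem' := Or.inl T₀.one_mem
      mul_mem' := by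
        rintro a b (ha | ha) (hb | hb)
        · exact Or.inl (T₀.mul_mem ha hb)
        · right
          have e : s⁻¹ * (a * b) = (s⁻¹ * a * s) * (s⁻¹ * b) := by group
          rw [e, hinv' a ha]
          exact T₀.mul_mem (T₀.inv_mem ha) hb
        · right
          have e : s⁻¹ * (a * b) = (s⁻¹ * a) * b := by group
          rw [e]
          exact T₀.mul_mem ha hb
        · left
          have e : a * b = (s * s) * (s⁻¹ * (s⁻¹ * a) * s) * (s⁻¹ * b) := by group
          rw [e, hinv' _ ha]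
          exact T₀.mul_mem (T₀.mul_mem hs2 (T₀.inv_mem ha)) hb
      inv_mem' := by
        rintro a (ha | ha)
        · exact Or.inl (T₀.inv_mem ha)
        · right
          have e : s⁻¹ * a⁻¹ = (s⁻¹ * (s⁻¹ * a)⁻¹ * s) * (s⁻¹ * s⁻¹) := by group
          rw [e, hinv' _ (T₀.inv_mem ha), inv_inv]
          exact T₀.mul_mem ha hs2' }
  have hle : T₀ ≤ H' := fun y hy => Or.inl hy
  have hsH : s ∈ H' := Or.inr (by rw [inv_mul_cancel]; exact T₀.one_mem)
  refine ⟨H', hle, ?_⟩
  have hidx : (T₀.subgroupOf H').index = 2 := by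
    rw [Subgroup.index_eq_two_iff]
    refine ⟨⟨s, hsH⟩, ?_⟩
    rintro ⟨b, hb⟩
    simp only [Subgroup.mem_subgroupOf, Subgroup.coe_mul]
    rcases hb with hb | hb
    · right
      refine ⟨hb, fun h => hs ?_⟩
      have := T₀.mul_mem (T₀.inv_mem hb) h
      rwa [inv_mul_cancel_left] at this
    · left
      refine ⟨?_, fun h => hs ?_⟩
      · have e : b * s = (s * s) * (s⁻¹ * (s⁻¹ * b) * s) := by group
        rw [e, hinv' _ hb]
        exact T₀.mul_mem hs2 (T₀.inv_mem hb)
      · have := T₀.mul_mem h (T₀.inv_mem hb)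
        have e : b * (s⁻¹ * b)⁻¹ = s := by group
        rwa [e] at this
  have h1 := (T₀.subgroupOf H').card_mul_index
  rw [hidx, Nat.card_congr (Subgroup.subgroupOfEquivOfLe hle).toEquiv] at h1
  omega


section
variable {F : Type*} [Field F] [Fintype F]
local notation "SL2" => Matrix.SpecialLinearGroup (Fin 2) F
local notation "PSL2" => Matrix.ProjectiveSpecialLinearGroup (Fin 2) F

/-- a group containing unipotent-type elements has order divisible by `p` -/
theorem p_dvd_of_uni {G : Type*} [Group G] [Finite G] (p : ℕ) [Fact p.Prime] [CharP F p]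
    (τ : G →* SL2) (hτ : Function.Injective τ) {x : G} (hx : x ∉ ZZ τ) (hU : UU τ x) :
    p ∣ Nat.card G := by
  obtain ⟨V, S, h1, -, -, ⟨c, hc, hc0⟩⟩ := exists_VS τ hτ hx hU
  have h2 : addOrderOf (⟨c, hc⟩ : V) = p := by
    apply addOrderOf_eq_prime
    · apply Subtype.ext
      simp only [AddSubgroup.coe_nsmul, AddSubgroup.coe_zero]
      rw [nsmul_eq_mul, CharP.cast_eq_zero F p, zero_mul]
    · intro h
      exact hc0 (congrArg Subtype.val h)
  have h3 : p ∣ Nat.card V := h2 ▸ addOrderOf_dvd_natCard _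
  have h4 : p ∣ aa x := by rw [← h1]; exact Dvd.dvd.mul_left h3 _
  exact Dvd.dvd.trans h4 (Subgroup.card_subgroup_dvd_card (M x))

theorem sq_sub_one_eq (q : ℕ) (hq : 1 ≤ q) : q ^ 2 - 1 = (q - 1) * (q + 1) := by
  obtain ⟨t, rfl⟩ : ∃ t, q = t + 1 := ⟨q - 1, by omega⟩
  have : (t + 1) ^ 2 = t * (t + 1 + 1) + 1 := by ring
  rw [this, Nat.add_sub_cancel, Nat.add_sub_cancel]

set_option maxHeartbeats 1000000 in
theorem hall_forward (p : ℕ) [Fact p.Prime] [CharP F p] (hp : 5 ≤ p) (H : Subgroup PSL2)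
    (hH : Cfsg.IsPiHall ({2, 3} : Set ℕ) H) :
    (3 ∣ Fintype.card F - 1 ∧ Fintype.card F % 4 = 1) ∨
      (3 ∣ Fintype.card F + 1 ∧ Fintype.card F % 4 = 3) ∨
      2 ^ (Fintype.card F ^ 2 - 1).factorization 2 *
        3 ^ (Fintype.card F ^ 2 - 1).factorization 3 = 24 ∨
      2 ^ (Fintype.card F ^ 2 - 1).factorization 2 *
        3 ^ (Fintype.card F ^ 2 - 1).factorization 3 = 48 := by
  have hpp : p.Prime := Fact.out
  have hp2 : p ≠ 2 := by omega
  have hodd := odd_card_of_char_ne_two (F := F) p hp2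
  obtain ⟨n, -, hn⟩ := FiniteField.card F p
  have hq2 : 2 ≤ Fintype.card F := Fintype.one_lt_card
  have hq3 : ¬ 3 ∣ Fintype.card F := by
    rw [hn]
    intro h
    have := (Nat.prime_dvd_prime_iff_eq Nat.prime_three hpp).mp (Nat.Prime.dvd_of_dvd_pow Nat.prime_three h)
    omega
  obtain ⟨hH1, hH2⟩ := hH
  set X := H.comap (QuotientGroup.mk' (Subgroup.center SL2)) with hX
  have hZX : Subgroup.center SL2 ≤ X := center_le_comap H
  have hτ : Function.Injective X.subtype := X.subtype_injective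
  have hd : Nat.card (ZZ X.subtype) = 2 := card_ZZ_of_odd hodd X hZX
  have hXH : 2 * Nat.card H = Nat.card X := by
    have h1 := card_comap_mk H
    rw [card_center_of_odd hodd] at h1
    exact h1
  have hidx : X.index = H.index :=
    Subgroup.index_comap_of_surjective H (QuotientGroup.mk'_surjective _)
  have hL : Nat.card SL2 = Fintype.card F * (Fintype.card F ^ 2 - 1) :=
    Cfsg.Agent.Lib.Helper38.card_SL2
  have hmul : Nat.card X * H.index = Fintype.card F * (Fintype.card F ^ 2 - 1) := by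
    rw [← hidx, ← hL]; exact X.card_mul_index
  have hsmooth : ∀ r : ℕ, r.Prime → r ∣ Nat.card X → r = 2 ∨ r = 3 := by
    intro r hr hdvd
    rw [← hXH] at hdvd
    rcases (Nat.Prime.dvd_mul hr).mp hdvd with h | h
    · left; exact (Nat.prime_dvd_prime_iff_eq hr Nat.prime_two).mp h
    · exact hH1 r hr h
  have hi2 : ¬ 2 ∣ H.index := hH2 2 Nat.prime_two (by simp)
  have hi3 : ¬ 3 ∣ H.index := hH2 3 Nat.prime_three (by simp)
  have hpX : ¬ p ∣ Nat.card X := by
    intro h
    rcases hsmooth p hpp h with h | h <;> omega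
  -- `|X|` divides `q² - 1`
  have hcop : (Nat.card X).Coprime (Fintype.card F) := by
    rw [hn]
    apply Nat.Coprime.pow_right
    rw [Nat.coprime_comm]
    exact (Nat.Prime.coprime_iff_not_dvd hpp).mpr hpX
  have hXA : Nat.card X ∣ Fintype.card F ^ 2 - 1 := by
    apply hcop.dvd_of_dvd_mul_left
    exact ⟨H.index, hmul.symm⟩
  obtain ⟨c, hc⟩ := hXA
  have hXpos : 0 < Nat.card X := Nat.card_pos
  have hic : H.index = Fintype.card F * c := by
    have : Nat.card X * H.index = Nat.card X * (Fintype.card F * c) := by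
      rw [hmul, hc]; ring
    exact Nat.eq_of_mul_eq_mul_left hXpos this
  have hc2 : ¬ 2 ∣ c := fun h => hi2 (hic ▸ Dvd.dvd.mul_left h _)
  have hc3 : ¬ 3 ∣ c := fun h => hi3 (hic ▸ Dvd.dvd.mul_left h _)
  have hA0 : Fintype.card F ^ 2 - 1 ≠ 0 := by
    have : 2 ^ 2 ≤ Fintype.card F ^ 2 := Nat.pow_le_pow_left hq2 2
    omega
  have hS := eq_smooth_part _ _ c hc hA0 hsmooth hc2 hc3
  rw [hS]
  have hAeq := sq_sub_one_eq (Fintype.card F) (by omega)
  rw [hAeq] at hc
  obtain ⟨j, hj⟩ := hodd
  -- `3 ∣ (q - 1) (q + 1)`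
  have h3A : 3 ∣ Fintype.card F - 1 ∨ 3 ∣ Fintype.card F + 1 := by
    have h12 : Fintype.card F % 3 = 1 ∨ Fintype.card F % 3 = 2 := by omega
    rcases h12 with h | h
    · left; exact Nat.dvd_of_mod_eq_zero (by omega)
    · right; exact Nat.dvd_of_mod_eq_zero (by omega)
  have D := data_of_rep p X.subtype hτ
  have hnoU : NoUni (ZZ X.subtype) (UU X.subtype) :=
    fun y hy hUy => hpX (p_dvd_of_uni p X.subtype hτ hy hUy)
  rcases D.main_noU hnoU with h | h | h | h | h | h
  · -- central
    exfalso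
    have h1 : Nat.card X = Nat.card (ZZ X.subtype) := by rw [h, Subgroup.card_top]
    rw [hd] at h1
    rw [h1] at hc
    have : 8 ∣ (Fintype.card F - 1) * (Fintype.card F + 1) := by
      have e1 : Fintype.card F - 1 = 2 * j := by omega
      have e2 : Fintype.card F + 1 = 2 * (j + 1) := by omega
      rw [e1, e2]
      rcases Nat.even_or_odd j with ⟨i, hi⟩ | ⟨i, hi⟩
      · exact ⟨i * (j + 1), by rw [hi]; ring⟩
      · exact ⟨j * (i + 1), by rw [hi]; ring⟩
    rw [hc] at this
    omega
  · -- cyclic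
    exfalso
    obtain ⟨x, hx, hU, hM⟩ := h
    have h2 : aa x = Nat.card X := by
      show Nat.card (M x) = _
      rw [hM, Subgroup.card_top]
    rcases torus_card_dvd p X.subtype hτ hx hU with h | h
    · rw [h2] at h
      obtain ⟨e, he⟩ := h
      rw [he] at hc
      have : e * (Fintype.card F + 1) = c := by
        apply Nat.eq_of_mul_eq_mul_left hXpos
        rw [← hc]; ring
      apply hc2
      rw [← this]
      exact Dvd.dvd.mul_left ⟨j + 1, by omega⟩ _
    · rw [h2] at h
      obtain ⟨e, he⟩ := h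
      rw [he] at hc
      have : (Fintype.card F - 1) * e = c := by
        apply Nat.eq_of_mul_eq_mul_left hXpos
        rw [← hc]; ring
      apply hc2
      rw [← this]
      exact Dvd.dvd.mul_right ⟨j, by omega⟩ _
  · -- dihedral
    obtain ⟨x, hx, hU, hnn, hee⟩ := h
    have h2 := nn_mul_ee_mul_aa x
    rw [hnn, hee] at h2
    have hapos : 0 < aa x := aa_pos x
    rcases torus_card_dvd p X.subtype hτ hx hU with h | h
    · left
      obtain ⟨e, he⟩ := h
      rw [he, ← h2] at hc
      have h5 : e * (Fintype.card F + 1) = 2 * c := by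
        apply Nat.eq_of_mul_eq_mul_left hapos
        rw [← mul_assoc, hc]; ring
      have h6 : ¬ 4 ∣ Fintype.card F + 1 := by
        rintro ⟨i, hi⟩
        rw [hi] at h5
        apply hc2
        have h8 : 2 * c = 2 * (2 * (e * i)) := by rw [← h5]; ring
        exact ⟨e * i, by omega⟩
      have h7 : ¬ 3 ∣ Fintype.card F + 1 := by
        intro h
        have : 3 ∣ 2 * c := h5 ▸ Dvd.dvd.mul_left h _
        rcases (Nat.Prime.dvd_mul Nat.prime_three).mp this with h | h
        · omega
        · exact hc3 h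
      refine ⟨h3A.resolve_right h7, by omega⟩
    · right; left
      obtain ⟨e, he⟩ := h
      rw [he, ← h2] at hc
      have h5 : (Fintype.card F - 1) * e = 2 * c := by
        apply Nat.eq_of_mul_eq_mul_left hapos
        rw [← mul_assoc, ← mul_assoc]
        rw [show aa x * (Fintype.card F - 1) * e = (Fintype.card F - 1) * (aa x * e) by ring,
          hc]
        ring
      have h6 : ¬ 4 ∣ Fintype.card F - 1 := by
        rintro ⟨i, hi⟩
        rw [hi] at h5
        apply hc2
        have h8 : 2 * c = 2 * (2 * (i * e)) := by rw [← h5]; ring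
        exact ⟨i * e, by omega⟩
      have h7 : ¬ 3 ∣ Fintype.card F - 1 := by
        intro h
        have : 3 ∣ 2 * c := h5 ▸ Dvd.dvd.mul_right h _
        rcases (Nat.Prime.dvd_mul Nat.prime_three).mp this with h | h
        · omega
        · exact hc3 h
      refine ⟨h3A.resolve_left h7, by omega⟩
  · right; right; left
    have := h.1
    rw [hd] at this
    omega
  · right; right; right
    have := h.1
    rw [hd] at this
    omega
  · exfalso
    have := h.1
    rw [hd] at this
    have h5 : 5 ∣ Nat.card X := ⟨24, by omega⟩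
    rcases hsmooth 5 (by norm_num) h5 with h | h <;> omega

end
end Cfsg.Agent.Lib.Helper14.Dk
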