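import Mathlib
import Cfsg.Agent.Lib.Helper14.DkHall
import Cfsg.Agent.Lib.Helper14.DkDihMax
import Cfsg.Agent.S0802
import Cfsg.Agent.S0803
set_option autoImplicit false
namespace Cfsg.Agent.Lib.Helper14.Dk
open Cfsg.Agent.Lib.Helper2.SL2
open scoped commutatorElement

/-- in a cyclic group generated by `g` of order `t * c`, the elements killed by `t` are the
powers of `g ^ c` -/
theorem mem_zpowers_pow_of_pow_eq_one {G : Type*} [Group G] (g : G) (t c : ℕ) (ht : 0 < t)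
    (ho : orderOf g = t * c) {y : G} (hy : y ∈ Subgroup.zpowers g) (hyt : y ^ t = 1) :
    y ∈ Subgroup.zpowers (g ^ c) := by
  obtain ⟨k, rfl⟩ := hy
  have h1 : g ^ (k * (t : ℤ)) = 1 := by
    rw [zpow_mul, zpow_natCast]; exact hyt
  have h2 := (orderOf_dvd_iff_zpow_eq_one).mpr h1
  rw [ho] at h2
  push_cast at h2
  have h3 : (c : ℤ) ∣ k := by
    have : (t : ℤ) * c ∣ (t : ℤ) * k := by rwa [mul_comm k] at h2
    exact (mul_dvd_mul_iff_left (by exact_mod_cast ht.ne')).mp this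
  obtain ⟨j, rfl⟩ := h3
  refine ⟨j, ?_⟩
  show (g ^ c) ^ j = g ^ ((c : ℤ) * j)
  rw [zpow_mul, zpow_natCast]

section
variable {F : Type*} [Field F] [Fintype F]
local notation "SL2" => Matrix.SpecialLinearGroup (Fin 2) F
local notation "PSL2" => Matrix.ProjectiveSpecialLinearGroup (Fin 2) F

theorem isPiHall_of_card (p : ℕ) [Fact p.Prime] [CharP F p] (hp : 5 ≤ p) (H : Subgroup PSL2)
    (c : ℕ) (hA : Fintype.card F ^ 2 - 1 = 2 * Nat.card H * c)
    (hsmooth : ∀ r : ℕ, r.Prime → r ∣ Nat.card H → r = 2 ∨ r = 3) (h2 : ¬ 2 ∣ c)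
    (h3 : ¬ 3 ∣ c) : Cfsg.IsPiHall ({2, 3} : Set ℕ) H := by
  have hpp : p.Prime := Fact.out
  have hp2 : p ≠ 2 := by omega
  have hodd := odd_card_of_char_ne_two (F := F) p hp2
  obtain ⟨n, -, hn⟩ := FiniteField.card F p
  have hq2' : ¬ 2 ∣ Fintype.card F := by
    rw [← Nat.not_even_iff_odd] at hodd
    exact fun h => hodd (even_iff_two_dvd.mpr h)
  have hq3 : ¬ 3 ∣ Fintype.card F := by
    rw [hn]
    intro h
    have := (Nat.prime_dvd_prime_iff_eq Nat.prime_three hpp).mp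
      (Nat.Prime.dvd_of_dvd_pow Nat.prime_three h)
    omega
  have h1 := two_mul_card_PSL2 (F := F) hodd
  have h4 := H.card_mul_index
  have hHpos : 0 < Nat.card H := Nat.card_pos
  have hidx : H.index = Fintype.card F * c := by
    have : (2 * Nat.card H) * H.index = (2 * Nat.card H) * (Fintype.card F * c) := by
      rw [mul_assoc, h4, h1, hA]; ring
    exact Nat.eq_of_mul_eq_mul_left (by omega) this
  refine ⟨?_, ?_⟩
  · intro r hr hdvd
    rcases hsmooth r hr hdvd with h | h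
    · rw [h]; simp
    · rw [h]; simp
  · intro r hr hmem hdvd
    rw [hidx] at hdvd
    simp only [Set.mem_insert_iff, Set.mem_singleton_iff] at hmem
    rcases hmem with rfl | rfl
    · rcases (Nat.Prime.dvd_mul Nat.prime_two).mp hdvd with h | h
      · exact hq2' h
      · exact h2 h
    · rcases (Nat.Prime.dvd_mul Nat.prime_three).mp hdvd with h | h
      · exact hq3 h
      · exact h3 h

theorem hall_of_24 (p : ℕ) [Fact p.Prime] [CharP F p] (hp : 5 ≤ p)
    (hS : 2 ^ (Fintype.card F ^ 2 - 1).factorization 2 *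
        3 ^ (Fintype.card F ^ 2 - 1).factorization 3 = 24) :
    ∃ H : Subgroup PSL2, Cfsg.IsPiHall ({2, 3} : Set ℕ) H := by
  obtain ⟨n, -, hn⟩ := FiniteField.card F p
  have hq2 : 2 ≤ Fintype.card F := Fintype.one_lt_card
  have hA0 : Fintype.card F ^ 2 - 1 ≠ 0 := by
    have : 2 ^ 2 ≤ Fintype.card F ^ 2 := Nat.pow_le_pow_left hq2 2
    omega
  obtain ⟨c, hc, hc2, hc3⟩ := smooth_decomp _ hA0
  rw [hS] at hc
  obtain ⟨H, ⟨e⟩⟩ := (Cfsg.Agent.S0802.result (F := F) p n hn).mpr (by omega)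
  have hH : Nat.card H = 12 := by rw [Nat.card_congr e.toEquiv, card_A4]
  refine ⟨H, isPiHall_of_card p hp H c (by rw [hH, hc]) ?_ hc2 hc3⟩
  intro r hr hdvd
  rw [hH] at hdvd
  have : r ∣ 2 ^ 2 * 3 := hdvd
  rcases (Nat.Prime.dvd_mul hr).mp this with h | h
  · left; exact (Nat.prime_dvd_prime_iff_eq hr Nat.prime_two).mp (hr.dvd_of_dvd_pow h)
  · right; exact (Nat.prime_dvd_prime_iff_eq hr Nat.prime_three).mp h

theorem hall_of_48 (p : ℕ) [Fact p.Prime] [CharP F p] (hp : 5 ≤ p)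
    (hS : 2 ^ (Fintype.card F ^ 2 - 1).factorization 2 *
        3 ^ (Fintype.card F ^ 2 - 1).factorization 3 = 48) :
    ∃ H : Subgroup PSL2, Cfsg.IsPiHall ({2, 3} : Set ℕ) H := by
  have hq2 : 2 ≤ Fintype.card F := Fintype.one_lt_card
  have hsq : 2 ^ 2 ≤ Fintype.card F ^ 2 := Nat.pow_le_pow_left hq2 2
  have hA0 : Fintype.card F ^ 2 - 1 ≠ 0 := by omega
  obtain ⟨c, hc, hc2, hc3⟩ := smooth_decomp _ hA0
  rw [hS] at hc
  have h16 : Fintype.card F ^ 2 % 16 = 1 := by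
    have : Fintype.card F ^ 2 = 16 * (3 * c) + 1 := by omega
    rw [this]; omega
  obtain ⟨H, ⟨e⟩⟩ := (Cfsg.Agent.S0803.result (F := F) rfl).mpr h16
  have hH : Nat.card H = 24 := by rw [Nat.card_congr e.toEquiv, card_S4]
  refine ⟨H, isPiHall_of_card p hp H c (by rw [hH, hc]) ?_ hc2 hc3⟩
  intro r hr hdvd
  rw [hH] at hdvd
  have : r ∣ 2 ^ 3 * 3 := hdvd
  rcases (Nat.Prime.dvd_mul hr).mp this with h | h
  · left; exact (Nat.prime_dvd_prime_iff_eq hr Nat.prime_two).mp (hr.dvd_of_dvd_pow h)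
  · right; exact (Nat.prime_dvd_prime_iff_eq hr Nat.prime_three).mp h


/-- a subgroup of `SL₂(q)` of order twice the `{2,3}`-part of the order of a torus -/
theorem exists_sub_of_torus (p : ℕ) [Fact p.Prime] [CharP F p] (hodd : Odd (Fintype.card F))
    {x : SL2}
    (hx : x ∉ ZZ (MonoidHom.id SL2)) (hU : ¬ UU (MonoidHom.id SL2) x) (hee : ee x = 2)
    (he : Even (aa x)) :
    ∃ H' : Subgroup SL2, Subgroup.center SL2 ≤ H' ∧
      Nat.card H' = 2 * (2 ^ (aa x).factorization 2 * 3 ^ (aa x).factorization 3) := by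
  have hτ : Function.Injective (MonoidHom.id SL2) := fun _ _ h => h
  have D := data_of_rep p (MonoidHom.id SL2) hτ
  have hcyc := torus_isCyclic (MonoidHom.id SL2) hτ hU
  obtain ⟨g, hg⟩ := IsCyclic.exists_generator (α := ↥(M x))
  have hT : M x = Subgroup.zpowers (g : SL2) := by
    ext y
    constructor
    · intro hy
      obtain ⟨k, hk⟩ := hg ⟨y, hy⟩
      refine ⟨k, ?_⟩
      have := congrArg Subtype.val hk
      simpa using this
    · rintro ⟨k, rfl⟩
      exact (M x).zpow_mem g.2 k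
  have hgZ : (g : SL2) ∉ ZZ (MonoidHom.id SL2) := by
    intro hgz
    apply hx
    have hxm : x ∈ Subgroup.zpowers (g : SL2) := by rw [← hT]; exact self_mem_M x
    obtain ⟨k, hk⟩ := hxm
    rw [← hk]
    exact Subgroup.zpow_mem _ hgz k
  obtain ⟨s, hs, hsT⟩ := D.exists_not_mem_tor hee
  have hs2 := D.tor_sq hx hee hs hsT
  rw [ZZ_id] at hs2
  have hinv := D.tor_inv hx hU hs hsT g.2 hgZ
  have hapos : 0 < aa x := aa_pos x
  obtain ⟨c, hc, hc2, hc3⟩ := smooth_decomp (aa x) hapos.ne'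
  set t := 2 ^ (aa x).factorization 2 * 3 ^ (aa x).factorization 3 with ht
  have htpos : 0 < t := by positivity
  have hcpos : 0 < c := by
    rcases Nat.eq_zero_or_pos c with h | h
    · rw [h, mul_zero] at hc; omega
    · exact h
  have hord : orderOf (g : SL2) = t * c := by
    rw [← hc, ← Nat.card_zpowers, ← hT]
    rfl
  have h2t : 2 ∣ t := by
    have h2a : 2 ∣ aa x := even_iff_two_dvd.mp he
    rw [hc] at h2a
    rcases (Nat.Prime.dvd_mul Nat.prime_two).mp h2a with h | h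
    · exact h
    · exact absurd h hc2
  set T₀ : Subgroup SL2 := Subgroup.zpowers ((g : SL2) ^ c) with hT₀
  have hT₀le : T₀ ≤ M x := by
    rw [hT₀, Subgroup.zpowers_le]
    exact (M x).pow_mem g.2 c
  have hcardT₀ : Nat.card T₀ = t := by
    rw [hT₀, Nat.card_zpowers, orderOf_pow_of_dvd hcpos.ne' (by rw [hord]; exact Dvd.intro_left _ rfl),
      hord, Nat.mul_div_cancel _ hcpos]
  have hZT₀ : Subgroup.center SL2 ≤ T₀ := by
    intro z hz
    apply mem_zpowers_pow_of_pow_eq_one (g : SL2) t c htpos hord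
    · rw [← hT]; exact center_le_M x hz
    · obtain ⟨j, hj⟩ := h2t
      have hz2 : z ^ 2 = 1 := by
        have h1 : (⟨z, hz⟩ : Subgroup.center SL2) ^ Nat.card (Subgroup.center SL2) = 1 :=
          pow_card_eq_one'
        rw [card_center_of_odd hodd] at h1
        exact congrArg Subtype.val h1
      rw [hj, pow_mul, hz2, one_pow]
  have hsT₀ : s ∉ T₀ := fun h => hsT (hT₀le h)
  have hinv' : ∀ y ∈ T₀, s * y * s⁻¹ = y⁻¹ := by
    rintro y ⟨k, rfl⟩
    show s * (((g : SL2) ^ c) ^ k) * s⁻¹ = (((g : SL2) ^ c) ^ k)⁻¹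
    rw [← conj_zpow, ← conj_pow, hinv, inv_pow, inv_zpow]
  obtain ⟨H', hle, hcard⟩ := dihedral_sub T₀ s hsT₀ (hZT₀ hs2) hinv'
  exact ⟨H', le_trans hZT₀ hle, by rw [hcard, hcardT₀]⟩

theorem hall_of_torus (p : ℕ) [Fact p.Prime] [CharP F p] (hp : 5 ≤ p) {x : SL2}
    (hx : x ∉ ZZ (MonoidHom.id SL2)) (hU : ¬ UU (MonoidHom.id SL2) x) (hee : ee x = 2)
    (b : ℕ) (hab : Fintype.card F ^ 2 - 1 = aa x * (2 * b)) (he : Even (aa x))
    (hb2 : ¬ 2 ∣ b) (hb3 : ¬ 3 ∣ b) :
    ∃ H : Subgroup PSL2, Cfsg.IsPiHall ({2, 3} : Set ℕ) H := by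
  have hp2 : p ≠ 2 := by omega
  have hodd := odd_card_of_char_ne_two (F := F) p hp2
  obtain ⟨H', hZ, hcard⟩ := exists_sub_of_torus p hodd hx hU hee he
  have hapos : 0 < aa x := aa_pos x
  obtain ⟨c, hc, hc2, hc3⟩ := smooth_decomp (aa x) hapos.ne'
  set t := 2 ^ (aa x).factorization 2 * 3 ^ (aa x).factorization 3 with ht
  have h1 := card_map_mk (Subgroup.center SL2) H' hZ
  rw [card_center_of_odd hodd, hcard] at h1
  have hH : Nat.card (H'.map (QuotientGroup.mk' (Subgroup.center SL2))) = t := by omega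
  refine ⟨H'.map (QuotientGroup.mk' (Subgroup.center SL2)),
    isPiHall_of_card p hp _ (c * b) ?_ ?_ ?_ ?_⟩
  · rw [hH, hab]
    conv_lhs => rw [hc]
    ring
  · intro r hr hdvd
    rw [hH, ht] at hdvd
    rcases (Nat.Prime.dvd_mul hr).mp hdvd with h | h
    · left; exact (Nat.prime_dvd_prime_iff_eq hr Nat.prime_two).mp (hr.dvd_of_dvd_pow h)
    · right; exact (Nat.prime_dvd_prime_iff_eq hr Nat.prime_three).mp (hr.dvd_of_dvd_pow h)
  · intro h
    rcases (Nat.Prime.dvd_mul Nat.prime_two).mp h with h | h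
    · exact hc2 h
    · exact hb2 h
  · intro h
    rcases (Nat.Prime.dvd_mul Nat.prime_three).mp h with h | h
    · exact hc3 h
    · exact hb3 h

theorem hall_backward (p : ℕ) [Fact p.Prime] [CharP F p] (hp : 5 ≤ p)
    (h : (3 ∣ Fintype.card F - 1 ∧ Fintype.card F % 4 = 1) ∨
      (3 ∣ Fintype.card F + 1 ∧ Fintype.card F % 4 = 3) ∨
      2 ^ (Fintype.card F ^ 2 - 1).factorization 2 *
        3 ^ (Fintype.card F ^ 2 - 1).factorization 3 = 24 ∨
      2 ^ (Fintype.card F ^ 2 - 1).factorization 2 *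
        3 ^ (Fintype.card F ^ 2 - 1).factorization 3 = 48) :
    ∃ H : Subgroup PSL2, Cfsg.IsPiHall ({2, 3} : Set ℕ) H := by
  have hpp : p.Prime := Fact.out
  obtain ⟨n, -, hn⟩ := FiniteField.card F p
  have hq5 : 5 ≤ Fintype.card F := by
    rw [hn]
    calc 5 ≤ p := hp
      _ = p ^ 1 := (pow_one p).symm
      _ ≤ p ^ (n : ℕ) := Nat.pow_le_pow_right hpp.pos n.pos
  have hAeq := sq_sub_one_eq (Fintype.card F) (by omega)
  rcases h with ⟨h3, h4⟩ | ⟨h3, h4⟩ | h | h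
  · obtain ⟨⟨x, hx, hU, hee, haa⟩, -⟩ := exists_tori (F := F) p (by omega)
    obtain ⟨b, hb⟩ : ∃ b, Fintype.card F + 1 = 2 * b := ⟨(Fintype.card F + 1) / 2, by omega⟩
    refine hall_of_torus p hp hx hU hee b ?_ ?_ ?_ ?_
    · rw [haa, hAeq, hb]
    · rw [haa]; exact ⟨(Fintype.card F - 1) / 2, by omega⟩
    · omega
    · omega
  · obtain ⟨-, ⟨x, hx, hU, hee, haa⟩⟩ := exists_tori (F := F) p (by omega)
    obtain ⟨b, hb⟩ : ∃ b, Fintype.card F - 1 = 2 * b := ⟨(Fintype.card F - 1) / 2, by omega⟩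
    refine hall_of_torus p hp hx hU hee b ?_ ?_ ?_ ?_
    · rw [haa, hAeq, hb]; ring
    · rw [haa]; exact ⟨(Fintype.card F + 1) / 2, by omega⟩
    · omega
    · omega
  · exact hall_of_24 p hp h
  · exact hall_of_48 p hp h

end

end Cfsg.Agent.Lib.Helper14.Dk
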