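import Mathlib
import Cfsg.Agent.Lib.Helper14.DkDih
import Cfsg.Agent.Lib.Helper39.SixtySolv
import Cfsg.Agent.Lib.Helper48.Order120
import Cfsg.Agent.Lib.Helper5.Order60
import Cfsg.Agent.S0228

set_option autoImplicit false

/-!
# Recognition of `A₄`, `S₄`, `A₅` as central quotients
-/

namespace Cfsg.Agent.Lib.Helper14.Dk

section abstract

/-- two homomorphisms with the same kernel have isomorphic ranges -/
theorem range_equiv_of_ker_eq {G A B : Type*} [Group G] [Group A] [Group B] (f₁ : G →* A)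
    (f₂ : G →* B) (h : f₁.ker = f₂.ker) : Nonempty (f₁.range ≃* f₂.range) :=
  ⟨(QuotientGroup.quotientKerEquivRange f₁).symm.trans
    ((QuotientGroup.quotientMulEquivOfEq h).trans (QuotientGroup.quotientKerEquivRange f₂))⟩

variable {G : Type*} [Group G]

/-- the image of a subgroup containing the kernel, pulled back -/
theorem comap_map_mk (Z : Subgroup G) [Z.Normal] (T : Subgroup G) (hZT : Z ≤ T) :
    (T.map (QuotientGroup.mk' Z)).comap (QuotientGroup.mk' Z) = T := by
  rw [Subgroup.comap_map_eq, QuotientGroup.ker_mk']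
  exact sup_eq_left.mpr hZT

theorem mem_map_mk_iff (Z : Subgroup G) [Z.Normal] (T : Subgroup G) (hZT : Z ≤ T) (g : G) :
    QuotientGroup.mk' Z g ∈ T.map (QuotientGroup.mk' Z) ↔ g ∈ T := by
  rw [← Subgroup.mem_comap, comap_map_mk Z T hZT]

/-- the index of the normalizer is preserved -/
theorem index_normalizer_map_mk (Z : Subgroup G) [Z.Normal] (T : Subgroup G) (hZT : Z ≤ T) :
    (Subgroup.normalizer ((T.map (QuotientGroup.mk' Z) : Subgroup (G ⧸ Z)) : Set (G ⧸ Z))).index =
      (Subgroup.normalizer (T : Set G)).index := by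
  have hsurj : Function.Surjective (QuotientGroup.mk' Z) := QuotientGroup.mk'_surjective Z
  have h1 := Subgroup.comap_normalizer_eq_of_surjective (T.map (QuotientGroup.mk' Z)) hsurj
  rw [comap_map_mk Z T hZT] at h1
  rw [← h1]
  exact (Subgroup.index_comap_of_surjective _ hsurj).symm

theorem card_quotient_of_card [Finite G] (Z : Subgroup G) [Z.Normal] (n : ℕ)
    (h : Nat.card G = Nat.card Z * n) : Nat.card (G ⧸ Z) = n := by
  have h1 := Subgroup.card_eq_card_quotient_mul_card_subgroup Z
  have hZ : 0 < Nat.card Z := Nat.card_pos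
  rw [h, mul_comm] at h1
  exact (Nat.eq_of_mul_eq_mul_right hZ h1).symm

/-- recognition of `A₅` -/
theorem iso_A5 [Finite G] (Z : Subgroup G) [Z.Normal] (hcard : Nat.card G = Nat.card Z * 60)
    (y : G) (hZM : Z ≤ M y) (haa : aa y = Nat.card Z * 5) (hnn : nn y ≠ 1) :
    Nonempty (G ⧸ Z ≃* alternatingGroup (Fin 5)) := by
  haveI : Fact (Nat.Prime 5) := ⟨by norm_num⟩
  have hQ : Nat.card (G ⧸ Z) = 60 := card_quotient_of_card Z 60 hcard
  have hZpos : 0 < Nat.card Z := Nat.card_pos
  have hP' : Nat.card ((M y).map (QuotientGroup.mk' Z)) = 5 := by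
    have := card_map_mk Z (M y) hZM
    unfold aa at haa
    rw [haa] at this
    exact Nat.eq_of_mul_eq_mul_left hZpos this
  have hns : ¬ Group.IsSolvable (G ⧸ Z) := by
    intro hsolv
    have hPg : IsPGroup 5 ((M y).map (QuotientGroup.mk' Z)) :=
      IsPGroup.of_card (n := 1) (by rw [hP', pow_one])
    obtain ⟨P, hP⟩ := hPg.exists_le_sylow
    have hPn := Cfsg.Agent.Lib.Helper39.sylow_five_normal_of_solvable 60 (G ⧸ Z) hQ
      (dvd_refl _) hsolv P
    have hP5 : Nat.card (P : Subgroup (G ⧸ Z)) = 5 := by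
      rw [Sylow.card_eq_multiplicity, hQ]
      have : (60 : ℕ).factorization 5 = 1 := by
        have h60 : (60 : ℕ) = 5 ^ 1 * 12 := by norm_num
        rw [h60, Nat.factorization_mul (by norm_num) (by norm_num), Nat.factorization_pow]
        simp [Nat.Prime.factorization (by norm_num : Nat.Prime 5),
          Nat.factorization_eq_zero_of_not_dvd (by norm_num : ¬ 5 ∣ 12)]
      rw [this, pow_one]
    have heq : (M y).map (QuotientGroup.mk' Z) = (P : Subgroup (G ⧸ Z)) :=
      Subgroup.eq_of_le_of_card_ge hP (by rw [hP', hP5])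
    have hn : ((M y).map (QuotientGroup.mk' Z)).Normal := heq ▸ hPn
    have hn' : ((M y).map (QuotientGroup.mk' Z)).comap (QuotientGroup.mk' Z) |>.Normal :=
      hn.comap _
    rw [comap_map_mk Z (M y) hZM] at hn'
    apply hnn
    unfold nn
    rw [Subgroup.normalizer_eq_top_iff.mpr hn', Subgroup.index_top]
  haveI := Cfsg.Agent.Lib.Helper48.O120.simple_of_card_sixty hQ hns
  exact Cfsg.Agent.Lib.Helper5.mulEquiv_alternatingGroup_five_of_card_eq_sixty hQ

/-- recognition of `A₄` -/
theorem iso_A4 [Finite G] (Z : Subgroup G) [Z.Normal] (hcard : Nat.card G = Nat.card Z * 12)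
    (y : G) (hZM : Z ≤ M y) (haa : aa y = Nat.card Z * 3) (hnn : nn y = 4) :
    Nonempty (G ⧸ Z ≃* alternatingGroup (Fin 4)) := by
  have : Fact (Nat.Prime 3) := ⟨by norm_num⟩
  have hQ : Nat.card (G ⧸ Z) = 12 := card_quotient_of_card Z 12 hcard
  have hZpos : 0 < Nat.card Z := Nat.card_pos
  have hP' : Nat.card ((M y).map (QuotientGroup.mk' Z)) = 3 := by
    have := card_map_mk Z (M y) hZM
    unfold aa at haa
    rw [haa] at this
    exact Nat.eq_of_mul_eq_mul_left hZpos this
  have hPg : IsPGroup 3 ((M y).map (QuotientGroup.mk' Z)) :=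
    IsPGroup.of_card (n := 1) (by rw [hP', pow_one])
  obtain ⟨P, hP⟩ := hPg.exists_le_sylow
  have hP3 : Nat.card (P : Subgroup (G ⧸ Z)) = 3 := Cfsg.Agent.S0228.card_sylow3 hQ P
  have heq : (M y).map (QuotientGroup.mk' Z) = (P : Subgroup (G ⧸ Z)) :=
    Subgroup.eq_of_le_of_card_ge hP (by rw [hP', hP3])
  have h4 : Nat.card (Sylow 3 (G ⧸ Z)) = 4 := by
    rw [Sylow.card_eq_index_normalizer P]
    have : (Subgroup.normalizer ((P : Subgroup (G ⧸ Z)) : Set (G ⧸ Z))).index = 4 := by
      rw [← heq, index_normalizer_map_mk Z (M y) hZM]; exact hnn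
    exact this
  exact Cfsg.Agent.S0228.iso_of_four hQ h4

/-- a group of order `24` with a self-centralizing (in its normalizer) subgroup of order `3`
whose normalizer has index `4` is `S₄` -/
theorem perm_four_of_core {Q : Type*} [Group Q] [Finite Q] (hQ : Nat.card Q = 24)
    (P : Subgroup Q) (hP : Nat.card P = 3)
    (hidx : (Subgroup.normalizer (P : Set Q)).index = 4)
    (hcen : ∀ n ∈ Subgroup.normalizer (P : Set Q), (∀ u ∈ P, n * u = u * n) → n ∈ P) :
    Nonempty (Q ≃* Equiv.Perm (Fin 4)) := by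
  classical
  set N := Subgroup.normalizer (P : Set Q) with hN
  have hPN : P ≤ N := Subgroup.le_normalizer
  have hNcard : Nat.card N = 6 := by
    have := N.card_mul_index
    rw [hidx, hQ] at this
    omega
  have hidx2 : (P.subgroupOf N).index = 2 := by
    have h1 := (P.subgroupOf N).card_mul_index
    rw [Nat.card_congr (Subgroup.subgroupOfEquivOfLe hPN).toEquiv, hP, hNcard] at h1
    omega
  have hP3 : ∀ u ∈ P, u ^ 3 = 1 := by
    intro u hu
    have h1 : (⟨u, hu⟩ : P) ^ Nat.card P = 1 := pow_card_eq_one'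
    rw [hP] at h1
    exact congrArg Subtype.val h1
  -- elements of `N` of order dividing three lie in `P`
  have step1 : ∀ k ∈ N, k ^ 3 = 1 → k ∈ P := by
    intro k hk hk3
    have h1 := Subgroup.sq_mem_of_index_two hidx2 (⟨k, hk⟩ : N)
    rw [Subgroup.mem_subgroupOf] at h1
    have h2 : k ^ 2 ∈ P := by simpa using h1
    have h3 : k = (k ^ 2)⁻¹ := by
      rw [eq_inv_iff_mul_eq_one, ← pow_succ', hk3]
    rw [h3]
    exact P.inv_mem h2
  set K := N.normalCore with hK
  have hKN : K ≤ N := Subgroup.normalCore_le N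
  haveI hKn : K.Normal := Subgroup.normalCore_normal N
  -- `P` is not contained in `K`
  have ha : ¬ P ≤ K := by
    intro hPK
    have hall : ∀ g : Q, g ∈ N := by
      intro g
      have hconj : ∀ u ∈ P, g * u * g⁻¹ ∈ P := by
        intro u hu
        apply step1
        · exact hKN (hKn.conj_mem u (hPK hu) g)
        · rw [conj_pow, hP3 u hu]; group
      rw [hN, Subgroup.mem_normalizer_iff]
      intro u
      constructor
      · exact hconj u
      · intro hgu
        -- injectivity of conjugation on the finite set `P`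
        have hinj : Function.Injective (fun u : P => (⟨g * u.1 * g⁻¹, hconj u.1 u.2⟩ : P)) := by
          intro a b hab
          have := congrArg Subtype.val hab
          simp only [mul_left_inj, mul_right_inj] at this
          exact Subtype.ext this
        have hsurj := Finite.surjective_of_injective hinj
        obtain ⟨a, ha⟩ := hsurj ⟨g * u * g⁻¹, hgu⟩
        have := congrArg Subtype.val ha
        simp only [mul_left_inj, mul_right_inj] at this
        rw [← this]; exact a.2
    have : N = ⊤ := by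
      rw [eq_top_iff]; intro g _; exact hall g
    rw [this, Subgroup.index_top] at hidx
    omega
  -- `K ∩ P = ⊥`
  have hb : ∀ u ∈ K, u ∈ P → u = 1 := by
    intro u huK huP
    by_contra hu1
    apply ha
    haveI : Fact (Nat.Prime (Nat.card P)) := ⟨by rw [hP]; norm_num⟩
    have hz : Subgroup.zpowers (⟨u, huP⟩ : P) = ⊤ := by
      rcases Subgroup.eq_bot_or_eq_top_of_prime_card (Subgroup.zpowers (⟨u, huP⟩ : P)) with h | h
      · exfalso
        apply hu1
        have : (⟨u, huP⟩ : P) ∈ (⊥ : Subgroup P) := h ▸ Subgroup.mem_zpowers _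
        rw [Subgroup.mem_bot] at this
        exact congrArg Subtype.val this
      · exact h
    intro v hv
    obtain ⟨j, hj⟩ : (⟨v, hv⟩ : P) ∈ Subgroup.zpowers (⟨u, huP⟩ : P) := by
      rw [hz]; exact Subgroup.mem_top _
    have hj' : u ^ j = v := by
      have := congrArg Subtype.val hj
      simpa using this
    rw [← hj']
    exact K.zpow_mem huK j
  -- `K = ⊥`
  have hKbot : K = ⊥ := by
    rw [eq_bot_iff]
    intro k hk
    rw [Subgroup.mem_bot]
    have hkN := hKN hk
    apply hb k hk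
    apply hcen k hkN
    intro u hu
    have h1 : k * u * k⁻¹ ∈ P := (Subgroup.mem_normalizer_iff.mp hkN u).mp hu
    have h2 : k * u * k⁻¹ * u⁻¹ ∈ P := P.mul_mem h1 (P.inv_mem hu)
    have h3 : k * u * k⁻¹ * u⁻¹ ∈ K := by
      have : k * u * k⁻¹ * u⁻¹ = k * (u * k⁻¹ * u⁻¹) := by group
      rw [this]
      exact K.mul_mem hk (hKn.conj_mem _ (K.inv_mem hk) u)
    have h4 := hb _ h3 h2
    have : k * u = (k * u * k⁻¹ * u⁻¹) * (u * k) := by group
    rw [this, h4, one_mul]
  -- the permutation representation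
  have hker : (MulAction.toPermHom Q (Q ⧸ N)).ker = ⊥ := by
    rw [← Subgroup.normalCore_eq_ker, ← hK, hKbot]
  have hinj : Function.Injective (MulAction.toPermHom Q (Q ⧸ N)) :=
    (MonoidHom.ker_eq_bot_iff _).mp hker
  have hc4 : Nat.card (Q ⧸ N) = 4 := hidx
  have hcard : Nat.card (Equiv.Perm (Q ⧸ N)) = 24 := by
    haveI : Fintype (Q ⧸ N) := Fintype.ofFinite _
    rw [Nat.card_eq_fintype_card, Fintype.card_perm, ← Nat.card_eq_fintype_card, hc4]
    rfl
  have hbij : Function.Bijective (MulAction.toPermHom Q (Q ⧸ N)) :=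
    hinj.bijective_of_nat_card_le (by rw [hcard, hQ])
  have e1 : Q ≃* Equiv.Perm (Q ⧸ N) := MulEquiv.ofBijective _ hbij
  have e2 : (Q ⧸ N) ≃ Fin 4 := by
    haveI : Fintype (Q ⧸ N) := Fintype.ofFinite _
    exact Fintype.equivFinOfCardEq (by rw [← Nat.card_eq_fintype_card, hc4])
  exact ⟨e1.trans (Equiv.permCongrHom e2)⟩


/-- recognition of `S₄` -/
theorem iso_S4 [Finite G] (Z : Subgroup G) [Z.Normal] (hcard : Nat.card G = Nat.card Z * 24)
    (y : G) (hZM : Z ≤ M y) (haa : aa y = Nat.card Z * 3) (hnn : nn y = 4)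
    (hinv : ∀ s ∈ Subgroup.normalizer (M y : Set G), s ∉ M y → ∀ g ∈ M y, g ∉ Z →
      s * g * s⁻¹ = g⁻¹) :
    Nonempty (G ⧸ Z ≃* Equiv.Perm (Fin 4)) := by
  have hQ : Nat.card (G ⧸ Z) = 24 := card_quotient_of_card Z 24 hcard
  have hZpos : 0 < Nat.card Z := Nat.card_pos
  have hP' : Nat.card ((M y).map (QuotientGroup.mk' Z)) = 3 := by
    have := card_map_mk Z (M y) hZM
    unfold aa at haa
    rw [haa] at this
    exact Nat.eq_of_mul_eq_mul_left hZpos this
  have hidx : (Subgroup.normalizer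
      (((M y).map (QuotientGroup.mk' Z) : Subgroup (G ⧸ Z)) : Set (G ⧸ Z))).index = 4 := by
    rw [index_normalizer_map_mk Z (M y) hZM]; exact hnn
  apply perm_four_of_core hQ _ hP' hidx
  intro n hn hcomm
  obtain ⟨s, rfl⟩ := QuotientGroup.mk'_surjective Z n
  by_cases hsM : s ∈ M y
  · exact Subgroup.mem_map_of_mem _ hsM
  exfalso
  have hsN : s ∈ Subgroup.normalizer (M y : Set G) := by
    have hsurj : Function.Surjective (QuotientGroup.mk' Z) := QuotientGroup.mk'_surjective Z
    have h1 := Subgroup.comap_normalizer_eq_of_surjective ((M y).map (QuotientGroup.mk' Z)) hsurj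
    rw [comap_map_mk Z (M y) hZM] at h1
    rw [← h1]
    exact hn
  -- an element of the torus outside `Z`
  obtain ⟨g, hgM, hgZ⟩ : ∃ g ∈ M y, g ∉ Z := by
    by_contra hcon
    push Not at hcon
    have hle : M y ≤ Z := hcon
    have := Subgroup.card_le_of_le hle
    unfold aa at haa
    omega
  have h1 := hinv s hsN hsM g hgM hgZ
  have h2 := hcomm _ (Subgroup.mem_map_of_mem (QuotientGroup.mk' Z) hgM)
  -- `g² ∈ Z`
  have h3 : g ^ 2 ∈ Z := by
    rw [← QuotientGroup.ker_mk' Z, MonoidHom.mem_ker]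
    have e : QuotientGroup.mk' Z (s * g * s⁻¹) = QuotientGroup.mk' Z g := by
      rw [map_mul, map_mul, h2, map_inv]; group
    rw [h1, map_inv] at e
    rw [map_pow, pow_two]
    calc QuotientGroup.mk' Z g * QuotientGroup.mk' Z g
        = (QuotientGroup.mk' Z g)⁻¹⁻¹ * QuotientGroup.mk' Z g := by rw [inv_inv]
      _ = 1 := by rw [e]; group
  -- `g³ ∈ Z`
  have h4 : g ^ 3 ∈ Z := by
    rw [← QuotientGroup.ker_mk' Z, MonoidHom.mem_ker, map_pow]
    have hmem : QuotientGroup.mk' Z g ∈ (M y).map (QuotientGroup.mk' Z) :=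
      Subgroup.mem_map_of_mem _ hgM
    have h5 : (⟨_, hmem⟩ : (M y).map (QuotientGroup.mk' Z)) ^
        Nat.card ((M y).map (QuotientGroup.mk' Z)) = 1 := pow_card_eq_one'
    rw [hP'] at h5
    exact congrArg Subtype.val h5
  apply hgZ
  have : g = g ^ 3 * (g ^ 2)⁻¹ := by group
  rw [this]
  exact Z.mul_mem h4 (Z.inv_mem h3)

end abstract

end Cfsg.Agent.Lib.Helper14.Dk
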