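import Mathlib
import Cfsg.Agent.Lib.Helper14.DkIsoA
import Cfsg.Agent.Lib.Helper14.DkDihMax
import Cfsg.Agent.Lib.Helper2.Dk4

set_option autoImplicit false

/-!
# Dickson's theorem with isomorphism types: the elementary cases
-/

namespace Cfsg.Agent.Lib.Helper14.Dk

open Cfsg.Agent.Lib.Helper2.SL2 Cfsg.Agent.Lib.Helper2.Dk

section

variable {F : Type*} [Field F]

local notation "SL2" => Matrix.SpecialLinearGroup (Fin 2) F
local notation "PSL2" => Matrix.ProjectiveSpecialLinearGroup (Fin 2) F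

instance ZZ_normal {G : Type*} [Group G] (τ : G →* SL2) : (ZZ τ).Normal := by
  unfold ZZ; infer_instance

/-- the image in `PSL₂` of a subgroup of `SL₂` is its quotient by the central elements -/
theorem map_mk_equiv (X : Subgroup SL2) :
    Nonempty (↥(X.map (QuotientGroup.mk' (Subgroup.center SL2))) ≃* ↥X ⧸ ZZ X.subtype) := by
  set f₁ : ↥X →* PSL2 := (QuotientGroup.mk' (Subgroup.center SL2)).comp X.subtype with hf₁
  set f₂ : ↥X →* ↥X ⧸ ZZ X.subtype := QuotientGroup.mk' (ZZ X.subtype) with hf₂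
  have hk : f₁.ker = f₂.ker := by
    rw [hf₁, hf₂, ← MonoidHom.comap_ker, QuotientGroup.ker_mk', QuotientGroup.ker_mk']
    rfl
  obtain ⟨e⟩ := range_equiv_of_ker_eq f₁ f₂ hk
  have hr₁ : f₁.range = X.map (QuotientGroup.mk' (Subgroup.center SL2)) := by
    rw [hf₁, MonoidHom.range_comp, Subgroup.range_subtype]
  have hr₂ : f₂.range = ⊤ := MonoidHom.range_eq_top.mpr (QuotientGroup.mk'_surjective _)
  exact ⟨(MulEquiv.subgroupCongr hr₁).symm.trans (e.trans
    ((MulEquiv.subgroupCongr hr₂).trans Subgroup.topEquiv))⟩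

theorem card_ZZ_subtype [Finite F] (X : Subgroup SL2) (hZX : Subgroup.center SL2 ≤ X) :
    Nat.card (ZZ X.subtype) = Nat.card (Subgroup.center SL2) := by
  have : ZZ X.subtype = (Subgroup.center SL2).subgroupOf X := rfl
  rw [this]
  exact Nat.card_congr (Subgroup.subgroupOfEquivOfLe hZX).toEquiv

theorem map_comap_mk (H : Subgroup PSL2) :
    (H.comap (QuotientGroup.mk' (Subgroup.center SL2))).map
      (QuotientGroup.mk' (Subgroup.center SL2)) = H :=
  Subgroup.map_comap_eq_self_of_surjective (QuotientGroup.mk'_surjective _) H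

/-- the central case -/
theorem type_central (X : Subgroup SL2) (h : ZZ X.subtype = ⊤) :
    IsCyclic ↥(X.map (QuotientGroup.mk' (Subgroup.center SL2))) ∧
      Nat.card ↥(X.map (QuotientGroup.mk' (Subgroup.center SL2))) = 1 := by
  have hbot : X.map (QuotientGroup.mk' (Subgroup.center SL2)) = ⊥ := by
    rw [eq_bot_iff]
    rintro _ ⟨x, hx, rfl⟩
    rw [Subgroup.mem_bot]
    have h1 : (⟨x, hx⟩ : X) ∈ ZZ X.subtype := by rw [h]; exact Subgroup.mem_top _
    have h2 : x ∈ Subgroup.center SL2 := h1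
    rw [← MonoidHom.mem_ker, QuotientGroup.ker_mk']
    exact h2
  rw [hbot]
  exact ⟨inferInstance, Subgroup.card_bot⟩

end

section

variable {F : Type*} [Field F] [Fintype F]

local notation "SL2" => Matrix.SpecialLinearGroup (Fin 2) F
local notation "PSL2" => Matrix.ProjectiveSpecialLinearGroup (Fin 2) F

theorem dvd_div_gcd (a d k Q : ℕ) (h1 : d * k = a) (h2 : a ∣ Q) : k ∣ Q / d := by
  apply Nat.dvd_div_of_mul_dvd
  rw [h1]; exact h2

/-- the cyclic case -/
theorem type_cyclic (p : ℕ) [Fact p.Prime] [CharP F p] (X : Subgroup SL2)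
    (hZX : Subgroup.center SL2 ≤ X) {x : X} (hx : x ∉ ZZ X.subtype)
    (hU : ¬ UU X.subtype x) (hM : M x = ⊤) :
    ∃ k : ℕ, (k ∣ (Fintype.card F + 1) / Nat.gcd 2 (Fintype.card F - 1) ∨
        k ∣ (Fintype.card F - 1) / Nat.gcd 2 (Fintype.card F - 1)) ∧
      IsCyclic ↥(X.map (QuotientGroup.mk' (Subgroup.center SL2))) ∧
      Nat.card ↥(X.map (QuotientGroup.mk' (Subgroup.center SL2))) = k := by
  have hτ : Function.Injective X.subtype := X.subtype_injective
  have hcyc := torus_isCyclic X.subtype hτ hU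
  refine ⟨_, ?_, ?_, rfl⟩
  · have h1 := card_map_mk (Subgroup.center SL2) X hZX
    have h2 : aa x = Nat.card X := by
      show Nat.card (M x) = _
      rw [hM, Subgroup.card_top]
    rw [card_center_eq_gcd, ← h2] at h1
    rcases torus_card_dvd p X.subtype hτ hx hU with h | h
    · right; exact dvd_div_gcd _ _ _ _ h1 h
    · left; exact dvd_div_gcd _ _ _ _ h1 h
  · set f : ↥(M x) →* ↥(X.map (QuotientGroup.mk' (Subgroup.center SL2))) :=
      { toFun := fun y => ⟨QuotientGroup.mk' (Subgroup.center SL2) (y.1 : SL2),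
          Subgroup.mem_map_of_mem _ y.1.2⟩
        map_one' := by
          apply Subtype.ext
          simp
        map_mul' := fun a b => by
          apply Subtype.ext
          simp } with hf
    apply isCyclic_of_surjective f
    rintro ⟨_, y, hy, rfl⟩
    refine ⟨⟨⟨y, hy⟩, by rw [hM]; exact Subgroup.mem_top _⟩, rfl⟩

/-- the dihedral case -/
theorem type_dihedral (p : ℕ) [Fact p.Prime] [CharP F p] (X : Subgroup SL2)
    (hZX : Subgroup.center SL2 ≤ X) {x : X} (hx : x ∉ ZZ X.subtype)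
    (hU : ¬ UU X.subtype x) (hnn : nn x = 1) (hee : ee x = 2) :
    ∃ k : ℕ, (k ∣ (Fintype.card F + 1) / Nat.gcd 2 (Fintype.card F - 1) ∨
        k ∣ (Fintype.card F - 1) / Nat.gcd 2 (Fintype.card F - 1)) ∧
      Nonempty (↥(X.map (QuotientGroup.mk' (Subgroup.center SL2))) ≃* DihedralGroup k) := by
  have hτ : Function.Injective X.subtype := X.subtype_injective
  have D := data_of_rep p X.subtype hτ
  have hcyc := torus_isCyclic X.subtype hτ hU
  obtain ⟨g, hg⟩ := IsCyclic.exists_generator (α := ↥(M x))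
  have hT : M x = Subgroup.zpowers (g : X) := by
    ext y
    constructor
    · intro hy
      obtain ⟨k, hk⟩ := hg ⟨y, hy⟩
      refine ⟨k, ?_⟩
      have := congrArg Subtype.val hk
      simpa using this
    · rintro ⟨k, rfl⟩
      exact (M x).zpow_mem g.2 k
  have hgZ : (g : X) ∉ ZZ X.subtype := by
    intro hgz
    apply hx
    have hxm : x ∈ Subgroup.zpowers (g : X) := by rw [← hT]; exact self_mem_M x
    obtain ⟨k, hk⟩ := hxm
    rw [← hk]
    exact Subgroup.zpow_mem _ hgz k
  obtain ⟨s, hs, hsT⟩ := D.exists_not_mem_tor hee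
  have hs2 := D.tor_sq hx hee hs hsT
  have hinv := D.tor_inv hx hU hs hsT g.2 hgZ
  have hNtop : Subgroup.normalizer (M x : Set X) = ⊤ := Subgroup.index_eq_one.mp hnn
  have hcos : ∀ n ∈ (⊤ : Subgroup X), n ∉ M x → s⁻¹ * n ∈ M x :=
    fun n _ hnT => D.tor_coset hee hs hsT (by rw [hNtop]; exact Subgroup.mem_top _) hnT
  have hZM : ZZ X.subtype ≤ M x := D.toCT.Z_le_M x
  obtain ⟨e⟩ := dihedral_quotient (ZZ X.subtype) ⊤ (M x) hZM (g : X) s hT (Subgroup.mem_top _)
    le_top hsT hs2 hinv hcos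
  obtain ⟨e₀⟩ := map_mk_equiv X
  have htop : (⊤ : Subgroup X).map (QuotientGroup.mk' (ZZ X.subtype)) = ⊤ :=
    Subgroup.map_top_of_surjective _ (QuotientGroup.mk'_surjective _)
  refine ⟨Nat.card (M x) / Nat.card (ZZ X.subtype), ?_,
    ⟨e₀.trans ((Subgroup.topEquiv.symm.trans (MulEquiv.subgroupCongr htop).symm).trans e)⟩⟩
  rw [card_ZZ_subtype X hZX, card_center_eq_gcd]
  have hdvd : Nat.gcd 2 (Fintype.card F - 1) ∣ Nat.card (M x) := by
    rw [← card_center_eq_gcd, ← card_ZZ_subtype X hZX]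
    exact Subgroup.card_dvd_of_le hZM
  have h1 : Nat.gcd 2 (Fintype.card F - 1) * (Nat.card (M x) / Nat.gcd 2 (Fintype.card F - 1))
      = aa x := Nat.mul_div_cancel' hdvd
  rcases torus_card_dvd p X.subtype hτ hx hU with h | h
  · right; exact dvd_div_gcd _ _ _ _ h1 h
  · left; exact dvd_div_gcd _ _ _ _ h1 h

end

end Cfsg.Agent.Lib.Helper14.Dk
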