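import Mathlib
import Cfsg.Agent.Lib.Helper14.DkIsoB

set_option autoImplicit false

namespace Cfsg.Agent.Lib.Helper14.Dk

open Cfsg.Agent.Lib.Helper2.SL2 Cfsg.Agent.Lib.Helper2.Dk
open scoped Pointwise

section

variable {F : Type*} [Field F] [Fintype F]

local notation "SL2" => Matrix.SpecialLinearGroup (Fin 2) F
local notation "PSL2" => Matrix.ProjectiveSpecialLinearGroup (Fin 2) F

theorem card_Uni : Nat.card (Uni F) = Fintype.card F := by
  rw [← Nat.card_eq_fintype_card]
  symm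
  apply Nat.card_eq_of_bijective (fun μ : F => (⟨tt μ, tt_mem_Uni μ⟩ : Uni F))
  constructor
  · intro a b hab
    exact tt_injective (congrArg Subtype.val hab)
  · rintro ⟨g, hg⟩
    exact ⟨g 0 1, Subtype.ext (eq_tt_of_mem_Uni hg).symm⟩

theorem card_map_Uni :
    Nat.card ((Uni F).map (QuotientGroup.mk' (Subgroup.center SL2))) = Fintype.card F := by
  rw [← card_Uni]
  set f : ↥(Uni F) →* PSL2 := (QuotientGroup.mk' (Subgroup.center SL2)).comp (Uni F).subtype
    with hf
  have hr : f.range = (Uni F).map (QuotientGroup.mk' (Subgroup.center SL2)) := by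
    rw [hf, MonoidHom.range_comp, Subgroup.range_subtype]
  have hinj : Function.Injective f := by
    rw [← MonoidHom.ker_eq_bot_iff, eq_bot_iff]
    rintro ⟨g, hg⟩ hk
    rw [Subgroup.mem_bot]
    apply Subtype.ext
    rw [MonoidHom.mem_ker] at hk
    have h1 : g ∈ Subgroup.center SL2 := by
      rw [← QuotientGroup.ker_mk' (Subgroup.center SL2), MonoidHom.mem_ker]
      exact hk
    rcases (mem_center_iff_pm g).mp h1 with h | h
    · exact h
    · -- `-1` is unitriangular only in characteristic two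
      have h00 := hg.2.1
      rw [h] at h00
      have h2 : (-1 : F) = 1 := by simpa using h00
      show g = 1
      rw [h]
      apply ext2 <;> simp only [neg00, neg01, neg10, neg11, one00, one01, one10, one11]
      · exact h2
      · ring
      · ring
      · exact h2
  rw [← hr]
  exact (Nat.card_congr (Equiv.ofInjective f hinj)).symm

theorem exists_sylow_Uni (p : ℕ) [Fact p.Prime] [CharP F p] :
    ∃ P : Sylow p PSL2, (P : Subgroup PSL2) =
      (Uni F).map (QuotientGroup.mk' (Subgroup.center SL2)) := by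
  have hpp : p.Prime := Fact.out
  have hPg : IsPGroup p ((Uni F).map (QuotientGroup.mk' (Subgroup.center SL2))) :=
    (isPGroup_Uni p).map _
  obtain ⟨P, hP⟩ := hPg.exists_le_sylow
  refine ⟨P, ?_⟩
  symm
  apply Subgroup.eq_of_le_of_card_ge hP
  rw [card_map_Uni]
  obtain ⟨a, ha⟩ := (IsPGroup.iff_card).mp P.2
  rw [ha]
  obtain ⟨n, -, hn⟩ := FiniteField.card F p
  have h1 : p ^ a ∣ Nat.card PSL2 := ha ▸ Subgroup.card_subgroup_dvd_card (P : Subgroup PSL2)
  have h2 : Nat.card PSL2 * Nat.card (Subgroup.center SL2) =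
      Fintype.card F * (Fintype.card F ^ 2 - 1) := by
    rw [← Cfsg.Agent.Lib.Helper38.card_SL2]
    exact (Subgroup.card_eq_card_quotient_mul_card_subgroup _).symm
  have h3 : p ^ a ∣ Fintype.card F * (Fintype.card F ^ 2 - 1) :=
    h2 ▸ Dvd.dvd.mul_right h1 _
  have hq1 : 1 ≤ Fintype.card F ^ 2 := Nat.one_le_pow _ _ Fintype.card_pos
  have hcop : (p ^ a).Coprime (Fintype.card F ^ 2 - 1) := by
    apply Nat.Coprime.pow_left
    rw [Nat.Prime.coprime_iff_not_dvd hpp]
    intro hd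
    have hpq : p ∣ Fintype.card F ^ 2 := by
      rw [hn, ← pow_mul]
      exact dvd_pow_self p (by positivity)
    have : p ∣ 1 := by
      have h4 := (Nat.dvd_sub hpq hd)
      rwa [Nat.sub_sub_self hq1] at h4
    exact hpp.one_lt.ne' (Nat.dvd_one.mp this)
  exact Nat.le_of_dvd Fintype.card_pos (hcop.dvd_of_dvd_mul_right h3)

/-- the Borel case -/
theorem type_borel (p : ℕ) [Fact p.Prime] [CharP F p] (X : Subgroup SL2) {x : X}
    (hx : x ∉ ZZ X.subtype) (hU : UU X.subtype x)
    (hN : Subgroup.normalizer (M x : Set X) = ⊤) :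
    ∃ P : Sylow p PSL2, X.map (QuotientGroup.mk' (Subgroup.center SL2)) ≤
      Subgroup.normalizer ((P : Subgroup PSL2) : Set PSL2) := by
  have hτ : Function.Injective X.subtype := X.subtype_injective
  obtain ⟨c, hstd⟩ := exists_std X.subtype hτ hx hU
  have hB := hstd.normalizer_eq
  rw [hN] at hB
  have hup : ∀ y ∈ X, (c * y * c⁻¹) 1 0 = 0 := by
    intro y hy
    have : (⟨y, hy⟩ : X) ∈ BG ((MulAut.conj c).toMonoidHom.comp X.subtype) := by
      rw [← hB]; exact Subgroup.mem_top _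
    exact this
  obtain ⟨P₀, hP₀⟩ := exists_sylow_Uni (F := F) p
  set π : SL2 →* PSL2 := QuotientGroup.mk' (Subgroup.center SL2) with hπ
  -- the Borel subgroup normalizes the unipotent subgroup
  have hnorm : ∀ b : SL2, b 1 0 = 0 → ∀ n : PSL2, n ∈ (Uni F).map π →
      π b * n * (π b)⁻¹ ∈ (Uni F).map π := by
    rintro b hb _ ⟨u, hu, rfl⟩
    refine ⟨b * u * b⁻¹, ?_, by rw [map_mul, map_mul, map_inv]⟩
    rw [eq_tt_of_mem_Uni hu, conj_tt_of_mem_Bor (mem_Bor.mpr hb)]
    exact tt_mem_Uni _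
  refine ⟨MulAut.conj (π c)⁻¹ • P₀, ?_⟩
  rintro _ ⟨y, hy, rfl⟩
  have hcoe : ((MulAut.conj (π c)⁻¹ • P₀ : Sylow p PSL2) : Subgroup PSL2) =
      MulAut.conj (π c)⁻¹ • (P₀ : Subgroup PSL2) := rfl
  rw [hcoe, hP₀, Subgroup.mem_normalizer_iff]
  intro n
  rw [mem_conj_smul_iff, mem_conj_smul_iff, inv_inv]
  have hb := hup y hy
  have hb' : (c * y⁻¹ * c⁻¹) 1 0 = 0 := by
    have : c * y⁻¹ * c⁻¹ = (c * y * c⁻¹)⁻¹ := by group
    rw [this, inv10, hb, neg_zero]
  constructor
  · intro h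
    have := hnorm _ hb _ h
    have e : π (c * y * c⁻¹) * (π c * n * (π c)⁻¹) * (π (c * y * c⁻¹))⁻¹ =
        π c * (π y * n * (π y)⁻¹) * (π c)⁻¹ := by
      rw [map_mul, map_mul, map_inv]; group
    rwa [e] at this
  · intro h
    have := hnorm _ hb' _ h
    have e : π (c * y⁻¹ * c⁻¹) * (π c * (π y * n * (π y)⁻¹) * (π c)⁻¹) * (π (c * y⁻¹ * c⁻¹))⁻¹ =
        π c * n * (π c)⁻¹ := by
      rw [map_mul, map_mul, map_inv, map_inv]; group
    rwa [e] at this

end

end Cfsg.Agent.Lib.Helper14.Dk
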