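import Mathlib
import Cfsg.Agent.Lib.Helper14.DkIsoB
import Cfsg.Agent.Lib.Helper2.Dk8

set_option autoImplicit false

namespace Cfsg.Agent.Lib.Helper14.Dk

open Cfsg.Agent.Lib.Helper2.SL2 Cfsg.Agent.Lib.Helper2.Dk

section

variable {F : Type*} [Field F] [Fintype F]

local notation "SL2" => Matrix.SpecialLinearGroup (Fin 2) F
local notation "PSL2" => Matrix.ProjectiveSpecialLinearGroup (Fin 2) F

/-- the point `g(∞)` of the projective line -/
noncomputable def ptInf (g : SL2) : Option F := by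
  classical exact if g 1 0 = 0 then none else some (g 0 0 / g 1 0)

theorem ptInf_of_zero {g : SL2} (h : g 1 0 = 0) : ptInf g = none := by
  unfold ptInf; simp [h]

theorem ptInf_of_ne {g : SL2} (h : g 1 0 ≠ 0) : ptInf g = some (g 0 0 / g 1 0) := by
  unfold ptInf; simp [h]

theorem ptInf_eq_iff (g g' : SL2) : ptInf g = ptInf g' ↔ (g⁻¹ * g') 1 0 = 0 := by
  have hd := det2 g
  have hd' := det2 g'
  rw [mul10, inv10, inv11]
  by_cases h : g 1 0 = 0
  · by_cases h' : g' 1 0 = 0
    · rw [ptInf_of_zero h, ptInf_of_zero h', h, h']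
      simp
    · rw [ptInf_of_zero h, ptInf_of_ne h', h]
      have h00 : g 0 0 ≠ 0 := by
        intro h0; rw [h, h0] at hd; simp at hd
      simp [h00, h']
  · by_cases h' : g' 1 0 = 0
    · rw [ptInf_of_ne h, ptInf_of_zero h', h']
      have h00 : g' 0 0 ≠ 0 := by
        intro h0; rw [h', h0] at hd'; simp at hd'
      simp [h00, h]
    · rw [ptInf_of_ne h, ptInf_of_ne h', Option.some_inj, div_eq_div_iff h h']
      constructor
      · intro e; linear_combination e
      · intro e; linear_combination e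

theorem ptInf_tt_mul (μ : F) {g : SL2} (h : g 1 0 ≠ 0) :
    ptInf (tt μ * g) = some (μ + g 0 0 / g 1 0) := by
  have h1 : (tt μ * g) 1 0 = g 1 0 := by rw [mul10, tt10, tt11]; ring
  have h0 : (tt μ * g) 0 0 = g 0 0 + μ * g 1 0 := by rw [mul00, tt00, tt01]; ring
  rw [ptInf_of_ne (by rw [h1]; exact h), h1, h0]
  congr 1
  field_simp
  ring

theorem tt_one_not_mem_ZZ (L : Subgroup SL2) (hL1 : tt 1 ∈ L) :
    (⟨tt 1, hL1⟩ : L) ∉ ZZ L.subtype := by
  rw [mem_ZZ]
  rintro (h | h)
  · have := congrArg (fun g : SL2 => g 0 1) h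
    simp at this
  · have := congrArg (fun g : SL2 => g 0 1) h
    simp at this

theorem std_tt_one (L : Subgroup SL2) (hL1 : tt 1 ∈ L) :
    Std L.subtype (⟨tt 1, hL1⟩ : L) where
  inj := L.subtype_injective
  h10 := rfl
  hd := rfl
  hZ := tt_one_not_mem_ZZ L hL1

theorem UU_tt_one (L : Subgroup SL2) (hL1 : tt 1 ∈ L) :
    UU L.subtype (⟨tt 1, hL1⟩ : L) := by
  show tr2 (tt 1) ^ 2 = 4
  unfold tr2
  rw [tt00, tt11]; norm_num

/-- the parameters of the unipotent elements -/
theorem ncard_T (L : Subgroup SL2) (hZL : Subgroup.center SL2 ≤ L) (hL1 : tt 1 ∈ L) (q₀ : ℕ)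
    (haa : aa (⟨tt 1, hL1⟩ : L) = Nat.card (ZZ L.subtype) * q₀) :
    {μ : F | tt μ ∈ L}.ncard = q₀ := by
  have hstd := std_tt_one L hL1
  have h1 := hstd.card_mul_ncard_VV
  rw [haa] at h1
  have hZpos : 0 < Nat.card (ZZ L.subtype) := Nat.card_pos
  have h2 : hstd.VV.ncard = q₀ := Nat.eq_of_mul_eq_mul_left hZpos h1
  rw [← h2]
  congr 1
  ext c
  rw [hstd.mem_VV, Set.mem_setOf_eq]
  constructor
  · intro hc
    have hm : (⟨tt c, hc⟩ : L) ∈ M (⟨tt 1, hL1⟩ : L) := by
      rw [hstd.mem_M_iff]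
      exact ⟨rfl, rfl⟩
    refine ⟨⟨⟨tt c, hc⟩, hm⟩, ?_⟩
    show (tt c) 0 1 * (tt c) 0 0 = c
    rw [tt01, tt00, mul_one]
  · rintro ⟨⟨⟨y, hy⟩, hm⟩, rfl⟩
    obtain ⟨y10, y01⟩ := (hstd.mem_M_iff _).mp hm
    have hsq := hstd.diag_sq hm
    change y 1 0 = 0 at y10
    change y 0 0 = y 1 1 at y01
    change y 0 0 * y 0 0 = 1 at hsq
    show tt (y 0 1 * y 0 0) ∈ L
    have hcases : y 0 0 = 1 ∨ y 0 0 = -1 := by
      have : (y 0 0 - 1) * (y 0 0 + 1) = 0 := by linear_combination hsq
      rcases mul_eq_zero.mp this with h | h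
      · left; linear_combination h
      · right; linear_combination h
    rcases hcases with h | h
    · have : y = tt (y 0 1 * y 0 0) := by
        apply ext2 <;> simp only [tt00, tt01, tt10, tt11]
        · exact h
        · rw [h, mul_one]
        · exact y10
        · rw [← y01, h]
      rw [← this]; exact hy
    · have hneg : (-1 : SL2) * y ∈ L := L.mul_mem (hZL neg_one_mem_center) hy
      have : (-1 : SL2) * y = tt (y 0 1 * y 0 0) := by
        rw [← neg_eq_neg_one_mul]
        apply ext2 <;> simp only [neg00, neg01, neg10, neg11, tt00, tt01, tt10, tt11]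
        · rw [h]; ring
        · rw [h]; ring
        · rw [y10]; ring
        · rw [← y01, h]; ring
      rw [← this]; exact hneg

/-- double transitivity from the count of the Sylow subgroups -/
theorem hA_of_count (p : ℕ) [Fact p.Prime] [CharP F p] (L : Subgroup SL2)
    (hZL : Subgroup.center SL2 ≤ L) (hL1 : tt 1 ∈ L) {ν₀ : F} (hν₀ : ν₀ ≠ 0) (hs : ss ν₀ ∈ L)
    (q₀ : ℕ) (haa : aa (⟨tt 1, hL1⟩ : L) = Nat.card (ZZ L.subtype) * q₀)
    (hnn : nn (⟨tt 1, hL1⟩ : L) = q₀ + 1) :
    ∀ g ∈ L, g 1 0 ≠ 0 → tt (g 0 0 / g 1 0) ∈ L := by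
  classical
  have hτ : Function.Injective L.subtype := L.subtype_injective
  have D := data_of_rep p L.subtype hτ
  have hstd := std_tt_one L hL1
  have hx₀ := tt_one_not_mem_ZZ L hL1
  have hU₀ := UU_tt_one L hL1
  have hT := ncard_T L hZL hL1 q₀ haa
  set T : Set F := {μ : F | tt μ ∈ L} with hTdef
  -- the orbit map
  set B := BG L.subtype with hB
  have hidx : B.index = q₀ + 1 := by
    rw [← hnn, hB, ← hstd.normalizer_eq]; rfl
  let φ : ↥L ⧸ B → Option F := Quotient.lift (fun g : L => ptInf (g : SL2)) (by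
    intro a b hab
    have hab' : a⁻¹ * b ∈ B := QuotientGroup.leftRel_apply.mp hab
    exact (ptInf_eq_iff _ _).mpr hab')
  have hφ : ∀ g : L, φ (QuotientGroup.mk g) = ptInf (g : SL2) := fun g => rfl
  have hφinj : Function.Injective φ := by
    intro a b
    induction a using QuotientGroup.induction_on
    induction b using QuotientGroup.induction_on
    rename_i a b
    intro hab
    rw [hφ, hφ, ptInf_eq_iff] at hab
    exact QuotientGroup.eq.mpr hab
  have hrange : (Set.range φ).ncard = q₀ + 1 := by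
    rw [← hidx, Subgroup.index, ← Set.ncard_univ, ← Set.image_univ,
      Set.ncard_image_of_injective _ hφinj]
  -- an element mapping `∞` to `0`
  obtain ⟨g₁, hg₁L, hg₁⟩ : ∃ g₁ ∈ L, g₁ 0 0 = 0 := by
    have hsZ : (⟨ss ν₀, hs⟩ : L) ∉ ZZ L.subtype := by
      rw [mem_ZZ]
      rintro (h | h)
      · have := congrArg (fun g : SL2 => g 1 0) h
        simp at this; exact hν₀ this
      · have := congrArg (fun g : SL2 => g 1 0) h
        simp at this; exact hν₀ this
    have hsU : UU L.subtype (⟨ss ν₀, hs⟩ : L) := by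
      show tr2 (ss ν₀) ^ 2 = 4
      unfold tr2
      rw [ss00, ss11]; norm_num
    obtain ⟨-, g, hg⟩ := D.ptype_equiv hx₀ hU₀ hsZ hsU
    have hg' : (g : SL2) * ss ν₀ * (g : SL2)⁻¹ * tt 1 = tt 1 * ((g : SL2) * ss ν₀ * (g : SL2)⁻¹) := by
      have := congrArg (fun z : L => (z : SL2)) hg
      simpa using this.symm
    have hPU := mem_PU_of_commute one_ne_zero hg'
    have h10 := hPU.1
    rw [(conj_ss (g : SL2) ν₀).2.2.1] at h10
    have h11 : (g : SL2) 1 1 = 0 := by
      rcases mul_eq_zero.mp h10 with h | h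
      · exact absurd h hν₀
      · exact pow_eq_zero_iff (two_ne_zero) |>.mp h
    exact ⟨(g : SL2)⁻¹, L.inv_mem g.2, by rw [inv00]; exact h11⟩
  have hg₁10 : g₁ 1 0 ≠ 0 := by
    intro h0
    have := det2 g₁
    rw [hg₁, h0] at this
    simp at this
  -- the points `∞` and `T` are in the orbit
  set S : Set (Option F) := insert none (some '' T) with hS
  have hSsub : S ⊆ Set.range φ := by
    intro a ha
    rcases ha with rfl | ⟨μ, hμ, rfl⟩
    · exact ⟨QuotientGroup.mk 1, by rw [hφ]; exact ptInf_of_zero (by simp)⟩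
    · refine ⟨QuotientGroup.mk ⟨tt μ * g₁, L.mul_mem hμ hg₁L⟩, ?_⟩
      rw [hφ]
      show ptInf (tt μ * g₁) = some μ
      rw [ptInf_tt_mul μ hg₁10, hg₁]
      simp
  have hScard : S.ncard = q₀ + 1 := by
    rw [hS, Set.ncard_insert_of_notMem (by simp) (Set.toFinite _),
      Set.ncard_image_of_injective _ (Option.some_injective F), hT]
  have hSeq : S = Set.range φ :=
    Set.eq_of_subset_of_ncard_le hSsub (by rw [hScard, hrange]) (Set.toFinite _)
  intro g hg hc
  have h1 : ptInf g ∈ Set.range φ := ⟨QuotientGroup.mk ⟨g, hg⟩, hφ _⟩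
  rw [← hSeq, ptInf_of_ne hc] at h1
  rcases h1 with h1 | ⟨μ, hμ, h1⟩
  · exact absurd h1 (by simp)
  · rw [Option.some_inj] at h1
    rw [← h1]; exact hμ

end

end Cfsg.Agent.Lib.Helper14.Dk
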