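import Mathlib
import Cfsg.Agent.Lib.Helper2.Dk8

set_option autoImplicit false

namespace Cfsg.Agent.Lib.Helper14.Dk

open Cfsg.Agent.Lib.Helper2.SL2 Cfsg.Agent.Lib.Helper2.Dk

section

variable {F : Type*} [Field F]

local notation "SL2" => Matrix.SpecialLinearGroup (Fin 2) F

variable {L : Subgroup (Matrix.SpecialLinearGroup (Fin 2) F)}

variable (hA : ∀ g ∈ L, g 1 0 ≠ 0 → tt (g 0 0 / g 1 0) ∈ L)
  {ν₀ : F} (hν₀ : ν₀ ≠ 0) (hs : ss ν₀ ∈ L) (hL1 : tt 1 ∈ L)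
include hA hν₀ hs hL1

theorem inv_mem_T' {a : F} (ha : tt a ∈ L) : tt a⁻¹ ∈ L := by
  by_cases ha0 : a = 0
  · rw [ha0, inv_zero, tt_zero]; exact L.one_mem
  have h1 := iota_mem hA hν₀ hs ha0 ha
  have h2 := hua_mem hA hν₀ hs hL1 h1
  have e : (1 : F) ^ 2 * (1 / (ν₀ ^ 2 * a)) * ν₀ ^ 2 = a⁻¹ := by field_simp
  rwa [e] at h2

theorem div_n_mem {b : F} (hb : tt b ∈ L) : tt (b / ν₀ ^ 2) ∈ L := by
  have hβ := beta_mem hA hν₀ hs hL1
  have h2 := hua_mem hA hν₀ hs hβ hb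
  have e : (1 / ν₀ ^ 2) ^ 2 * b * ν₀ ^ 2 = b / ν₀ ^ 2 := by field_simp
  rwa [e] at h2

theorem sq_mul_mem {a b : F} (ha : tt a ∈ L) (hb : tt b ∈ L) : tt (a ^ 2 * b) ∈ L := by
  have h2 := hua_mem hA hν₀ hs ha (div_n_mem hA hν₀ hs hL1 hb)
  have e : a ^ 2 * (b / ν₀ ^ 2) * ν₀ ^ 2 = a ^ 2 * b := by field_simp
  rwa [e] at h2

theorem mul_mem_T_two [Finite F] [CharP F 2] {a b : F} (ha : tt a ∈ L) (hb : tt b ∈ L) :
    tt (a * b) ∈ L := by
  haveI : Finite {μ : F // tt μ ∈ L} := Subtype.finite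
  have hinj : Function.Injective
      (fun c : {μ : F // tt μ ∈ L} => (⟨c.1 ^ 2, sq_mem hA hν₀ hs hL1 c.2⟩ : {μ : F // tt μ ∈ L})) := by
    intro c d hcd
    have h1 : c.1 ^ 2 = d.1 ^ 2 := congrArg Subtype.val hcd
    apply Subtype.ext
    exact frobenius_inj F 2 h1
  obtain ⟨c, hc⟩ := Finite.surjective_of_injective hinj ⟨a, ha⟩
  have hc' : c.1 ^ 2 = a := congrArg Subtype.val hc
  rw [← hc']
  exact sq_mul_mem hA hν₀ hs hL1 c.2 hb

/-- the parameters of the unipotent elements form a subfield -/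
theorem subfield_of_hA [Finite F] (p : ℕ) [Fact p.Prime] [CharP F p] :
    ∃ E : Subfield F, (∀ μ, μ ∈ E ↔ tt μ ∈ L) ∧ ∀ μ ∈ E, ss μ ∈ L := by
  have hmul : ∀ a b : F, tt a ∈ L → tt b ∈ L → tt (a * b) ∈ L := by
    intro a b ha hb
    by_cases hp : p = 2
    · subst hp
      exact mul_mem_T_two hA hν₀ hs hL1 ha hb
    · exact mul_mem_T hA hν₀ hs hL1 hp ha hb
  let E : Subfield F :=
    { carrier := {μ | tt μ ∈ L}
      mul_mem' := fun ha hb => hmul _ _ ha hb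
      one_mem' := hL1
      add_mem' := fun ha hb => tt_add_mem ha hb
      zero_mem' := by
        show tt 0 ∈ L
        rw [tt_zero]; exact L.one_mem
      neg_mem' := fun ha => tt_neg_mem ha
      inv_mem' := fun a ha => inv_mem_T' hA hν₀ hs hL1 ha }
  have hE : ∀ μ, μ ∈ E ↔ tt μ ∈ L := fun μ => Iff.rfl
  have hν₀E : ν₀ ∈ E := by
    have h1 : ν₀⁻¹ ∈ E := by
      rw [hE]
      have := tt_inv_of_ss hA hν₀ hs
      rwa [one_div] at this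
    have := E.inv_mem h1
    rwa [inv_inv] at this
  refine ⟨E, hE, fun μ hμ => ?_⟩
  have h1 : μ / ν₀ ^ 2 ∈ E := E.div_mem hμ (E.pow_mem hν₀E 2)
  have := ss_of_tt hA hν₀ hs ((hE _).mp h1)
  have e : ν₀ ^ 2 * (μ / ν₀ ^ 2) = μ := by field_simp
  rwa [e] at this

end

end Cfsg.Agent.Lib.Helper14.Dk
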