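import Mathlib
import Cfsg.Agent.Lib.Helper14.DkIsoA
import Cfsg.Agent.Lib.Helper14.DkSL2
import Cfsg.Agent.Lib.Helper14.DkRep
import Cfsg.Agent.Lib.Helper2.Dk10

set_option autoImplicit false

/-!
# Identification of subfield subgroups of `SL₂` and their diagonal extensions
-/

namespace Cfsg.Agent.Lib.Helper14.Dk

open Cfsg.Agent.Lib.Helper2.SL2 Cfsg.Agent.Lib.Helper2.Dk

section

variable {K F : Type*} [Field K] [Field F] (f : K →+* F)

/-- the subfield subgroup is contained in a subgroup containing its root elements -/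
theorem range_mapSL_le (L : Subgroup (Matrix.SpecialLinearGroup (Fin 2) F))
    (h : ∀ μ : K, tt (f μ) ∈ L ∧ ss (f μ) ∈ L) :
    (Matrix.SpecialLinearGroup.map (n := Fin 2) f).range ≤ L := by
  have h1 : L.comap (Matrix.SpecialLinearGroup.map (n := Fin 2) f) = ⊤ := by
    apply eq_top_of_forall_tt_ss
    intro μ
    rw [Subgroup.mem_comap, Subgroup.mem_comap, mapSL_tt, mapSL_ss]
    exact h μ
  rintro _ ⟨g, rfl⟩
  have : g ∈ L.comap (Matrix.SpecialLinearGroup.map (n := Fin 2) f) := by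
    rw [h1]; exact Subgroup.mem_top _
  exact this

theorem mapSL_mem_center_iff (g : Matrix.SpecialLinearGroup (Fin 2) K) :
    Matrix.SpecialLinearGroup.map (n := Fin 2) f g ∈
      Subgroup.center (Matrix.SpecialLinearGroup (Fin 2) F) ↔
      g ∈ Subgroup.center (Matrix.SpecialLinearGroup (Fin 2) K) := by
  rw [mem_center_iff_pm, mem_center_iff_pm]
  have h1 : Matrix.SpecialLinearGroup.map (n := Fin 2) f (1 : Matrix.SpecialLinearGroup (Fin 2) K)
      = 1 := map_one _
  have h2 : Matrix.SpecialLinearGroup.map (n := Fin 2) f (-1 : Matrix.SpecialLinearGroup (Fin 2) K)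
      = -1 := by
    apply ext2 <;> simp [mapSL_apply]
  constructor
  · rintro (h | h)
    · left; exact mapSL_injective f (h.trans h1.symm)
    · right; exact mapSL_injective f (h.trans h2.symm)
  · rintro (h | h)
    · left; rw [h, h1]
    · right; rw [h, h2]

/-- the image of a subfield subgroup in `PSL₂` -/
theorem map_mk_range_equiv :
    Nonempty (↥((Matrix.SpecialLinearGroup.map (n := Fin 2) f).range.map
      (QuotientGroup.mk' (Subgroup.center (Matrix.SpecialLinearGroup (Fin 2) F)))) ≃*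
      Matrix.ProjectiveSpecialLinearGroup (Fin 2) K) := by
  set f₁ : Matrix.SpecialLinearGroup (Fin 2) K →* Matrix.ProjectiveSpecialLinearGroup (Fin 2) F :=
    (QuotientGroup.mk' (Subgroup.center (Matrix.SpecialLinearGroup (Fin 2) F))).comp
      (Matrix.SpecialLinearGroup.map (n := Fin 2) f) with hf₁
  set f₂ : Matrix.SpecialLinearGroup (Fin 2) K →* Matrix.ProjectiveSpecialLinearGroup (Fin 2) K :=
    QuotientGroup.mk' (Subgroup.center (Matrix.SpecialLinearGroup (Fin 2) K)) with hf₂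
  have hk : f₁.ker = f₂.ker := by
    ext g
    rw [hf₁, hf₂, MonoidHom.mem_ker, MonoidHom.mem_ker, MonoidHom.comp_apply,
      ← MonoidHom.mem_ker, ← MonoidHom.mem_ker (f := QuotientGroup.mk' _),
      QuotientGroup.ker_mk', QuotientGroup.ker_mk', mapSL_mem_center_iff]
  obtain ⟨e⟩ := range_equiv_of_ker_eq f₁ f₂ hk
  have hr₁ : f₁.range = (Matrix.SpecialLinearGroup.map (n := Fin 2) f).range.map
      (QuotientGroup.mk' (Subgroup.center (Matrix.SpecialLinearGroup (Fin 2) F))) := by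
    rw [hf₁, MonoidHom.range_comp]
  have hr₂ : f₂.range = ⊤ := MonoidHom.range_eq_top.mpr (QuotientGroup.mk'_surjective _)
  exact ⟨(MulEquiv.subgroupCongr hr₁).symm.trans (e.trans
    ((MulEquiv.subgroupCongr hr₂).trans Subgroup.topEquiv))⟩

end


section

variable {F : Type*} [Field F]

/-- the diagonal element `diag(a, a⁻¹)` -/
def dd (a : F) (ha : a ≠ 0) : Matrix.SpecialLinearGroup (Fin 2) F :=
  ⟨!![a, 0; 0, a⁻¹], by rw [Matrix.det_fin_two_of]; field_simp; ring⟩

@[simp] theorem dd00 (a : F) (ha : a ≠ 0) : dd a ha 0 0 = a := rfl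
@[simp] theorem dd01 (a : F) (ha : a ≠ 0) : dd a ha 0 1 = 0 := rfl
@[simp] theorem dd10 (a : F) (ha : a ≠ 0) : dd a ha 1 0 = 0 := rfl
@[simp] theorem dd11 (a : F) (ha : a ≠ 0) : dd a ha 1 1 = a⁻¹ := rfl

variable (F) in
/-- the Weyl element -/
def wE : Matrix.SpecialLinearGroup (Fin 2) F := tt (-1) * ss 1 * tt (-1)

set_option linter.unusedSimpArgs false in
theorem wE00 : (wE F) 0 0 = 0 := by
  unfold wE; simp only [mul00, mul01, mul10, mul11, tt00, tt01, tt10, tt11, ss00, ss01, ss10, ss11]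
  ring
set_option linter.unusedSimpArgs false in
theorem wE01 : (wE F) 0 1 = -1 := by
  unfold wE; simp only [mul00, mul01, mul10, mul11, tt00, tt01, tt10, tt11, ss00, ss01, ss10, ss11]
  ring
set_option linter.unusedSimpArgs false in
theorem wE10 : (wE F) 1 0 = 1 := by
  unfold wE; simp only [mul00, mul01, mul10, mul11, tt00, tt01, tt10, tt11, ss00, ss01, ss10, ss11]
  ring
set_option linter.unusedSimpArgs false in
theorem wE11 : (wE F) 1 1 = 0 := by
  unfold wE; simp only [mul00, mul01, mul10, mul11, tt00, tt01, tt10, tt11, ss00, ss01, ss10, ss11]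
  ring

end

section

variable {K F : Type*} [Field K] [Field F] (f : K →+* F)

theorem mapSL_wE : Matrix.SpecialLinearGroup.map (n := Fin 2) f (wE K) = wE F := by
  unfold wE
  rw [map_mul, map_mul, mapSL_tt, mapSL_ss, map_neg, map_one]

variable (L : Subgroup (Matrix.SpecialLinearGroup (Fin 2) F))
  (hT : ∀ μ : F, tt μ ∈ L ↔ μ ∈ Set.range f)
  (hss : ∀ μ : K, ss (f μ) ∈ L)
  (hA : ∀ g ∈ L, g 1 0 ≠ 0 → tt (g 0 0 / g 1 0) ∈ L)
include hT hss hA

theorem wE_mem : wE F ∈ L := by
  have h1 : tt (-1 : F) ∈ L := by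
    rw [hT]; exact ⟨-1, by simp⟩
  have h2 : ss (1 : F) ∈ L := by
    have := hss 1
    rwa [map_one] at this
  exact L.mul_mem (L.mul_mem h1 h2) h1

theorem exists_factor_bor (g : Matrix.SpecialLinearGroup (Fin 2) F) (hg : g ∈ L)
    (h10 : g 1 0 = 0) :
    ∃ (h : Matrix.SpecialLinearGroup (Fin 2) K) (a : F) (ha : a ≠ 0), a ^ 2 ∈ Set.range f ∧
      g = Matrix.SpecialLinearGroup.map (n := Fin 2) f h * dd a ha := by
  have hd := det2 g
  rw [h10] at hd
  have hd' : g 0 0 * g 1 1 = 1 := by linear_combination hd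
  have ha : g 0 0 ≠ 0 := left_ne_zero_of_mul_eq_one hd'
  have h11 : g 1 1 = (g 0 0)⁻¹ := eq_inv_of_mul_eq_one_right hd'
  have hne : g 1 1 ≠ 0 := right_ne_zero_of_mul_eq_one hd'
  -- `a² ∈ E`
  have h1 : tt (g 0 0 ^ 2 * 1) ∈ L := by
    rw [← conj_tt_of_mem_Bor (mem_Bor.mpr h10)]
    exact L.mul_mem (L.mul_mem hg ((hT 1).mpr ⟨1, map_one f⟩)) (L.inv_mem hg)
  rw [mul_one, hT] at h1
  -- `c a ∈ E`
  have hw := wE_mem f L hT hss hA
  have hgw : g * wE F ∈ L := L.mul_mem hg hw
  have e10 : (g * wE F) 1 0 = g 1 1 := by rw [mul10, wE00, wE10, h10]; ring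
  have e00 : (g * wE F) 0 0 = g 0 1 := by rw [mul00, wE00, wE10]; ring
  have h2 := hA _ hgw (by rw [e10]; exact hne)
  rw [e10, e00, hT] at h2
  obtain ⟨e₁, he₁⟩ := h2
  refine ⟨tt e₁, g 0 0, ha, h1, ?_⟩
  rw [mapSL_tt, he₁]
  apply ext2 <;> simp only [mul00, mul01, mul10, mul11, tt00, tt01, tt10, tt11, dd00, dd01, dd10,
    dd11]
  · ring
  · rw [← h11]; field_simp; ring
  · rw [h10]; ring
  · rw [h11]; ring

theorem exists_factor (g : Matrix.SpecialLinearGroup (Fin 2) F) (hg : g ∈ L) :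
    ∃ (h : Matrix.SpecialLinearGroup (Fin 2) K) (a : F) (ha : a ≠ 0), a ^ 2 ∈ Set.range f ∧
      g = Matrix.SpecialLinearGroup.map (n := Fin 2) f h * dd a ha := by
  by_cases h10 : g 1 0 = 0
  · exact exists_factor_bor f L hT hss hA g hg h10
  have h1 := hA g hg h10
  have h1' := h1
  rw [hT] at h1'
  obtain ⟨μ', hμ'⟩ := h1'
  have hw := wE_mem f L hT hss hA
  have hb : wE F * tt (-(g 0 0 / g 1 0)) * g ∈ L :=
    L.mul_mem (L.mul_mem hw (tt_neg_mem h1)) hg
  have hb10 : (wE F * tt (-(g 0 0 / g 1 0)) * g) 1 0 = 0 := by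
    set_option linter.unusedSimpArgs false in
    simp only [mul00, mul01, mul10, mul11, tt00, tt01, tt10, tt11, wE00, wE01, wE10, wE11]
    field_simp
    ring
  obtain ⟨h, a, ha, ha2, hfac⟩ := exists_factor_bor f L hT hss hA _ hb hb10
  refine ⟨tt μ' * (wE K)⁻¹ * h, a, ha, ha2, ?_⟩
  rw [map_mul, map_mul, map_inv, mapSL_tt, mapSL_wE, hμ', mul_assoc, ← hfac, ← tt_inv]
  group

end


section

variable {F : Type*} [Field F]

theorem dd_mul (a b : F) (ha : a ≠ 0) (hb : b ≠ 0) :
    dd a ha * dd b hb = dd (a * b) (mul_ne_zero ha hb) := by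
  apply ext2 <;> simp only [mul00, mul01, mul10, mul11, dd00, dd01, dd10, dd11] <;> field_simp <;> ring

end

section pgl

variable {K F : Type*} [Field K] [Field F] (f : K →+* F)

theorem mapSL_dd (e : K) (he : e ≠ 0) :
    Matrix.SpecialLinearGroup.map (n := Fin 2) f (dd e he) =
      dd (f e) ((map_ne_zero f).mpr he) := by
  apply ext2 <;> simp only [mapSL_apply, dd00, dd01, dd10, dd11, map_zero, map_inv₀]

theorem isSquare_or_div [Fintype K] (hK : ringChar K ≠ 2) {δ ε : K} (hδ : δ ≠ 0) (hε : ε ≠ 0)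
    (hns : ¬ IsSquare ε) : IsSquare δ ∨ IsSquare (δ / ε) := by
  rcases FiniteField.pow_dichotomy hK hδ with h | h
  · left; exact (FiniteField.isSquare_iff hK hδ).mpr h
  · right
    rw [FiniteField.isSquare_iff hK (div_ne_zero hδ hε), div_pow, h]
    rcases FiniteField.pow_dichotomy hK hε with h' | h'
    · exact absurd ((FiniteField.isSquare_iff hK hε).mpr h') hns
    · rw [h']; norm_num

/-- the kernel of `GL₂(K) → PGL₂(F)` -/
theorem ker_mk_comp_map :
    (Matrix.ProjGenLinGroup.mk.comp (Matrix.GeneralLinearGroup.map (n := Fin 2) f)).ker =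
      Subgroup.center (GL (Fin 2) K) := by
  ext A
  rw [MonoidHom.mem_ker, MonoidHom.comp_apply, Matrix.ProjGenLinGroup.mk_eq_one,
    Matrix.GeneralLinearGroup.center_eq_range_scalar,
    Matrix.GeneralLinearGroup.center_eq_range_scalar, MonoidHom.mem_range, MonoidHom.mem_range]
  constructor
  · rintro ⟨u, hu⟩
    have e : ∀ i j : Fin 2, ((Matrix.GeneralLinearGroup.scalar (Fin 2) u : GL (Fin 2) F) :
        Matrix (Fin 2) (Fin 2) F) i j = f (A i j) := by
      intro i j
      rw [hu, Matrix.GeneralLinearGroup.map_apply]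
    have e01 := e 0 1
    have e10 := e 1 0
    have e00 := e 0 0
    have e11 := e 1 1
    simp at e01 e10 e00 e11
    have h01 : A 0 1 = 0 := (map_eq_zero f).mp e01.symm
    have h10 : A 1 0 = 0 := (map_eq_zero f).mp e10.symm
    have h0011 : A 0 0 = A 1 1 := f.injective (e00.symm.trans e11)
    have hdet := Matrix.GeneralLinearGroup.det_ne_zero A
    rw [Matrix.det_fin_two, h01, h10] at hdet
    have h00 : A 0 0 ≠ 0 := by
      intro h0
      apply hdet
      rw [h0]; ring
    refine ⟨Units.mk0 (A 0 0) h00, ?_⟩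
    apply Matrix.GeneralLinearGroup.ext
    intro i j
    fin_cases i <;> fin_cases j <;> simp [h01, h10, h0011]
  · rintro ⟨v, rfl⟩
    refine ⟨Units.map (f : K →* F) v, ?_⟩
    apply Matrix.GeneralLinearGroup.ext
    intro i j
    rw [Matrix.GeneralLinearGroup.map_apply]
    fin_cases i <;> fin_cases j <;> simp

/-- the image of `GL₂(K)` in `PGL₂(F)` is `PGL₂(K)` -/
theorem range_mk_comp_map_equiv :
    Nonempty (Matrix.ProjGenLinGroup (Fin 2) K ≃*
      ↥(Matrix.ProjGenLinGroup.mk.comp (Matrix.GeneralLinearGroup.map (n := Fin 2) f)).range) := by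
  set f₃ : GL (Fin 2) K →* Matrix.ProjGenLinGroup (Fin 2) K := Matrix.ProjGenLinGroup.mk with hf₃
  have hk : f₃.ker =
      (Matrix.ProjGenLinGroup.mk.comp (Matrix.GeneralLinearGroup.map (n := Fin 2) f)).ker := by
    rw [ker_mk_comp_map, hf₃, Matrix.ProjGenLinGroup.ker_mk]
  obtain ⟨e⟩ := range_equiv_of_ker_eq f₃ _ hk
  have hr : f₃.range = ⊤ :=
    MonoidHom.range_eq_top.mpr Matrix.ProjGenLinGroup.mk_surjective
  exact ⟨(Subgroup.topEquiv.symm.trans (MulEquiv.subgroupCongr hr).symm).trans e⟩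

/-- identification of the extension of a subfield subgroup by a diagonal element -/
theorem map_mk_equiv_pgl [Fintype K] (hK : ringChar K ≠ 2)
    (L : Subgroup (Matrix.SpecialLinearGroup (Fin 2) F))
    (hle : (Matrix.SpecialLinearGroup.map (n := Fin 2) f).range ≤ L)
    (hfac : ∀ g ∈ L, ∃ (h : Matrix.SpecialLinearGroup (Fin 2) K) (a : F) (ha : a ≠ 0),
      a ^ 2 ∈ Set.range f ∧ g = Matrix.SpecialLinearGroup.map (n := Fin 2) f h * dd a ha)
    (a₀ : F) (ha₀ : a₀ ≠ 0) (hnr : a₀ ∉ Set.range f) (hsq : a₀ ^ 2 ∈ Set.range f)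
    (hd : dd a₀ ha₀ ∈ L) :
    Nonempty (↥(L.map (QuotientGroup.mk' (Subgroup.center (Matrix.SpecialLinearGroup (Fin 2) F))))
      ≃* Matrix.ProjGenLinGroup (Fin 2) K) := by
  -- step A
  set f₁ : ↥L →* Matrix.ProjectiveSpecialLinearGroup (Fin 2) F :=
    (QuotientGroup.mk' (Subgroup.center (Matrix.SpecialLinearGroup (Fin 2) F))).comp L.subtype
    with hf₁
  set f₂ : ↥L →* Matrix.ProjGenLinGroup (Fin 2) F :=
    (Matrix.SpecialLinearGroup.toPGL (n := Fin 2) (R := F)).comp L.subtype with hf₂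
  have hk : f₁.ker = f₂.ker := by
    rw [hf₁, hf₂, ← MonoidHom.comap_ker, ← MonoidHom.comap_ker, QuotientGroup.ker_mk',
      Matrix.SpecialLinearGroup.toPGL_ker]
  obtain ⟨eA⟩ := range_equiv_of_ker_eq f₁ f₂ hk
  have hr₁ : f₁.range = L.map (QuotientGroup.mk'
      (Subgroup.center (Matrix.SpecialLinearGroup (Fin 2) F))) := by
    rw [hf₁, MonoidHom.range_comp, Subgroup.range_subtype]
  obtain ⟨eB⟩ := range_mk_comp_map_equiv f
  -- step C
  obtain ⟨ε₀, hε₀⟩ := hsq
  have hε₀0 : ε₀ ≠ 0 := by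
    rintro rfl
    rw [map_zero] at hε₀
    exact ha₀ (pow_eq_zero_iff (two_ne_zero) |>.mp hε₀.symm)
  have hε₀ns : ¬ IsSquare ε₀ := by
    rintro ⟨e, he⟩
    apply hnr
    rw [he, map_mul] at hε₀
    have : (a₀ - f e) * (a₀ + f e) = 0 := by linear_combination -hε₀
    rcases mul_eq_zero.mp this with h | h
    · exact ⟨e, by linear_combination -h⟩
    · exact ⟨-e, by rw [map_neg]; linear_combination -h⟩
  have hC : f₂.range =
      (Matrix.ProjGenLinGroup.mk.comp (Matrix.GeneralLinearGroup.map (n := Fin 2) f)).range := by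
    apply le_antisymm
    · rintro _ ⟨⟨g, hg⟩, rfl⟩
      obtain ⟨h, a, ha, ⟨ε, hε⟩, rfl⟩ := hfac g hg
      have hε0 : ε ≠ 0 := by
        rintro rfl
        rw [map_zero] at hε
        exact ha (pow_eq_zero_iff (two_ne_zero) |>.mp hε.symm)
      have hdet : (!![ε, 0; 0, 1] : Matrix (Fin 2) (Fin 2) K).det ≠ 0 := by
        rw [Matrix.det_fin_two_of]; simpa using hε0
      refine ⟨Matrix.SpecialLinearGroup.toGL h *
        Matrix.GeneralLinearGroup.mkOfDetNeZero !![ε, 0; 0, 1] hdet, ?_⟩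
      show Matrix.ProjGenLinGroup.mk _ = Matrix.ProjGenLinGroup.mk _
      rw [Matrix.ProjGenLinGroup.mk_eq_mk_iff]
      refine ⟨Units.mk0 a⁻¹ (inv_ne_zero ha), ?_⟩
      apply Matrix.GeneralLinearGroup.ext
      intro i j
      fin_cases i <;> fin_cases j <;>
        simp [Matrix.mul_apply, Fin.sum_univ_two, Matrix.GeneralLinearGroup.mkOfDetNeZero,
          Matrix.GeneralLinearGroup.map_apply, mapSL_apply, hε] <;> field_simp
    · rintro _ ⟨A, rfl⟩
      have hδ : (A : Matrix (Fin 2) (Fin 2) K).det ≠ 0 := Matrix.GeneralLinearGroup.det_ne_zero A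
      have hδ' := hδ
      rw [Matrix.det_fin_two] at hδ'
      rcases isSquare_or_div hK hδ hε₀0 hε₀ns with ⟨e, he⟩ | ⟨e, he⟩
      · have he0 : e ≠ 0 := by
          rintro rfl
          rw [mul_zero] at he
          exact hδ he
        have hdet1 : (A 0 0 / e) * (A 1 1 / e) - (A 0 1 / e) * (A 1 0 / e) = 1 := by
          rw [Matrix.det_fin_two] at he
          field_simp
          linear_combination he
        set h : Matrix.SpecialLinearGroup (Fin 2) K :=
          mk2 (A 0 0 / e) (A 0 1 / e) (A 1 0 / e) (A 1 1 / e) hdet1 with hh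
        have e00 : (Matrix.SpecialLinearGroup.map (n := Fin 2) f h) 0 0 = f (A 0 0) * (f e)⁻¹ := by
          rw [mapSL_apply, hh, mk2_00, map_div₀, div_eq_mul_inv]
        have e01 : (Matrix.SpecialLinearGroup.map (n := Fin 2) f h) 0 1 = f (A 0 1) * (f e)⁻¹ := by
          rw [mapSL_apply, hh, mk2_01, map_div₀, div_eq_mul_inv]
        have e10 : (Matrix.SpecialLinearGroup.map (n := Fin 2) f h) 1 0 = f (A 1 0) * (f e)⁻¹ := by
          rw [mapSL_apply, hh, mk2_10, map_div₀, div_eq_mul_inv]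
        have e11 : (Matrix.SpecialLinearGroup.map (n := Fin 2) f h) 1 1 = f (A 1 1) * (f e)⁻¹ := by
          rw [mapSL_apply, hh, mk2_11, map_div₀, div_eq_mul_inv]
        refine ⟨⟨Matrix.SpecialLinearGroup.map (n := Fin 2) f h, hle ⟨h, rfl⟩⟩, ?_⟩
        show Matrix.ProjGenLinGroup.mk _ = Matrix.ProjGenLinGroup.mk _
        symm
        rw [Matrix.ProjGenLinGroup.mk_eq_mk_iff]
        refine ⟨Units.mk0 (f e)⁻¹ (inv_ne_zero ((map_ne_zero f).mpr he0)), ?_⟩
        apply Matrix.GeneralLinearGroup.ext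
        intro i j
        fin_cases i <;> fin_cases j <;>
          simp [Matrix.mul_apply, Fin.sum_univ_two, Matrix.GeneralLinearGroup.map_apply,
            e00, e01, e10, e11]
      · have he0 : e ≠ 0 := by
          rintro rfl
          rw [mul_zero] at he
          exact (div_ne_zero hδ hε₀0) he
        have hδeq : (A : Matrix (Fin 2) (Fin 2) K).det = ε₀ * (e * e) := by
          rw [← he]; field_simp
        set δ := (A : Matrix (Fin 2) (Fin 2) K).det with hδdef
        have hdet1 : (A 0 0 / δ) * (A 1 1) - (A 0 1) * (A 1 0 / δ) = 1 := by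
          have : δ = A 0 0 * A 1 1 - A 0 1 * A 1 0 := by rw [hδdef, Matrix.det_fin_two]
          field_simp
          linear_combination -this
        set h : Matrix.SpecialLinearGroup (Fin 2) K :=
          mk2 (A 0 0 / δ) (A 0 1) (A 1 0 / δ) (A 1 1) hdet1 with hh
        have hfe : f e ≠ 0 := (map_ne_zero f).mpr he0
        have hgL : Matrix.SpecialLinearGroup.map (n := Fin 2) f h *
            dd (a₀ * f e) (mul_ne_zero ha₀ hfe) ∈ L := by
          rw [← dd_mul a₀ (f e) ha₀ hfe, ← mapSL_dd f e he0]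
          exact L.mul_mem (hle ⟨h, rfl⟩) (L.mul_mem hd (hle ⟨_, rfl⟩))
        have hfδ : f δ = (a₀ * f e) ^ 2 := by
          rw [hδeq, map_mul, map_mul, hε₀]; ring
        have hfδ0 : f δ ≠ 0 := (map_ne_zero f).mpr hδ
        have hne : a₀ * f e ≠ 0 := mul_ne_zero ha₀ hfe
        have e00 : (Matrix.SpecialLinearGroup.map (n := Fin 2) f h *
            dd (a₀ * f e) (mul_ne_zero ha₀ hfe)) 0 0 = f (A 0 0) * (a₀ * f e)⁻¹ := by
          rw [mul00, dd00, dd10, mapSL_apply, hh, mk2_00, map_div₀, hfδ]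
          field_simp
          ring
        have e01 : (Matrix.SpecialLinearGroup.map (n := Fin 2) f h *
            dd (a₀ * f e) (mul_ne_zero ha₀ hfe)) 0 1 = f (A 0 1) * (a₀ * f e)⁻¹ := by
          rw [mul01, dd01, dd11, mapSL_apply, mapSL_apply, hh, mk2_01]
          ring
        have e10 : (Matrix.SpecialLinearGroup.map (n := Fin 2) f h *
            dd (a₀ * f e) (mul_ne_zero ha₀ hfe)) 1 0 = f (A 1 0) * (a₀ * f e)⁻¹ := by
          rw [mul10, dd00, dd10, mapSL_apply, hh, mk2_10, map_div₀, hfδ]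
          field_simp
          ring
        have e11 : (Matrix.SpecialLinearGroup.map (n := Fin 2) f h *
            dd (a₀ * f e) (mul_ne_zero ha₀ hfe)) 1 1 = f (A 1 1) * (a₀ * f e)⁻¹ := by
          rw [mul11, dd01, dd11, mapSL_apply, mapSL_apply, hh, mk2_11]
          ring
        refine ⟨⟨_, hgL⟩, ?_⟩
        show Matrix.ProjGenLinGroup.mk _ = Matrix.ProjGenLinGroup.mk _
        symm
        rw [Matrix.ProjGenLinGroup.mk_eq_mk_iff]
        refine ⟨Units.mk0 (a₀ * f e)⁻¹ (inv_ne_zero (mul_ne_zero ha₀ hfe)), ?_⟩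
        apply Matrix.GeneralLinearGroup.ext
        intro i j
        fin_cases i <;> fin_cases j
        · simpa [Matrix.mul_apply, Fin.sum_univ_two, Matrix.GeneralLinearGroup.map_apply] using e00.symm
        · simpa [Matrix.mul_apply, Fin.sum_univ_two, Matrix.GeneralLinearGroup.map_apply] using e01.symm
        · simpa [Matrix.mul_apply, Fin.sum_univ_two, Matrix.GeneralLinearGroup.map_apply] using e10.symm
        · simpa [Matrix.mul_apply, Fin.sum_univ_two, Matrix.GeneralLinearGroup.map_apply] using e11.symm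
  exact ⟨(MulEquiv.subgroupCongr hr₁).symm.trans (eA.trans
    ((MulEquiv.subgroupCongr hC).trans eB.symm))⟩

end pgl

end Cfsg.Agent.Lib.Helper14.Dk
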