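import Mathlib
import Cfsg.Agent.Lib.Helper14.DkIsoC
import Cfsg.Agent.Lib.Helper14.DkIsoC2
import Cfsg.Agent.Lib.Helper14.DkIsoD
import Cfsg.Agent.Lib.Helper2.Dk13

set_option autoImplicit false

namespace Cfsg.Agent.Lib.Helper14.Dk

open Cfsg.Agent.Lib.Helper2.SL2 Cfsg.Agent.Lib.Helper2.Dk

section transfer

variable {G G' : Type*} [Group G] [Group G']

theorem M_equiv (e : G ≃* G') (x : G) : M (e x) = (M x).map e.toMonoidHom := by
  ext y
  rw [mem_M, Subgroup.mem_map]
  constructor
  · intro h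
    refine ⟨e.symm y, ?_, by simp⟩
    rw [mem_M]
    apply e.injective
    rw [map_mul, map_mul, e.apply_symm_apply]
    exact h
  · rintro ⟨z, hz, rfl⟩
    rw [mem_M] at hz
    show e x * e z = e z * e x
    rw [← map_mul, ← map_mul, hz]

theorem aa_equiv (e : G ≃* G') (x : G) : aa (e x) = aa x := by
  unfold aa
  rw [M_equiv]
  exact Subgroup.card_map_of_injective e.injective

theorem nn_equiv (e : G ≃* G') (x : G) : nn (e x) = nn x := by
  unfold nn
  rw [M_equiv, ← Subgroup.map_equiv_normalizer_eq]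
  exact Subgroup.index_map_equiv _ e

end transfer

section normalize

variable {F : Type*} [Field F] [Fintype F]

local notation "SL2" => Matrix.SpecialLinearGroup (Fin 2) F
local notation "PSL2" => Matrix.ProjectiveSpecialLinearGroup (Fin 2) F

theorem tt_ne_pm {b : F} (hb : b ≠ 0) : tt b ≠ (1 : SL2) ∧ tt b ≠ (-1 : SL2) := by
  constructor
  · intro h
    have := congrArg (fun g : SL2 => g 0 1) h
    simp at this; exact hb this
  · intro h
    have := congrArg (fun g : SL2 => g 0 1) h
    simp at this; exact hb this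

/-- normalization, given a unipotent element already conjugate to `tt b` -/
theorem exists_normalize_aux (X : Subgroup SL2) (x₁ : X) (c : SL2) (b : F) (hb : b ≠ 0)
    (h : c * (x₁ : SL2) * c⁻¹ = tt b) (hN : Subgroup.normalizer (M x₁ : Set X) ≠ ⊤) :
    ∃ (θ : SL2 ≃* SL2) (ν₀ : F), ν₀ ≠ 0 ∧ θ (x₁ : SL2) = tt 1 ∧
      ss ν₀ ∈ X.map θ.toMonoidHom := by
  set θ₁ : SL2 ≃* SL2 := (MulAut.conj c).trans (twist b hb) with hθ₁
  have h1 : θ₁ (x₁ : SL2) = tt 1 := by
    show twist b hb (c * (x₁ : SL2) * c⁻¹) = tt 1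
    rw [h, twist_tt, mul_inv_cancel₀ hb]
  set τ₁ : ↥X →* SL2 := θ₁.toMonoidHom.comp X.subtype with hτ₁
  have hτ₁x : τ₁ x₁ = tt 1 := h1
  have hstd : Std τ₁ x₁ :=
    { inj := θ₁.injective.comp X.subtype_injective
      h10 := by rw [hτ₁x]; rfl
      hd := by rw [hτ₁x]; rfl
      hZ := by
        rw [mem_ZZ, hτ₁x]
        have := tt_ne_pm (F := F) one_ne_zero
        tauto }
  have hB := hstd.normalizer_eq
  obtain ⟨g, hg⟩ : ∃ g : X, g ∉ BG τ₁ := by
    by_contra hcon
    push Not at hcon
    apply hN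
    rw [hB, eq_top_iff]
    intro g _
    exact hcon g
  set w : SL2 := θ₁ (g : SL2) with hw
  have hw10 : w 1 0 ≠ 0 := hg
  set v : SL2 := w * tt 1 * w⁻¹ with hv
  obtain ⟨v00, -, v10, v11⟩ := conj_tt w (1 : F)
  have hvtr : v 0 0 + v 1 1 = 2 := by rw [hv, v00, v11]; ring
  have hvc : v 1 0 ≠ 0 := by
    rw [hv, v10]
    simpa using hw10
  have hvss := conj_eq_ss hvtr hvc
  set y : F := (1 - v 0 0) / v 1 0 with hy
  refine ⟨θ₁.trans (MulAut.conj (tt y)), v 1 0, hvc, ?_, ?_⟩
  · show tt y * θ₁ (x₁ : SL2) * (tt y)⁻¹ = tt 1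
    rw [h1, tt_inv, ← tt_add, ← tt_add]
    congr 1; ring
  · refine ⟨(g : SL2) * (x₁ : SL2) * (g : SL2)⁻¹, X.mul_mem (X.mul_mem g.2 x₁.2) (X.inv_mem g.2), ?_⟩
    show tt y * θ₁ ((g : SL2) * (x₁ : SL2) * (g : SL2)⁻¹) * (tt y)⁻¹ = ss (v 1 0)
    rw [map_mul, map_mul, map_inv, h1, ← hw, ← hv]
    exact hvss

theorem M_central_mul {G : Type*} [Group G] (z x : G) (hz : ∀ g, z * g = g * z) :
    M (z * x) = M x := by
  ext y
  rw [mem_M, mem_M]
  constructor
  · intro h
    have : z * (x * y) = z * (y * x) := by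
      calc z * (x * y) = z * x * y := (mul_assoc _ _ _).symm
        _ = y * (z * x) := h
        _ = y * z * x := (mul_assoc _ _ _).symm
        _ = z * y * x := by rw [hz y]
        _ = z * (y * x) := mul_assoc _ _ _
    exact mul_left_cancel this
  · intro h
    calc z * x * y = z * (x * y) := mul_assoc _ _ _
      _ = z * (y * x) := by rw [h]
      _ = z * y * x := (mul_assoc _ _ _).symm
      _ = y * z * x := by rw [hz y]
      _ = y * (z * x) := mul_assoc _ _ _

/-- normalization of a subgroup with a non-normal unipotent centralizer -/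
theorem exists_normalize (X : Subgroup SL2) (hZX : Subgroup.center SL2 ≤ X) {x : X}
    (hx : x ∉ ZZ X.subtype) (hU : UU X.subtype x)
    (hN : Subgroup.normalizer (M x : Set X) ≠ ⊤) :
    ∃ (θ : SL2 ≃* SL2) (x₁ : X) (ν₀ : F), ν₀ ≠ 0 ∧ θ (x₁ : SL2) = tt 1 ∧ M x₁ = M x ∧
      ss ν₀ ∈ X.map θ.toMonoidHom := by
  obtain ⟨c, hc⟩ := exists_conj_upper ((x : SL2)) hU
  set a : SL2 := c * (x : SL2) * c⁻¹ with ha
  have htr : tr2 a ^ 2 = 4 := by rw [ha, tr2_conj]; exact hU
  have hd := diag_eq_of_upper a hc htr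
  have hdet := det2 a
  rw [hc, ← hd] at hdet
  have hsq : (a 0 0 - 1) * (a 0 0 + 1) = 0 := by linear_combination hdet
  have hxne := ne_of_not_mem_ZZ hx
  have hb : a 0 1 ≠ 0 := by
    intro h0
    have hcases : a = 1 ∨ a = -1 := by
      rcases mul_eq_zero.mp hsq with h | h
      · left
        apply ext2 <;> simp only [one00, one01, one10, one11]
        · linear_combination h
        · exact h0
        · exact hc
        · rw [← hd]; linear_combination h
      · right
        apply ext2 <;> simp only [neg00, neg01, neg10, neg11, one00, one01, one10, one11]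
        · linear_combination h
        · rw [h0]; ring
        · rw [hc]; ring
        · rw [← hd]; linear_combination h
    have hx' : (x : SL2) = c⁻¹ * a * c := by rw [ha]; group
    rcases hcases with h | h
    · apply hxne.1
      show (x : SL2) = 1
      rw [hx', h]; group
    · apply hxne.2
      show (x : SL2) = -1
      rw [hx', h]
      have hcen := Subgroup.mem_center_iff.mp (neg_one_mem_center (F := F))
      calc c⁻¹ * (-1 : SL2) * c = c⁻¹ * ((-1 : SL2) * c) := mul_assoc _ _ _
        _ = c⁻¹ * (c * (-1 : SL2)) := by rw [hcen c]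
        _ = -1 := by group
  rcases mul_eq_zero.mp hsq with h | h
  · have hat : a = tt (a 0 1) := by
      apply ext2 <;> simp only [tt00, tt01, tt10, tt11]
      · linear_combination h
      · exact hc
      · rw [← hd]; linear_combination h
    obtain ⟨θ, ν₀, hν₀, h1, h2⟩ := exists_normalize_aux X x c (a 0 1) hb hat hN
    exact ⟨θ, x, ν₀, hν₀, h1, rfl, h2⟩
  · set z : X := ⟨-1, hZX neg_one_mem_center⟩ with hz
    have hzc : ∀ g : X, z * g = g * z := by
      intro g
      apply Subtype.ext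
      have hcen := Subgroup.mem_center_iff.mp (neg_one_mem_center (F := F))
      exact (hcen (g : SL2)).symm
    have hM : M (z * x) = M x := M_central_mul z x hzc
    have hat : c * ((z * x : X) : SL2) * c⁻¹ = tt (-(a 0 1)) := by
      have e1 : ((z * x : X) : SL2) = (-1 : SL2) * (x : SL2) := rfl
      have hcen := Subgroup.mem_center_iff.mp (neg_one_mem_center (F := F))
      have e2 : c * ((-1 : SL2) * (x : SL2)) * c⁻¹ = (-1 : SL2) * a := by
        calc c * ((-1 : SL2) * (x : SL2)) * c⁻¹ = (c * (-1 : SL2)) * (x : SL2) * c⁻¹ := by group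
          _ = ((-1 : SL2) * c) * (x : SL2) * c⁻¹ := by rw [hcen c]
          _ = (-1 : SL2) * a := by rw [ha]; group
      rw [e1, e2, ← neg_eq_neg_one_mul]
      apply ext2 <;> simp only [neg00, neg01, neg10, neg11, tt00, tt01, tt10, tt11]
      · linear_combination -h
      · rw [hc]; ring
      · rw [← hd]; linear_combination -h
    have hN' : Subgroup.normalizer (M (z * x) : Set X) ≠ ⊤ := by rw [hM]; exact hN
    obtain ⟨θ, ν₀, hν₀, h1, h2⟩ := exists_normalize_aux X (z * x) c (-(a 0 1))
      (neg_ne_zero.mpr hb) hat hN'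
    exact ⟨θ, z * x, ν₀, hν₀, h1, hM, h2⟩

end normalize

end Cfsg.Agent.Lib.Helper14.Dk
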