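import Mathlib
import Cfsg.Agent.Lib.Helper14.DkIsoE
import Cfsg.Agent.Lib.Helper14.DkIsoB2
import Cfsg.Agent.Lib.Helper14.DkMain2

set_option autoImplicit false

namespace Cfsg.Agent.Lib.Helper14.Dk

open Cfsg.Agent.Lib.Helper2.SL2 Cfsg.Agent.Lib.Helper2.Dk

section

variable {F : Type*} [Field F] [Fintype F]

local notation "SL2" => Matrix.SpecialLinearGroup (Fin 2) F
local notation "PSL2" => Matrix.ProjectiveSpecialLinearGroup (Fin 2) F

theorem card_pow_of_ringHom {K : Type*} [Field K] [Fintype K] (f : K →+* F) :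
    ∃ m, Fintype.card K ^ m = Fintype.card F := by
  letI := f.toAlgebra
  exact ⟨Module.finrank K F, (Module.card_eq_pow_finrank).symm⟩

/-- an automorphism preserves the center -/
theorem equiv_mem_center_iff {G : Type*} [Group G] (θ : G ≃* G) (z : G) :
    θ z ∈ Subgroup.center G ↔ z ∈ Subgroup.center G := by
  rw [Subgroup.mem_center_iff, Subgroup.mem_center_iff]
  constructor
  · intro h g
    apply θ.injective
    rw [map_mul, map_mul]
    exact h (θ g)
  · intro h g
    have := h (θ.symm g)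
    have h2 := congrArg θ this
    rwa [map_mul, map_mul, θ.apply_symm_apply] at h2

/-- transport along an automorphism of `SL₂` -/
theorem map_mk_equiv_of_aut (X : Subgroup SL2) (θ : SL2 ≃* SL2) :
    Nonempty (↥(X.map (QuotientGroup.mk' (Subgroup.center SL2))) ≃*
      ↥((X.map θ.toMonoidHom).map (QuotientGroup.mk' (Subgroup.center SL2)))) := by
  set f₁ : ↥X →* PSL2 := (QuotientGroup.mk' (Subgroup.center SL2)).comp X.subtype with hf₁
  set f₂ : ↥X →* PSL2 := (QuotientGroup.mk' (Subgroup.center SL2)).comp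
    (θ.toMonoidHom.comp X.subtype) with hf₂
  have hk : f₁.ker = f₂.ker := by
    ext g
    rw [hf₁, hf₂, MonoidHom.mem_ker, MonoidHom.mem_ker, MonoidHom.comp_apply,
      MonoidHom.comp_apply, ← MonoidHom.mem_ker, ← MonoidHom.mem_ker (f := QuotientGroup.mk' _),
      QuotientGroup.ker_mk']
    exact (equiv_mem_center_iff θ _).symm
  obtain ⟨e⟩ := range_equiv_of_ker_eq f₁ f₂ hk
  have hr₁ : f₁.range = X.map (QuotientGroup.mk' (Subgroup.center SL2)) := by
    rw [hf₁, MonoidHom.range_comp, Subgroup.range_subtype]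
  have hr₂ : f₂.range = (X.map θ.toMonoidHom).map (QuotientGroup.mk' (Subgroup.center SL2)) := by
    rw [hf₂, MonoidHom.range_comp, MonoidHom.range_comp, Subgroup.range_subtype]
  exact ⟨(MulEquiv.subgroupCongr hr₁).symm.trans (e.trans (MulEquiv.subgroupCongr hr₂))⟩

/-- the subfield subgroups -/
theorem type_psl (p : ℕ) [Fact p.Prime] [CharP F p] (X : Subgroup SL2)
    (hZX : Subgroup.center SL2 ≤ X) (h : IsPSL (ZZ X.subtype) (UU X.subtype)) :
    Nonempty (↥(X.map (QuotientGroup.mk' (Subgroup.center SL2))) ≃* alternatingGroup (Fin 5)) ∨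
    ∃ (K : Type) (_ : Field K) (_ : Fintype K) (m : ℕ), Fintype.card K ^ m = Fintype.card F ∧
      (Nonempty (↥(X.map (QuotientGroup.mk' (Subgroup.center SL2))) ≃*
          Matrix.ProjectiveSpecialLinearGroup (Fin 2) K) ∨
        Nonempty (↥(X.map (QuotientGroup.mk' (Subgroup.center SL2))) ≃*
          Matrix.ProjGenLinGroup (Fin 2) K)) := by
  classical
  have hpp : p.Prime := Fact.out
  have hτ : Function.Injective X.subtype := X.subtype_injective
  have D := data_of_rep p X.subtype hτ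
  obtain ⟨k, q₀, g₂, g, hcard, hk2, hUni, hP, hT1, hT2, hTin⟩ := h
  have hZpos : 0 < Nat.card (ZZ X.subtype) := Nat.card_pos
  obtain ⟨e₀⟩ := map_mk_equiv X
  -- the exceptional case
  by_cases hex : q₀ = 3 ∧ k = 2 ∧ g₂ = 5 ∧ g = 60
  · left
    obtain ⟨-, -, h5, h60⟩ := hex
    obtain ⟨y, hy, hUy, hee, haa⟩ := hT2
    rw [h5] at haa
    rw [h60] at hcard
    have hnn : nn y ≠ 1 := by
      intro h1
      have := nn_mul_ee_mul_aa y
      rw [h1, hee, haa, hcard] at this
      have : Nat.card (ZZ X.subtype) * 10 = Nat.card (ZZ X.subtype) * 60 := by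
        rw [← this]; ring
      omega
    obtain ⟨e⟩ := iso_A5 (ZZ X.subtype) hcard y (D.toCT.Z_le_M y) haa hnn
    exact ⟨e₀.trans e⟩
  right
  -- the number of Sylow subgroups
  obtain ⟨⟨x, hx, hU⟩, hall⟩ := hUni
  obtain ⟨hee, haa⟩ := hall x hx hU
  have hq₀pos : 0 < q₀ := by
    rcases Nat.eq_zero_or_pos q₀ with h | h
    · rw [h, mul_zero] at haa
      have := aa_pos x
      omega
    · exact h
  have hnn : nn x = q₀ + 1 := by
    have h1 := nn_mul_ee_mul_aa x
    rw [hee, haa, hcard] at h1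
    have h2 : nn x * k * q₀ = g := by
      have : Nat.card (ZZ X.subtype) * (nn x * k * q₀) = Nat.card (ZZ X.subtype) * g := by
        rw [← h1]; ring
      exact Nat.eq_of_mul_eq_mul_left hZpos this
    have hkpos : 0 < k := by omega
    rcases hP with ⟨h1, h2', h3⟩ | ⟨h1, h2', h3⟩ | ⟨h1, h2', h3, h4⟩
    · rw [h3, h2'] at h2
      have : (k * q₀) * nn x = (k * q₀) * (q₀ + 1) := by
        have e1 : (k * q₀) * nn x = nn x * k * q₀ := by ring
        rw [e1, h2]; ring
      exact Nat.eq_of_mul_eq_mul_left (Nat.mul_pos hkpos hq₀pos) this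
    · rw [h3] at h2
      have : (k * q₀) * nn x = (k * q₀) * (q₀ + 1) := by
        have e1 : (k * q₀) * nn x = nn x * k * q₀ := by ring
        rw [e1, h2, ← h2']; ring
      exact Nat.eq_of_mul_eq_mul_left (Nat.mul_pos hkpos hq₀pos) this
    · exact absurd ⟨h1, h2', h3, h4⟩ hex
  have hN : Subgroup.normalizer (M x : Set X) ≠ ⊤ := by
    intro htop
    have : nn x = 1 := by unfold nn; rw [htop, Subgroup.index_top]
    omega
  -- normalization
  obtain ⟨θ, x₁, ν₀, hν₀, hθx₁, hM, hss⟩ := exists_normalize X hZX hx hU hN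
  set L := X.map θ.toMonoidHom with hL
  have hL1 : tt 1 ∈ L := ⟨x₁, x₁.2, hθx₁⟩
  have hZL : Subgroup.center SL2 ≤ L := by
    intro z hz
    refine ⟨θ.symm z, hZX ?_, by simp⟩
    rw [← equiv_mem_center_iff θ]
    simpa using hz
  obtain ⟨e, he⟩ : ∃ e : ↥X ≃* ↥L, ∀ y : X, ((e y : L) : SL2) = θ (y : SL2) :=
    ⟨θ.subgroupMap X, fun y => rfl⟩
  have hex₁ : e x₁ = (⟨tt 1, hL1⟩ : L) := Subtype.ext ((he x₁).trans hθx₁)
  have hZc : Nat.card (ZZ L.subtype) = Nat.card (ZZ X.subtype) := by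
    rw [card_ZZ_subtype L hZL, card_ZZ_subtype X hZX]
  have haa' : aa (⟨tt 1, hL1⟩ : L) = Nat.card (ZZ L.subtype) * q₀ := by
    rw [← hex₁, aa_equiv, hZc, ← haa]
    unfold aa; rw [hM]
  have hnn' : nn (⟨tt 1, hL1⟩ : L) = q₀ + 1 := by
    rw [← hex₁, nn_equiv, ← hnn]
    unfold nn; rw [hM]
  have hA := hA_of_count p L hZL hL1 hν₀ hss q₀ haa' hnn'
  obtain ⟨E, hE, hEss⟩ := subfield_of_hA hA hν₀ hss hL1 p
  -- the abstract field
  haveI : Fintype E := Fintype.ofFinite E
  obtain ⟨n, -, hn⟩ := FiniteField.card E p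
  haveI : Fintype (GaloisField p n) := Fintype.ofFinite _
  have hcardK : Fintype.card (GaloisField p n) = Fintype.card E := by
    rw [hn, ← Nat.card_eq_fintype_card]
    exact GaloisField.card p n n.ne_zero
  have eK : GaloisField p n ≃+* E := FiniteField.ringEquivOfCardEq hcardK
  set f : GaloisField p n →+* F := E.subtype.comp (eK : GaloisField p n →+* E) with hf
  have hrange : ∀ μ : F, μ ∈ Set.range f ↔ μ ∈ E := by
    intro μ
    constructor
    · rintro ⟨a, rfl⟩
      exact (eK a).2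
    · intro hμ
      exact ⟨eK.symm ⟨μ, hμ⟩, by simp [hf]⟩
  have hT : ∀ μ : F, tt μ ∈ L ↔ μ ∈ Set.range f := fun μ => by rw [hrange, hE]
  have hss' : ∀ μ : GaloisField p n, ss (f μ) ∈ L :=
    fun μ => hEss _ ((hrange _).mp ⟨μ, rfl⟩)
  have hle : (Matrix.SpecialLinearGroup.map (n := Fin 2) f).range ≤ L :=
    range_mapSL_le f L (fun μ => ⟨(hT _).mpr ⟨μ, rfl⟩, hss' μ⟩)
  have hfac := exists_factor f L hT hss' hA
  obtain ⟨m, hm⟩ := card_pow_of_ringHom (F := F) f
  obtain ⟨e₁⟩ := map_mk_equiv_of_aut X θ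
  refine ⟨GaloisField p n, inferInstance, inferInstance, m, hm, ?_⟩
  by_cases hall' : ∀ g ∈ L, g ∈ (Matrix.SpecialLinearGroup.map (n := Fin 2) f).range
  · left
    have hLeq : L = (Matrix.SpecialLinearGroup.map (n := Fin 2) f).range :=
      le_antisymm hall' hle
    obtain ⟨e₂⟩ := map_mk_range_equiv f
    exact ⟨e₁.trans ((MulEquiv.subgroupCongr (by rw [← hLeq])).trans e₂)⟩
  · right
    push Not at hall'
    obtain ⟨g₀, hg₀L, hg₀⟩ := hall'
    obtain ⟨h₀, a, ha, ha2, rfl⟩ := hfac g₀ hg₀L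
    have hanr : a ∉ Set.range f := by
      rintro ⟨e', rfl⟩
      apply hg₀
      have he'0 : e' ≠ 0 := by
        rintro rfl
        exact ha (map_zero f)
      rw [← mapSL_dd f e' he'0, ← map_mul]
      exact ⟨_, rfl⟩
    have hdL : dd a ha ∈ L := by
      have h1 : Matrix.SpecialLinearGroup.map (n := Fin 2) f h₀ ∈ L := hle ⟨_, rfl⟩
      have := L.mul_mem (L.inv_mem h1) hg₀L
      rwa [inv_mul_cancel_left] at this
    have hK2 : ringChar (GaloisField p n) ≠ 2 := by
      intro h2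
      haveI : CharP (GaloisField p n) 2 := ringChar.of_eq h2
      haveI : CharP F 2 := charP_of_injective_ringHom f.injective 2
      apply hanr
      obtain ⟨ε, hε⟩ := ha2
      have hinj := frobenius_inj (GaloisField p n) 2
      obtain ⟨e', he'⟩ := Finite.surjective_of_injective hinj ε
      have he'' : e' ^ 2 = ε := he'
      refine ⟨e', ?_⟩
      have h3 : (a + f e') ^ 2 = 0 := by
        rw [add_pow_char, ← map_pow, he'', hε]
        exact CharTwo.add_self_eq_zero _
      have h4 : a + f e' = 0 := pow_eq_zero_iff (two_ne_zero) |>.mp h3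
      have h5 : a = -f e' := eq_neg_of_add_eq_zero_left h4
      rw [h5, CharTwo.neg_eq]
    obtain ⟨e₂⟩ := map_mk_equiv_pgl f hK2 L hle hfac a ha hanr ha2 hdL
    exact ⟨e₁.trans e₂⟩

end

end Cfsg.Agent.Lib.Helper14.Dk
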