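import Mathlib
import Cfsg.Agent.Lib.Helper14.DkIsoF

set_option autoImplicit false

/-!
# Dickson's theorem with isomorphism types
-/

namespace Cfsg.Agent.Lib.Helper14.Dk

open Cfsg.Agent.Lib.Helper2.SL2 Cfsg.Agent.Lib.Helper2.Dk

section

variable {F : Type*} [Field F] [Fintype F]

local notation "SL2" => Matrix.SpecialLinearGroup (Fin 2) F
local notation "PSL2" => Matrix.ProjectiveSpecialLinearGroup (Fin 2) F

theorem nn_of_card {G : Type*} [Group G] [Finite G] (Z : Subgroup G) (y : G) (n e a N : ℕ)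
    (hcard : Nat.card G = Nat.card Z * N) (hee : ee y = e) (haa : aa y = Nat.card Z * a)
    (hN : N = n * (e * a)) (hpos : 0 < e * a) : nn y = n := by
  have h1 := nn_mul_ee_mul_aa y
  rw [hee, haa, hcard, hN] at h1
  have hZ : 0 < Nat.card Z := Nat.card_pos
  have : (Nat.card Z * (e * a)) * nn y = (Nat.card Z * (e * a)) * n := by
    have e1 : (Nat.card Z * (e * a)) * nn y = nn y * e * (Nat.card Z * a) := by ring
    rw [e1, h1]; ring
  exact Nat.eq_of_mul_eq_mul_left (Nat.mul_pos hZ hpos) this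

theorem type_A4 (p : ℕ) [Fact p.Prime] [CharP F p] (X : Subgroup SL2)
    (h : IsA4 (ZZ X.subtype) (UU X.subtype)) :
    Nonempty (↥(X.map (QuotientGroup.mk' (Subgroup.center SL2))) ≃* alternatingGroup (Fin 4)) := by
  have hτ : Function.Injective X.subtype := X.subtype_injective
  have D := data_of_rep p X.subtype hτ
  obtain ⟨e₀⟩ := map_mk_equiv X
  obtain ⟨hcard, hrest⟩ := h
  obtain ⟨y, hee, haa⟩ : ∃ y : X, ee y = 1 ∧ aa y = Nat.card (ZZ X.subtype) * 3 := by
    rcases hrest with ⟨-, ⟨y, -, -, hee, haa⟩, -, -⟩ | ⟨⟨⟨y, hy, hUy⟩, hall⟩, -, -⟩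
    · exact ⟨y, hee, haa⟩
    · exact ⟨y, hall y hy hUy⟩
  have hnn : nn y = 4 := nn_of_card (ZZ X.subtype) y 4 1 3 12 hcard hee haa (by norm_num)
    (by norm_num)
  obtain ⟨e⟩ := iso_A4 (ZZ X.subtype) hcard y (D.toCT.Z_le_M y) haa hnn
  exact ⟨e₀.trans e⟩

theorem type_S4 (p : ℕ) [Fact p.Prime] [CharP F p] (X : Subgroup SL2)
    (h : IsS4 (ZZ X.subtype) (UU X.subtype)) :
    Nonempty (↥(X.map (QuotientGroup.mk' (Subgroup.center SL2))) ≃* Equiv.Perm (Fin 4)) := by
  have hτ : Function.Injective X.subtype := X.subtype_injective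
  have D := data_of_rep p X.subtype hτ
  obtain ⟨e₀⟩ := map_mk_equiv X
  obtain ⟨hcard, -, -, ⟨y, hy, hUy, hee, haa⟩, -, -⟩ := h
  have hnn : nn y = 4 := nn_of_card (ZZ X.subtype) y 4 2 3 24 hcard hee haa (by norm_num)
    (by norm_num)
  obtain ⟨e⟩ := iso_S4 (ZZ X.subtype) hcard y (D.toCT.Z_le_M y) haa hnn
    (fun s hs hsM g hg hgZ => D.tor_inv hy hUy hs hsM hg hgZ)
  exact ⟨e₀.trans e⟩

theorem type_A5 (p : ℕ) [Fact p.Prime] [CharP F p] (X : Subgroup SL2)
    (h : IsA5 (ZZ X.subtype) (UU X.subtype)) :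
    Nonempty (↥(X.map (QuotientGroup.mk' (Subgroup.center SL2))) ≃* alternatingGroup (Fin 5)) := by
  have hτ : Function.Injective X.subtype := X.subtype_injective
  have D := data_of_rep p X.subtype hτ
  obtain ⟨e₀⟩ := map_mk_equiv X
  obtain ⟨hcard, -, -, -, ⟨y, hy, hUy, hee, haa⟩, -⟩ := h
  have hnn : nn y = 6 := nn_of_card (ZZ X.subtype) y 6 2 5 60 hcard hee haa (by norm_num)
    (by norm_num)
  obtain ⟨e⟩ := iso_A5 (ZZ X.subtype) hcard y (D.toCT.Z_le_M y) haa (by omega)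
  exact ⟨e₀.trans e⟩

/-- **Dickson's theorem** -/
theorem dickson_types (p : ℕ) [Fact p.Prime] [CharP F p] (H : Subgroup PSL2) :
    (∃ k : ℕ, (k ∣ (Fintype.card F + 1) / Nat.gcd 2 (Fintype.card F - 1) ∨
        k ∣ (Fintype.card F - 1) / Nat.gcd 2 (Fintype.card F - 1)) ∧
      ((IsCyclic H ∧ Nat.card H = k) ∨ Nonempty (H ≃* DihedralGroup k))) ∨
    (∃ (P : Sylow p PSL2) (K : Subgroup PSL2),
      K ≤ Subgroup.normalizer ((P : Subgroup PSL2) : Set PSL2) ∧ Nonempty (H ≃* K)) ∨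
    Nonempty (H ≃* alternatingGroup (Fin 4)) ∨ Nonempty (H ≃* Equiv.Perm (Fin 4)) ∨
    Nonempty (H ≃* alternatingGroup (Fin 5)) ∨
    (∃ (K : Type) (_ : Field K) (_ : Fintype K) (m : ℕ), Fintype.card K ^ m = Fintype.card F ∧
      (Nonempty (H ≃* Matrix.ProjectiveSpecialLinearGroup (Fin 2) K) ∨
        Nonempty (H ≃* Matrix.ProjGenLinGroup (Fin 2) K))) := by
  obtain ⟨X, hZX, rfl⟩ : ∃ X : Subgroup SL2, Subgroup.center SL2 ≤ X ∧
      X.map (QuotientGroup.mk' (Subgroup.center SL2)) = H :=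
    ⟨H.comap (QuotientGroup.mk' (Subgroup.center SL2)), by
      intro z hz
      rw [Subgroup.mem_comap]
      have : (QuotientGroup.mk' (Subgroup.center SL2)) z = 1 := by
        rw [← MonoidHom.mem_ker, QuotientGroup.ker_mk']; exact hz
      rw [this]; exact Subgroup.one_mem _, map_comap_mk H⟩
  have hτ : Function.Injective X.subtype := X.subtype_injective
  have D := data_of_rep p X.subtype hτ
  rcases D.main with h | h | h | h | h | h | h | h
  · left
    obtain ⟨h1, h2⟩ := type_central X h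
    exact ⟨1, Or.inl (one_dvd _), Or.inl ⟨h1, h2⟩⟩
  · left
    obtain ⟨x, hx, hU, hM⟩ := h
    obtain ⟨k, hk, h1, h2⟩ := type_cyclic p X hZX hx hU hM
    exact ⟨k, hk, Or.inl ⟨h1, h2⟩⟩
  · right; left
    obtain ⟨x, hx, hU, hN⟩ := h
    obtain ⟨P, hP⟩ := type_borel p X hx hU hN
    exact ⟨P, _, hP, ⟨MulEquiv.refl _⟩⟩
  · left
    obtain ⟨x, hx, hU, hnn, hee⟩ := h
    obtain ⟨k, hk, h1⟩ := type_dihedral p X hZX hx hU hnn hee
    exact ⟨k, hk, Or.inr h1⟩
  · right; right; left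
    exact type_A4 p X h
  · right; right; right; left
    exact type_S4 p X h
  · right; right; right; right; left
    exact type_A5 p X h
  · rcases type_psl p X hZX h with h1 | h1
    · right; right; right; right; left
      exact h1
    · right; right; right; right; right
      exact h1

end

end Cfsg.Agent.Lib.Helper14.Dk
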