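import Mathlib

set_option autoImplicit false

/-! Abstract facts on groups of order 27 and on normalizers of finite subgroups. -/

namespace Cfsg.Agent.Lib.Helper14.Es3

theorem comm_of_card_dvd_nine {H : Type*} [Group H] (h : Nat.card H ∣ 9) (x y : H) :
    x * y = y * x := by
  have hmem : Nat.card H ∈ Nat.divisors 9 := Nat.mem_divisors.mpr ⟨h, by norm_num⟩
  have hd : Nat.divisors 9 = {1, 3, 9} := by decide
  rw [hd] at hmem
  simp only [Finset.mem_insert, Finset.mem_singleton] at hmem
  rcases hmem with h1 | h3 | h9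
  · have := (Nat.card_eq_one_iff_unique.mp h1).1
    exact Subsingleton.elim _ _
  · haveI : Fact (Nat.Prime 3) := ⟨by norm_num⟩
    haveI := isCyclic_of_prime_card (α := H) (p := 3) h3
    exact (IsCyclic.isMulCommutative (α := H)).is_comm.comm x y
  · haveI : Fact (Nat.Prime 3) := ⟨by norm_num⟩
    exact (IsPGroup.isMulCommutative_of_card_eq_prime_sq (p := 3) (G := H) (by rw [h9]; norm_num)).is_comm.comm x y

theorem commutator_mem_center {G : Type*} [Group G] (h : Nat.card G = 27) (a b : G) :
    a * b * a⁻¹ * b⁻¹ ∈ Subgroup.center G := by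
  haveI : Fact (Nat.Prime 3) := ⟨by norm_num⟩
  haveI : Finite G := Nat.finite_of_card_ne_zero (by rw [h]; norm_num)
  haveI : Nontrivial G := by
    rw [← Finite.one_lt_card_iff_nontrivial, h]; norm_num
  have hp : IsPGroup 3 G := IsPGroup.of_card (n := 3) (by rw [h]; norm_num)
  haveI := hp.center_nontrivial
  have hZ1 : 1 < Nat.card (Subgroup.center G) := Finite.one_lt_card
  have hmul := Subgroup.card_mul_index (Subgroup.center G)
  rw [h] at hmul
  have hidx : (Subgroup.center G).index ∣ 9 := by
    have hdvd : (Subgroup.center G).index ∣ 27 := ⟨_, by rw [mul_comm]; exact hmul.symm⟩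
    have hmem : (Subgroup.center G).index ∈ Nat.divisors 27 :=
      Nat.mem_divisors.mpr ⟨hdvd, by norm_num⟩
    have hd : Nat.divisors 27 = {1, 3, 9, 27} := by decide
    rw [hd] at hmem
    simp only [Finset.mem_insert, Finset.mem_singleton] at hmem
    rcases hmem with h1 | h3 | h9 | h27
    · rw [h1]; norm_num
    · rw [h3]; norm_num
    · rw [h9]
    · rw [h27] at hmul
      have : Nat.card (Subgroup.center G) = 1 := by omega
      omega
  have hq : Nat.card (G ⧸ Subgroup.center G) ∣ 9 := by
    rw [← Subgroup.index_eq_card]; exact hidx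
  have hc := comm_of_card_dvd_nine hq
  rw [← QuotientGroup.eq_one_iff]
  have h1 : ((a * b * a⁻¹ * b⁻¹ : G) : G ⧸ Subgroup.center G) =
      (a : G ⧸ Subgroup.center G) * b * (a : G ⧸ Subgroup.center G)⁻¹ * (b : G ⧸ Subgroup.center G)⁻¹ := by
    simp
  rw [h1, hc (a : G ⧸ Subgroup.center G) b]
  group

/-- in a subgroup of order 27 commutators commute with everything in the subgroup -/
theorem commutator_comm {G : Type*} [Group G] (R : Subgroup G) (h : Nat.card R = 27)
    {a b g : G} (ha : a ∈ R) (hb : b ∈ R) (hg : g ∈ R) :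
    g * (a * b * a⁻¹ * b⁻¹) = (a * b * a⁻¹ * b⁻¹) * g := by
  have h1 := commutator_mem_center (G := R) h ⟨a, ha⟩ ⟨b, hb⟩
  rw [Subgroup.mem_center_iff] at h1
  have h2 := h1 ⟨g, hg⟩
  exact congrArg Subtype.val h2

/-- a non-commuting pair generates a subgroup of order 27 -/
theorem closure_pair_eq {G : Type*} [Group G] (R : Subgroup G) (h : Nat.card R = 27)
    {a b : G} (ha : a ∈ R) (hb : b ∈ R) (hab : a * b ≠ b * a) :
    Subgroup.closure {a, b} = R := by
  haveI : Finite R := Nat.finite_of_card_ne_zero (by rw [h]; norm_num)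
  have hle : Subgroup.closure {a, b} ≤ R := by
    rw [Subgroup.closure_le]
    intro x hx
    rcases hx with rfl | rfl
    · exact ha
    · exact hb
  apply Subgroup.eq_of_le_of_card_ge hle
  have hdvd := Subgroup.card_dvd_of_le hle
  rw [h] at hdvd ⊢
  have hmem : Nat.card (Subgroup.closure {a, b}) ∈ Nat.divisors 27 :=
    Nat.mem_divisors.mpr ⟨hdvd, by norm_num⟩
  have hd : Nat.divisors 27 = {1, 3, 9, 27} := by decide
  rw [hd] at hmem
  simp only [Finset.mem_insert, Finset.mem_singleton] at hmem
  have hnot : ¬ Nat.card (Subgroup.closure {a, b}) ∣ 9 := by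
    intro h9
    have hc := comm_of_card_dvd_nine h9
      ⟨a, Subgroup.subset_closure (by simp)⟩ ⟨b, Subgroup.subset_closure (by simp)⟩
    exact hab (congrArg Subtype.val hc)
  rcases hmem with h1 | h3 | h9 | h27
  · exact absurd (by rw [h1]; norm_num) hnot
  · exact absurd (by rw [h3]; norm_num) hnot
  · exact absurd (by rw [h9]) hnot
  · rw [h27]

/-- for a finite subgroup, mapping it into itself suffices for normalizing -/
theorem mem_normalizer_of_forall {G : Type*} [Group G] (R : Subgroup G) [Finite R] (n : G)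
    (h : ∀ g ∈ R, n * g * n⁻¹ ∈ R) : n ∈ Subgroup.normalizer (R : Set G) := by
  rw [Subgroup.mem_normalizer_iff]
  intro g
  refine ⟨h g, fun hg => ?_⟩
  let φ : R → R := fun x => ⟨n * x.1 * n⁻¹, h x.1 x.2⟩
  have hinj : Function.Injective φ := by
    intro x y hxy
    have := congrArg Subtype.val hxy
    simp only [φ] at this
    apply Subtype.ext
    exact mul_left_cancel (mul_right_cancel this)
  have hsurj := Finite.surjective_of_injective hinj
  obtain ⟨x, hx⟩ := hsurj ⟨n * g * n⁻¹, hg⟩
  have := congrArg Subtype.val hx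
  simp only [φ] at this
  have hxg : x.1 = g := mul_left_cancel (mul_right_cancel this)
  rw [← hxg]
  exact x.2

/-- normalizing a finite subgroup generated by two elements -/
theorem mem_normalizer_of_pair {G : Type*} [Group G] (R : Subgroup G) [Finite R] {a b : G}
    (hR : Subgroup.closure {a, b} = R) (n : G)
    (ha : n * a * n⁻¹ ∈ R) (hb : n * b * n⁻¹ ∈ R) : n ∈ Subgroup.normalizer (R : Set G) := by
  apply mem_normalizer_of_forall
  intro g hg
  rw [← hR] at hg
  induction hg using Subgroup.closure_induction with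
  | mem x hx =>
    rcases hx with rfl | rfl
    · exact ha
    · exact hb
  | one => simp
  | mul x y _ _ hx hy =>
    have : n * (x * y) * n⁻¹ = (n * x * n⁻¹) * (n * y * n⁻¹) := by group
    rw [this]
    exact R.mul_mem hx hy
  | inv x _ hx =>
    have : n * x⁻¹ * n⁻¹ = (n * x * n⁻¹)⁻¹ := by group
    rw [this]
    exact R.inv_mem hx

/-- transfer of normalizers along conjugation -/
theorem conj_mem_normalizer_map {G : Type*} [Group G] (R₀ : Subgroup G) (P n : G)
    (hn : n ∈ Subgroup.normalizer (R₀ : Set G)) :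
    P * n * P⁻¹ ∈ Subgroup.normalizer
      ((R₀.map (MulAut.conj P).toMonoidHom : Subgroup G) : Set G) := by
  rw [← Subgroup.map_equiv_normalizer_eq]
  exact ⟨n, hn, by simp [MulAut.conj_apply]⟩

theorem mem_normalizer_of_conj_map {G : Type*} [Group G] (R₀ : Subgroup G) (P n : G)
    (hn : n ∈ Subgroup.normalizer
      ((R₀.map (MulAut.conj P).toMonoidHom : Subgroup G) : Set G)) :
    P⁻¹ * n * P ∈ Subgroup.normalizer (R₀ : Set G) := by
  rw [← Subgroup.map_equiv_normalizer_eq] at hn
  obtain ⟨m, hm, hmn⟩ := hn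
  have : n = P * m * P⁻¹ := by rw [← hmn]; simp [MulAut.conj_apply]
  rw [this]
  have : P⁻¹ * (P * m * P⁻¹) * P = m := by group
  rw [this]
  exact hm

end Cfsg.Agent.Lib.Helper14.Es3
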