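import Mathlib
import Cfsg.Agent.Lib.Helper14.Es3Group

set_option autoImplicit false

/-! The standard extraspecial group of order 27 inside `GL₃(F)` and elements normalizing it. -/

namespace Cfsg.Agent.Lib.Helper14.Es3

open Matrix

variable {F : Type*} [Field F]

def S3 : Matrix (Fin 3) (Fin 3) F := !![0,0,1; 1,0,0; 0,1,0]
def dg (a b c : F) : Matrix (Fin 3) (Fin 3) F := !![a,0,0; 0,b,0; 0,0,c]
def W3 : Matrix (Fin 3) (Fin 3) F := !![-1,0,0; 0,0,-1; 0,-1,0]

theorem S3_cube : (S3 : Matrix (Fin 3) (Fin 3) F) * (S3 * S3) = 1 := by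
  ext i j; fin_cases i <;> fin_cases j <;> simp [S3, Matrix.mul_apply, Fin.sum_univ_three]

theorem S3_cube' : (S3 : Matrix (Fin 3) (Fin 3) F) * S3 * S3 = 1 := by
  rw [Matrix.mul_assoc]; exact S3_cube

theorem dg_mul (a b c a' b' c' : F) : dg a b c * dg a' b' c' = dg (a*a') (b*b') (c*c') := by
  ext i j; fin_cases i <;> fin_cases j <;> simp [dg, Matrix.mul_apply, Fin.sum_univ_three]

theorem dg_one : dg (1 : F) 1 1 = 1 := by
  ext i j; fin_cases i <;> fin_cases j <;> simp [dg]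

theorem dg_S3 (a b c : F) : dg a b c * S3 = S3 * dg b c a := by
  ext i j; fin_cases i <;> fin_cases j <;> simp [dg, S3, Matrix.mul_apply, Fin.sum_univ_three]

theorem W3_S3 : (W3 : Matrix (Fin 3) (Fin 3) F) * S3 = S3 * S3 * W3 := by
  ext i j; fin_cases i <;> fin_cases j <;> simp [W3, S3, Matrix.mul_apply, Fin.sum_univ_three]

theorem W3_W3 : (W3 : Matrix (Fin 3) (Fin 3) F) * W3 = 1 := by
  ext i j; fin_cases i <;> fin_cases j <;> simp [W3, Matrix.mul_apply, Fin.sum_univ_three]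

theorem W3_dg (a b c : F) : W3 * dg a b c = dg a c b * W3 := by
  ext i j; fin_cases i <;> fin_cases j <;> simp [W3, dg, Matrix.mul_apply, Fin.sum_univ_three]

theorem dg_scalar (z : F) : dg z z z = z • (1 : Matrix (Fin 3) (Fin 3) F) := by
  ext i j; fin_cases i <;> fin_cases j <;> simp [dg]

theorem det_dg (a b c : F) : (dg a b c).det = a * b * c := by
  simp [dg, Matrix.det_fin_three]

theorem det_S3 : (S3 : Matrix (Fin 3) (Fin 3) F).det = 1 := by
  simp [S3, Matrix.det_fin_three]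

theorem det_W3 : (W3 : Matrix (Fin 3) (Fin 3) F).det = 1 := by
  simp [W3, Matrix.det_fin_three]

theorem dg_inj {a b c a' b' c' : F} (h : dg a b c = dg a' b' c') : a = a' ∧ b = b' ∧ c = c' := by
  refine ⟨?_, ?_, ?_⟩
  · simpa [dg] using congrFun (congrFun h 0) 0
  · simpa [dg] using congrFun (congrFun h 1) 1
  · simpa [dg] using congrFun (congrFun h 2) 2

/-! ### the elements of `GL₃(F)` -/

def Sgl : GL (Fin 3) F := ⟨S3, S3 * S3, S3_cube, by rw [Matrix.mul_assoc]; exact S3_cube⟩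

def Wgl : GL (Fin 3) F := ⟨W3, W3, W3_W3, W3_W3⟩

def dgl (a b c : Fˣ) : GL (Fin 3) F :=
  ⟨dg (a : F) (b : F) (c : F), dg ((a⁻¹ : Fˣ) : F) ((b⁻¹ : Fˣ) : F) ((c⁻¹ : Fˣ) : F),
    by rw [dg_mul]; simp [dg_one], by rw [dg_mul]; simp [dg_one]⟩

@[simp] theorem Sgl_val : ((Sgl : GL (Fin 3) F) : Matrix (Fin 3) (Fin 3) F) = S3 := rfl
@[simp] theorem Wgl_val : ((Wgl : GL (Fin 3) F) : Matrix (Fin 3) (Fin 3) F) = W3 := rfl
@[simp] theorem dgl_val (a b c : Fˣ) :
    ((dgl a b c : GL (Fin 3) F) : Matrix (Fin 3) (Fin 3) F) = dg (a : F) (b : F) (c : F) := rfl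

theorem dgl_mul (a b c a' b' c' : Fˣ) :
    dgl a b c * dgl a' b' c' = dgl (a * a') (b * b') (c * c') := by
  apply Units.ext
  simp [dg_mul]

theorem dgl_one : dgl (1 : Fˣ) 1 1 = 1 := by
  apply Units.ext
  simp [dg_one]

theorem dgl_inv (a b c : Fˣ) : (dgl a b c)⁻¹ = dgl a⁻¹ b⁻¹ c⁻¹ :=
  inv_eq_of_mul_eq_one_right (by rw [dgl_mul]; simp [dgl_one])

theorem dgl_Sgl (a b c : Fˣ) : dgl a b c * Sgl = Sgl * dgl b c a := by
  apply Units.ext
  simp [dg_S3]

theorem Sgl_cube : (Sgl : GL (Fin 3) F) * Sgl * Sgl = 1 := by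
  apply Units.ext
  simp [S3_cube']

theorem Sgl_inv : (Sgl : GL (Fin 3) F)⁻¹ = Sgl * Sgl :=
  inv_eq_of_mul_eq_one_right (by rw [← mul_assoc]; exact Sgl_cube)

theorem Wgl_Sgl : (Wgl : GL (Fin 3) F) * Sgl = Sgl * Sgl * Wgl := by
  apply Units.ext
  simp [W3_S3]

theorem Wgl_Wgl : (Wgl : GL (Fin 3) F) * Wgl = 1 := by
  apply Units.ext
  simp [W3_W3]

theorem Wgl_inv : (Wgl : GL (Fin 3) F)⁻¹ = Wgl :=
  inv_eq_of_mul_eq_one_right Wgl_Wgl

theorem Wgl_dgl (a b c : Fˣ) : Wgl * dgl a b c = dgl a c b * Wgl := by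
  apply Units.ext
  simp [W3_dg]

/-- scalar matrices are central -/
theorem dgl_scalar_comm (z : Fˣ) (g : GL (Fin 3) F) : dgl z z z * g = g * dgl z z z := by
  apply Units.ext
  simp [dg_scalar]

theorem det_dgl (a b c : Fˣ) : Matrix.GeneralLinearGroup.det (dgl a b c) = a * b * c := by
  apply Units.ext
  simp [det_dg]

theorem det_Sgl : Matrix.GeneralLinearGroup.det (Sgl : GL (Fin 3) F) = 1 := by
  apply Units.ext
  simp [det_S3]

theorem det_Wgl : Matrix.GeneralLinearGroup.det (Wgl : GL (Fin 3) F) = 1 := by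
  apply Units.ext
  simp [det_W3]

/-! ### the standard group -/

/-- the standard extraspecial group of order 27 -/
def R0 (l : Fˣ) : Subgroup (GL (Fin 3) F) := Subgroup.closure {Sgl, dgl 1 l (l * l)}

theorem Sgl_mem (l : Fˣ) : Sgl ∈ R0 l := Subgroup.subset_closure (by simp)

theorem D_mem (l : Fˣ) : dgl 1 l (l * l) ∈ R0 l := Subgroup.subset_closure (by simp)

section prim

variable {l : Fˣ}

theorem cube_of_prim (hl : (1 : F) + l + l * l = 0) : l * l * l = 1 := by
  apply Units.ext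
  have : ((l : F) - 1) * (1 + l + l * l) = 0 := by rw [hl, mul_zero]
  push_cast
  linear_combination this

theorem ne_one_of_prim (h3 : (3 : F) ≠ 0) (hl : (1 : F) + l + l * l = 0) : l ≠ 1 := by
  rintro rfl
  apply h3
  simp only [Units.val_one, mul_one] at hl
  linear_combination hl

/-- the cube roots of unity -/
theorem cube_root_cases (hl : (1 : F) + l + l * l = 0) (a : Fˣ) (ha : a * a * a = 1) :
    a = 1 ∨ a = l ∨ a = l * l := by
  have h1 : ((a : F) - 1) * ((a : F) - l) * ((a : F) - l * l) = 0 := by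
    have ha' : (a : F) * a * a = 1 := by
      have := congrArg Units.val ha
      simpa using this
    have hl3 : (l : F) * l * l = 1 := by
      have := congrArg Units.val (cube_of_prim hl)
      simpa using this
    linear_combination ha' + ((a : F) - (a : F) ^ 2) * hl + ((a : F) - 1) * hl3
  rcases mul_eq_zero.mp h1 with h | h
  · rcases mul_eq_zero.mp h with h | h
    · left; apply Units.ext; simpa using sub_eq_zero.mp h
    · right; left; apply Units.ext; simpa using sub_eq_zero.mp h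
  · right; right; apply Units.ext; simpa using sub_eq_zero.mp h

end prim

end Cfsg.Agent.Lib.Helper14.Es3
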