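import Mathlib
import Cfsg.Agent.Lib.Helper14.Es3Mat

set_option autoImplicit false

/-! The action of `GL₃(F)` on column vectors and eigenvectors of elements of order three. -/

namespace Cfsg.Agent.Lib.Helper14.Es3

open Matrix

variable {F : Type*} [Field F]

/-- the action on column vectors -/
def act (g : GL (Fin 3) F) (v : Fin 3 → F) : Fin 3 → F := (g : Matrix (Fin 3) (Fin 3) F) *ᵥ v

theorem act_mul (g h : GL (Fin 3) F) (v : Fin 3 → F) : act (g * h) v = act g (act h v) := by
  unfold act
  rw [Units.val_mul, Matrix.mulVec_mulVec]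

theorem act_one (v : Fin 3 → F) : act (1 : GL (Fin 3) F) v = v := by
  unfold act
  rw [Units.val_one, Matrix.one_mulVec]

theorem act_add (g : GL (Fin 3) F) (v w : Fin 3 → F) : act g (v + w) = act g v + act g w := by
  unfold act
  rw [Matrix.mulVec_add]

theorem act_smul (g : GL (Fin 3) F) (z : F) (v : Fin 3 → F) : act g (z • v) = z • act g v := by
  unfold act
  rw [Matrix.mulVec_smul]

theorem act_zero (g : GL (Fin 3) F) : act g (0 : Fin 3 → F) = 0 := by
  unfold act
  rw [Matrix.mulVec_zero]

theorem act_inv_act (g : GL (Fin 3) F) (v : Fin 3 → F) : act g⁻¹ (act g v) = v := by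
  rw [← act_mul, inv_mul_cancel, act_one]

theorem act_ne_zero (g : GL (Fin 3) F) {v : Fin 3 → F} (hv : v ≠ 0) : act g v ≠ 0 := by
  intro h
  apply hv
  rw [← act_inv_act g v, h, act_zero]

theorem eq_one_of_act (g : GL (Fin 3) F) (h : ∀ v, act g v = v) : g = 1 := by
  apply Units.ext
  rw [Units.val_one]
  apply Matrix.toLin'.injective
  apply LinearMap.ext
  intro v
  rw [Matrix.toLin'_apply, Matrix.toLin'_one]
  exact h v

theorem act_cube {g : GL (Fin 3) F} (hg : g * g * g = 1) (v : Fin 3 → F) :
    act g (act g (act g v)) = v := by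
  rw [← act_mul, ← act_mul, hg, act_one]

/-- the three components of a vector under an element of order three -/
theorem eig_decomp {g : GL (Fin 3) F} (hg : g * g * g = 1) {w : Fˣ}
    (hw : (1 : F) + w + w * w = 0) (v : Fin 3 → F) :
    act g (v + act g v + act g (act g v)) = v + act g v + act g (act g v) ∧
    act g (v + ((w : F) * w) • act g v + (w : F) • act g (act g v))
      = (w : F) • (v + ((w : F) * w) • act g v + (w : F) • act g (act g v)) ∧
    act g (v + (w : F) • act g v + ((w : F) * w) • act g (act g v))
      = ((w : F) * w) • (v + (w : F) • act g v + ((w : F) * w) • act g (act g v)) ∧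
    (v + act g v + act g (act g v)) + (v + ((w : F) * w) • act g v + (w : F) • act g (act g v))
      + (v + (w : F) • act g v + ((w : F) * w) • act g (act g v)) = (3 : F) • v := by
  have h3 : (w : F) * w * w = 1 := by
    have := congrArg Units.val (cube_of_prim hw); simpa using this
  have hc := act_cube hg v
  refine ⟨?_, ?_, ?_, ?_⟩
  · rw [act_add, act_add, hc]; abel
  · rw [act_add, act_add, act_smul, act_smul, hc]
    ext i
    simp only [Pi.add_apply, Pi.smul_apply, smul_eq_mul]
    linear_combination (-(act g v i)) * h3
  · rw [act_add, act_add, act_smul, act_smul, hc]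
    ext i
    simp only [Pi.add_apply, Pi.smul_apply, smul_eq_mul]
    linear_combination (-(act g v i)) * h3 - (w:F) * (act g (act g v) i) * h3
  · ext i
    simp only [Pi.add_apply, Pi.smul_apply, smul_eq_mul]
    linear_combination (act g v i + act g (act g v) i) * hw

end Cfsg.Agent.Lib.Helper14.Es3
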