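import Mathlib
import Cfsg.Agent.Lib.Helper14.Es3Mat

set_option autoImplicit false

/-! The order of `SL₃(F)` and its `3`-part when `|F| ≡ 4, 7 (mod 9)`. -/

namespace Cfsg.Agent.Lib.Helper14.Es3

open Matrix

theorem not_81_dvd_aux : ∀ x : ZMod 81, (x.val % 9 = 3 ∨ x.val % 9 = 6) →
    x ^ 2 * (x + 1) ^ 3 * (x + 2) * (x ^ 2 + 3 * x + 3) ≠ 0 := by
  decide +kernel

theorem not_81_dvd (m : ℕ) (hm : m % 9 = 3 ∨ m % 9 = 6) :
    ¬ 81 ∣ m ^ 2 * (m + 1) ^ 3 * (m + 2) * (m ^ 2 + 3 * m + 3) := by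
  intro h
  have h1 : ((m ^ 2 * (m + 1) ^ 3 * (m + 2) * (m ^ 2 + 3 * m + 3) : ℕ) : ZMod 81) = 0 :=
    (ZMod.natCast_eq_zero_iff _ 81).mpr h
  push_cast at h1
  refine not_81_dvd_aux (m : ZMod 81) ?_ h1
  rw [ZMod.val_natCast, Nat.mod_mod_of_dvd m (by norm_num : 9 ∣ 81)]
  exact hm

variable {F : Type*} [Field F] [Fintype F]

theorem det_surjective : Function.Surjective (Matrix.GeneralLinearGroup.det : GL (Fin 3) F →* Fˣ) := by
  intro u
  refine ⟨dgl u 1 1, ?_⟩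
  rw [det_dgl, mul_one, mul_one]

theorem card_SL3 (m : ℕ) (hF : Fintype.card F = m + 1) (hm : 0 < m) :
    Nat.card ((Matrix.GeneralLinearGroup.det : GL (Fin 3) F →* Fˣ).ker)
      = m ^ 2 * (m + 1) ^ 3 * (m + 2) * (m ^ 2 + 3 * m + 3) := by
  have h1 := Subgroup.card_mul_index (Matrix.GeneralLinearGroup.det : GL (Fin 3) F →* Fˣ).ker
  rw [Subgroup.index_ker, MonoidHom.range_eq_top.mpr det_surjective, Subgroup.card_top,
    Nat.card_units, Nat.card_eq_fintype_card (α := F), Matrix.card_GL_field, hF,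
    Fin.prod_univ_three] at h1
  simp only [Fin.val_zero, Fin.val_one, Fin.val_two, pow_zero, pow_one] at h1
  have e0 : (m + 1) ^ 3 - 1 = m * (m ^ 2 + 3 * m + 3) := Nat.sub_eq_of_eq_add (by ring)
  have e1 : (m + 1) ^ 3 - (m + 1) = m * ((m + 1) * (m + 2)) := Nat.sub_eq_of_eq_add (by ring)
  have e2 : (m + 1) ^ 3 - (m + 1) ^ 2 = m * (m + 1) ^ 2 := Nat.sub_eq_of_eq_add (by ring)
  rw [e0, e1, e2, Nat.add_sub_cancel] at h1
  have h2 : Nat.card ((Matrix.GeneralLinearGroup.det : GL (Fin 3) F →* Fˣ).ker) * m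
      = (m ^ 2 * (m + 1) ^ 3 * (m + 2) * (m ^ 2 + 3 * m + 3)) * m := by
    rw [h1]; ring
  exact Nat.eq_of_mul_eq_mul_right hm h2

/-- for `|F| ≡ 4, 7 (mod 9)` the index of the normalizer of a subgroup of order 27 of `SL₃(F)`
is prime to three -/
theorem not_three_dvd_relIndex {p : ℕ} (hF : Fintype.card F = p) (hp3 : p % 3 = 1)
    (hp9 : p % 9 ≠ 1) (R : Subgroup (GL (Fin 3) F)) (hR : Nat.card R = 27)
    (hRSL : R ≤ (Matrix.GeneralLinearGroup.det : GL (Fin 3) F →* Fˣ).ker) :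
    ¬ 3 ∣ (Subgroup.normalizer (R : Set (GL (Fin 3) F))).relIndex
      (Matrix.GeneralLinearGroup.det : GL (Fin 3) F →* Fˣ).ker := by
  intro h3
  set K := (Matrix.GeneralLinearGroup.det : GL (Fin 3) F →* Fˣ).ker with hK
  have h1 : (Subgroup.normalizer (R : Set (GL (Fin 3) F))).relIndex K ∣ R.relIndex K :=
    Subgroup.relIndex_dvd_of_le_left K Subgroup.le_normalizer
  have h2 : 3 ∣ R.relIndex K := dvd_trans h3 h1
  have h4 := Subgroup.card_mul_index (R.subgroupOf K)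
  have h5 : Nat.card (R.subgroupOf K) = 27 := by
    rw [← hR]
    exact Nat.card_congr (Subgroup.subgroupOfEquivOfLe hRSL).toEquiv
  rw [h5] at h4
  have h6 : 81 ∣ Nat.card K := by
    rw [← h4]
    obtain ⟨k, hk⟩ := h2
    have : (R.subgroupOf K).index = 3 * k := hk
    rw [this]
    exact ⟨k, by ring⟩
  have hp1 : 1 ≤ p := by omega
  have hm : (p - 1) % 9 = 3 ∨ (p - 1) % 9 = 6 := by omega
  have hF' : Fintype.card F = (p - 1) + 1 := by rw [hF]; omega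
  have hm0 : 0 < p - 1 := by omega
  rw [card_SL3 (p - 1) hF' hm0] at h6
  exact not_81_dvd (p - 1) hm h6

end Cfsg.Agent.Lib.Helper14.Es3
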