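import Mathlib
import Cfsg.Agent.Lib.Helper14.Es3Act

set_option autoImplicit false

/-! A non-abelian subgroup of order 27 and exponent 3 of `GL₃(F)` is conjugate to the standard
one. -/

namespace Cfsg.Agent.Lib.Helper14.Es3

open Matrix

variable {F : Type*} [Field F]

/-- the matrix with given columns -/
def cols (v0 v1 v2 : Fin 3 → F) : Matrix (Fin 3) (Fin 3) F := Matrix.of (fun i j => ![v0, v1, v2] j i)

theorem mul_cols (M : Matrix (Fin 3) (Fin 3) F) (v0 v1 v2 : Fin 3 → F) :
    M * cols v0 v1 v2 = cols (M *ᵥ v0) (M *ᵥ v1) (M *ᵥ v2) := by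
  ext i j
  fin_cases j <;> simp [cols, Matrix.mul_apply, Matrix.mulVec, dotProduct]

theorem cols_S3 (v0 v1 v2 : Fin 3 → F) : cols v0 v1 v2 * S3 = cols v1 v2 v0 := by
  ext i j
  fin_cases j <;> simp [cols, S3, Matrix.mul_apply, Fin.sum_univ_three]

theorem cols_dg (v0 v1 v2 : Fin 3 → F) (x y z : F) :
    cols v0 v1 v2 * dg x y z = cols (x • v0) (y • v1) (z • v2) := by
  ext i j
  fin_cases j <;> simp [cols, dg, Matrix.mul_apply, Fin.sum_univ_three, mul_comm]

theorem inj3 {x y z : F} (hxy : x ≠ y) (hxz : x ≠ z) (hyz : y ≠ z) :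
    Function.Injective ![x, y, z] := by
  intro i j h
  fin_cases i <;> fin_cases j <;> simp_all

theorem isUnit_cols_of_eigen (M : Matrix (Fin 3) (Fin 3) F) {x y z : F} (hxy : x ≠ y) (hxz : x ≠ z)
    (hyz : y ≠ z) {v0 v1 v2 : Fin 3 → F} (h0 : v0 ≠ 0) (h1 : v1 ≠ 0) (h2 : v2 ≠ 0)
    (e0 : M *ᵥ v0 = x • v0) (e1 : M *ᵥ v1 = y • v1) (e2 : M *ᵥ v2 = z • v2) :
    IsUnit (cols v0 v1 v2) := by
  rw [← Matrix.linearIndependent_cols_iff_isUnit]
  have hcol : (cols v0 v1 v2).col = ![v0, v1, v2] := by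
    ext j i; rfl
  rw [hcol]
  apply Module.End.eigenvectors_linearIndependent' (Matrix.toLin' M) ![x, y, z] (inj3 hxy hxz hyz)
  intro i
  rw [Module.End.hasEigenvector_iff, Module.End.mem_eigenspace_iff, Matrix.toLin'_apply]
  fin_cases i
  · exact ⟨e0, h0⟩
  · exact ⟨e1, h1⟩
  · exact ⟨e2, h2⟩

/-- an eigenvector with a nontrivial eigenvalue -/
theorem exists_nontrivial_eigen {c : GL (Fin 3) F} (hc3 : c * c * c = 1) (hc1 : c ≠ 1) {w : Fˣ}
    (hw : (1 : F) + w + w * w = 0) (h3 : (3 : F) ≠ 0) :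
    ∃ (μ : Fˣ) (u : Fin 3 → F), (1 : F) + μ + μ * μ = 0 ∧ u ≠ 0 ∧ act c u = (μ : F) • u := by
  have hex : ∃ v, act c v ≠ v := by
    by_contra hcon
    push Not at hcon
    exact hc1 (eq_one_of_act c hcon)
  obtain ⟨v, hv⟩ := hex
  obtain ⟨h0, h1, h2, hsum⟩ := eig_decomp hc3 hw v
  by_cases ht1 : v + ((w : F) * w) • act c v + (w : F) • act c (act c v) = 0
  · by_cases ht2 : v + (w : F) • act c v + ((w : F) * w) • act c (act c v) = 0
    · exfalso
      rw [ht1, ht2, add_zero, add_zero] at hsum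
      apply hv
      have h4 : act c ((3 : F) • v) = (3 : F) • v := by rw [← hsum]; exact h0
      rw [act_smul] at h4
      exact smul_right_injective _ h3 h4
    · refine ⟨w * w, _, ?_, ht2, ?_⟩
      · have h3' : (w : F) * w * w = 1 := by
          have := congrArg Units.val (cube_of_prim hw); simpa using this
        push_cast
        linear_combination hw + (w : F) * h3'
      · push_cast; exact h2
  · exact ⟨w, _, hw, ht1, h1⟩

/-- an eigenvector of `b` inside an eigenspace of a commuting element -/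
theorem exists_common_eigen {b c : GL (Fin 3) F} (hb3 : b * b * b = 1) (hbc : b * c = c * b)
    {w : Fˣ} (hw : (1 : F) + w + w * w = 0) (h3 : (3 : F) ≠ 0) {μ : F} {u : Fin 3 → F}
    (hu : u ≠ 0) (hcu : act c u = μ • u) :
    ∃ (ν : Fˣ) (v : Fin 3 → F), ν * ν * ν = 1 ∧ v ≠ 0 ∧ act c v = μ • v ∧
      act b v = (ν : F) • v := by
  obtain ⟨h0, h1, h2, hsum⟩ := eig_decomp hb3 hw u
  have hcb : ∀ x, act c x = μ • x → act c (act b x) = μ • act b x := by
    intro x hx
    rw [← act_mul, ← hbc, act_mul, hx, act_smul]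
  have hcbu := hcb u hcu
  have hcbbu := hcb _ hcbu
  have hE : ∀ (α β : F), act c (u + α • act b u + β • act b (act b u))
      = μ • (u + α • act b u + β • act b (act b u)) := by
    intro α β
    rw [act_add, act_add, act_smul, act_smul, hcu, hcbu, hcbbu, smul_add, smul_add,
      smul_comm α μ, smul_comm β μ]
  by_cases ht0 : u + act b u + act b (act b u) = 0
  · by_cases ht1 : u + ((w : F) * w) • act b u + (w : F) • act b (act b u) = 0
    · by_cases ht2 : u + (w : F) • act b u + ((w : F) * w) • act b (act b u) = 0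
      · exfalso
        rw [ht0, ht1, ht2, add_zero, add_zero] at hsum
        exact hu ((smul_eq_zero.mp hsum.symm).resolve_left h3)
      · refine ⟨w * w, _, ?_, ht2, hE _ _, ?_⟩
        · have := cube_of_prim hw
          calc w * w * (w * w) * (w * w) = (w * w * w) * (w * w * w) := by ac_rfl
            _ = 1 := by rw [this, one_mul]
        · push_cast; exact h2
    · exact ⟨w, _, cube_of_prim hw, ht1, hE _ _, h1⟩
  · refine ⟨1, _, by simp, ht0, ?_, ?_⟩
    · have := hE 1 1
      simpa using this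
    · simpa using h0

theorem shift_eigen {a b c : GL (Fin 3) F} (hc : c * b * a = a * b) (hc3 : c * c * c = 1)
    (hac : a * c = c * a) {μ ν : F} {v : Fin 3 → F} (hcv : act c v = μ • v)
    (hbv : act b v = ν • v) :
    act c (act a v) = μ • act a v ∧ act b (act a v) = (ν * (μ * μ)) • act a v := by
  have h1 : act c (act a v) = μ • act a v := by
    rw [← act_mul, ← hac, act_mul, hcv, act_smul]
  refine ⟨h1, ?_⟩
  have h2 : act c (act b (act a v)) = ν • act a v := by
    rw [← act_mul, ← act_mul, hc, act_mul, hbv, act_smul]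
  have h3 : act b (act a v) = act c (act c (act c (act b (act a v)))) := (act_cube hc3 _).symm
  rw [h3, h2]
  simp only [act_smul, h1, smul_smul]
  congr 1; ring

/-- the frame of a non-abelian subgroup of order 27 and exponent 3 -/
theorem exists_frame {w : Fˣ} (hw : (1 : F) + w + w * w = 0) (h3 : (3 : F) ≠ 0)
    (R : Subgroup (GL (Fin 3) F)) (hR : Nat.card R = 27) (hRe : Monoid.exponent R = 3)
    (hRna : ¬ IsMulCommutative R) :
    ∃ (P : GL (Fin 3) F) (l : Fˣ), (1 : F) + l + l * l = 0 ∧ l ≠ 1 ∧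
      R = (R0 l).map (MulAut.conj P).toMonoidHom := by
  have hex : ∃ a b : GL (Fin 3) F, a ∈ R ∧ b ∈ R ∧ a * b ≠ b * a := by
    by_contra hcon
    push Not at hcon
    apply hRna
    exact ⟨⟨fun x y => Subtype.ext (hcon x.1 y.1 x.2 y.2)⟩⟩
  obtain ⟨a, b, ha, hb, hab⟩ := hex
  have hcube : ∀ g ∈ R, g * g * g = 1 := by
    intro g hg
    have := Monoid.pow_exponent_eq_one (⟨g, hg⟩ : R)
    rw [hRe] at this
    have h2 := congrArg Subtype.val this
    simpa [pow_succ] using h2
  set c := a * b * a⁻¹ * b⁻¹ with hcdef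
  have hcR : c ∈ R := R.mul_mem (R.mul_mem (R.mul_mem ha hb) (R.inv_mem ha)) (R.inv_mem hb)
  have hac : a * c = c * a := commutator_comm R hR ha hb ha
  have hbc : b * c = c * b := commutator_comm R hR ha hb hb
  have hc1 : c ≠ 1 := by
    intro h
    apply hab
    calc a * b = (a * b * a⁻¹ * b⁻¹) * (b * a) := by group
      _ = b * a := by rw [← hcdef, h, one_mul]
  have hcba : c * b * a = a * b := by rw [hcdef]; group
  have hc3 := hcube c hcR
  obtain ⟨μ, u, hμ, hu, hcu⟩ := exists_nontrivial_eigen hc3 hc1 hw h3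
  obtain ⟨ν, v, hν, hv, hcv, hbv⟩ := exists_common_eigen (hcube b hb) hbc hw h3 hu hcu
  have hμ3 := cube_of_prim hμ
  have hμ3' : (μ : F) * μ * μ = 1 := by
    have := congrArg Units.val hμ3; simpa using this
  have hex2 : ∃ v₀ : Fin 3 → F, v₀ ≠ 0 ∧ act c v₀ = (μ : F) • v₀ ∧ act b v₀ = v₀ := by
    rcases cube_root_cases hμ ν hν with h | h | h
    · exact ⟨v, hv, hcv, by rw [hbv, h]; simp⟩
    · obtain ⟨h1, h2⟩ := shift_eigen hcba hc3 hac hcv hbv
      refine ⟨act a v, act_ne_zero a hv, h1, ?_⟩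
      rw [h2, h]
      have : (μ : F) * (μ * μ) = 1 := by rw [← mul_assoc]; exact hμ3'
      rw [this, one_smul]
    · obtain ⟨h1, h2⟩ := shift_eigen hcba hc3 hac hcv hbv
      obtain ⟨h1', h2'⟩ := shift_eigen hcba hc3 hac h1 h2
      refine ⟨act a (act a v), act_ne_zero a (act_ne_zero a hv), h1', ?_⟩
      rw [h2', h]
      have : ((μ * μ : Fˣ) : F) * ((μ : F) * μ) * ((μ : F) * μ) = 1 := by
        push_cast
        linear_combination ((μ : F) * μ * μ + 1) * hμ3'
      rw [this, one_smul]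
  obtain ⟨v₀, hv₀, hcv₀, hbv₀⟩ := hex2
  have hl : (1 : F) + ((μ * μ : Fˣ) : F) + ((μ * μ : Fˣ) : F) * ((μ * μ : Fˣ) : F) = 0 := by
    push_cast
    linear_combination hμ + (μ : F) * hμ3'
  have hl1 : μ * μ ≠ 1 := ne_one_of_prim h3 hl
  obtain ⟨hc1', hb1⟩ := shift_eigen hcba hc3 hac hcv₀
    (by rw [hbv₀, one_smul] : act b v₀ = (1 : F) • v₀)
  obtain ⟨hc2', hb2⟩ := shift_eigen hcba hc3 hac hc1' hb1
  have ha3 : act a (act a (act a v₀)) = v₀ := act_cube (hcube a ha) v₀
  have hlF1 : ((μ : F) * μ) ≠ 1 := by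
    intro h
    apply hl1
    apply Units.ext
    push_cast
    exact h
  have hlF0 : ((μ : F) * μ) ≠ 0 := mul_ne_zero μ.ne_zero μ.ne_zero
  have hunit : IsUnit (cols v₀ (act a v₀) (act a (act a v₀))) := by
    apply isUnit_cols_of_eigen (b : Matrix (Fin 3) (Fin 3) F)
      (x := 1) (y := 1 * ((μ : F) * μ)) (z := 1 * ((μ : F) * μ) * ((μ : F) * μ))
    · rw [one_mul]; exact fun h => hlF1 h.symm
    · rw [one_mul]
      intro h
      apply hlF1
      have h6 : ((μ : F) * μ) * ((μ : F) * μ) * ((μ : F) * μ) = 1 := by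
        linear_combination ((μ : F) * μ * μ + 1) * hμ3'
      rw [← h, one_mul] at h6
      exact h6
    · rw [one_mul]
      intro h
      apply hlF1
      have : ((μ : F) * μ) * (((μ : F) * μ) - 1) = 0 := by rw [mul_sub, ← h, mul_one, sub_self]
      rcases mul_eq_zero.mp this with h' | h'
      · exact absurd h' hlF0
      · exact sub_eq_zero.mp h'
    · exact hv₀
    · exact act_ne_zero a hv₀
    · exact act_ne_zero a (act_ne_zero a hv₀)
    · have : act b v₀ = (1 : F) • v₀ := by rw [hbv₀, one_smul]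
      exact this
    · exact hb1
    · exact hb2
  obtain ⟨P, hP⟩ := hunit
  have haP : a * P = P * Sgl := by
    apply Units.ext
    rw [Units.val_mul, Units.val_mul, hP, Sgl_val, mul_cols, cols_S3]
    show cols (act a v₀) (act a (act a v₀)) (act a (act a (act a v₀))) = _
    rw [ha3]
  have hbP : b * P = P * dgl 1 (μ * μ) ((μ * μ) * (μ * μ)) := by
    apply Units.ext
    rw [Units.val_mul, Units.val_mul, hP, dgl_val, mul_cols, cols_dg]
    show cols (act b v₀) (act b (act a v₀)) (act b (act a (act a v₀))) = _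
    rw [hb1, hb2, hbv₀]
    push_cast
    simp only [one_smul, one_mul]
  refine ⟨P, μ * μ, hl, hl1, ?_⟩
  have hgen := closure_pair_eq R hR ha hb hab
  rw [← hgen]
  unfold R0
  rw [MonoidHom.map_closure, Set.image_pair]
  have e1 : (MulAut.conj P).toMonoidHom Sgl = a := by
    show MulAut.conj P Sgl = a
    rw [MulAut.conj_apply, ← haP, mul_inv_cancel_right]
  have e2 : (MulAut.conj P).toMonoidHom (dgl 1 (μ * μ) ((μ * μ) * (μ * μ))) = b := by
    show MulAut.conj P _ = b
    rw [MulAut.conj_apply, ← hbP, mul_inv_cancel_right]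
  rw [e1, e2]

end Cfsg.Agent.Lib.Helper14.Es3
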