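import Mathlib
import Cfsg.Agent.Lib.Helper14.Es3Mat

set_option autoImplicit false

/-! Elements normalizing and centralizing the standard extraspecial group `R0 l`. -/

namespace Cfsg.Agent.Lib.Helper14.Es3

open Matrix

variable {F : Type*} [Field F] {l : Fˣ}

theorem sc_mem (hl : (1 : F) + l + l * l = 0) : dgl l l l ∈ R0 l := by
  have h3 := cube_of_prim hl
  have key : dgl l l l = dgl 1 l (l * l) * Sgl * (dgl 1 l (l * l))⁻¹ * Sgl⁻¹ := by
    have h4 : dgl (l * 1) (l * l) (l * (l * l)) = dgl l (l * l) 1 := by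
      rw [mul_one, ← mul_assoc, h3]
    rw [eq_mul_inv_iff_mul_eq, eq_mul_inv_iff_mul_eq, dgl_Sgl, dgl_Sgl, mul_assoc, dgl_mul, h4]
  rw [key]
  exact (R0 l).mul_mem ((R0 l).mul_mem ((R0 l).mul_mem (D_mem l) (Sgl_mem l))
    ((R0 l).inv_mem (D_mem l))) ((R0 l).inv_mem (Sgl_mem l))

theorem sc_mu3_mem (hl : (1 : F) + l + l * l = 0) (a : Fˣ) (ha : a * a * a = 1) :
    dgl a a a ∈ R0 l := by
  rcases cube_root_cases hl a ha with h | h | h
  · rw [h, dgl_one]; exact (R0 l).one_mem
  · rw [h]; exact sc_mem hl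
  · have : dgl (l * l) (l * l) (l * l) = dgl l l l * dgl l l l := by rw [dgl_mul]
    rw [h, this]
    exact (R0 l).mul_mem (sc_mem hl) (sc_mem hl)

theorem dpow_mem (hl : (1 : F) + l + l * l = 0) (t : Fˣ) (ht : t * t * t = 1) :
    dgl 1 t (t * t) ∈ R0 l := by
  rcases cube_root_cases hl t ht with h | h | h
  · rw [h, mul_one, dgl_one]; exact (R0 l).one_mem
  · rw [h]; exact D_mem l
  · have : dgl 1 (l * l) (l * l * (l * l)) = dgl 1 l (l * l) * dgl 1 l (l * l) := by
      rw [dgl_mul, mul_one]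
    rw [h, this]
    exact (R0 l).mul_mem (D_mem l) (D_mem l)

/-- all diagonal matrices with cube roots of unity of product one lie in `R0 l` -/
theorem mu3_mem (hl : (1 : F) + l + l * l = 0) (a b c : Fˣ) (ha : a * a * a = 1)
    (hb : b * b * b = 1) (habc : a * b * c = 1) : dgl a b c ∈ R0 l := by
  have hc : c = (a * b)⁻¹ := eq_inv_of_mul_eq_one_right habc
  have ht : (b * a⁻¹) * (b * a⁻¹) * (b * a⁻¹) = 1 := by
    have : (b * a⁻¹) * (b * a⁻¹) * (b * a⁻¹) = (b * b * b) * (a * a * a)⁻¹ := by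
      rw [mul_inv, mul_inv]; ac_rfl
    rw [this, ha, hb]; simp
  have key : dgl a b c = dgl a a a * dgl 1 (b * a⁻¹) ((b * a⁻¹) * (b * a⁻¹)) := by
    rw [dgl_mul]
    congr 1
    · rw [mul_one]
    · rw [mul_comm b, mul_inv_cancel_left]
    · rw [hc]
      have h1 : a⁻¹ = a * a := by
        rw [inv_eq_iff_eq_inv, eq_comm]; exact inv_eq_of_mul_eq_one_left (by rw [← mul_assoc]; exact ha)
      have h2 : b⁻¹ = b * b := by
        rw [inv_eq_iff_eq_inv, eq_comm]; exact inv_eq_of_mul_eq_one_left (by rw [← mul_assoc]; exact hb)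
      rw [mul_inv, h1, h2]
      have : a * (b * (a * a) * (b * (a * a))) = (a * a * a) * (a * a) * (b * b) := by ac_rfl
      rw [this, ha, one_mul]
  rw [key]
  exact (R0 l).mul_mem (sc_mu3_mem hl a ha) (dpow_mem hl _ ht)

theorem sc_mem_normalizer (z : Fˣ) : dgl z z z ∈ Subgroup.normalizer ((R0 l : Subgroup _) : Set (GL (Fin 3) F)) := by
  rw [Subgroup.mem_normalizer_iff]
  intro h
  rw [dgl_scalar_comm, mul_inv_cancel_right]

variable [Finite F]

theorem Wgl_mem_normalizer (hl : (1 : F) + l + l * l = 0) :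
    Wgl ∈ Subgroup.normalizer ((R0 l : Subgroup _) : Set (GL (Fin 3) F)) := by
  apply mem_normalizer_of_pair (R0 l) rfl
  · rw [Wgl_Sgl, mul_inv_cancel_right]
    exact (R0 l).mul_mem (Sgl_mem l) (Sgl_mem l)
  · rw [Wgl_dgl, mul_inv_cancel_right]
    have h3 := cube_of_prim hl
    apply mu3_mem hl
    · simp
    · have : l * l * (l * l) * (l * l) = (l * l * l) * (l * l * l) := by ac_rfl
      rw [this, h3, one_mul]
    · rw [one_mul]; exact h3

theorem diag_mem_normalizer (hl : (1 : F) + l + l * l = 0) (a b c : Fˣ) (ha : a * a * a = 1)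
    (hb : b * b * b = 1) (hc : c * c * c = 1) :
    dgl a b c ∈ Subgroup.normalizer ((R0 l : Subgroup _) : Set (GL (Fin 3) F)) := by
  apply mem_normalizer_of_pair (R0 l) rfl
  · rw [dgl_Sgl, dgl_inv, mul_assoc, dgl_mul]
    apply (R0 l).mul_mem (Sgl_mem l)
    apply mu3_mem hl
    · have : b * a⁻¹ * (b * a⁻¹) * (b * a⁻¹) = (b * b * b) * (a * a * a)⁻¹ := by
        rw [mul_inv, mul_inv]; ac_rfl
      rw [this, ha, hb]; simp
    · have : c * b⁻¹ * (c * b⁻¹) * (c * b⁻¹) = (c * c * c) * (b * b * b)⁻¹ := by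
        rw [mul_inv, mul_inv]; ac_rfl
      rw [this, hb, hc]; simp
    · have : b * a⁻¹ * (c * b⁻¹) * (a * c⁻¹) = (a * a⁻¹) * (b * b⁻¹) * (c * c⁻¹) := by ac_rfl
      rw [this]; simp
  · rw [dgl_inv, dgl_mul, dgl_mul]
    have : dgl (a * 1 * a⁻¹) (b * l * b⁻¹) (c * (l * l) * c⁻¹) = dgl 1 l (l * l) := by
      congr 1
      · simp
      · rw [mul_comm b, mul_inv_cancel_right]
      · rw [mul_comm c, mul_inv_cancel_right]
    rw [this]
    exact D_mem l

omit [Finite F] in
/-- the centralizer of `R0 l` consists of scalars -/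
theorem scalar_of_commute (hl : (1 : F) + l + l * l = 0) (hl1 : l ≠ 1) (y : GL (Fin 3) F)
    (hS : y * Sgl = Sgl * y) (hD : y * dgl 1 l (l * l) = dgl 1 l (l * l) * y) :
    ∃ z : Fˣ, y = dgl z z z := by
  have hS' : (y : Matrix (Fin 3) (Fin 3) F) * S3 = S3 * (y : Matrix (Fin 3) (Fin 3) F) := by
    have := congrArg Units.val hS
    simpa using this
  have hD' : (y : Matrix (Fin 3) (Fin 3) F) * dg 1 (l : F) ((l : F) * l)
      = dg 1 (l : F) ((l : F) * l) * (y : Matrix (Fin 3) (Fin 3) F) := by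
    have := congrArg Units.val hD
    simpa using this
  set Y : Matrix (Fin 3) (Fin 3) F := (y : Matrix (Fin 3) (Fin 3) F) with hY
  have hl1' : (l : F) ≠ 1 := fun h => hl1 (Units.ext (by simpa using h))
  have hl0 : (l : F) ≠ 0 := l.ne_zero
  have hll1 : (l : F) * l ≠ 1 := by
    intro h
    apply hl1'
    have h3 : (l : F) * l * l = 1 := by
      have := congrArg Units.val (cube_of_prim hl); simpa using this
    rw [h, one_mul] at h3; exact h3
  have hlll : (l : F) * l ≠ l := by
    intro h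
    apply hl1'
    have : (l : F) * (l - 1) = 0 := by rw [mul_sub, h, mul_one, sub_self]
    rcases mul_eq_zero.mp this with h | h
    · exact absurd h hl0
    · exact sub_eq_zero.mp h
  have e01 : Y 0 1 = 0 := by
    have := congrFun (congrFun hD' 0) 1
    simp [dg, Matrix.mul_apply, Fin.sum_univ_three] at this
    have h2 : Y 0 1 * ((l : F) - 1) = 0 := by rw [mul_sub, this, mul_one, sub_self]
    exact (mul_eq_zero.mp h2).resolve_right (sub_ne_zero.mpr hl1')
  have e02 : Y 0 2 = 0 := by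
    have := congrFun (congrFun hD' 0) 2
    simp [dg, Matrix.mul_apply, Fin.sum_univ_three] at this
    have h2 : Y 0 2 * ((l : F) * l - 1) = 0 := by rw [mul_sub, this, mul_one, sub_self]
    exact (mul_eq_zero.mp h2).resolve_right (sub_ne_zero.mpr hll1)
  have e10 : Y 1 0 = 0 := by
    have := congrFun (congrFun hD' 1) 0
    simp [dg, Matrix.mul_apply, Fin.sum_univ_three] at this
    have h2 : Y 1 0 * ((l : F) - 1) = 0 := by rw [mul_sub, mul_comm, ← this, mul_one, sub_self]
    exact (mul_eq_zero.mp h2).resolve_right (sub_ne_zero.mpr hl1')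
  have e12 : Y 1 2 = 0 := by
    have := congrFun (congrFun hD' 1) 2
    simp [dg, Matrix.mul_apply, Fin.sum_univ_three] at this
    have h2 : Y 1 2 * ((l : F) * l - l) = 0 := by rw [mul_sub, this, mul_comm, sub_self]
    exact (mul_eq_zero.mp h2).resolve_right (sub_ne_zero.mpr hlll)
  have e20 : Y 2 0 = 0 := by
    have := congrFun (congrFun hD' 2) 0
    simp [dg, Matrix.mul_apply, Fin.sum_univ_three] at this
    have h2 : Y 2 0 * ((l : F) * l - 1) = 0 := by rw [mul_sub, mul_comm, ← this, mul_one, sub_self]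
    exact (mul_eq_zero.mp h2).resolve_right (sub_ne_zero.mpr hll1)
  have e21 : Y 2 1 = 0 := by
    have := congrFun (congrFun hD' 2) 1
    simp [dg, Matrix.mul_apply, Fin.sum_univ_three] at this
    have h2 : Y 2 1 * ((l : F) * l - l) = 0 := by rw [mul_sub, mul_comm _ (l : F), this, mul_comm, sub_self]
    exact (mul_eq_zero.mp h2).resolve_right (sub_ne_zero.mpr hlll)
  have e11 : Y 1 1 = Y 0 0 := by
    have := congrFun (congrFun hS' 1) 0
    simpa [S3, Matrix.mul_apply, Fin.sum_univ_three] using this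
  have e22 : Y 2 2 = Y 1 1 := by
    have := congrFun (congrFun hS' 2) 1
    simpa [S3, Matrix.mul_apply, Fin.sum_univ_three] using this
  have hYeq : Y = dg (Y 0 0) (Y 0 0) (Y 0 0) := by
    ext i j
    fin_cases i <;> fin_cases j <;> simp [dg, e01, e02, e10, e12, e20, e21, e11, e22]
  have hz : Y 0 0 ≠ 0 := by
    intro h0
    have hdet : Y.det ≠ 0 := by
      have := (Matrix.isUnit_iff_isUnit_det Y).mp ⟨y, rfl⟩
      exact this.ne_zero
    apply hdet
    rw [hYeq, det_dg, h0]; simp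
  refine ⟨Units.mk0 _ hz, ?_⟩
  apply Units.ext
  rw [dgl_val]
  exact hYeq

omit [Finite F] in
theorem R0_le_SL (hl : (1 : F) + l + l * l = 0) :
    R0 l ≤ (Matrix.GeneralLinearGroup.det : GL (Fin 3) F →* Fˣ).ker := by
  unfold R0
  rw [Subgroup.closure_le]
  intro x hx
  rcases hx with rfl | rfl
  · exact det_Sgl
  · show Matrix.GeneralLinearGroup.det (dgl 1 l (l * l)) = 1
    rw [det_dgl, one_mul, ← mul_assoc]
    exact cube_of_prim hl

end Cfsg.Agent.Lib.Helper14.Es3
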