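import Mathlib
import Cfsg.Agent.Lib.Helper14.Es3Frame
import Cfsg.Agent.Lib.Helper14.Es3Norm

set_option autoImplicit false

/-! Elements with scalar cube are conjugate into the normalizer of the standard group. -/

namespace Cfsg.Agent.Lib.Helper14.Es3

open Matrix

variable {F : Type*} [Field F]

/-- an element of order dividing three is diagonalisable when the field has a primitive cube
root of unity -/
theorem exists_diag_of_cube {w : Fˣ} (hw : (1 : F) + w + w * w = 0) (h3 : (3 : F) ≠ 0)
    (x : GL (Fin 3) F) (hx : x * x * x = 1) :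
    ∃ (B : GL (Fin 3) F) (a b c : Fˣ), a * a * a = 1 ∧ b * b * b = 1 ∧ c * c * c = 1 ∧
      x * B = B * dgl a b c := by
  classical
  let S : Set (Fin 3 → F) := {v | ∃ ν : Fˣ, ν * ν * ν = 1 ∧ act x v = (ν : F) • v}
  have hw3 := cube_of_prim hw
  have hspan : ⊤ ≤ Submodule.span F S := by
    intro v _
    obtain ⟨h0, h1, h2, hsum⟩ := eig_decomp hx hw v
    have m0 : v + act x v + act x (act x v) ∈ S := ⟨1, by simp, by simpa using h0⟩
    have m1 : v + ((w : F) * w) • act x v + (w : F) • act x (act x v) ∈ S := ⟨w, hw3, h1⟩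
    have m2 : v + (w : F) • act x v + ((w : F) * w) • act x (act x v) ∈ S := by
      refine ⟨w * w, ?_, by push_cast; exact h2⟩
      calc w * w * (w * w) * (w * w) = (w * w * w) * (w * w * w) := by ac_rfl
        _ = 1 := by rw [hw3, one_mul]
    have hv : v = (3 : F)⁻¹ • ((v + act x v + act x (act x v))
        + (v + ((w : F) * w) • act x v + (w : F) • act x (act x v))
        + (v + (w : F) • act x v + ((w : F) * w) • act x (act x v))) := by
      rw [hsum, smul_smul, inv_mul_cancel₀ h3, one_smul]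
    rw [hv]
    apply Submodule.smul_mem
    exact Submodule.add_mem _ (Submodule.add_mem _ (Submodule.subset_span m0)
      (Submodule.subset_span m1)) (Submodule.subset_span m2)
  let b' := Module.Basis.ofSpan hspan
  have hb'S : ∀ i, b' i ∈ S := fun i => Module.Basis.ofSpan_subset hspan ⟨i, rfl⟩
  let e := (Pi.basisFun F (Fin 3)).indexEquiv b'
  let v : Fin 3 → (Fin 3 → F) := fun j => b' (e j)
  have hli : LinearIndependent F v := b'.linearIndependent.comp e e.injective
  have hvS : ∀ j, v j ∈ S := fun j => hb'S (e j)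
  obtain ⟨a, ha, hva⟩ := hvS 0
  obtain ⟨b, hb, hvb⟩ := hvS 1
  obtain ⟨c, hc, hvc⟩ := hvS 2
  have hunit : IsUnit (cols (v 0) (v 1) (v 2)) := by
    rw [← Matrix.linearIndependent_cols_iff_isUnit]
    have hcol : (cols (v 0) (v 1) (v 2)).col = v := by
      ext j i
      fin_cases j <;> rfl
    rw [hcol]
    exact hli
  obtain ⟨B, hB⟩ := hunit
  refine ⟨B, a, b, c, ha, hb, hc, ?_⟩
  apply Units.ext
  rw [Units.val_mul, Units.val_mul, hB, dgl_val, mul_cols, cols_dg]
  show cols (act x (v 0)) (act x (v 1)) (act x (v 2)) = _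
  rw [hva, hvb, hvc]

variable [Finite F]

/-- elements which are a scalar times an element of order dividing three are conjugate into the
normalizer of the standard group, by an element of prescribed determinant -/
theorem exists_conj_of_cube {l : Fˣ} (hl : (1 : F) + l + l * l = 0) (h3 : (3 : F) ≠ 0)
    (x x' : GL (Fin 3) F) (ζ : Fˣ) (hx : x = dgl ζ ζ ζ * x') (hx' : x' * x' * x' = 1) (δ : Fˣ) :
    ∃ h : GL (Fin 3) F, Matrix.GeneralLinearGroup.det h = δ ∧
      h⁻¹ * x * h ∈ Subgroup.normalizer ((R0 l : Subgroup _) : Set (GL (Fin 3) F)) := by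
  obtain ⟨B, a, b, c, ha, hb, hc, hB⟩ := exists_diag_of_cube hl h3 x' hx'
  set t : Fˣ := δ * (Matrix.GeneralLinearGroup.det B)⁻¹ with ht
  refine ⟨B * dgl t 1 1, ?_, ?_⟩
  · rw [map_mul, det_dgl, mul_one, mul_one, ht, mul_comm δ, mul_inv_cancel_left]
  · have key : (B * dgl t 1 1)⁻¹ * x * (B * dgl t 1 1) = dgl ζ ζ ζ * dgl a b c := by
      rw [mul_assoc, inv_mul_eq_iff_eq_mul, hx]
      calc dgl ζ ζ ζ * x' * (B * dgl t 1 1) = dgl ζ ζ ζ * (x' * B) * dgl t 1 1 := by group
        _ = dgl ζ ζ ζ * (B * dgl a b c) * dgl t 1 1 := by rw [hB]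
        _ = B * (dgl ζ ζ ζ * dgl a b c * dgl t 1 1) := by
          rw [← mul_assoc, dgl_scalar_comm ζ B]; group
        _ = B * (dgl t 1 1 * (dgl ζ ζ ζ * dgl a b c)) := by
          congr 1
          rw [dgl_mul, dgl_mul, dgl_mul]
          congr 1 <;> ac_rfl
        _ = B * dgl t 1 1 * (dgl ζ ζ ζ * dgl a b c) := by group
    rw [key]
    exact Subgroup.mul_mem _ (sc_mem_normalizer ζ) (diag_mem_normalizer hl a b c ha hb hc)

end Cfsg.Agent.Lib.Helper14.Es3
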