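import Mathlib
import Cfsg.Agent.Lib.Helper14.Es3Mat

set_option autoImplicit false

/-! Roots of unity in a finite field. -/

namespace Cfsg.Agent.Lib.Helper14.Es3

variable {F : Type*} [Field F] [Finite F]

/-- a primitive cube root of unity -/
theorem exists_prim_cube_root (h : 3 ∣ Nat.card F - 1) :
    ∃ w : Fˣ, (1 : F) + w + w * w = 0 := by
  haveI : Fact (Nat.Prime 3) := ⟨Nat.prime_three⟩
  have hc : 3 ∣ Nat.card Fˣ := by rw [Nat.card_units]; exact h
  obtain ⟨w, hw⟩ := exists_prime_orderOf_dvd_card' (G := Fˣ) 3 hc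
  refine ⟨w, ?_⟩
  have h3 : w ^ 3 = 1 := by rw [← hw]; exact pow_orderOf_eq_one w
  have h1 : w ≠ 1 := by
    intro h1
    rw [h1, orderOf_one] at hw
    norm_num at hw
  have h3' : (w : F) ^ 3 = 1 := by
    have := congrArg Units.val h3
    simpa using this
  have h1' : (w : F) - 1 ≠ 0 := by
    intro h0
    apply h1
    apply Units.ext
    simpa using sub_eq_zero.mp h0
  have : ((w : F) - 1) * (1 + w + w * w) = 0 := by linear_combination h3'
  exact (mul_eq_zero.mp this).resolve_left h1'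

/-- cube roots of elements of order dividing three -/
theorem exists_cube_root (h : 9 ∣ Nat.card F - 1) (u : Fˣ) (hu : u ^ 3 = 1) :
    ∃ ζ : Fˣ, ζ ^ 3 = u := by
  obtain ⟨g, hg⟩ := IsCyclic.exists_generator (α := Fˣ)
  have hord : orderOf g = Nat.card F - 1 := by
    rw [orderOf_eq_card_of_forall_mem_zpowers hg, Nat.card_units]
  obtain ⟨k, hk⟩ := Subgroup.mem_zpowers_iff.mp (hg u)
  have h1 : g ^ (k * 3) = 1 := by
    rw [zpow_mul, hk]
    exact_mod_cast hu
  have h2 : (orderOf g : ℤ) ∣ k * 3 := orderOf_dvd_iff_zpow_eq_one.mpr h1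
  obtain ⟨m, hm⟩ := h
  rw [hord, hm] at h2
  have h3 : ((3 * m : ℕ) : ℤ) ∣ k := by
    obtain ⟨j, hj⟩ := h2
    refine ⟨j, ?_⟩
    push_cast at hj ⊢
    linarith
  obtain ⟨j, hj⟩ := h3
  refine ⟨g ^ ((m : ℤ) * j), ?_⟩
  rw [← hk, hj, ← zpow_natCast, ← zpow_mul]
  congr 1
  push_cast
  ring

end Cfsg.Agent.Lib.Helper14.Es3
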