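import Mathlib
import Cfsg.Agent.Lib.Helper14.Es3Norm
import Cfsg.Agent.Lib.Helper43.InvolMatrix

set_option autoImplicit false

/-! Elements with scalar square are conjugate into the normalizer of the standard group. -/

namespace Cfsg.Agent.Lib.Helper14.Es3

open Matrix

variable {F : Type*} [Field F] [Fintype F]

theorem W3_ne_smul (a : F) : (W3 : Matrix (Fin 3) (Fin 3) F) ≠ a • (1 : Matrix (Fin 3) (Fin 3) F) := by
  intro h
  have h1 := congrFun (congrFun h 1) 2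
  simp [W3] at h1

theorem rmin_eq_one_of_sq (h2 : (2 : F) ≠ 0) {M : Matrix (Fin 3) (Fin 3) F} {c : F} (hc : c ≠ 0)
    (hM : M * M = c • (1 : Matrix (Fin 3) (Fin 3) F))
    (hns : ∀ a : F, M ≠ a • (1 : Matrix (Fin 3) (Fin 3) F)) :
    Cfsg.Agent.Lib.Helper43.rmin M = 1 := by
  rcases Cfsg.Agent.Lib.Helper43.rmin_mem_of_sq h2 hc hM hns with ⟨h1, h3⟩ | ⟨_, h3⟩
  · omega
  · exfalso
    revert h3
    decide

/-- non-scalar elements with scalar square are conjugate into the normalizer of the standard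
group, by an element of prescribed determinant -/
theorem exists_conj_of_sq (h2 : (2 : F) ≠ 0) {l : Fˣ} (hl : (1 : F) + l + l * l = 0)
    (x : GL (Fin 3) F) (z : F)
    (hx2 : (x : Matrix (Fin 3) (Fin 3) F) * (x : Matrix (Fin 3) (Fin 3) F)
      = z • (1 : Matrix (Fin 3) (Fin 3) F))
    (hns : ∀ a : F, (x : Matrix (Fin 3) (Fin 3) F) ≠ a • (1 : Matrix (Fin 3) (Fin 3) F)) (δ : Fˣ) :
    ∃ h : GL (Fin 3) F, Matrix.GeneralLinearGroup.det h = δ ∧
      h⁻¹ * x * h ∈ Subgroup.normalizer ((R0 l : Subgroup _) : Set (GL (Fin 3) F)) := by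
  classical
  have hz : z ≠ 0 := by
    intro h0
    rw [h0, zero_smul] at hx2
    have h1 : ((x * x : GL (Fin 3) F) : Matrix (Fin 3) (Fin 3) F) = 0 := by
      rw [Units.val_mul]; exact hx2
    have h3 : ((x * x : GL (Fin 3) F) : Matrix (Fin 3) (Fin 3) F) * ((x * x)⁻¹ : GL (Fin 3) F) = 1 := by
      rw [← Units.val_mul, mul_inv_cancel, Units.val_one]
    rw [h1, Matrix.zero_mul] at h3
    exact zero_ne_one h3
  have hW : (W3 : Matrix (Fin 3) (Fin 3) F) * W3 = (1 : F) • (1 : Matrix (Fin 3) (Fin 3) F) := by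
    rw [W3_W3, one_smul]
  have hr : Cfsg.Agent.Lib.Helper43.rmin (x : Matrix (Fin 3) (Fin 3) F)
      = Cfsg.Agent.Lib.Helper43.rmin (W3 : Matrix (Fin 3) (Fin 3) F) := by
    rw [rmin_eq_one_of_sq h2 hz hx2 hns, rmin_eq_one_of_sq h2 one_ne_zero hW W3_ne_smul]
  obtain ⟨Q, Q', hQQ', s, hs, hconj⟩ := Cfsg.Agent.Lib.Helper43.exists_conj_smul h2
    (by norm_num : 1 ≤ 3) hz one_ne_zero hx2 hW hns W3_ne_smul hr
  have hQ'Q : Q' * Q = 1 := mul_eq_one_comm.mp hQQ'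
  let h₀ : GL (Fin 3) F := ⟨Q', Q, hQ'Q, hQQ'⟩
  have hh₀ : h₀⁻¹ * x * h₀ = dgl (Units.mk0 s hs) (Units.mk0 s hs) (Units.mk0 s hs) * Wgl := by
    apply Units.ext
    rw [Units.val_mul, Units.val_mul, Units.val_mul, dgl_val, Wgl_val, dg_scalar]
    show Q * (x : Matrix (Fin 3) (Fin 3) F) * Q' = _
    rw [hconj]
    simp
  set t : Fˣ := δ * (Matrix.GeneralLinearGroup.det h₀)⁻¹ with ht
  refine ⟨h₀ * dgl t 1 1, ?_, ?_⟩
  · rw [map_mul, det_dgl, mul_one, mul_one, ht, mul_comm δ, mul_inv_cancel_left]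
  · have key : (h₀ * dgl t 1 1)⁻¹ * x * (h₀ * dgl t 1 1)
        = dgl (Units.mk0 s hs) (Units.mk0 s hs) (Units.mk0 s hs) * Wgl := by
      have hWT : Wgl * dgl t 1 1 = dgl t 1 1 * Wgl := Wgl_dgl t 1 1
      have hcomm : (dgl (Units.mk0 s hs) (Units.mk0 s hs) (Units.mk0 s hs) * Wgl) * dgl t 1 1
          = dgl t 1 1 * (dgl (Units.mk0 s hs) (Units.mk0 s hs) (Units.mk0 s hs) * Wgl) := by
        rw [mul_assoc, hWT, ← mul_assoc, dgl_scalar_comm, mul_assoc]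
      calc (h₀ * dgl t 1 1)⁻¹ * x * (h₀ * dgl t 1 1)
          = (dgl t 1 1)⁻¹ * (h₀⁻¹ * x * h₀) * dgl t 1 1 := by group
        _ = (dgl t 1 1)⁻¹ * ((dgl (Units.mk0 s hs) (Units.mk0 s hs) (Units.mk0 s hs) * Wgl)
              * dgl t 1 1) := by rw [hh₀, mul_assoc]
        _ = (dgl t 1 1)⁻¹ * (dgl t 1 1 *
              (dgl (Units.mk0 s hs) (Units.mk0 s hs) (Units.mk0 s hs) * Wgl)) := by rw [hcomm]
        _ = dgl (Units.mk0 s hs) (Units.mk0 s hs) (Units.mk0 s hs) * Wgl := by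
          rw [inv_mul_cancel_left]
    rw [key]
    exact Subgroup.mul_mem _ (sc_mem_normalizer _) (Wgl_mem_normalizer hl)

end Cfsg.Agent.Lib.Helper14.Es3
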