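import Mathlib
import Cfsg.Agent.Lib.Helper14.Es3Norm

set_option autoImplicit false

/-! Elements of prime order at least five normalizing an extraspecial group of order 27. -/

namespace Cfsg.Agent.Lib.Helper14.Es3

open Matrix

theorem two_or_three_of_dvd {r a b : ℕ} (hr : r.Prime) (h : r ∣ 2 ^ a * 3 ^ b) : r = 2 ∨ r = 3 := by
  rcases (Nat.Prime.dvd_mul hr).mp h with h | h
  · left
    exact (Nat.prime_dvd_prime_iff_eq hr Nat.prime_two).mp (hr.dvd_of_dvd_pow h)
  · right
    exact (Nat.prime_dvd_prime_iff_eq hr Nat.prime_three).mp (hr.dvd_of_dvd_pow h)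

/-- an element of prime order `r ≠ 2, 3` normalizing a group of order 27 and fixing a nontrivial
element centralizes the group -/
theorem centralizes_of_prime_order {G : Type*} [Group G] (R : Subgroup G) (hR : Nat.card R = 27)
    (y : G) (hy : y ∈ Subgroup.normalizer (R : Set G)) {r : ℕ} [hrp : Fact r.Prime] (hr2 : r ≠ 2)
    (hr3 : r ≠ 3) (hyr : y ^ r = 1) {z : G} (hz : z ∈ R) (hz1 : z ≠ 1) (hyz : y * z = z * y) :
    ∀ g ∈ R, y * g = g * y := by
  classical
  haveI : Finite R := Nat.finite_of_card_ne_zero (by rw [hR]; norm_num)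
  have : Fintype R := Fintype.ofFinite _
  let f : Function.End R :=
    fun s => ⟨y * s.1 * y⁻¹, (Subgroup.mem_normalizer_iff.mp hy s.1).mp s.2⟩
  have hpow : ∀ k : ℕ, ∀ s : R, ((f ^ k) s).1 = y ^ k * s.1 * (y ^ k)⁻¹ := by
    intro k
    induction k with
    | zero => intro s; rw [pow_zero, pow_zero]; simp; rfl
    | succ k ih =>
      intro s
      rw [pow_succ]
      change ((f ^ k) (f s)).1 = _
      rw [ih, pow_succ]
      change y ^ k * (y * s.1 * y⁻¹) * (y ^ k)⁻¹ = _
      group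
  have hf : f ^ r ^ 1 = 1 := by
    rw [pow_one]
    funext s
    apply Subtype.ext
    rw [hpow, hyr]
    simp
    rfl
  have key := Equiv.Perm.card_fixedPoints_modEq (p := r) (n := 1) (f := f) hf
  let C : Subgroup G := R ⊓ Subgroup.centralizer {y}
  have hCmem : ∀ g : G, g ∈ C ↔ g ∈ R ∧ y * g = g * y := by
    intro g
    show g ∈ R ∧ g ∈ Subgroup.centralizer {y} ↔ _
    rw [Subgroup.mem_centralizer_iff]
    simp
  have hfix : Fintype.card (Function.fixedPoints f) = Nat.card C := by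
    rw [← Nat.card_eq_fintype_card]
    apply Nat.card_congr
    refine ⟨fun s => ⟨s.1.1, (hCmem _).mpr ⟨s.1.2, ?_⟩⟩, fun c => ⟨⟨c.1, ((hCmem _).mp c.2).1⟩, ?_⟩,
      fun s => rfl, fun c => rfl⟩
    · have h1 : (f s.1).1 = s.1.1 := congrArg Subtype.val s.2
      have h2 : y * s.1.1 * y⁻¹ = s.1.1 := h1
      calc y * s.1.1 = (y * s.1.1 * y⁻¹) * y := by group
        _ = s.1.1 * y := by rw [h2]
    · show f _ = _
      apply Subtype.ext
      show y * c.1 * y⁻¹ = c.1
      rw [((hCmem _).mp c.2).2, mul_inv_cancel_right]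
  rw [hfix, ← Nat.card_eq_fintype_card, hR] at key
  have hCle : C ≤ R := inf_le_left
  have hdvd : Nat.card C ∣ 27 := by
    have := Subgroup.card_dvd_of_le hCle
    rwa [hR] at this
  have hC2 : 2 ≤ Nat.card C := by
    haveI : Finite C := Finite.of_injective (Subgroup.inclusion hCle) (Subgroup.inclusion_injective hCle)
    have hnt : Nontrivial C := by
      refine ⟨⟨⟨z, (hCmem z).mpr ⟨hz, hyz⟩⟩, 1, ?_⟩⟩
      intro h
      exact hz1 (congrArg Subtype.val h)
    exact Finite.one_lt_card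
  have hmem : Nat.card C ∈ Nat.divisors 27 := Nat.mem_divisors.mpr ⟨hdvd, by norm_num⟩
  have hd : Nat.divisors 27 = {1, 3, 9, 27} := by decide
  rw [hd] at hmem
  simp only [Finset.mem_insert, Finset.mem_singleton] at hmem
  have hC27 : Nat.card C = 27 := by
    rcases hmem with h1 | h3 | h9 | h27
    · omega
    · exfalso
      rw [h3] at key
      have := (Nat.modEq_iff_dvd' (by norm_num : 3 ≤ 27)).mp key.symm
      rcases two_or_three_of_dvd (a := 3) (b := 1) hrp.out (by norm_num at this ⊢; exact this) with h | h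
      · exact hr2 h
      · exact hr3 h
    · exfalso
      rw [h9] at key
      have := (Nat.modEq_iff_dvd' (by norm_num : 9 ≤ 27)).mp key.symm
      rcases two_or_three_of_dvd (a := 1) (b := 2) hrp.out (by norm_num at this ⊢; exact this) with h | h
      · exact hr2 h
      · exact hr3 h
    · exact h27
  haveI : Finite R := Nat.finite_of_card_ne_zero (by rw [hR]; norm_num)
  have hCR : C = R := Subgroup.eq_of_le_of_card_ge hCle (by rw [hC27, hR])
  intro g hg
  rw [← hCR] at hg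
  exact ((hCmem g).mp hg).2

variable {F : Type*} [Field F]

theorem dgl_pow (a b c : Fˣ) (n : ℕ) : (dgl a b c) ^ n = dgl (a ^ n) (b ^ n) (c ^ n) := by
  induction n with
  | zero => simp [dgl_one]
  | succ n ih => rw [pow_succ, ih, dgl_mul, pow_succ, pow_succ, pow_succ]

theorem dgl_injective {a b c a' b' c' : Fˣ} (h : dgl a b c = dgl a' b' c') :
    a = a' ∧ b = b' ∧ c = c' := by
  have h1 := congrArg Units.val h
  rw [dgl_val, dgl_val] at h1
  obtain ⟨h2, h3, h4⟩ := dg_inj h1
  exact ⟨Units.ext h2, Units.ext h3, Units.ext h4⟩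

/-- a determinant one element of prime order `r ≠ 2, 3` normalizing a conjugate of `R0 l` is
trivial -/
theorem eq_one_of_prime_order [Finite F] {l : Fˣ} (hl : (1 : F) + l + l * l = 0) (hl1 : l ≠ 1)
    (P y : GL (Fin 3) F)
    (hy : y ∈ Subgroup.normalizer
      (((R0 l).map (MulAut.conj P).toMonoidHom : Subgroup (GL (Fin 3) F)) : Set (GL (Fin 3) F)))
    (hR : Nat.card ((R0 l).map (MulAut.conj P).toMonoidHom : Subgroup (GL (Fin 3) F)) = 27)
    (hdet : Matrix.GeneralLinearGroup.det y = 1) {r : ℕ} [hrp : Fact r.Prime] (hr2 : r ≠ 2)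
    (hr3 : r ≠ 3) (hyr : y ^ r = 1) : y = 1 := by
  have hzmem : dgl l l l ∈ ((R0 l).map (MulAut.conj P).toMonoidHom : Subgroup (GL (Fin 3) F)) := by
    refine ⟨dgl l l l, sc_mem hl, ?_⟩
    show MulAut.conj P (dgl l l l) = dgl l l l
    rw [MulAut.conj_apply, ← dgl_scalar_comm, mul_inv_cancel_right]
  have hz1 : dgl l l l ≠ 1 := by
    intro h
    rw [← dgl_one] at h
    exact hl1 (dgl_injective h).1
  have hcent := centralizes_of_prime_order _ hR y hy hr2 hr3 hyr hzmem hz1
    (dgl_scalar_comm l y).symm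
  have hS : y * (P * Sgl * P⁻¹) = (P * Sgl * P⁻¹) * y := by
    apply hcent
    exact ⟨Sgl, Sgl_mem l, by simp [MulAut.conj_apply]⟩
  have hD : y * (P * dgl 1 l (l * l) * P⁻¹) = (P * dgl 1 l (l * l) * P⁻¹) * y := by
    apply hcent
    exact ⟨dgl 1 l (l * l), D_mem l, by simp [MulAut.conj_apply]⟩
  have hS' : (P⁻¹ * y * P) * Sgl = Sgl * (P⁻¹ * y * P) := by
    calc (P⁻¹ * y * P) * Sgl = P⁻¹ * (y * (P * Sgl * P⁻¹)) * P := by group
      _ = P⁻¹ * ((P * Sgl * P⁻¹) * y) * P := by rw [hS]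
      _ = Sgl * (P⁻¹ * y * P) := by group
  have hD' : (P⁻¹ * y * P) * dgl 1 l (l * l) = dgl 1 l (l * l) * (P⁻¹ * y * P) := by
    calc (P⁻¹ * y * P) * dgl 1 l (l * l) = P⁻¹ * (y * (P * dgl 1 l (l * l) * P⁻¹)) * P := by group
      _ = P⁻¹ * ((P * dgl 1 l (l * l) * P⁻¹) * y) * P := by rw [hD]
      _ = dgl 1 l (l * l) * (P⁻¹ * y * P) := by group
  obtain ⟨z, hz⟩ := scalar_of_commute hl hl1 _ hS' hD'
  have hyz : y = dgl z z z := by
    have : y = P * (P⁻¹ * y * P) * P⁻¹ := by group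
    rw [this, hz, ← dgl_scalar_comm, mul_inv_cancel_right]
  rw [hyz, det_dgl] at hdet
  rw [hyz, dgl_pow, ← dgl_one] at hyr
  have hzr : z ^ r = 1 := (dgl_injective hyr).1
  have hz3 : z ^ 3 = 1 := by rw [pow_succ, pow_two]; exact hdet
  have h1 : orderOf z ∣ 3 := orderOf_dvd_of_pow_eq_one hz3
  have h2 : orderOf z ∣ r := orderOf_dvd_of_pow_eq_one hzr
  have hcop : Nat.Coprime 3 r := (Nat.coprime_primes Nat.prime_three hrp.out).mpr (Ne.symm hr3)
  have h3 : orderOf z = 1 := Nat.eq_one_of_dvd_coprimes hcop h1 h2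
  have hz1' : z = 1 := orderOf_eq_one_iff.mp h3
  rw [hyz, hz1', dgl_one]

end Cfsg.Agent.Lib.Helper14.Es3
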