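import Cfsg.Agent.Lib.Helper68.HaDH
import Cfsg.Agent.Lib.Helper68.HaD1
import Cfsg.Agent.Lib.Helper68.HaD2
import Cfsg.Agent.Lib.Helper9.HaLIFT
import Cfsg.Agent.Lib.Helper78.HaFIX
import Cfsg.Agent.Lib.Helper24.HaSEVEN
import Cfsg.Agent.Lib.Helper24.HaEIGHT
import Cfsg.Agent.Lib.Helper60.HaFPF
import Cfsg.Agent.Lib.Helper81.HaX

/-!
# Ha hive (S2534): assembly

`ha_main` proves the statement of S2534 from the leaves of the Ha hive and the forward direction of S2536
(taken as a hypothesis `hS`, so that this file does not depend on `Cfsg.Agent.S2536`).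
-/

set_option autoImplicit false

namespace Cfsg.Agent.Lib.Helper14.Ha

open Cfsg Cfsg.Agent.Lib.Helper15.Hs

/-- A conjugate of a Hall `π`-subgroup is a Hall `π`-subgroup. -/
theorem asm_hall_conj {G : Type*} [Group G] (π : Set ℕ) (H : Subgroup G) (hH : IsPiHall π H) (g : G) :
    IsPiHall π (H.map (MulAut.conj g).toMonoidHom) := by
  have hcard : Nat.card (H.map (MulAut.conj g).toMonoidHom) = Nat.card H := by
    have e := Subgroup.equivMapOfInjective H (MulAut.conj g).toMonoidHom (MulAut.conj g).injective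
    exact (Nat.card_congr e.toEquiv).symm
  have hidx : (H.map (MulAut.conj g).toMonoidHom).index = H.index := by
    have := Subgroup.index_map_equiv H (MulAut.conj g)
    simpa using this
  refine ⟨fun p hp hd => hH.1 p hp (hcard ▸ hd), fun p hp hpπ hd => hH.2 p hp hpπ (hidx ▸ hd)⟩

/-- The prime divisors of `|A_n|` are at most `n`. -/
theorem asm_prime_le (n : ℕ) (p : ℕ) (hp : p.Prime)
    (hd : p ∣ Nat.card ↥(alternatingGroup (Fin n))) : p ≤ n := by
  have h1 : Nat.card ↥(alternatingGroup (Fin n)) ∣ Nat.card (Equiv.Perm (Fin n)) :=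
    Subgroup.card_subgroup_dvd_card _
  have h2 : Nat.card (Equiv.Perm (Fin n)) = n.factorial := by
    rw [Nat.card_perm, Nat.card_eq_fintype_card, Fintype.card_fin]
  rw [h2] at h1
  exact (Nat.Prime.dvd_factorial hp).mp (hd.trans h1)

theorem ha_main
    (hS : ∀ (n : ℕ) (π : Set ℕ),
      (∃ r s : ℕ, r.Prime ∧ s.Prime ∧ r ≠ s ∧ r ∈ π ∧ s ∈ π ∧ r ≤ n ∧ s ≤ n) →
      (∃ r : ℕ, r.Prime ∧ r ≤ n ∧ r ∉ π) →
      Cfsg.IsEPiGroup π (Equiv.Perm (Fin n)) →
      ((n.Prime ∧ ∀ r : ℕ, r.Prime → r ≤ n → (r ∈ π ↔ r < n)) ∨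
       ((n = 7 ∨ n = 8) ∧ ∀ r : ℕ, r.Prime → r ≤ n → (r ∈ π ↔ (r = 2 ∨ r = 3)))))
    (n : ℕ) (hn : 5 ≤ n) (π : Set ℕ) :
    Cfsg.IsDPiGroup π ↥(alternatingGroup (Fin n)) ↔
      ((∀ r s : ℕ, r.Prime → s.Prime → r ∈ π → s ∈ π → r ∣ Nat.card ↥(alternatingGroup (Fin n)) →
          s ∣ Nat.card ↥(alternatingGroup (Fin n)) → r = s) ∨
        ∀ r : ℕ, r.Prime → r ∣ Nat.card ↥(alternatingGroup (Fin n)) → r ∈ π) := by
  constructor
  · intro hD
    by_contra hcon
    push Not at hcon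
    obtain ⟨⟨r, s, hr, hs, hrπ, hsπ, hrd, hsd, hrs⟩, ⟨t, ht, htd, htπ⟩⟩ := hcon
    have hrn := asm_prime_le n r hr hrd
    have hsn := asm_prime_le n s hs hsd
    have htn := asm_prime_le n t ht htd
    -- Hall subgroup of A_n containing every π-subgroup up to conjugacy
    obtain ⟨M, hM, hMX⟩ := dpi_exists_hall π hD
    -- lift to S_n
    have hidx : (alternatingGroup (Fin n)).index = 2 := by
      have : Nontrivial (Fin n) := Fin.nontrivial_iff_two_le.mpr (by omega)
      exact alternatingGroup.index_eq_two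
    obtain ⟨M₀, hM₀, hMM₀⟩ := hall_lift_index_two π (alternatingGroup (Fin n)) hidx hD M hM
    -- every π-subgroup X of A_n lies (inside S_n) in a Hall π-subgroup of S_n
    have key : ∀ X : Subgroup ↥(alternatingGroup (Fin n)), IsPiSubgroup π X →
        ∃ H : Subgroup (Equiv.Perm (Fin n)), IsPiHall π H ∧
          ∀ g ∈ X, (g : Equiv.Perm (Fin n)) ∈ H := by
      intro X hX
      obtain ⟨a, ha⟩ := hMX X hX
      refine ⟨M₀.map (MulAut.conj (a : Equiv.Perm (Fin n))).toMonoidHom,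
        asm_hall_conj π M₀ hM₀ _, ?_⟩
      intro g hg
      obtain ⟨m, hm, hmg⟩ := Subgroup.mem_map.mp (ha hg)
      refine Subgroup.mem_map.mpr ⟨(m : Equiv.Perm (Fin n)), hMM₀ (Subgroup.mem_map.mpr ⟨m, hm, rfl⟩), ?_⟩
      have := congrArg (fun z : ↥(alternatingGroup (Fin n)) => (z : Equiv.Perm (Fin n))) hmg
      simpa [MulAut.conj_apply] using this
    have hE : IsEPiGroup π (Equiv.Perm (Fin n)) := ⟨M₀, hM₀⟩
    rcases hS n π ⟨r, s, hr, hs, hrs, hrπ, hsπ, hrn, hsn⟩ ⟨t, ht, htn, htπ⟩ hE with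
      ⟨hnp, hstd⟩ | ⟨hn78, hexc⟩
    · -- n prime
      obtain ⟨X, hX, hfpf⟩ := exists_fpf_pi_subgroup n hn π
        (fun q hq hqn => (hstd q hq hqn.le).mpr hqn)
      obtain ⟨H, hH, hXH⟩ := key X hX
      have hcardn : Nat.card (Fin n) = n := by simp
      obtain ⟨x, hx⟩ := hall_fixed_point π H hH (by rw [hcardn]; exact ⟨hnp, hstd⟩)
      obtain ⟨g, hg, hgx⟩ := hfpf x
      exact hgx (hx _ (hXH g hg))
    · -- n = 7 or 8
      have h2 : (2 : ℕ) ∈ π := (hexc 2 Nat.prime_two (by omega)).mpr (Or.inl rfl)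
      have h3 : (3 : ℕ) ∈ π := (hexc 3 Nat.prime_three (by omega)).mpr (Or.inr rfl)
      have h5 : (5 : ℕ) ∉ π := fun h => by
        have := (hexc 5 (by norm_num) (by omega)).mp h
        omega
      have h7 : (7 : ℕ) ∉ π := fun h => by
        have := (hexc 7 (by norm_num) (by omega)).mp h
        omega
      obtain ⟨X, O, hX, hO, htr⟩ := exists_six_transitive n hn78 π h2 h3
      obtain ⟨H, hH, hXH⟩ := key X hX
      have hcardn : Nat.card (Fin n) = n := by simp
      rcases hn78 with h | h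
      · refine hall_seven_no_six_orbit π H hH (by rw [hcardn, h]) h2 h3 h5 h7 O hO ?_
        intro a ha b hb
        obtain ⟨g, hg, hgab, _⟩ := htr a ha b hb
        exact ⟨g, hXH g hg, hgab⟩
      · refine hall_eight_no_six_orbit π H hH (by rw [hcardn, h]) h2 h3 h5 h7 O hO ?_
        intro a ha b hb
        obtain ⟨g, hg, hgab, hfix⟩ := htr a ha b hb
        exact ⟨g, hXH g hg, hgab, hfix⟩
  · rintro (h | h)
    · exact dpi_of_le_one_prime π h
    · exact dpi_of_all_primes π h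

end Cfsg.Agent.Lib.Helper14.Ha
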