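import Mathlib
import Cfsg.Agent.Lib.Helper14.DkSmallMax

set_option autoImplicit false

/-!
# Generators of `A₄`, `S₄`, `A₅`
-/

namespace Cfsg.Agent.Lib.Helper14.Mx

open Cfsg.Agent.Lib.Helper14.Dk

/-- the set of words of bounded length -/
def wordsF {G : Type*} [Group G] [DecidableEq G] (a b : G) : ℕ → Finset G
  | 0 => {1}
  | (n + 1) => wordsF a b n ∪ (wordsF a b n).image (· * a) ∪ (wordsF a b n).image (· * b)

theorem wordsF_subset {G : Type*} [Group G] [DecidableEq G] (a b : G) (n : ℕ) :
    ∀ g ∈ wordsF a b n, g ∈ Subgroup.closure {a, b} := by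
  have ha : a ∈ Subgroup.closure {a, b} := Subgroup.subset_closure (by simp)
  have hb : b ∈ Subgroup.closure {a, b} := Subgroup.subset_closure (by simp)
  induction n with
  | zero =>
    intro g hg
    simp only [wordsF, Finset.mem_singleton] at hg
    rw [hg]; exact Subgroup.one_mem _
  | succ n ih =>
    intro g hg
    simp only [wordsF, Finset.mem_union, Finset.mem_image] at hg
    rcases hg with (hg | ⟨h, hh, rfl⟩) | ⟨h, hh, rfl⟩
    · exact ih g hg
    · exact Subgroup.mul_mem _ (ih h hh) ha
    · exact Subgroup.mul_mem _ (ih h hh) hb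

theorem card_le_card_closure {G : Type*} [Group G] [DecidableEq G] [Finite G] (a b : G) (n : ℕ) :
    (wordsF a b n).card ≤ Nat.card (Subgroup.closure {a, b}) := by
  have h1 : ((wordsF a b n : Finset G) : Set G) ⊆ (Subgroup.closure {a, b} : Set G) :=
    fun g hg => wordsF_subset a b n g hg
  have h2 := Set.ncard_le_ncard h1 (Set.toFinite _)
  rw [Set.ncard_coe_finset] at h2
  exact h2

/-! ### `S₄` -/

/-- an involution of `S₄` -/
def aS : Equiv.Perm (Fin 4) := Equiv.swap 0 1
/-- an element of order three of `S₄` -/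
def bS : Equiv.Perm (Fin 4) := Equiv.swap 1 2 * Equiv.swap 2 3

theorem aS_ne : aS ≠ 1 := by decide
theorem aS_sq : aS * aS = 1 := by decide
theorem bS_cube : bS ^ 3 = 1 := by decide
theorem bS_ne : bS ≠ 1 := by decide
theorem abS_four : (aS * bS) ^ 4 = 1 := by decide
theorem abS_two : (aS * bS) ^ 2 ≠ 1 := by decide

theorem gen_S4 : Subgroup.closure {aS, bS} = ⊤ := by
  apply Subgroup.eq_top_of_card_eq
  apply le_antisymm (Subgroup.card_le_card_group _)
  rw [card_S4]
  have h := card_le_card_closure aS bS 7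
  have h7 : (wordsF aS bS 7).card = 24 := by decide +kernel
  rw [h7] at h
  exact h

/-- the `A₄`-pair inside `S₄` -/
def aS' : Equiv.Perm (Fin 4) := Equiv.swap 0 1 * Equiv.swap 2 3
/-- the `A₄`-pair inside `S₄` -/
def bS' : Equiv.Perm (Fin 4) := Equiv.swap 0 1 * Equiv.swap 1 2

theorem aS'_ne : aS' ≠ 1 := by decide
theorem aS'_sq : aS' * aS' = 1 := by decide
theorem bS'_cube : bS' ^ 3 = 1 := by decide
theorem abS'_cube : (aS' * bS') ^ 3 = 1 := by decide
theorem bS'_ne : bS' ≠ 1 := by decide
theorem abS'_ne : aS' * bS' ≠ 1 := by decide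

/-! ### `A₄` -/

theorem mem_A4_a : (Equiv.swap (0 : Fin 4) 1 * Equiv.swap 2 3 : Equiv.Perm (Fin 4)) ∈
    alternatingGroup (Fin 4) := by
  rw [Equiv.Perm.mem_alternatingGroup]; decide

theorem mem_A4_b : (Equiv.swap (0 : Fin 4) 1 * Equiv.swap 1 2 : Equiv.Perm (Fin 4)) ∈
    alternatingGroup (Fin 4) := by
  rw [Equiv.Perm.mem_alternatingGroup]; decide

/-- an involution of `A₄` -/
def aA4 : alternatingGroup (Fin 4) := ⟨_, mem_A4_a⟩
/-- an element of order three of `A₄` -/
def bA4 : alternatingGroup (Fin 4) := ⟨_, mem_A4_b⟩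

theorem aA4_ne : aA4 ≠ 1 := by
  intro h
  have := congrArg Subtype.val h
  revert this
  simp only [aA4, Subgroup.coe_one]
  decide

theorem aA4_sq : aA4 * aA4 = 1 := by
  apply Subtype.ext
  simp only [aA4, Subgroup.coe_mul, Subgroup.coe_one]
  decide

theorem bA4_ne : bA4 ≠ 1 := by
  intro h
  have := congrArg Subtype.val h
  revert this
  simp only [bA4, Subgroup.coe_one]
  decide

theorem bA4_cube : bA4 ^ 3 = 1 := by
  apply Subtype.ext
  simp only [bA4, Subgroup.coe_pow, Subgroup.coe_one]
  decide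

theorem abA4_cube : (aA4 * bA4) ^ 3 = 1 := by
  apply Subtype.ext
  simp only [aA4, bA4, Subgroup.coe_pow, Subgroup.coe_mul, Subgroup.coe_one]
  decide

theorem abA4_ne : aA4 * bA4 ≠ 1 := by
  intro h
  have := congrArg Subtype.val h
  revert this
  simp only [aA4, bA4, Subgroup.coe_mul, Subgroup.coe_one]
  decide

theorem gen_A4 : Subgroup.closure {aA4, bA4} = ⊤ := by
  apply Subgroup.eq_top_of_card_eq
  apply le_antisymm (Subgroup.card_le_card_group _)
  rw [card_A4]
  have h1 : Nat.card (Subgroup.closure {aA4, bA4}) =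
      Nat.card ((Subgroup.closure {aA4, bA4}).map (alternatingGroup (Fin 4)).subtype) :=
    (Subgroup.card_map_of_injective (Subgroup.subtype_injective _)).symm
  rw [h1, MonoidHom.map_closure, Set.image_pair]
  have h := card_le_card_closure ((alternatingGroup (Fin 4)).subtype aA4)
    ((alternatingGroup (Fin 4)).subtype bA4) 4
  have h7 : (wordsF ((alternatingGroup (Fin 4)).subtype aA4)
      ((alternatingGroup (Fin 4)).subtype bA4) 4).card = 12 := by
    simp only [aA4, bA4, Subgroup.coe_subtype]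
    decide +kernel
  rw [h7] at h
  exact h

/-! ### `A₅` -/

theorem mem_A5_a : (Equiv.swap (0 : Fin 5) 1 * Equiv.swap 2 3 : Equiv.Perm (Fin 5)) ∈
    alternatingGroup (Fin 5) := by
  rw [Equiv.Perm.mem_alternatingGroup]; decide

theorem mem_A5_b : (Equiv.swap (0 : Fin 5) 2 * Equiv.swap 2 4 : Equiv.Perm (Fin 5)) ∈
    alternatingGroup (Fin 5) := by
  rw [Equiv.Perm.mem_alternatingGroup]; decide

theorem mem_A5_b' : (Equiv.swap (0 : Fin 5) 1 * Equiv.swap 1 2 : Equiv.Perm (Fin 5)) ∈
    alternatingGroup (Fin 5) := by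
  rw [Equiv.Perm.mem_alternatingGroup]; decide

/-- an involution of `A₅` -/
def aA5 : alternatingGroup (Fin 5) := ⟨_, mem_A5_a⟩
/-- an element of order three of `A₅` -/
def bA5 : alternatingGroup (Fin 5) := ⟨_, mem_A5_b⟩
/-- an element of order three of `A₅` whose product with `aA5` has order three -/
def bA5' : alternatingGroup (Fin 5) := ⟨_, mem_A5_b'⟩

theorem aA5_ne : aA5 ≠ 1 := by
  intro h
  have := congrArg Subtype.val h
  revert this
  simp only [aA5, Subgroup.coe_one]
  decide

theorem aA5_sq : aA5 * aA5 = 1 := by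
  apply Subtype.ext
  simp only [aA5, Subgroup.coe_mul, Subgroup.coe_one]
  decide

theorem bA5_ne : bA5 ≠ 1 := by
  intro h
  have := congrArg Subtype.val h
  revert this
  simp only [bA5, Subgroup.coe_one]
  decide

theorem bA5_cube : bA5 ^ 3 = 1 := by
  apply Subtype.ext
  simp only [bA5, Subgroup.coe_pow, Subgroup.coe_one]
  decide

theorem abA5_five : (aA5 * bA5) ^ 5 = 1 := by
  apply Subtype.ext
  simp only [aA5, bA5, Subgroup.coe_pow, Subgroup.coe_mul, Subgroup.coe_one]
  decide

theorem abA5_ne : aA5 * bA5 ≠ 1 := by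
  intro h
  have := congrArg Subtype.val h
  revert this
  simp only [aA5, bA5, Subgroup.coe_mul, Subgroup.coe_one]
  decide

theorem bA5'_ne : bA5' ≠ 1 := by
  intro h
  have := congrArg Subtype.val h
  revert this
  simp only [bA5', Subgroup.coe_one]
  decide

theorem bA5'_cube : bA5' ^ 3 = 1 := by
  apply Subtype.ext
  simp only [bA5', Subgroup.coe_pow, Subgroup.coe_one]
  decide

theorem abA5'_cube : (aA5 * bA5') ^ 3 = 1 := by
  apply Subtype.ext
  simp only [aA5, bA5', Subgroup.coe_pow, Subgroup.coe_mul, Subgroup.coe_one]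
  decide

theorem abA5'_ne : aA5 * bA5' ≠ 1 := by
  intro h
  have := congrArg Subtype.val h
  revert this
  simp only [aA5, bA5', Subgroup.coe_mul, Subgroup.coe_one]
  decide

set_option maxRecDepth 100000 in
theorem gen_A5 : Subgroup.closure {aA5, bA5} = ⊤ := by
  apply Subgroup.eq_top_of_card_eq
  apply le_antisymm (Subgroup.card_le_card_group _)
  rw [card_A5]
  have h1 : Nat.card (Subgroup.closure {aA5, bA5}) =
      Nat.card ((Subgroup.closure {aA5, bA5}).map (alternatingGroup (Fin 5)).subtype) :=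
    (Subgroup.card_map_of_injective (Subgroup.subtype_injective _)).symm
  rw [h1, MonoidHom.map_closure, Set.image_pair]
  have h := card_le_card_closure ((alternatingGroup (Fin 5)).subtype aA5)
    ((alternatingGroup (Fin 5)).subtype bA5) 12
  have h7 : (wordsF ((alternatingGroup (Fin 5)).subtype aA5)
      ((alternatingGroup (Fin 5)).subtype bA5) 12).card = 60 := by
    simp only [aA5, bA5, Subgroup.coe_subtype]
    decide +kernel
  rw [h7] at h
  exact h

end Cfsg.Agent.Lib.Helper14.Mx
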