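import Mathlib
import Cfsg.Agent.Lib.Helper14.DkIsoF
import Cfsg.Agent.Lib.Helper13.Involution

set_option autoImplicit false
set_option linter.style.haveILetI false

/-!
# Subfield subgroups of `SL₂(F)` and their maximality
-/

namespace Cfsg.Agent.Lib.Helper14.Mx

open Cfsg.Agent.Lib.Helper2.SL2 Cfsg.Agent.Lib.Helper2.Dk Cfsg.Agent.Lib.Helper14.Dk

section groups

variable {F : Type*} [Field F]

local notation "SL2" => Matrix.SpecialLinearGroup (Fin 2) F

/-- the subgroup of matrices with entries in a subfield -/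
def SLE (E : Subfield F) : Subgroup SL2 where
  carrier := {g | g 0 0 ∈ E ∧ g 0 1 ∈ E ∧ g 1 0 ∈ E ∧ g 1 1 ∈ E}
  one_mem' := by
    refine ⟨?_, ?_, ?_, ?_⟩
    · rw [one00]; exact E.one_mem
    · rw [one01]; exact E.zero_mem
    · rw [one10]; exact E.zero_mem
    · rw [one11]; exact E.one_mem
  mul_mem' := by
    rintro g h ⟨g00, g01, g10, g11⟩ ⟨h00, h01, h10, h11⟩
    refine ⟨?_, ?_, ?_, ?_⟩
    · rw [mul00]; exact E.add_mem (E.mul_mem g00 h00) (E.mul_mem g01 h10)
    · rw [mul01]; exact E.add_mem (E.mul_mem g00 h01) (E.mul_mem g01 h11)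
    · rw [mul10]; exact E.add_mem (E.mul_mem g10 h00) (E.mul_mem g11 h10)
    · rw [mul11]; exact E.add_mem (E.mul_mem g10 h01) (E.mul_mem g11 h11)
  inv_mem' := by
    rintro g ⟨g00, g01, g10, g11⟩
    refine ⟨?_, ?_, ?_, ?_⟩
    · rw [inv00]; exact g11
    · rw [inv01]; exact E.neg_mem g01
    · rw [inv10]; exact E.neg_mem g10
    · rw [inv11]; exact g00

theorem mem_SLE {E : Subfield F} {g : SL2} :
    g ∈ SLE E ↔ g 0 0 ∈ E ∧ g 0 1 ∈ E ∧ g 1 0 ∈ E ∧ g 1 1 ∈ E := Iff.rfl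

/-- the subgroup of matrices which are scalar multiples of matrices with entries in a subfield -/
def PG (E : Subfield F) : Subgroup SL2 where
  carrier := {g | ∃ l : F, l ≠ 0 ∧ l * g 0 0 ∈ E ∧ l * g 0 1 ∈ E ∧ l * g 1 0 ∈ E ∧ l * g 1 1 ∈ E}
  one_mem' := by
    refine ⟨1, one_ne_zero, ?_, ?_, ?_, ?_⟩
    · rw [one00, one_mul]; exact E.one_mem
    · rw [one01, one_mul]; exact E.zero_mem
    · rw [one10, one_mul]; exact E.zero_mem
    · rw [one11, one_mul]; exact E.one_mem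
  mul_mem' := by
    rintro g h ⟨l, hl, g00, g01, g10, g11⟩ ⟨m, hm, h00, h01, h10, h11⟩
    refine ⟨l * m, mul_ne_zero hl hm, ?_, ?_, ?_, ?_⟩
    · have : l * m * (g * h) 0 0 = (l * g 0 0) * (m * h 0 0) + (l * g 0 1) * (m * h 1 0) := by
        rw [mul00]; ring
      rw [this]; exact E.add_mem (E.mul_mem g00 h00) (E.mul_mem g01 h10)
    · have : l * m * (g * h) 0 1 = (l * g 0 0) * (m * h 0 1) + (l * g 0 1) * (m * h 1 1) := by
        rw [mul01]; ring
      rw [this]; exact E.add_mem (E.mul_mem g00 h01) (E.mul_mem g01 h11)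
    · have : l * m * (g * h) 1 0 = (l * g 1 0) * (m * h 0 0) + (l * g 1 1) * (m * h 1 0) := by
        rw [mul10]; ring
      rw [this]; exact E.add_mem (E.mul_mem g10 h00) (E.mul_mem g11 h10)
    · have : l * m * (g * h) 1 1 = (l * g 1 0) * (m * h 0 1) + (l * g 1 1) * (m * h 1 1) := by
        rw [mul11]; ring
      rw [this]; exact E.add_mem (E.mul_mem g10 h01) (E.mul_mem g11 h11)
  inv_mem' := by
    rintro g ⟨l, hl, g00, g01, g10, g11⟩
    refine ⟨l, hl, ?_, ?_, ?_, ?_⟩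
    · rw [inv00]; exact g11
    · rw [inv01, mul_neg]; exact E.neg_mem g01
    · rw [inv10, mul_neg]; exact E.neg_mem g10
    · rw [inv11]; exact g00

theorem mem_PG {E : Subfield F} {g : SL2} :
    g ∈ PG E ↔ ∃ l : F, l ≠ 0 ∧ l * g 0 0 ∈ E ∧ l * g 0 1 ∈ E ∧ l * g 1 0 ∈ E ∧ l * g 1 1 ∈ E :=
  Iff.rfl

theorem SLE_le_PG (E : Subfield F) : SLE E ≤ PG E := by
  rintro g ⟨g00, g01, g10, g11⟩
  exact ⟨1, one_ne_zero, by rwa [one_mul], by rwa [one_mul], by rwa [one_mul], by rwa [one_mul]⟩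

theorem SLE_mono {E E' : Subfield F} (h : E ≤ E') : SLE E ≤ SLE E' := by
  rintro g ⟨g00, g01, g10, g11⟩
  exact ⟨h g00, h g01, h g10, h g11⟩

theorem tt_mem_SLE {E : Subfield F} {μ : F} : tt μ ∈ SLE E ↔ μ ∈ E := by
  rw [mem_SLE, tt00, tt01, tt10, tt11]
  exact ⟨fun h => h.2.1, fun h => ⟨E.one_mem, h, E.zero_mem, E.one_mem⟩⟩

theorem tt_mem_PG {E : Subfield F} {μ : F} (h : tt μ ∈ PG E) : μ ∈ E := by
  obtain ⟨l, hl, h00, h01, -, -⟩ := h
  rw [tt00, mul_one] at h00
  rw [tt01] at h01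
  have : μ = l⁻¹ * (l * μ) := by field_simp
  rw [this]
  exact E.mul_mem (E.inv_mem h00) h01

theorem eq_top_of_SLE_eq_top {E : Subfield F} (h : SLE E = ⊤) : E = ⊤ := by
  rw [eq_top_iff]
  intro μ _
  rw [← tt_mem_SLE, h]
  exact Subgroup.mem_top _

theorem eq_top_of_PG_eq_top {E : Subfield F} (h : PG E = ⊤) : E = ⊤ := by
  rw [eq_top_iff]
  intro μ _
  apply tt_mem_PG
  rw [h]
  exact Subgroup.mem_top _

theorem dd_mem_PG {E : Subfield F} (a : F) (ha : a ≠ 0) (ha2 : a ^ 2 ∈ E) : dd a ha ∈ PG E := by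
  refine ⟨a⁻¹, inv_ne_zero ha, ?_, ?_, ?_, ?_⟩
  · rw [dd00, inv_mul_cancel₀ ha]; exact E.one_mem
  · rw [dd01, mul_zero]; exact E.zero_mem
  · rw [dd10, mul_zero]; exact E.zero_mem
  · rw [dd11]
    have : a⁻¹ * a⁻¹ = (a ^ 2)⁻¹ := by rw [pow_two, mul_inv]
    rw [this]; exact E.inv_mem ha2

/-- conjugation by an invertible matrix -/
noncomputable def conjM (k : Matrix (Fin 2) (Fin 2) F) (hk : IsUnit k.det) : SL2 ≃* SL2 where
  toFun g := ⟨k * g.1 * k⁻¹, by
    rw [Matrix.det_mul, Matrix.det_mul, g.2, mul_one, ← Matrix.det_mul, Matrix.mul_nonsing_inv _ hk,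
      Matrix.det_one]⟩
  invFun g := ⟨k⁻¹ * g.1 * k, by
    rw [Matrix.det_mul, Matrix.det_mul, g.2, mul_one, ← Matrix.det_mul, Matrix.nonsing_inv_mul _ hk,
      Matrix.det_one]⟩
  left_inv g := by
    apply Subtype.ext
    show k⁻¹ * (k * g.1 * k⁻¹) * k = g.1
    rw [mul_assoc, mul_assoc, Matrix.nonsing_inv_mul _ hk, mul_one, ← mul_assoc,
      Matrix.nonsing_inv_mul _ hk, one_mul]
  right_inv g := by
    apply Subtype.ext
    show k * (k⁻¹ * g.1 * k) * k⁻¹ = g.1
    rw [mul_assoc, mul_assoc, Matrix.mul_nonsing_inv _ hk, mul_one, ← mul_assoc,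
      Matrix.mul_nonsing_inv _ hk, one_mul]
  map_mul' g h := by
    apply Subtype.ext
    show k * (g.1 * h.1) * k⁻¹ = (k * g.1 * k⁻¹) * (k * h.1 * k⁻¹)
    have : (k * g.1 * k⁻¹) * (k * h.1 * k⁻¹) = k * g.1 * (k⁻¹ * k) * h.1 * k⁻¹ := by
      simp only [mul_assoc]
    rw [this, Matrix.nonsing_inv_mul _ hk, mul_one]
    simp only [mul_assoc]

theorem conjM_val (k : Matrix (Fin 2) (Fin 2) F) (hk : IsUnit k.det) (g : SL2) :
    (conjM k hk g).1 = k * g.1 * k⁻¹ := rfl

/-- if `k g = m k` then the conjugate of `g` by `k` is `m` -/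
theorem conjM_eq_of_mul (k : Matrix (Fin 2) (Fin 2) F) (hk : IsUnit k.det) (g : SL2)
    (m : Matrix (Fin 2) (Fin 2) F) (h : k * g.1 = m * k) : (conjM k hk g).1 = m := by
  rw [conjM_val, h, mul_assoc, Matrix.mul_nonsing_inv _ hk, mul_one]

theorem conjM_mem_SLE (k : Matrix (Fin 2) (Fin 2) F) (hk : IsUnit k.det) (g : SL2)
    (m : Matrix (Fin 2) (Fin 2) F) (h : k * g.1 = m * k) (E : Subfield F)
    (hm : ∀ i j, m i j ∈ E) : conjM k hk g ∈ SLE E := by
  have e := conjM_eq_of_mul k hk g m h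
  refine ⟨?_, ?_, ?_, ?_⟩
  · show (conjM k hk g).1 0 0 ∈ E
    rw [e]; exact hm 0 0
  · show (conjM k hk g).1 0 1 ∈ E
    rw [e]; exact hm 0 1
  · show (conjM k hk g).1 1 0 ∈ E
    rw [e]; exact hm 1 0
  · show (conjM k hk g).1 1 1 ∈ E
    rw [e]; exact hm 1 1

theorem conjM_mem_PG (k : Matrix (Fin 2) (Fin 2) F) (hk : IsUnit k.det) (g : SL2)
    (m : Matrix (Fin 2) (Fin 2) F) (l : F) (hl : l ≠ 0) (h : k * (l • g.1) = m * k)
    (E : Subfield F) (hm : ∀ i j, m i j ∈ E) : conjM k hk g ∈ PG E := by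
  have e : l • (conjM k hk g).1 = m := by
    rw [conjM_val, ← Matrix.smul_mul, ← Matrix.mul_smul, h, mul_assoc,
      Matrix.mul_nonsing_inv _ hk, mul_one]
  have e' : ∀ i j, l * (conjM k hk g).1 i j = m i j := by
    intro i j
    rw [← e]; rfl
  refine ⟨l, hl, ?_, ?_, ?_, ?_⟩
  · show l * (conjM k hk g).1 0 0 ∈ E
    rw [e']; exact hm 0 0
  · show l * (conjM k hk g).1 0 1 ∈ E
    rw [e']; exact hm 0 1
  · show l * (conjM k hk g).1 1 0 ∈ E
    rw [e']; exact hm 1 0
  · show l * (conjM k hk g).1 1 1 ∈ E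
    rw [e']; exact hm 1 1

end groups


section finite

variable {F : Type*} [Field F] [Fintype F]

local notation "SL2" => Matrix.SpecialLinearGroup (Fin 2) F

omit [Fintype F] in
theorem pow_pow_eq' {a : F} {n : ℕ} (h : a ^ n = a) (s : ℕ) : a ^ (n ^ s) = a := by
  induction s with
  | zero => simp
  | succ s ih => rw [pow_succ, pow_mul, ih, h]

theorem mem_of_pow_card (E : Subfield F) (x : F) (h : x ^ Nat.card E = x) : x ∈ E := by
  haveI : Fintype E := Fintype.ofFinite E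
  apply Cfsg.Agent.Lib.Helper13.mem_subfield_of_pow_card_eq E
  rw [← Nat.card_eq_fintype_card]
  exact h

theorem pow_card_of_mem (E : Subfield F) {x : F} (hx : x ∈ E) : x ^ Nat.card E = x := by
  haveI : Fintype E := Fintype.ofFinite E
  have := FiniteField.pow_card (⟨x, hx⟩ : E)
  rw [Nat.card_eq_fintype_card]
  exact congrArg Subtype.val this

theorem pow_card_sub_one_of_mem (E : Subfield F) {x : F} (hx : x ∈ E) (h0 : x ≠ 0) :
    x ^ (Nat.card E - 1) = 1 := by
  haveI : Fintype E := Fintype.ofFinite E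
  have := FiniteField.pow_card_sub_one_eq_one (⟨x, hx⟩ : E) (by
    intro h
    exact h0 (congrArg Subtype.val h))
  rw [Nat.card_eq_fintype_card]
  exact congrArg Subtype.val this

theorem card_subfield (p : ℕ) [Fact p.Prime] [CharP F p] (E : Subfield F) :
    ∃ a m, a ≠ 0 ∧ Nat.card E = p ^ a ∧ Fintype.card F = p ^ (a * m) ∧
      Fintype.card F = Nat.card E ^ m := by
  haveI : Fintype E := Fintype.ofFinite E
  obtain ⟨a, -, ha⟩ := FiniteField.card E p
  obtain ⟨m, hm⟩ := card_pow_of_ringHom (F := F) E.subtype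
  refine ⟨a, m, a.ne_zero, ?_, ?_, ?_⟩
  · rw [Nat.card_eq_fintype_card, ha]
  · rw [← hm, ha, pow_mul]
  · rw [Nat.card_eq_fintype_card, hm]

theorem exists_subfield (p : ℕ) [Fact p.Prime] [CharP F p] {N d : ℕ}
    (hN : Fintype.card F = p ^ N) (hd : d ≠ 0) (hdvd : d ∣ N) :
    ∃ E' : Subfield F, Nat.card E' = p ^ d := by
  letI : Algebra (ZMod p) F := ZMod.algebra F p
  have h1 : Module.finrank (ZMod p) F = N := by
    have := FiniteField.pow_finrank_eq_natCard p F
    rw [Nat.card_eq_fintype_card, hN] at this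
    exact Nat.pow_right_injective (Fact.out : p.Prime).two_le this
  have h2 : Module.finrank (ZMod p) (GaloisField p d) = d := GaloisField.finrank p hd
  obtain ⟨f⟩ := FiniteField.nonempty_algHom_of_finrank_dvd (F := ZMod p)
    (K := GaloisField p d) (L := F) (by rw [h1, h2]; exact hdvd)
  refine ⟨f.toRingHom.fieldRange, ?_⟩
  have e : GaloisField p d ≃ f.toRingHom.fieldRange :=
    Equiv.ofBijective (fun x => ⟨f x, ⟨x, rfl⟩⟩)
      ⟨fun x y h => f.injective (congrArg Subtype.val h), fun ⟨y, x, hx⟩ => ⟨x, Subtype.ext hx⟩⟩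
  rw [← Nat.card_congr e, GaloisField.card p d hd]

theorem subfield_le (p : ℕ) (E E' : Subfield F) {a d : ℕ} (hE : Nat.card E = p ^ a)
    (hE' : Nat.card E' = p ^ d) (had : a ∣ d) : E ≤ E' := by
  intro x hx
  apply mem_of_pow_card
  obtain ⟨c, rfl⟩ := had
  rw [hE', pow_mul]
  apply pow_pow_eq'
  rw [← hE]
  exact pow_card_of_mem E hx

omit [Fintype F] in
theorem ringChar_subfield_ne_two (h2 : (2 : F) ≠ 0) (E : Subfield F) : ringChar E ≠ 2 := by
  intro h
  apply h2
  have h1 : ((2 : ℕ) : E) = 0 := (ringChar.spec E 2).mpr (by rw [h])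
  have h3 : (2 : E) = 0 := by exact_mod_cast h1
  calc (2 : F) = ((2 : E) : F) := by norm_cast
    _ = ((0 : E) : F) := by rw [h3]
    _ = 0 := rfl

theorem odd_card_subfield (h2 : (2 : F) ≠ 0) (E : Subfield F) : Nat.card E % 2 = 1 := by
  haveI : Fintype E := Fintype.ofFinite E
  rw [Nat.card_eq_fintype_card]
  have := FiniteField.even_card_iff_char_two (F := E)
  rcases Nat.mod_two_eq_zero_or_one (Fintype.card E) with h | h
  · exact absurd (this.mpr h) (ringChar_subfield_ne_two h2 E)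
  · exact h

/-- in a quadratic extension, every element of the small field is a square -/
theorem exists_sqrt_outside (h2 : (2 : F) ≠ 0) (E : Subfield F)
    (hc : Fintype.card F = Nat.card E ^ 2) : ∃ a : F, a ≠ 0 ∧ a ∉ E ∧ a ^ 2 ∈ E := by
  haveI : Fintype E := Fintype.ofFinite E
  have hE2 := ringChar_subfield_ne_two h2 E
  obtain ⟨δ, hδ⟩ := FiniteField.exists_nonsquare hE2
  have hδ0 : δ ≠ 0 := by
    rintro rfl
    exact hδ ⟨0, by simp⟩
  have hδ0' : (δ : F) ≠ 0 := fun h => hδ0 (Subtype.ext h)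
  have hodd := odd_card_subfield h2 E
  obtain ⟨j, hj⟩ : ∃ j, Nat.card E = 2 * j + 1 := ⟨Nat.card E / 2, by omega⟩
  have hF2 : ringChar F ≠ 2 := by
    intro h
    apply h2
    have h1 : ((2 : ℕ) : F) = 0 := (ringChar.spec F 2).mpr (by rw [h])
    simpa using h1
  have hsq : IsSquare (δ : F) := by
    rw [FiniteField.isSquare_iff hF2 hδ0', hc, hj]
    have e : (2 * j + 1) ^ 2 / 2 = (2 * j) * (j + 1) := by
      have : (2 * j + 1) ^ 2 = 2 * ((2 * j) * (j + 1)) + 1 := by ring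
      omega
    rw [e, pow_mul]
    have := pow_card_sub_one_of_mem E δ.2 hδ0'
    rw [hj, Nat.add_sub_cancel] at this
    rw [this, one_pow]
  obtain ⟨a, ha⟩ := hsq
  refine ⟨a, ?_, ?_, ?_⟩
  · rintro rfl
    apply hδ0'
    rw [ha, mul_zero]
  · intro haE
    apply hδ
    refine ⟨⟨a, haE⟩, ?_⟩
    apply Subtype.ext
    exact ha
  · rw [pow_two, ← ha]
    exact δ.2

/-- an element whose square lies in a subfield of odd order `q₀` is fixed by `x ↦ x ^ q₀²` -/
theorem pow_card_sq_of_sq_mem (h2 : (2 : F) ≠ 0) (E : Subfield F) {μ : F} (hμ : μ ^ 2 ∈ E) :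
    μ ^ (Nat.card E ^ 2) = μ := by
  by_cases h0 : μ = 0
  · rw [h0, zero_pow]
    have : 0 < Nat.card E := Nat.card_pos
    positivity
  have hodd := odd_card_subfield h2 E
  obtain ⟨j, hj⟩ : ∃ j, Nat.card E = 2 * j + 1 := ⟨Nat.card E / 2, by omega⟩
  have h1 := pow_card_sub_one_of_mem E hμ (pow_ne_zero 2 h0)
  rw [hj, Nat.add_sub_cancel] at h1
  have e : (2 * j + 1) ^ 2 = 2 * ((2 * j) * (j + 1)) + 1 := by ring
  rw [hj, e, pow_succ, pow_mul, pow_mul, h1, one_pow, one_mul]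


omit [Fintype F] in
theorem SLE_top : SLE (⊤ : Subfield F) = ⊤ := by
  rw [eq_top_iff]
  intro g _
  exact ⟨Subfield.mem_top _, Subfield.mem_top _, Subfield.mem_top _, Subfield.mem_top _⟩

theorem card_top_subfield : Nat.card (⊤ : Subfield F) = Fintype.card F := by
  rw [← Nat.card_eq_fintype_card]
  exact Nat.card_congr (Subfield.topEquiv (K := F)).toEquiv

omit [Fintype F] in
theorem sq_mem_of_witness (E : Subfield F) (g : SL2) (l : F) (g00 : l * g 0 0 ∈ E)
    (g01 : l * g 0 1 ∈ E) (g10 : l * g 1 0 ∈ E) (g11 : l * g 1 1 ∈ E) : l ^ 2 ∈ E := by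
  have : l ^ 2 = (l * g 0 0) * (l * g 1 1) - (l * g 0 1) * (l * g 1 0) := by
    have := det2 g
    linear_combination (-(l ^ 2)) * this
  rw [this]
  exact E.sub_mem (E.mul_mem g00 g11) (E.mul_mem g01 g10)

/-- a maximal subfield subgroup has odd prime degree -/
theorem degree_of_SLE_coatom (p : ℕ) [Fact p.Prime] [CharP F p] (h2 : (2 : F) ≠ 0)
    (E : Subfield F) (hco : IsCoatom (SLE E)) :
    ∃ r, r.Prime ∧ Odd r ∧ Fintype.card F = Nat.card E ^ r := by
  obtain ⟨a, m, ha0, hEa, hFam, hFm⟩ := card_subfield p E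
  have hpp : p.Prime := Fact.out
  have hEtop : E ≠ ⊤ := by
    intro h
    apply hco.1
    rw [h, SLE_top]
  have hm2 : 2 ≤ m := by
    by_contra hlt
    have hm : m = 0 ∨ m = 1 := by omega
    rcases hm with rfl | rfl
    · rw [pow_zero] at hFm
      have := Fintype.one_lt_card (α := F)
      omega
    · apply hEtop
      rw [eq_top_iff]
      intro x _
      apply mem_of_pow_card
      rw [pow_one] at hFm
      rw [← hFm]
      exact FiniteField.pow_card x
  have hmp : m.Prime := by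
    by_contra hmp
    obtain ⟨s, hsm, hs2, hslt⟩ := Nat.exists_dvd_of_not_prime2 hm2 hmp
    obtain ⟨E', hE'⟩ := exists_subfield p hFam (d := a * s)
      (Nat.mul_ne_zero ha0 (by omega)) (Nat.mul_dvd_mul_left a hsm)
    have hle : E ≤ E' := subfield_le p E E' hEa hE' (dvd_mul_right a s)
    have hne : E ≠ E' := by
      intro h
      rw [← h, hEa] at hE'
      have := Nat.pow_right_injective hpp.two_le hE'
      have : a * 1 < a * s := Nat.mul_lt_mul_of_pos_left (by omega) (Nat.pos_of_ne_zero ha0)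
      omega
    have hE'top : E' ≠ ⊤ := by
      intro h
      rw [h, card_top_subfield, hFam] at hE'
      have := Nat.pow_right_injective hpp.two_le hE'
      have : a * s < a * m := Nat.mul_lt_mul_of_pos_left hslt (Nat.pos_of_ne_zero ha0)
      omega
    obtain ⟨μ, hμ', hμ⟩ : ∃ μ ∈ E', μ ∉ E := SetLike.exists_of_lt (lt_of_le_of_ne hle hne)
    have hlt : SLE E < SLE E' := by
      apply lt_of_le_of_ne (SLE_mono hle)
      intro h
      apply hμ
      rw [← tt_mem_SLE, h, tt_mem_SLE]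
      exact hμ'
    exact hE'top (eq_top_of_SLE_eq_top (hco.2 _ hlt))
  refine ⟨m, hmp, ?_, hFm⟩
  rcases hmp.eq_two_or_odd' with h | h
  · exfalso
    subst h
    obtain ⟨a₀, ha0', haE, ha2⟩ := exists_sqrt_outside h2 E hFm
    have hlt : SLE E < PG E := by
      apply lt_of_le_of_ne (SLE_le_PG E)
      intro h
      apply haE
      have h1 : dd a₀ ha0' ∈ SLE E := by rw [h]; exact dd_mem_PG a₀ ha0' ha2
      exact h1.1
    exact hEtop (eq_top_of_PG_eq_top (hco.2 _ hlt))
  · exact h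

/-- a maximal extended subfield subgroup has degree two -/
theorem degree_of_PG_coatom (p : ℕ) [Fact p.Prime] [CharP F p] (h2 : (2 : F) ≠ 0)
    (E : Subfield F) (hco : IsCoatom (PG E)) (hne : PG E ≠ SLE E) :
    Fintype.card F = Nat.card E ^ 2 := by
  obtain ⟨a, m, ha0, hEa, hFam, hFm⟩ := card_subfield p E
  obtain ⟨g, hgP, hgS⟩ : ∃ g ∈ PG E, g ∉ SLE E := by
    by_contra hcon
    push Not at hcon
    exact hne (le_antisymm hcon (SLE_le_PG E))
  obtain ⟨l, hl, g00, g01, g10, g11⟩ := hgP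
  have hl2 : l ^ 2 ∈ E := sq_mem_of_witness E g l g00 g01 g10 g11
  have hlE : l ∉ E := by
    intro h
    apply hgS
    have key : ∀ x, l * x ∈ E → x ∈ E := fun x hx => by
      have : x = l⁻¹ * (l * x) := by field_simp
      rw [this]; exact E.mul_mem (E.inv_mem h) hx
    exact ⟨key _ g00, key _ g01, key _ g10, key _ g11⟩
  have hlq : l ^ (Nat.card E ^ 2) = l := pow_card_sq_of_sq_mem h2 E hl2
  have hmeven : Even m := by
    by_contra hodd
    rw [Nat.not_even_iff_odd] at hodd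
    obtain ⟨k, rfl⟩ := hodd
    apply hlE
    apply mem_of_pow_card
    have h1 : l ^ Fintype.card F = l := FiniteField.pow_card l
    rw [hFm, pow_succ, pow_mul, pow_mul, pow_pow_eq' hlq k] at h1
    exact h1
  obtain ⟨k, hk⟩ := hmeven
  obtain ⟨E', hE'⟩ := exists_subfield p hFam (d := 2 * a) (by omega)
    (by rw [hk]; exact ⟨k, by ring⟩)
  have hE'c : Nat.card E' = Nat.card E ^ 2 := by rw [hE', hEa, ← pow_mul, mul_comm]
  have hsq : ∀ μ : F, μ ^ 2 ∈ E → μ ∈ E' := fun μ hμ =>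
    mem_of_pow_card E' μ (by rw [hE'c]; exact pow_card_sq_of_sq_mem h2 E hμ)
  have hEE' : E ≤ E' := subfield_le p E E' hEa hE' (dvd_mul_left a 2)
  have hle : PG E ≤ SLE E' := by
    rintro g' ⟨l', hl', h00, h01, h10, h11⟩
    have hl'E : l' ∈ E' := hsq l' (sq_mem_of_witness E g' l' h00 h01 h10 h11)
    have key : ∀ x, l' * x ∈ E → x ∈ E' := fun x hx => by
      have : x = l'⁻¹ * (l' * x) := by field_simp
      rw [this]; exact E'.mul_mem (E'.inv_mem hl'E) (hEE' hx)
    exact ⟨key _ h00, key _ h01, key _ h10, key _ h11⟩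
  rcases hco.le_iff.mp hle with h | h
  · have := eq_top_of_SLE_eq_top h
    rw [this, card_top_subfield] at hE'c
    exact hE'c
  · exfalso
    apply hlE
    apply tt_mem_PG
    rw [← h, tt_mem_SLE]
    exact hsq l hl2

end finite


section iso

variable {F : Type*} [Field F] [Fintype F]

local notation "SL2" => Matrix.SpecialLinearGroup (Fin 2) F
local notation "PSL2" => Matrix.ProjectiveSpecialLinearGroup (Fin 2) F

/-- an abstract model of a subfield, in the lowest universe -/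
theorem exists_model_field (p : ℕ) [Fact p.Prime] [CharP F p] (E : Subfield F) :
    ∃ (K : Type) (_ : Field K) (_ : Fintype K) (f : K →+* F), Fintype.card K = Nat.card E ∧
      ∀ μ : F, μ ∈ Set.range f ↔ μ ∈ E := by
  haveI : Fintype E := Fintype.ofFinite E
  obtain ⟨n, -, hn⟩ := FiniteField.card E p
  haveI : Fintype (GaloisField p n) := Fintype.ofFinite _
  have hcardK : Fintype.card (GaloisField p n) = Fintype.card E := by
    rw [hn, ← Nat.card_eq_fintype_card]
    exact GaloisField.card p n n.ne_zero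
  have eK : GaloisField p n ≃+* E := FiniteField.ringEquivOfCardEq hcardK
  refine ⟨GaloisField p n, inferInstance, inferInstance,
    E.subtype.comp (eK : GaloisField p n →+* E), ?_, ?_⟩
  · rw [hcardK, Nat.card_eq_fintype_card]
  · intro μ
    constructor
    · rintro ⟨a, rfl⟩
      exact (eK a).2
    · intro hμ
      exact ⟨eK.symm ⟨μ, hμ⟩, by simp⟩

omit [Fintype F] in
theorem range_mapSL_eq {K : Type*} [Field K] (f : K →+* F) (E : Subfield F)
    (hr : ∀ μ : F, μ ∈ Set.range f ↔ μ ∈ E) :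
    (Matrix.SpecialLinearGroup.map (n := Fin 2) f).range = SLE E := by
  ext g
  constructor
  · rintro ⟨h, rfl⟩
    refine ⟨?_, ?_, ?_, ?_⟩ <;> rw [mapSL_apply] <;> exact (hr _).mp ⟨_, rfl⟩
  · rintro ⟨g00, g01, g10, g11⟩
    obtain ⟨x00, h00⟩ := (hr _).mpr g00
    obtain ⟨x01, h01⟩ := (hr _).mpr g01
    obtain ⟨x10, h10⟩ := (hr _).mpr g10
    obtain ⟨x11, h11⟩ := (hr _).mpr g11
    have hdet : x00 * x11 - x01 * x10 = 1 := by
      apply f.injective
      rw [map_sub, map_mul, map_mul, map_one, h00, h01, h10, h11]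
      exact det2 g
    refine ⟨mk2 x00 x01 x10 x11 hdet, ?_⟩
    apply ext2 <;> rw [mapSL_apply] <;> simp only [mk2_00, mk2_01, mk2_10, mk2_11] <;> assumption

theorem iso_SLE (p : ℕ) [Fact p.Prime] [CharP F p] (E : Subfield F) :
    ∃ (K : Type) (_ : Field K) (_ : Fintype K), Fintype.card K = Nat.card E ∧
      Nonempty (↥((SLE E).map (QuotientGroup.mk' (Subgroup.center SL2))) ≃*
        Matrix.ProjectiveSpecialLinearGroup (Fin 2) K) := by
  obtain ⟨K, i1, i2, f, hc, hr⟩ := exists_model_field p E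
  refine ⟨K, i1, i2, hc, ?_⟩
  obtain ⟨e⟩ := map_mk_range_equiv f
  have h := range_mapSL_eq f E hr
  exact ⟨(MulEquiv.subgroupCongr (by rw [h])).trans e⟩

theorem iso_PG (p : ℕ) [Fact p.Prime] [CharP F p] (h2 : (2 : F) ≠ 0) (E : Subfield F)
    (hne : PG E ≠ SLE E) :
    ∃ (K : Type) (_ : Field K) (_ : Fintype K), Fintype.card K = Nat.card E ∧
      Nonempty (↥((PG E).map (QuotientGroup.mk' (Subgroup.center SL2))) ≃*
        Matrix.ProjGenLinGroup (Fin 2) K) := by
  obtain ⟨K, i1, i2, f, hc, hr⟩ := exists_model_field p E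
  refine ⟨K, i1, i2, hc, ?_⟩
  have hrange := range_mapSL_eq f E hr
  have hK2 : ringChar K ≠ 2 := by
    intro h
    apply h2
    have h1 : ((2 : ℕ) : K) = 0 := (ringChar.spec K 2).mpr (by rw [h])
    have := congrArg f h1
    rw [map_natCast, map_zero] at this
    exact_mod_cast this
  obtain ⟨g, hgP, hgS⟩ : ∃ g ∈ PG E, g ∉ SLE E := by
    by_contra hcon
    push Not at hcon
    exact hne (le_antisymm hcon (SLE_le_PG E))
  obtain ⟨l, hl, g00, g01, g10, g11⟩ := hgP
  have hl2 : l ^ 2 ∈ E := sq_mem_of_witness E g l g00 g01 g10 g11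
  have hlE : l ∉ E := by
    intro h
    apply hgS
    have key : ∀ x, l * x ∈ E → x ∈ E := fun x hx => by
      have : x = l⁻¹ * (l * x) := by field_simp
      rw [this]; exact E.mul_mem (E.inv_mem h) hx
    exact ⟨key _ g00, key _ g01, key _ g10, key _ g11⟩
  have hle : (Matrix.SpecialLinearGroup.map (n := Fin 2) f).range ≤ PG E := by
    rw [hrange]; exact SLE_le_PG E
  have hfac : ∀ g ∈ PG E, ∃ (h : Matrix.SpecialLinearGroup (Fin 2) K) (a : F) (ha : a ≠ 0),
      a ^ 2 ∈ Set.range f ∧ g = Matrix.SpecialLinearGroup.map (n := Fin 2) f h * dd a ha := by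
    rintro g' ⟨l', hl', h00, h01, h10, h11⟩
    have hl'2 : l' ^ 2 ∈ E := sq_mem_of_witness E g' l' h00 h01 h10 h11
    have hli : (l'⁻¹) ^ 2 ∈ E := by rw [inv_pow]; exact E.inv_mem hl'2
    have hmem : g' * (dd l'⁻¹ (inv_ne_zero hl'))⁻¹ ∈ SLE E := by
      refine ⟨?_, ?_, ?_, ?_⟩
      · rw [mul00, inv00, inv10, dd11, dd10, inv_inv]
        have : g' 0 0 * l' + g' 0 1 * -0 = l' * g' 0 0 := by ring
        rw [this]; exact h00
      · rw [mul01, inv01, inv11, dd01, dd00]
        have : g' 0 0 * -0 + g' 0 1 * l'⁻¹ = (l'⁻¹) ^ 2 * (l' * g' 0 1) := by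
          field_simp
          ring
        rw [this]; exact E.mul_mem hli h01
      · rw [mul10, inv00, inv10, dd11, dd10, inv_inv]
        have : g' 1 0 * l' + g' 1 1 * -0 = l' * g' 1 0 := by ring
        rw [this]; exact h10
      · rw [mul11, inv01, inv11, dd01, dd00]
        have : g' 1 0 * -0 + g' 1 1 * l'⁻¹ = (l'⁻¹) ^ 2 * (l' * g' 1 1) := by
          field_simp
          ring
        rw [this]; exact E.mul_mem hli h11
    rw [← hrange] at hmem
    obtain ⟨h, hh⟩ := hmem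
    refine ⟨h, l'⁻¹, inv_ne_zero hl', (hr _).mpr hli, ?_⟩
    rw [hh, inv_mul_cancel_right]
  exact map_mk_equiv_pgl f hK2 (PG E) hle hfac l hl (fun h => hlE ((hr _).mp h))
    ((hr _).mpr hl2) (dd_mem_PG l hl hl2)

end iso

section frob

variable {F : Type*} [Field F]

/-- the fixed field of a power of the Frobenius -/
def fixF (p : ℕ) [Fact p.Prime] [CharP F p] (k : ℕ) : Subfield F :=
  (iterateFrobenius F p k).eqLocusField (RingHom.id F)

theorem mem_fixF {p : ℕ} [Fact p.Prime] [CharP F p] {k : ℕ} {x : F} :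
    x ∈ fixF (F := F) p k ↔ x ^ p ^ k = x := by
  show (iterateFrobenius F p k) x = RingHom.id F x ↔ _
  rw [iterateFrobenius_def, RingHom.id_apply]

theorem card_le_of_fixF_eq_top [Fintype F] (p : ℕ) [Fact p.Prime] [CharP F p] {k : ℕ}
    (hk0 : k ≠ 0) (h : fixF (F := F) p k = ⊤) : Fintype.card F ≤ p ^ k := by
  classical
  obtain ⟨ζ, hζ⟩ := IsCyclic.exists_generator (α := Fˣ)
  have ho : orderOf ζ = Fintype.card F - 1 := by
    rw [orderOf_eq_card_of_forall_mem_zpowers hζ, Nat.card_eq_fintype_card, Fintype.card_units]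
  have hmem : (ζ : F) ∈ fixF (F := F) p k := by rw [h]; exact Subfield.mem_top _
  rw [mem_fixF] at hmem
  have hpk : 1 < p ^ k := Nat.one_lt_pow hk0 (Fact.out : p.Prime).one_lt
  have h1 : ζ ^ (p ^ k - 1) = 1 := by
    apply Units.ext
    rw [Units.val_pow_eq_pow_val, Units.val_one]
    have h0 : (ζ : F) ≠ 0 := ζ.ne_zero
    have e : (ζ : F) ^ (p ^ k - 1) * (ζ : F) = 1 * (ζ : F) := by
      rw [← pow_succ, Nat.sub_add_cancel hpk.le, hmem, one_mul]
    exact mul_right_cancel₀ h0 e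
  have hdvd := orderOf_dvd_of_pow_eq_one h1
  rw [ho] at hdvd
  have := Nat.le_of_dvd (by omega) hdvd
  omega

end frob

end Cfsg.Agent.Lib.Helper14.Mx
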