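import Mathlib

set_option autoImplicit false

/-!
# Rigidity of pairs of `2 × 2` matrices

A pair `(a, b)` of `2 × 2` matrices with `a` traceless, `a² = ν`, is determined up to conjugacy by
`ν`, `tr b`, `tr (a b)`, `det b`, under a nondegeneracy condition.
-/

namespace Cfsg.Agent.Lib.Helper14.Mx

open Matrix

variable {F : Type*} [Field F]

local notation "M2" => Matrix (Fin 2) (Fin 2) F

/-- the standard traceless matrix with square `ν` -/
def Jm (ν : F) : M2 := !![0, ν; 1, 0]

theorem Jm_mul_Jm (ν : F) : Jm ν * Jm ν = ν • (1 : M2) := by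
  ext i j
  fin_cases i <;> fin_cases j <;> simp [Jm, Matrix.mul_apply, Fin.sum_univ_two]

theorem det_Jm (ν : F) : (Jm ν).det = -ν := by
  simp [Jm, Matrix.det_fin_two]

/-- normal form of a traceless matrix with nonzero scalar square -/
theorem exists_normal_form (a : M2) (ν : F) (hν : ν ≠ 0) (h2 : (2 : F) ≠ 0)
    (htr : a 0 0 + a 1 1 = 0) (hsq : a * a = ν • (1 : M2)) :
    ∃ h : M2, IsUnit h.det ∧ a * h = h * Jm ν := by
  have e00 : a 0 0 * a 0 0 + a 0 1 * a 1 0 = ν := by
    have := congrFun (congrFun hsq 0) 0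
    simpa [Matrix.mul_apply, Fin.sum_univ_two] using this
  have e11 : a 1 0 * a 0 1 + a 1 1 * a 1 1 = ν := by
    have := congrFun (congrFun hsq 1) 1
    simpa [Matrix.mul_apply, Fin.sum_univ_two] using this
  by_cases h10 : a 1 0 = 0
  · by_cases h01 : a 0 1 = 0
    · refine ⟨!![1, a 0 0; 1, a 1 1], ?_, ?_⟩
      · rw [Matrix.det_fin_two_of, isUnit_iff_ne_zero]
        intro h
        have h3 : a 0 0 = 0 := by
          have : (2 : F) * a 0 0 = 0 := by linear_combination htr - h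
          rcases mul_eq_zero.mp this with h | h
          · exact absurd h h2
          · exact h
        apply hν
        rw [← e00, h3, h01]; ring
      · ext i j
        fin_cases i <;> fin_cases j <;>
          simp [Jm, Matrix.mul_apply, Fin.sum_univ_two, h10, h01]
        · rw [h01] at e00; linear_combination e00
        · rw [h01] at e11; linear_combination e11
    · refine ⟨!![0, a 0 1; 1, a 1 1], ?_, ?_⟩
      · rw [Matrix.det_fin_two_of, isUnit_iff_ne_zero]
        intro h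
        apply h01
        linear_combination -h
      · ext i j
        fin_cases i <;> fin_cases j <;>
          simp [Jm, Matrix.mul_apply, Fin.sum_univ_two]
        · linear_combination a 0 1 * htr
        · linear_combination e11
  · refine ⟨!![1, a 0 0; 0, a 1 0], ?_, ?_⟩
    · rw [Matrix.det_fin_two_of, isUnit_iff_ne_zero]
      intro h
      apply h10
      linear_combination h
    · ext i j
      fin_cases i <;> fin_cases j <;>
        simp [Jm, Matrix.mul_apply, Fin.sum_univ_two]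
      · linear_combination e00
      · linear_combination a 1 0 * htr


/-- the traceless part, anticommuting with `Jm ν`, of a matrix -/
theorem anti_part (ν n : F) (hn : ν * n = 1) (b : M2) :
    (2 : F) • b - (b 0 0 + b 1 1) • (1 : M2) - ((ν * b 1 0 + b 0 1) * n) • Jm ν =
      !![b 0 0 - b 1 1, b 0 1 - ν * b 1 0; -(n * (b 0 1 - ν * b 1 0)), -(b 0 0 - b 1 1)] := by
  ext i j
  fin_cases i <;> fin_cases j <;> simp [Jm]
  · ring
  · linear_combination (-(b 0 1 + ν * b 1 0)) * hn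
  · linear_combination (-2 * b 1 0) * hn
  · ring

theorem anti_sq (U V n : F) :
    (!![U, V; -(n * V), -U] : M2) * !![U, V; -(n * V), -U] = (U ^ 2 - n * V ^ 2) • (1 : M2) := by
  ext i j
  fin_cases i <;> fin_cases j <;> simp [Matrix.mul_apply, Fin.sum_univ_two] <;> ring

theorem anti_J (ν n : F) (hn : ν * n = 1) (U V : F) :
    (!![U, V; -(n * V), -U] : M2) * Jm ν = -(Jm ν * !![U, V; -(n * V), -U]) := by
  ext i j
  fin_cases i <;> fin_cases j <;> simp [Jm, Matrix.mul_apply, Fin.sum_univ_two]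
  · linear_combination (-V) * hn
  · ring
  · linear_combination (V) * hn

/-- two matrices with the same invariants relative to `Jm ν` are conjugate under the centralizer
of `Jm ν` -/
theorem exists_conj_J (ν n : F) (hn : ν * n = 1) (h2 : (2 : F) ≠ 0) (b b' : M2)
    (ht : b 0 0 + b 1 1 = b' 0 0 + b' 1 1) (hs : ν * b 1 0 + b 0 1 = ν * b' 1 0 + b' 0 1)
    (hd : b 0 0 * b 1 1 - b 0 1 * b 1 0 = b' 0 0 * b' 1 1 - b' 0 1 * b' 1 0)
    (hΔ : (b 0 0 - b 1 1) ^ 2 - n * (b 0 1 - ν * b 1 0) ^ 2 ≠ 0) :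
    ∃ g : M2, IsUnit g.det ∧ g * Jm ν = Jm ν * g ∧ g * b = b' * g := by
  have hν : ν ≠ 0 := left_ne_zero_of_mul_eq_one hn
  have hn0 : n ≠ 0 := right_ne_zero_of_mul_eq_one hn
  set U := b 0 0 - b 1 1 with hU
  set V := b 0 1 - ν * b 1 0 with hV
  set U' := b' 0 0 - b' 1 1 with hU'
  set V' := b' 0 1 - ν * b' 1 0 with hV'
  set t := b 0 0 + b 1 1 with htdef
  set s := ν * b 1 0 + b 0 1 with hsdef
  set Δ := U ^ 2 - n * V ^ 2 with hΔdef
  have hΔeq : U' ^ 2 - n * V' ^ 2 = Δ := by
    rw [hΔdef, hU, hV, hU', hV']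
    linear_combination (-(b 0 0 + b 1 1 + b' 0 0 + b' 1 1)) * ht +
      n * (ν * b 1 0 + b 0 1 + ν * b' 1 0 + b' 0 1) * hs + 4 * hd +
      (4 * b' 0 1 * b' 1 0 - 4 * b 0 1 * b 1 0) * hn
  set B : M2 := !![U, V; -(n * V), -U] with hB
  set B' : M2 := !![U', V'; -(n * V'), -U'] with hB'
  have hBb : (2 : F) • b - t • (1 : M2) - (s * n) • Jm ν = B := anti_part ν n hn b
  have hBb' : (2 : F) • b' - t • (1 : M2) - (s * n) • Jm ν = B' := by
    have := anti_part ν n hn b'
    rw [← ht, ← hs] at this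
    exact this
  have hBB : B * B = Δ • (1 : M2) := anti_sq U V n
  have hBB' : B' * B' = Δ • (1 : M2) := by rw [← hΔeq]; exact anti_sq U' V' n
  have hBJ : B * Jm ν = -(Jm ν * B) := anti_J ν n hn U V
  have hBJ' : B' * Jm ν = -(Jm ν * B') := anti_J ν n hn U' V'
  have h2b : (2 : F) • b = B + t • (1 : M2) + (s * n) • Jm ν := by rw [← hBb]; abel
  have h2b' : (2 : F) • b' = B' + t • (1 : M2) + (s * n) • Jm ν := by rw [← hBb']; abel
  -- reduce to intertwining `B`, `B'` and commuting with `Jm ν`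
  have key : ∀ g : M2, g * Jm ν = Jm ν * g → g * B = B' * g → g * b = b' * g := by
    intro g hgJ hgB
    have h2' : (2 : F) • (g * b) = (2 : F) • (b' * g) := by
      rw [← Matrix.mul_smul, ← Matrix.smul_mul, h2b, h2b']
      simp only [mul_add, add_mul, Matrix.mul_smul, Matrix.smul_mul, mul_one, one_mul, hgB, hgJ]
    have := congrArg (fun m : M2 => (2 : F)⁻¹ • m) h2'
    simpa [smul_smul, inv_mul_cancel₀ h2] using this
  set P := U' * U - n * V' * V with hP
  set Q := U' * V - V' * U with hQ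
  by_cases hc : Δ + P = 0
  · -- `B' = -B`
    have hQ0 : Q = 0 := by
      have h1 : n * Q ^ 2 = 0 := by
        have e : P ^ 2 - n * Q ^ 2 = (U' ^ 2 - n * V' ^ 2) * (U ^ 2 - n * V ^ 2) := by
          rw [hP, hQ]; ring
        rw [hΔeq, ← hΔdef] at e
        have hP' : P = -Δ := by linear_combination hc
        rw [hP'] at e
        linear_combination -e
      rcases mul_eq_zero.mp h1 with h | h
      · exact absurd h hn0
      · exact pow_eq_zero_iff (two_ne_zero) |>.mp h
    have hA : (U + U') * Δ = 0 := by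
      have e : (U + U') * Δ = (Δ + P) * U - n * V * Q := by rw [hΔdef, hP, hQ]; ring
      rw [e, hc, hQ0]; ring
    have hC : (V + V') * Δ = 0 := by
      have e : (V + V') * Δ = V * (Δ + P) - U * Q := by rw [hΔdef, hP, hQ]; ring
      rw [e, hc, hQ0]; ring
    have hU0 : U' = -U := by
      rcases mul_eq_zero.mp hA with h | h
      · linear_combination h
      · exact absurd h hΔ
    have hV0 : V' = -V := by
      rcases mul_eq_zero.mp hC with h | h
      · linear_combination h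
      · exact absurd h hΔ
    have hBneg : B' = -B := by
      rw [hB', hB, hU0, hV0]
      ext i j
      fin_cases i <;> fin_cases j <;> simp
    refine ⟨Jm ν, ?_, rfl, key _ rfl ?_⟩
    · rw [det_Jm, isUnit_iff_ne_zero]; exact neg_ne_zero.mpr hν
    · rw [hBneg, neg_mul, hBJ, neg_neg]
  · set g : M2 := Δ • (1 : M2) + B' * B with hg
    have hgB : g * B = B' * g := by
      have e1 : g * B = Δ • B + Δ • B' := by
        rw [hg, add_mul, mul_assoc, hBB]
        simp only [Matrix.mul_smul, Matrix.smul_mul, mul_one, one_mul]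
      have e2 : B' * g = Δ • B' + Δ • B := by
        rw [hg, mul_add, ← mul_assoc, hBB']
        simp only [Matrix.mul_smul, Matrix.smul_mul, mul_one, one_mul]
      rw [e1, e2, add_comm]
    have hgJ : g * Jm ν = Jm ν * g := by
      have e1 : B' * B * Jm ν = Jm ν * (B' * B) := by
        rw [mul_assoc, hBJ, Matrix.mul_neg, ← mul_assoc, hBJ', neg_mul, neg_neg, mul_assoc]
      rw [hg, add_mul, mul_add, e1]
      simp only [Matrix.mul_smul, Matrix.smul_mul, mul_one, one_mul]
    refine ⟨g, ?_, hgJ, key g hgJ hgB⟩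
    have hgexp : g = !![Δ + P, Q; n * Q, Δ + P] := by
      rw [hg, hB', hB]
      ext i j
      fin_cases i <;> fin_cases j <;> simp [hP, hQ] <;> ring
    rw [hgexp, Matrix.det_fin_two_of, isUnit_iff_ne_zero]
    have e : (Δ + P) * (Δ + P) - Q * (n * Q) = 2 * Δ * (Δ + P) := by
      have e1 : P ^ 2 - n * Q ^ 2 = (U' ^ 2 - n * V' ^ 2) * (U ^ 2 - n * V ^ 2) := by
        rw [hP, hQ]; ring
      rw [hΔeq, ← hΔdef] at e1
      linear_combination e1
    rw [e]
    exact mul_ne_zero (mul_ne_zero h2 hΔ) hc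


theorem trace_Jm_mul (ν : F) (b : M2) : (Jm ν * b).trace = ν * b 1 0 + b 0 1 := by
  simp [Jm, Matrix.trace_fin_two, Matrix.vecMul, dotProduct, Fin.sum_univ_two]

/-- trace/determinant form of `exists_conj_J` -/
theorem exists_conj_J' (ν n : F) (hn : ν * n = 1) (h2 : (2 : F) ≠ 0) (b b' : M2)
    (ht : b.trace = b'.trace) (hs : (Jm ν * b).trace = (Jm ν * b').trace) (hd : b.det = b'.det)
    (hΔ : b.trace ^ 2 - n * (Jm ν * b).trace ^ 2 - 4 * b.det ≠ 0) :
    ∃ g : M2, IsUnit g.det ∧ g * Jm ν = Jm ν * g ∧ g * b = b' * g := by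
  rw [trace_Jm_mul] at hs hΔ
  rw [trace_Jm_mul] at hs
  rw [Matrix.trace_fin_two] at ht hΔ
  rw [Matrix.trace_fin_two] at ht
  rw [Matrix.det_fin_two] at hd hΔ
  rw [Matrix.det_fin_two] at hd
  apply exists_conj_J ν n hn h2 b b' ht hs hd
  intro h
  apply hΔ
  linear_combination h - (4 * b 0 1 * b 1 0) * hn

/-- **Rigidity**: pairs with the same invariants are conjugate. -/
theorem pair_conj (ν n : F) (hn : ν * n = 1) (h2 : (2 : F) ≠ 0) (a a' b b' : M2)
    (hatr : a 0 0 + a 1 1 = 0) (hasq : a * a = ν • (1 : M2))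
    (hatr' : a' 0 0 + a' 1 1 = 0) (hasq' : a' * a' = ν • (1 : M2))
    (ht : b.trace = b'.trace) (hs : (a * b).trace = (a' * b').trace) (hd : b.det = b'.det)
    (hΔ : b.trace ^ 2 - n * (a * b).trace ^ 2 - 4 * b.det ≠ 0) :
    ∃ k : M2, IsUnit k.det ∧ k * a = a' * k ∧ k * b = b' * k := by
  have hν : ν ≠ 0 := left_ne_zero_of_mul_eq_one hn
  obtain ⟨h, hh, hah⟩ := exists_normal_form a ν hν h2 hatr hasq
  obtain ⟨h', hh', hah'⟩ := exists_normal_form a' ν hν h2 hatr' hasq'
  have hi : h⁻¹ * h = 1 := Matrix.nonsing_inv_mul h hh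
  have hi2 : h * h⁻¹ = 1 := Matrix.mul_nonsing_inv h hh
  have hi' : h'⁻¹ * h' = 1 := Matrix.nonsing_inv_mul h' hh'
  have hi2' : h' * h'⁻¹ = 1 := Matrix.mul_nonsing_inv h' hh'
  -- `J h⁻¹ = h⁻¹ a`
  have hJ : Jm ν * h⁻¹ = h⁻¹ * a := by
    calc Jm ν * h⁻¹ = (h⁻¹ * h) * Jm ν * h⁻¹ := by rw [hi, one_mul]
      _ = h⁻¹ * (h * Jm ν) * h⁻¹ := by rw [mul_assoc h⁻¹]
      _ = h⁻¹ * (a * h) * h⁻¹ := by rw [hah]
      _ = h⁻¹ * a * (h * h⁻¹) := by simp only [mul_assoc]
      _ = h⁻¹ * a := by rw [hi2, mul_one]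
  have hJ' : Jm ν * h'⁻¹ = h'⁻¹ * a' := by
    calc Jm ν * h'⁻¹ = (h'⁻¹ * h') * Jm ν * h'⁻¹ := by rw [hi', one_mul]
      _ = h'⁻¹ * (h' * Jm ν) * h'⁻¹ := by rw [mul_assoc h'⁻¹]
      _ = h'⁻¹ * (a' * h') * h'⁻¹ := by rw [hah']
      _ = h'⁻¹ * a' * (h' * h'⁻¹) := by simp only [mul_assoc]
      _ = h'⁻¹ * a' := by rw [hi2', mul_one]
  set c := h⁻¹ * b * h with hc
  set c' := h'⁻¹ * b' * h' with hc'
  have htc : c.trace = b.trace := by
    rw [hc, Matrix.trace_mul_comm, ← mul_assoc, hi2, one_mul]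
  have htc' : c'.trace = b'.trace := by
    rw [hc', Matrix.trace_mul_comm, ← mul_assoc, hi2', one_mul]
  have hsc : (Jm ν * c).trace = (a * b).trace := by
    rw [hc, ← mul_assoc, ← mul_assoc, hJ, Matrix.trace_mul_comm, ← mul_assoc, ← mul_assoc, hi2,
      one_mul]
  have hsc' : (Jm ν * c').trace = (a' * b').trace := by
    rw [hc', ← mul_assoc, ← mul_assoc, hJ', Matrix.trace_mul_comm, ← mul_assoc, ← mul_assoc, hi2',
      one_mul]
  have hdc : c.det = b.det := by
    rw [hc, Matrix.det_mul, Matrix.det_mul, mul_comm, ← mul_assoc, ← Matrix.det_mul, hi2,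
      Matrix.det_one, one_mul]
  have hdc' : c'.det = b'.det := by
    rw [hc', Matrix.det_mul, Matrix.det_mul, mul_comm, ← mul_assoc, ← Matrix.det_mul, hi2',
      Matrix.det_one, one_mul]
  obtain ⟨g, hg, hgJ, hgc⟩ := exists_conj_J' ν n hn h2 c c' (by rw [htc, htc', ht])
    (by rw [hsc, hsc', hs]) (by rw [hdc, hdc', hd]) (by rw [htc, hsc, hdc]; exact hΔ)
  refine ⟨h' * g * h⁻¹, ?_, ?_, ?_⟩
  · rw [Matrix.det_mul, Matrix.det_mul]
    have : IsUnit (h⁻¹).det := by
      rw [Matrix.det_nonsing_inv]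
      exact (Ring.inverse_unit hh.unit).symm ▸ (hh.unit⁻¹).isUnit
    exact (hh'.mul hg).mul this
  · calc h' * g * h⁻¹ * a = h' * g * (h⁻¹ * a) := by rw [mul_assoc]
      _ = h' * g * (Jm ν * h⁻¹) := by rw [hJ]
      _ = h' * (g * Jm ν) * h⁻¹ := by simp only [mul_assoc]
      _ = h' * (Jm ν * g) * h⁻¹ := by rw [hgJ]
      _ = (h' * Jm ν) * g * h⁻¹ := by simp only [mul_assoc]
      _ = (a' * h') * g * h⁻¹ := by rw [hah']
      _ = a' * (h' * g * h⁻¹) := by simp only [mul_assoc]
  · have hb : h⁻¹ * b = c * h⁻¹ := by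
      rw [hc, mul_assoc, hi2, mul_one]
    have hb' : h' * c' = b' * h' := by
      rw [hc', ← mul_assoc, ← mul_assoc, hi2', one_mul]
    calc h' * g * h⁻¹ * b = h' * g * (h⁻¹ * b) := by rw [mul_assoc]
      _ = h' * g * (c * h⁻¹) := by rw [hb]
      _ = h' * (g * c) * h⁻¹ := by simp only [mul_assoc]
      _ = h' * (c' * g) * h⁻¹ := by rw [hgc]
      _ = (h' * c') * g * h⁻¹ := by simp only [mul_assoc]
      _ = (b' * h') * g * h⁻¹ := by rw [hb']
      _ = b' * (h' * g * h⁻¹) := by simp only [mul_assoc]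

/-- a point on a conic over a finite field of odd order -/
theorem exists_model {K : Type*} [Field K] [Fintype K] (hK : Fintype.card K % 2 = 1)
    (ν t s : K) (hν : ν ≠ 0) : ∃ x z : K, x * (t - x) - (s - ν * z) * z = 1 := by
  open Polynomial in
  have hf : (C (-1 : K) * X ^ 2 + C t * X + C (-1)).degree = 2 :=
    degree_quadratic (by norm_num)
  open Polynomial in
  have hg : (C ν * X ^ 2 + C (-s) * X + C (0 : K)).degree = 2 := degree_quadratic hν
  obtain ⟨x, z, h⟩ := FiniteField.exists_root_sum_quadratic hf hg hK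
  refine ⟨x, z, ?_⟩
  simp only [Polynomial.eval_add, Polynomial.eval_mul, Polynomial.eval_C, Polynomial.eval_pow,
    Polynomial.eval_X] at h
  linear_combination h

end Cfsg.Agent.Lib.Helper14.Mx
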