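import Mathlib
import Cfsg.Agent.Lib.Helper14.MxField
import Cfsg.Agent.Lib.Helper14.MxRigid

set_option autoImplicit false
set_option linter.style.haveILetI false

/-!
# Traces of elements of small order in `SL₂(F)` and conjugation into subfield subgroups
-/

namespace Cfsg.Agent.Lib.Helper14.Mx

open Cfsg.Agent.Lib.Helper2.SL2 Cfsg.Agent.Lib.Helper2.Dk Cfsg.Agent.Lib.Helper14.Dk

section traces

variable {F : Type*} [Field F]

local notation "SL2" => Matrix.SpecialLinearGroup (Fin 2) F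
local notation "M2" => Matrix (Fin 2) (Fin 2) F

/-- Cayley–Hamilton -/
theorem ch (c : SL2) : c.1 * c.1 = tr2 c • c.1 - 1 := by
  have hd := det2 c
  ext i j
  fin_cases i <;> fin_cases j <;>
    simp [Matrix.mul_apply, Fin.sum_univ_two, tr2]
  · linear_combination -hd
  · ring
  · ring
  · linear_combination -hd

/-- the Chebyshev-type coefficients of powers -/
def cU (t : F) : ℕ → F
  | 0 => 0
  | 1 => 1
  | (n + 2) => t * cU t (n + 1) - cU t n

theorem cU_two (t : F) : cU t 2 = t := by simp [cU]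
theorem cU_three (t : F) : cU t 3 = t ^ 2 - 1 := by simp [cU]; ring
theorem cU_four (t : F) : cU t 4 = t ^ 3 - 2 * t := by simp [cU]; ring
theorem cU_five (t : F) : cU t 5 = t ^ 4 - 3 * t ^ 2 + 1 := by simp [cU]; ring

theorem pow_succ_eq (c : SL2) (n : ℕ) :
    c.1 ^ (n + 1) = cU (tr2 c) (n + 1) • c.1 - cU (tr2 c) n • (1 : M2) := by
  induction n with
  | zero => simp [cU]
  | succ n ih =>
    rw [pow_succ, ih, sub_mul, Matrix.smul_mul, Matrix.smul_mul, one_mul, ch]
    have : cU (tr2 c) (n + 1 + 1) = tr2 c * cU (tr2 c) (n + 1) - cU (tr2 c) n := rfl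
    rw [this]
    module

/-- a matrix of `SL₂` which is a scalar is central -/
theorem scalar_of_smul (c : SL2) (u v : F) (hu : u ≠ 0) (h : u • c.1 = v • (1 : M2)) :
    c = 1 ∨ c = -1 := by
  have e00 : u * c 0 0 = v := by
    have := congrFun (congrFun h 0) 0
    simpa using this
  have e01 : u * c 0 1 = 0 := by
    have := congrFun (congrFun h 0) 1
    simpa using this
  have e10 : u * c 1 0 = 0 := by
    have := congrFun (congrFun h 1) 0
    simpa using this
  have e11 : u * c 1 1 = v := by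
    have := congrFun (congrFun h 1) 1
    simpa using this
  have h01 : c 0 1 = 0 := by
    rcases mul_eq_zero.mp e01 with h | h
    · exact absurd h hu
    · exact h
  have h10 : c 1 0 = 0 := by
    rcases mul_eq_zero.mp e10 with h | h
    · exact absurd h hu
    · exact h
  have h0011 : c 0 0 = c 1 1 := by
    have : u * (c 0 0 - c 1 1) = 0 := by linear_combination e00 - e11
    rcases mul_eq_zero.mp this with h | h
    · exact absurd h hu
    · linear_combination h
  have hd := det2 c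
  rw [h01, h10, ← h0011] at hd
  have : (c 0 0 - 1) * (c 0 0 + 1) = 0 := by linear_combination hd
  rcases mul_eq_zero.mp this with h | h
  · left
    apply ext2 <;> simp only [one00, one01, one10, one11]
    · linear_combination h
    · exact h01
    · exact h10
    · rw [← h0011]; linear_combination h
  · right
    apply ext2 <;> simp only [neg00, neg01, neg10, neg11, one00, one01, one10, one11]
    · linear_combination h
    · rw [h01]; ring
    · rw [h10]; ring
    · rw [← h0011]; linear_combination h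

theorem tr2_of_sq (a : SL2) (ha : a * a = -1) : tr2 a = 0 := by
  have e00 : a 0 0 * a 0 0 + a 0 1 * a 1 0 = -1 := by
    rw [← mul00, ha, neg00, one00]
  have e11 : a 1 0 * a 0 1 + a 1 1 * a 1 1 = -1 := by
    rw [← mul11, ha, neg11, one11]
  have hd := det2 a
  have : tr2 a ^ 2 = 0 := by
    unfold tr2
    linear_combination e00 + e11 + 2 * hd
  exact pow_eq_zero_iff (two_ne_zero) |>.mp this

theorem tr2_of_cube (c : SL2) (hc : c ^ 3 = 1) (hc1 : c ≠ 1) (hc2 : c ≠ -1) : tr2 c = -1 := by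
  have h := pow_succ_eq c 2
  have hc' : c.1 ^ 3 = 1 := by
    rw [← Matrix.SpecialLinearGroup.coe_pow, hc]; rfl
  rw [hc', cU_three, cU_two] at h
  have h' : (tr2 c ^ 2 - 1) • c.1 = (tr2 c + 1) • (1 : M2) := by
    rw [add_smul, one_smul, add_comm]
    exact eq_add_of_sub_eq h.symm
  by_cases hu : tr2 c ^ 2 - 1 = 0
  · rw [hu, zero_smul] at h'
    have := congrFun (congrFun h' 0) 0
    simp at this
    linear_combination -this
  · rcases scalar_of_smul c _ _ hu h' with h | h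
    · exact absurd h hc1
    · exact absurd h hc2

theorem tr2_of_pow_four (c : SL2) (hc : c ^ 4 = -1) (hc1 : c ≠ 1) (hc2 : c ≠ -1) :
    tr2 c ^ 2 = 2 := by
  have h := pow_succ_eq c 3
  have hc' : c.1 ^ 4 = -1 := by
    rw [← Matrix.SpecialLinearGroup.coe_pow, hc]
    ext i j
    fin_cases i <;> fin_cases j <;> simp
  rw [hc', cU_four, cU_three] at h
  have h' : (tr2 c ^ 3 - 2 * tr2 c) • c.1 = (tr2 c ^ 2 - 2) • (1 : M2) := by
    have e : (tr2 c ^ 2 - 2) • (1 : M2) = (tr2 c ^ 2 - 1) • (1 : M2) + (-1 : M2) := by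
      rw [sub_smul, sub_smul, one_smul]
      have : (2 : F) • (1 : M2) = 1 + 1 := by rw [two_smul]
      rw [this]; abel
    rw [e, h]; abel
  by_cases hu : tr2 c ^ 3 - 2 * tr2 c = 0
  · rw [hu, zero_smul] at h'
    have := congrFun (congrFun h' 0) 0
    simp at this
    linear_combination -this
  · rcases scalar_of_smul c _ _ hu h' with h | h
    · exact absurd h hc1
    · exact absurd h hc2

theorem tr2_of_pow_five (c : SL2) (hc : c ^ 5 = 1) (hc1 : c ≠ 1) (hc2 : c ≠ -1) :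
    tr2 c ^ 2 + tr2 c - 1 = 0 := by
  have h := pow_succ_eq c 4
  have hc' : c.1 ^ 5 = 1 := by
    rw [← Matrix.SpecialLinearGroup.coe_pow, hc]; rfl
  rw [hc', cU_five, cU_four] at h
  have h' : (tr2 c ^ 4 - 3 * tr2 c ^ 2 + 1) • c.1 = (tr2 c ^ 3 - 2 * tr2 c + 1) • (1 : M2) := by
    rw [add_smul (tr2 c ^ 3 - 2 * tr2 c), one_smul]
    exact eq_add_of_sub_eq' h.symm
  by_cases hu : tr2 c ^ 4 - 3 * tr2 c ^ 2 + 1 = 0
  · rw [hu, zero_smul] at h'
    have := congrFun (congrFun h' 0) 0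
    simp at this
    linear_combination tr2 c * (-this) - hu
  · rcases scalar_of_smul c _ _ hu h' with h | h
    · exact absurd h hc1
    · exact absurd h hc2

end traces


section conj

variable {F : Type*} [Field F] [Fintype F]

local notation "SL2" => Matrix.SpecialLinearGroup (Fin 2) F
local notation "M2" => Matrix (Fin 2) (Fin 2) F

omit [Fintype F] in
theorem coe_sq_of_sq (a : SL2) (ha : a * a = -1) : a.1 * a.1 = (-1 : F) • (1 : M2) := by
  have : a.1 * a.1 = (a * a).1 := rfl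
  rw [this, ha]
  ext i j
  fin_cases i <;> fin_cases j <;> simp

omit [Fintype F] in
theorem trace_coe (b : SL2) : b.1.trace = tr2 b := by
  rw [Matrix.trace_fin_two]; rfl

/-- the core conjugation statement -/
theorem conj_core (h2 : (2 : F) ≠ 0) (E : Subfield F) (a b : SL2) (ha : a * a = -1) (l : F)
    (hl : l ≠ 0) (hν : l ^ 2 ∈ E) (ht : tr2 b ∈ E) (hs : l * tr2 (a * b) ∈ E)
    (hΔ : tr2 b ^ 2 + tr2 (a * b) ^ 2 - 4 ≠ 0) :
    ∃ (k : M2) (_ : IsUnit k.det) (m₁ m₂ : M2), (∀ i j, m₁ i j ∈ E) ∧ (∀ i j, m₂ i j ∈ E) ∧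
      k * (l • a.1) = m₁ * k ∧ k * b.1 = m₂ * k := by
  haveI : Fintype E := Fintype.ofFinite E
  set ν : F := -l ^ 2 with hνdef
  set n : F := -(l ^ 2)⁻¹ with hndef
  have hl2 : l ^ 2 ≠ 0 := pow_ne_zero 2 hl
  have hn : ν * n = 1 := by
    rw [hνdef, hndef]; field_simp
  have hν0 : ν ≠ 0 := left_ne_zero_of_mul_eq_one hn
  have hνE : ν ∈ E := E.neg_mem hν
  have hta : tr2 a = 0 := tr2_of_sq a ha
  set t := tr2 b with htdef
  set s := l * tr2 (a * b) with hsdef
  have hK : Fintype.card E % 2 = 1 := by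
    rw [← Nat.card_eq_fintype_card]; exact odd_card_subfield h2 E
  obtain ⟨x, z, hxz⟩ := exists_model (K := E) hK ⟨ν, hνE⟩ ⟨t, ht⟩ ⟨s, hs⟩
    (fun h => hν0 (congrArg Subtype.val h))
  have hxz' : (x : F) * (t - x) - (s - ν * z) * z = 1 := by
    have := congrArg Subtype.val hxz
    simpa using this
  set b₀ : M2 := !![(x : F), s - ν * z; (z : F), t - x] with hb₀
  have hb₀E : ∀ i j, b₀ i j ∈ E := by
    intro i j
    fin_cases i <;> fin_cases j
    · exact x.2
    · exact E.sub_mem hs (E.mul_mem hνE z.2)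
    · exact z.2
    · exact E.sub_mem ht x.2
  have hJE : ∀ i j, Jm ν i j ∈ E := by
    intro i j
    fin_cases i <;> fin_cases j
    · exact E.zero_mem
    · exact hνE
    · exact E.one_mem
    · exact E.zero_mem
  -- the hypotheses of `pair_conj`
  have hatr : (l • a.1) 0 0 + (l • a.1) 1 1 = 0 := by
    have : (l • a.1) 0 0 + (l • a.1) 1 1 = l * tr2 a := by
      simp [tr2]; ring
    rw [this, hta, mul_zero]
  have hasq : (l • a.1) * (l • a.1) = ν • (1 : M2) := by
    rw [Matrix.smul_mul, Matrix.mul_smul, coe_sq_of_sq a ha, smul_smul, smul_smul, hνdef]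
    congr 1
    ring
  have hJtr : Jm ν 0 0 + Jm ν 1 1 = 0 := by simp [Jm]
  have htr1 : b.1.trace = b₀.trace := by
    rw [trace_coe, Matrix.trace_fin_two, hb₀]
    simp [htdef]
  have hab : (l • a.1) * b.1 = l • (a * b).1 := by
    rw [Matrix.smul_mul]; rfl
  have htr2 : ((l • a.1) * b.1).trace = (Jm ν * b₀).trace := by
    rw [hab, Matrix.trace_smul, trace_coe, trace_Jm_mul, hb₀]
    simp
    rw [← hsdef]
  have hdet : b.1.det = b₀.det := by
    rw [b.2, hb₀, Matrix.det_fin_two_of]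
    linear_combination -hxz'
  have hΔ' : b.1.trace ^ 2 - n * ((l • a.1) * b.1).trace ^ 2 - 4 * b.1.det ≠ 0 := by
    rw [hab, Matrix.trace_smul, trace_coe, trace_coe, b.2]
    intro h
    apply hΔ
    have e : n * l ^ 2 = -1 := by rw [hndef]; field_simp
    have : tr2 b ^ 2 - n * (l • tr2 (a * b)) ^ 2 - 4 * 1 = tr2 b ^ 2 + tr2 (a * b) ^ 2 - 4 := by
      rw [smul_eq_mul]
      linear_combination (-(tr2 (a * b)) ^ 2) * e
    rw [← this]
    exact h
  obtain ⟨k, hk, hka, hkb⟩ := pair_conj ν n hn h2 (l • a.1) (Jm ν) b.1 b₀ hatr hasq hJtr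
    (Jm_mul_Jm ν) htr1 htr2 hdet hΔ'
  exact ⟨k, hk, Jm ν, b₀, hJE, hb₀E, hka, hkb⟩

/-- a pair `(a, b)` with `a² = -1` and traces in a subfield is conjugate into the subfield
subgroup -/
theorem conj_into_SLE (h2 : (2 : F) ≠ 0) (E : Subfield F) (a b : SL2) (ha : a * a = -1)
    (ht : tr2 b ∈ E) (hs : tr2 (a * b) ∈ E) (hΔ : tr2 b ^ 2 + tr2 (a * b) ^ 2 - 4 ≠ 0) :
    ∃ (k : M2) (hk : IsUnit k.det), conjM k hk a ∈ SLE E ∧ conjM k hk b ∈ SLE E := by
  obtain ⟨k, hk, m₁, m₂, hm₁, hm₂, h1, h2'⟩ := conj_core h2 E a b ha 1 one_ne_zero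
    (by rw [one_pow]; exact E.one_mem) ht (by rw [one_mul]; exact hs) hΔ
  rw [one_smul] at h1
  exact ⟨k, hk, conjM_mem_SLE k hk a m₁ h1 E hm₁, conjM_mem_SLE k hk b m₂ h2' E hm₂⟩

/-- the projective variant -/
theorem conj_into_PG (h2 : (2 : F) ≠ 0) (E : Subfield F) (a b : SL2) (ha : a * a = -1) (l : F)
    (hl : l ≠ 0) (hν : l ^ 2 ∈ E) (ht : tr2 b ∈ E) (hs : l * tr2 (a * b) ∈ E)
    (hΔ : tr2 b ^ 2 + tr2 (a * b) ^ 2 - 4 ≠ 0) :
    ∃ (k : M2) (hk : IsUnit k.det), conjM k hk a ∈ PG E ∧ conjM k hk b ∈ PG E := by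
  obtain ⟨k, hk, m₁, m₂, hm₁, hm₂, h1, h2'⟩ := conj_core h2 E a b ha l hl hν ht hs hΔ
  exact ⟨k, hk, conjM_mem_PG k hk a m₁ l hl h1 E hm₁,
    SLE_le_PG E (conjM_mem_SLE k hk b m₂ h2' E hm₂)⟩

omit [Fintype F] in
/-- rigidity for pairs in `SL₂` -/
theorem pair_conj_SL (h2 : (2 : F) ≠ 0) (a b a' b' : SL2) (ha : a * a = -1) (ha' : a' * a' = -1)
    (ht : tr2 b = tr2 b') (hs : tr2 (a * b) = tr2 (a' * b'))
    (hΔ : tr2 b ^ 2 + tr2 (a * b) ^ 2 - 4 ≠ 0) :
    ∃ (k : M2) (hk : IsUnit k.det), conjM k hk a = a' ∧ conjM k hk b = b' := by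
  have hta : a 0 0 + a 1 1 = 0 := tr2_of_sq a ha
  have hta' : a' 0 0 + a' 1 1 = 0 := tr2_of_sq a' ha'
  have hΔ' : b.1.trace ^ 2 - (-1 : F) * (a.1 * b.1).trace ^ 2 - 4 * b.1.det ≠ 0 := by
    have e : a.1 * b.1 = (a * b).1 := rfl
    rw [e, trace_coe, trace_coe, b.2]
    intro h
    apply hΔ
    linear_combination h
  obtain ⟨k, hk, hka, hkb⟩ := pair_conj (-1 : F) (-1) (by ring) h2 a.1 a'.1 b.1 b'.1 hta
    (coe_sq_of_sq a ha) hta' (coe_sq_of_sq a' ha') (by rw [trace_coe, trace_coe, ht])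
    (by
      have e : a.1 * b.1 = (a * b).1 := rfl
      have e' : a'.1 * b'.1 = (a' * b').1 := rfl
      rw [e, e', trace_coe, trace_coe, hs])
    (by rw [b.2, b'.2]) hΔ'
  refine ⟨k, hk, ?_, ?_⟩
  · apply Subtype.ext
    exact conjM_eq_of_mul k hk a a'.1 hka
  · apply Subtype.ext
    exact conjM_eq_of_mul k hk b b'.1 hkb

end conj


section lift

variable {F : Type*} [Field F]

local notation "SL2" => Matrix.SpecialLinearGroup (Fin 2) F
local notation "PSL2" => Matrix.ProjectiveSpecialLinearGroup (Fin 2) F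

variable {A : Type*} [Group A]
variable (X : Subgroup (Matrix.SpecialLinearGroup (Fin 2) F))
variable (e : ↥(X.map (QuotientGroup.mk' (Subgroup.center
  (Matrix.SpecialLinearGroup (Fin 2) F)))) ≃* A)

/-- the surjection from `X` onto a group isomorphic to its image in `PSL₂` -/
noncomputable def psi : ↥X →* A :=
  e.toMonoidHom.comp ((QuotientGroup.mk' (Subgroup.center SL2)).subgroupMap X)

theorem psi_surjective : Function.Surjective (psi X e) := by
  unfold psi
  rw [MonoidHom.coe_comp]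
  exact e.surjective.comp (MonoidHom.subgroupMap_surjective _ _)

theorem psi_eq_one_iff (x : ↥X) : psi X e x = 1 ↔ (x : SL2) = 1 ∨ (x : SL2) = -1 := by
  unfold psi
  rw [MonoidHom.comp_apply, MulEquiv.coe_toMonoidHom, MulEquiv.map_eq_one_iff]
  constructor
  · intro h
    have h1 : (QuotientGroup.mk' (Subgroup.center SL2)) (x : SL2) = 1 := congrArg Subtype.val h
    rw [← MonoidHom.mem_ker, QuotientGroup.ker_mk'] at h1
    exact (mem_center_iff_pm _).mp h1
  · intro h
    apply Subtype.ext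
    show (QuotientGroup.mk' (Subgroup.center SL2)) (x : SL2) = 1
    rw [← MonoidHom.mem_ker, QuotientGroup.ker_mk']
    exact (mem_center_iff_pm _).mpr h

variable {X e}

theorem psi_eq_of_neg {x y : ↥X} (h : (y : SL2) = -(x : SL2)) : psi X e y = psi X e x := by
  have h1 : psi X e (y * x⁻¹) = 1 := by
    rw [psi_eq_one_iff]
    right
    show (y : SL2) * (x : SL2)⁻¹ = -1
    rw [h, neg_mul, mul_inv_cancel]
  rw [map_mul, map_inv, mul_inv_eq_one] at h1
  exact h1

theorem exists_neg (hZX : Subgroup.center SL2 ≤ X) (x : ↥X) :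
    ∃ y : ↥X, (y : SL2) = -(x : SL2) :=
  ⟨⟨-(x : SL2), by
    rw [Cfsg.Agent.Lib.Helper14.Dk.neg_eq_neg_one_mul]
    exact X.mul_mem (hZX neg_one_mem_center) x.2⟩, rfl⟩

/-- lifting an involution -/
theorem exists_lift_invol (h2 : (2 : F) ≠ 0) {a' : A} (h1 : a' ≠ 1) (h2' : a' * a' = 1) :
    ∃ a : ↥X, psi X e a = a' ∧ (a : SL2) * (a : SL2) = -1 := by
  obtain ⟨a, ha⟩ := psi_surjective X e a'
  refine ⟨a, ha, ?_⟩
  have h3 : psi X e (a * a) = 1 := by rw [map_mul, ha, h2']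
  rw [psi_eq_one_iff] at h3
  rcases h3 with h3 | h3
  · exfalso
    apply h1
    rw [← ha, psi_eq_one_iff]
    exact eq_one_or_neg_one_of_mul_self h2 (a : SL2) h3
  · exact h3

/-- lifting an element of odd order -/
theorem exists_lift_odd (hZX : Subgroup.center SL2 ≤ X) {n : ℕ} (hn : Odd n) {b' : A}
    (hb : b' ^ n = 1) : ∃ b : ↥X, psi X e b = b' ∧ (b : SL2) ^ n = 1 := by
  obtain ⟨x, hx⟩ := psi_surjective X e b'
  have h3 : psi X e (x ^ n) = 1 := by rw [map_pow, hx, hb]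
  rw [psi_eq_one_iff] at h3
  rcases h3 with h3 | h3
  · exact ⟨x, hx, h3⟩
  · obtain ⟨y, hy⟩ := exists_neg hZX x
    refine ⟨y, (psi_eq_of_neg hy).trans hx, ?_⟩
    have h4 : ((x ^ n : ↥X) : SL2) = (x : SL2) ^ n := rfl
    rw [hy, hn.neg_pow, ← h4, h3, neg_neg]

/-- lifting a pair whose product has odd order -/
theorem exists_lift_pair_odd (h2 : (2 : F) ≠ 0) (hZX : Subgroup.center SL2 ≤ X) {n : ℕ}
    (hn : Odd n) {a' b' : A} (ha1 : a' ≠ 1) (ha2 : a' * a' = 1) (hb : b' ^ 3 = 1)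
    (hab : (a' * b') ^ n = 1) :
    ∃ a b : ↥X, psi X e a = a' ∧ psi X e b = b' ∧ (a : SL2) * (a : SL2) = -1 ∧
      (b : SL2) ^ 3 = 1 ∧ ((a : SL2) * (b : SL2)) ^ n = 1 := by
  obtain ⟨a, ha, haa⟩ := exists_lift_invol (X := X) (e := e) h2 ha1 ha2
  obtain ⟨b, hb', hb3⟩ := exists_lift_odd (X := X) (e := e) hZX (by decide : Odd 3) hb
  have h3 : psi X e ((a * b) ^ n) = 1 := by rw [map_pow, map_mul, ha, hb', hab]
  rw [psi_eq_one_iff] at h3
  rcases h3 with h3 | h3
  · exact ⟨a, b, ha, hb', haa, hb3, h3⟩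
  · obtain ⟨y, hy⟩ := exists_neg hZX a
    refine ⟨y, b, (psi_eq_of_neg hy).trans ha, hb', ?_, hb3, ?_⟩
    · rw [hy, neg_mul_neg]; exact haa
    · have h4 : (((a * b) ^ n : ↥X) : SL2) = ((a : SL2) * (b : SL2)) ^ n := rfl
      rw [hy, neg_mul, hn.neg_pow, ← h4, h3, neg_neg]

/-- lifting a pair whose product has order four -/
theorem exists_lift_pair_four (h2 : (2 : F) ≠ 0) (hZX : Subgroup.center SL2 ≤ X)
    {a' b' : A} (ha1 : a' ≠ 1) (ha2 : a' * a' = 1) (hb : b' ^ 3 = 1)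
    (hab : (a' * b') ^ 4 = 1) (hab2 : (a' * b') ^ 2 ≠ 1) :
    ∃ a b : ↥X, psi X e a = a' ∧ psi X e b = b' ∧ (a : SL2) * (a : SL2) = -1 ∧
      (b : SL2) ^ 3 = 1 ∧ ((a : SL2) * (b : SL2)) ^ 4 = -1 := by
  obtain ⟨a, ha, haa⟩ := exists_lift_invol (X := X) (e := e) h2 ha1 ha2
  obtain ⟨b, hb', hb3⟩ := exists_lift_odd (X := X) (e := e) hZX (by decide : Odd 3) hb
  have h3 : psi X e ((a * b) ^ 4) = 1 := by rw [map_pow, map_mul, ha, hb', hab]
  rw [psi_eq_one_iff] at h3
  refine ⟨a, b, ha, hb', haa, hb3, ?_⟩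
  rcases h3 with h3 | h3
  · exfalso
    apply hab2
    rw [← ha, ← hb', ← map_mul, ← map_pow, psi_eq_one_iff]
    apply eq_one_or_neg_one_of_mul_self h2
    have h4 : (((a * b) ^ 4 : ↥X) : SL2) = ((a : SL2) * (b : SL2)) ^ 4 := rfl
    rw [h4] at h3
    have h5 : (((a * b) ^ 2 : ↥X) : SL2) = ((a : SL2) * (b : SL2)) ^ 2 := rfl
    rw [h5, ← pow_two, ← pow_mul]
    exact h3
  · exact h3

/-- generation of `X` by lifted generators -/
theorem eq_closure_of_gen {a' b' : A} (hgen : Subgroup.closure {a', b'} = ⊤) (a b : ↥X)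
    (ha : psi X e a = a') (hb : psi X e b = b') (haa : (a : SL2) * (a : SL2) = -1) :
    X = Subgroup.closure {(a : SL2), (b : SL2)} := by
  apply le_antisymm
  · intro x hx
    have h1 : psi X e ⟨x, hx⟩ ∈ (Subgroup.closure {a, b}).map (psi X e) := by
      rw [MonoidHom.map_closure, Set.image_pair, ha, hb, hgen]
      exact Subgroup.mem_top _
    obtain ⟨y, hy, hyx⟩ := h1
    have hy' : (y : SL2) ∈ Subgroup.closure {(a : SL2), (b : SL2)} := by
      have : (y : SL2) ∈ (Subgroup.closure {a, b}).map X.subtype := ⟨y, hy, rfl⟩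
      rw [MonoidHom.map_closure, Set.image_pair] at this
      exact this
    have h3 : psi X e (y⁻¹ * ⟨x, hx⟩) = 1 := by
      rw [map_mul, map_inv, hyx, inv_mul_cancel]
    rw [psi_eq_one_iff] at h3
    have hneg : (-1 : SL2) ∈ Subgroup.closure {(a : SL2), (b : SL2)} := by
      rw [← haa]
      have : (a : SL2) ∈ Subgroup.closure {(a : SL2), (b : SL2)} :=
        Subgroup.subset_closure (by simp)
      exact Subgroup.mul_mem _ this this
    have e1 : x = (y : SL2) * ((y : SL2)⁻¹ * x) := by group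
    rw [e1]
    apply Subgroup.mul_mem _ hy'
    rcases h3 with h3 | h3
    · have : (y : SL2)⁻¹ * x = 1 := h3
      rw [this]; exact Subgroup.one_mem _
    · have : (y : SL2)⁻¹ * x = -1 := h3
      rw [this]; exact hneg
  · rw [Subgroup.closure_le]
    intro x hx
    rcases hx with rfl | rfl
    · exact a.2
    · exact b.2

end lift

end Cfsg.Agent.Lib.Helper14.Mx
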