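import Mathlib
import Cfsg.Agent.Lib.Helper14.MxLift
import Cfsg.Agent.Lib.Helper14.MxGen
import Cfsg.Agent.S0804

set_option autoImplicit false
set_option linter.style.haveILetI false

/-!
# Maximal subgroups of `SL₂(q)` of types `A₄`, `S₄`, `A₅`
-/

namespace Cfsg.Agent.Lib.Helper14.Mx

open Cfsg.Agent.Lib.Helper2.SL2 Cfsg.Agent.Lib.Helper2.Dk Cfsg.Agent.Lib.Helper14.Dk

section general

variable {F : Type*} [Field F]

local notation "SL2" => Matrix.SpecialLinearGroup (Fin 2) F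
local notation "PSL2" => Matrix.ProjectiveSpecialLinearGroup (Fin 2) F

variable {A : Type*} [Group A]
variable {X : Subgroup (Matrix.SpecialLinearGroup (Fin 2) F)}
variable {e : ↥(X.map (QuotientGroup.mk' (Subgroup.center
  (Matrix.SpecialLinearGroup (Fin 2) F)))) ≃* A}

theorem not_pm_of_psi_ne {x : ↥X} (h : psi X e x ≠ 1) : (x : SL2) ≠ 1 ∧ (x : SL2) ≠ -1 := by
  constructor
  · intro h1
    exact h ((psi_eq_one_iff X e x).mpr (Or.inl h1))
  · intro h1
    exact h ((psi_eq_one_iff X e x).mpr (Or.inr h1))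

/-- lifting a `(2,3,3)`-pair, with traces -/
theorem lift_traces_three (h2 : (2 : F) ≠ 0) (hZX : Subgroup.center SL2 ≤ X) {a' b' : A}
    (ha1 : a' ≠ 1) (ha2 : a' * a' = 1) (hb1 : b' ≠ 1) (hb : b' ^ 3 = 1) (hab1 : a' * b' ≠ 1)
    (hab : (a' * b') ^ 3 = 1) :
    ∃ a b : ↥X, psi X e a = a' ∧ psi X e b = b' ∧ (a : SL2) * (a : SL2) = -1 ∧
      tr2 (b : SL2) = -1 ∧ tr2 ((a : SL2) * (b : SL2)) = -1 := by
  obtain ⟨a, b, ha, hb', haa, hb3, hab3⟩ :=
    exists_lift_pair_odd (X := X) (e := e) h2 hZX (by decide : Odd 3) ha1 ha2 hb hab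
  refine ⟨a, b, ha, hb', haa, ?_, ?_⟩
  · obtain ⟨h1, h2'⟩ := not_pm_of_psi_ne (X := X) (e := e) (x := b) (by rw [hb']; exact hb1)
    exact tr2_of_cube (b : SL2) hb3 h1 h2'
  · obtain ⟨h1, h2'⟩ := not_pm_of_psi_ne (X := X) (e := e) (x := a * b)
      (by rw [map_mul, ha, hb']; exact hab1)
    exact tr2_of_cube ((a : SL2) * (b : SL2)) hab3 h1 h2'

/-- lifting a `(2,3,5)`-pair, with traces -/
theorem lift_traces_five (h2 : (2 : F) ≠ 0) (hZX : Subgroup.center SL2 ≤ X) {a' b' : A}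
    (ha1 : a' ≠ 1) (ha2 : a' * a' = 1) (hb1 : b' ≠ 1) (hb : b' ^ 3 = 1) (hab1 : a' * b' ≠ 1)
    (hab : (a' * b') ^ 5 = 1) :
    ∃ a b : ↥X, psi X e a = a' ∧ psi X e b = b' ∧ (a : SL2) * (a : SL2) = -1 ∧
      tr2 (b : SL2) = -1 ∧
      tr2 ((a : SL2) * (b : SL2)) ^ 2 + tr2 ((a : SL2) * (b : SL2)) - 1 = 0 := by
  obtain ⟨a, b, ha, hb', haa, hb3, hab3⟩ :=
    exists_lift_pair_odd (X := X) (e := e) h2 hZX (by decide : Odd 5) ha1 ha2 hb hab
  refine ⟨a, b, ha, hb', haa, ?_, ?_⟩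
  · obtain ⟨h1, h2'⟩ := not_pm_of_psi_ne (X := X) (e := e) (x := b) (by rw [hb']; exact hb1)
    exact tr2_of_cube (b : SL2) hb3 h1 h2'
  · obtain ⟨h1, h2'⟩ := not_pm_of_psi_ne (X := X) (e := e) (x := a * b)
      (by rw [map_mul, ha, hb']; exact hab1)
    exact tr2_of_pow_five ((a : SL2) * (b : SL2)) hab3 h1 h2'

/-- lifting a `(2,3,4)`-pair, with traces -/
theorem lift_traces_four (h2 : (2 : F) ≠ 0) (hZX : Subgroup.center SL2 ≤ X) {a' b' : A}
    (ha1 : a' ≠ 1) (ha2 : a' * a' = 1) (hb1 : b' ≠ 1) (hb : b' ^ 3 = 1)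
    (hab : (a' * b') ^ 4 = 1) (hab2 : (a' * b') ^ 2 ≠ 1) :
    ∃ a b : ↥X, psi X e a = a' ∧ psi X e b = b' ∧ (a : SL2) * (a : SL2) = -1 ∧
      tr2 (b : SL2) = -1 ∧ tr2 ((a : SL2) * (b : SL2)) ^ 2 = 2 := by
  obtain ⟨a, b, ha, hb', haa, hb3, hab3⟩ :=
    exists_lift_pair_four (X := X) (e := e) h2 hZX ha1 ha2 hb hab hab2
  refine ⟨a, b, ha, hb', haa, ?_, ?_⟩
  · obtain ⟨h1, h2'⟩ := not_pm_of_psi_ne (X := X) (e := e) (x := b) (by rw [hb']; exact hb1)
    exact tr2_of_cube (b : SL2) hb3 h1 h2'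
  · have hne : psi X e (a * b) ≠ 1 := by
      rw [map_mul, ha, hb']
      intro h
      apply hab2
      rw [h, one_pow]
    obtain ⟨h1, h2'⟩ := not_pm_of_psi_ne (X := X) (e := e) (x := a * b) hne
    exact tr2_of_pow_four ((a : SL2) * (b : SL2)) hab3 h1 h2'

end general


section golden

variable {F : Type*} [Field F]

theorem golden_fix2 (p : ℕ) [Fact p.Prime] [CharP F p] (τ : F)
    (h : τ ^ 2 + τ - 1 = 0) : τ ∈ fixF (F := F) p 2 := by
  rw [mem_fixF]
  set σ := τ ^ p with hσ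
  have hσ' : frobenius F p τ = σ := frobenius_def p τ
  have h1 : σ ^ 2 + σ - 1 = 0 := by
    have := congrArg (frobenius F p) h
    rw [map_sub, map_add, map_pow, map_one, map_zero, hσ'] at this
    exact this
  have h3 : (σ - τ) * (σ + τ + 1) = 0 := by linear_combination h1 - h
  have e : τ ^ p ^ 2 = σ ^ p := by rw [hσ, ← pow_mul, pow_two]
  rw [e]
  rcases mul_eq_zero.mp h3 with h4 | h4
  · have : σ = τ := by linear_combination h4
    rw [this]
    exact hσ.symm.trans this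
  · have h5 : σ = -1 - τ := by linear_combination h4
    have h6 : frobenius F p σ = σ ^ p := frobenius_def p σ
    rw [← h6]
    conv_lhs => rw [h5]
    rw [map_sub, map_neg, map_one, hσ', h5]
    ring

theorem isSquare_five (p : ℕ) [Fact p.Prime] (hp2 : p ≠ 2)
    (h : p = 5 ∨ p % 10 = 1 ∨ p % 10 = 9) : IsSquare ((5 : ℕ) : ZMod p) := by
  rcases h with rfl | h
  · exact ⟨0, by rw [ZMod.natCast_self, mul_zero]⟩
  · haveI : Fact (Nat.Prime 5) := ⟨by norm_num⟩
    rw [← ZMod.exists_sq_eq_prime_iff_of_mod_four_eq_one (p := 5) (q := p) (by norm_num) hp2]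
    rw [← ZMod.natCast_mod p 5]
    rcases h with h | h
    · have : p % 5 = 1 := by omega
      rw [this]
      exact ⟨1, by norm_num⟩
    · have : p % 5 = 4 := by omega
      rw [this]
      exact ⟨2, by norm_num⟩

theorem golden_fix1 (p : ℕ) [Fact p.Prime] [CharP F p] (h2 : (2 : F) ≠ 0)
    (hsq : IsSquare ((5 : ℕ) : ZMod p)) (τ : F) (h : τ ^ 2 + τ - 1 = 0) :
    τ ∈ fixF (F := F) p 1 := by
  obtain ⟨r, hr⟩ := hsq
  set ρ : F := ZMod.castHom (dvd_refl p) F r with hρ
  have hρ2 : ρ * ρ = 5 := by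
    rw [hρ, ← map_mul, ← hr, map_natCast]
    norm_num
  have hρE : ρ ∈ fixF (F := F) p 1 := by
    rw [mem_fixF, pow_one, hρ, ← map_pow, ZMod.pow_card]
  have h2E : (2 : F) ∈ fixF (F := F) p 1 := by
    have := natCast_mem (fixF (F := F) p 1) 2
    exact_mod_cast this
  have h3 : (2 * τ + 1 - ρ) * (2 * τ + 1 + ρ) = 0 := by linear_combination 4 * h - hρ2
  rcases mul_eq_zero.mp h3 with h4 | h4
  · have : τ = (ρ - 1) / 2 := by
      field_simp
      linear_combination h4
    rw [this]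
    exact (fixF p 1).div_mem ((fixF p 1).sub_mem hρE (fixF p 1).one_mem) h2E
  · have : τ = (-ρ - 1) / 2 := by
      field_simp
      linear_combination h4
    rw [this]
    exact (fixF p 1).div_mem ((fixF p 1).sub_mem ((fixF p 1).neg_mem hρE) (fixF p 1).one_mem) h2E

end golden

section finite

variable {F : Type*} [Field F] [Fintype F]

local notation "SL2" => Matrix.SpecialLinearGroup (Fin 2) F
local notation "PSL2" => Matrix.ProjectiveSpecialLinearGroup (Fin 2) F

omit [Fintype F] in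
theorem isCoatom_map (θ : SL2 ≃* SL2) {X : Subgroup SL2} (h : IsCoatom X) :
    IsCoatom (X.map θ.toMonoidHom) :=
  (OrderIso.isCoatom_iff (MulEquiv.mapSubgroup θ) X).mpr h

omit [Fintype F] in
/-- a subgroup generated by a rigid pair, which is conjugate into a subgroup of intermediate
order, is not maximal -/
theorem not_coatom_of_over (h2 : (2 : F) ≠ 0) (X : Subgroup SL2) (hco : IsCoatom X) (a b : SL2)
    (hX : X = Subgroup.closure {a, b}) (haa : a * a = -1) (Y : Subgroup SL2) (a₀ b₀ : SL2)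
    (ha₀ : a₀ ∈ Y) (hb₀ : b₀ ∈ Y) (haa₀ : a₀ * a₀ = -1) (ht : tr2 b = tr2 b₀)
    (hs : tr2 (a * b) = tr2 (a₀ * b₀)) (hΔ : tr2 b ^ 2 + tr2 (a * b) ^ 2 - 4 ≠ 0)
    (hlt : Nat.card X < Nat.card Y) (hY : Nat.card Y < Nat.card SL2) : False := by
  obtain ⟨k, hk, hka, hkb⟩ := pair_conj_SL h2 a b a₀ b₀ haa haa₀ ht hs hΔ
  have hle : X.map (conjM k hk).toMonoidHom ≤ Y := by
    rw [hX, MonoidHom.map_closure, Subgroup.closure_le]
    rintro _ ⟨x, hx, rfl⟩
    rcases hx with rfl | rfl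
    · show conjM k hk x ∈ Y
      rw [hka]; exact ha₀
    · show conjM k hk x ∈ Y
      rw [hkb]; exact hb₀
  rcases (isCoatom_map (conjM k hk) hco).le_iff.mp hle with h | h
  · rw [h, Subgroup.card_top] at hY
    exact lt_irrefl _ hY
  · rw [h, Subgroup.card_map_of_injective (conjM k hk).injective] at hlt
    exact lt_irrefl _ hlt

/-- the subfield conclusion -/
def SubfieldConcl (M : Subgroup PSL2) : Prop :=
  ∃ (F₀ : Type) (_ : Field F₀) (_ : Fintype F₀) (r : ℕ), r.Prime ∧ Odd r ∧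
    Fintype.card F = Fintype.card F₀ ^ r ∧
    Nonempty (M ≃* Matrix.ProjectiveSpecialLinearGroup (Fin 2) F₀)

/-- the `PGL₂` conclusion -/
def PGLConcl (M : Subgroup PSL2) : Prop :=
  ∃ (F₀ : Type) (_ : Field F₀) (_ : Fintype F₀), Fintype.card F = Fintype.card F₀ ^ 2 ∧
    Nonempty (M ≃* Matrix.ProjGenLinGroup (Fin 2) F₀)

theorem coatom_in_SLE (p : ℕ) [Fact p.Prime] [CharP F p] (h2 : (2 : F) ≠ 0) (X : Subgroup SL2)
    (hco : IsCoatom X) (θ : SL2 ≃* SL2) (E : Subfield F)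
    (hle : X.map θ.toMonoidHom ≤ SLE E) :
    SubfieldConcl (X.map (QuotientGroup.mk' (Subgroup.center SL2))) ∨ E = ⊤ := by
  rcases (isCoatom_map θ hco).le_iff.mp hle with h | h
  · right; exact eq_top_of_SLE_eq_top h
  · left
    have hcoE : IsCoatom (SLE E) := by rw [h]; exact isCoatom_map θ hco
    obtain ⟨r, hr, hodd, hcard⟩ := degree_of_SLE_coatom p h2 E hcoE
    obtain ⟨K, i1, i2, hK, ⟨e₂⟩⟩ := iso_SLE p E
    obtain ⟨e₁⟩ := map_mk_equiv_of_aut X θ
    refine ⟨K, i1, i2, r, hr, hodd, by rw [hK]; exact hcard, ⟨e₁.trans ?_⟩⟩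
    exact (MulEquiv.subgroupCongr (by rw [h])).trans e₂

theorem coatom_in_PG (p : ℕ) [Fact p.Prime] [CharP F p] (h2 : (2 : F) ≠ 0) (X : Subgroup SL2)
    (hco : IsCoatom X) (θ : SL2 ≃* SL2) (E : Subfield F)
    (hle : X.map θ.toMonoidHom ≤ PG E) :
    PGLConcl (X.map (QuotientGroup.mk' (Subgroup.center SL2))) ∨
      SubfieldConcl (X.map (QuotientGroup.mk' (Subgroup.center SL2))) ∨ E = ⊤ := by
  rcases (isCoatom_map θ hco).le_iff.mp hle with h | h
  · right; right; exact eq_top_of_PG_eq_top h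
  · have hcoE : IsCoatom (PG E) := by rw [h]; exact isCoatom_map θ hco
    obtain ⟨e₁⟩ := map_mk_equiv_of_aut X θ
    by_cases hne : PG E = SLE E
    · right; left
      rw [hne] at hcoE h
      obtain ⟨r, hr, hodd, hcard⟩ := degree_of_SLE_coatom p h2 E hcoE
      obtain ⟨K, i1, i2, hK, ⟨e₂⟩⟩ := iso_SLE p E
      refine ⟨K, i1, i2, r, hr, hodd, by rw [hK]; exact hcard, ⟨e₁.trans ?_⟩⟩
      exact (MulEquiv.subgroupCongr (by rw [h])).trans e₂
    · left
      have hcard := degree_of_PG_coatom p h2 E hcoE hne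
      obtain ⟨K, i1, i2, hK, ⟨e₂⟩⟩ := iso_PG p h2 E hne
      refine ⟨K, i1, i2, by rw [hK]; exact hcard, ⟨e₁.trans ?_⟩⟩
      exact (MulEquiv.subgroupCongr (by rw [h])).trans e₂

theorem card_eq_of_fix1_top (p : ℕ) [Fact p.Prime] [CharP F p]
    (h : fixF (F := F) p 1 = ⊤) : Fintype.card F = p := by
  have h1 := card_le_of_fixF_eq_top p one_ne_zero h
  rw [pow_one] at h1
  obtain ⟨n, -, hn⟩ := FiniteField.card F p
  have h3 : p ^ 1 ≤ p ^ (n : ℕ) := Nat.pow_le_pow_right (Fact.out : p.Prime).pos n.pos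
  rw [pow_one, ← hn] at h3
  omega

theorem card_eq_of_fix2_top (p : ℕ) [Fact p.Prime] [CharP F p]
    (h : fixF (F := F) p 2 = ⊤) : Fintype.card F = p ∨ Fintype.card F = p ^ 2 := by
  have h1 := card_le_of_fixF_eq_top p two_ne_zero h
  obtain ⟨n, -, hn⟩ := FiniteField.card F p
  have hpp : p.Prime := Fact.out
  have hn2 : (n : ℕ) ≤ 2 := by
    by_contra hlt
    push Not at hlt
    have := Nat.pow_lt_pow_right hpp.one_lt hlt
    omega
  have hn1 := n.pos
  have : (n : ℕ) = 1 ∨ (n : ℕ) = 2 := by omega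
  rcases this with h | h
  · left; rw [hn, h, pow_one]
  · right; rw [hn, h]

end finite


section numeric

theorem sq_mod_16 (p : ℕ) (hp : p % 8 = 1 ∨ p % 8 = 7) : p ^ 2 % 16 = 1 := by
  have h16 : p % 16 = 1 ∨ p % 16 = 7 ∨ p % 16 = 9 ∨ p % 16 = 15 := by omega
  rw [Nat.pow_mod]
  rcases h16 with h | h | h | h <;> rw [h]

theorem mod8_of_sq_mod_16 (q : ℕ) (h : q ^ 2 % 16 = 1) : q % 8 = 1 ∨ q % 8 = 7 := by
  rw [Nat.pow_mod] at h
  have h1 : q % 16 < 16 := Nat.mod_lt _ (by norm_num)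
  have h2 : q % 8 = (q % 16) % 8 := by omega
  rw [h2]
  interval_cases (q % 16) <;> simp_all

theorem five_dvd_of_mod (q : ℕ) (h : q % 5 = 1 ∨ q % 5 = 4) : 5 ∣ q * (q ^ 2 - 1) := by
  apply Dvd.dvd.mul_left
  have hs : q ^ 2 % 5 = 1 := by
    rw [pow_two, Nat.mul_mod]
    rcases h with h | h <;> rw [h]
  have hpos : 1 ≤ q ^ 2 := by
    rcases Nat.eq_zero_or_pos q with rfl | h0
    · simp at h
    · exact Nat.one_le_pow _ _ h0
  omega

theorem card_mono (c q : ℕ) (_hc : 1 ≤ c) (h : c ≤ q) : c * (c ^ 2 - 1) ≤ q * (q ^ 2 - 1) := by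
  apply Nat.mul_le_mul h
  have := Nat.pow_le_pow_left h 2
  omega

end numeric

section cases

variable {F : Type*} [Field F] [Fintype F]

local notation "SL2" => Matrix.SpecialLinearGroup (Fin 2) F
local notation "PSL2" => Matrix.ProjectiveSpecialLinearGroup (Fin 2) F

theorem card_of_iso (hodd : Odd (Fintype.card F)) (X : Subgroup SL2)
    (hZX : Subgroup.center SL2 ≤ X) {A : Type*} [Group A]
    (e : ↥(X.map (QuotientGroup.mk' (Subgroup.center SL2))) ≃* A) :
    Nat.card X = 2 * Nat.card A := by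
  have h1 := card_map_mk (Subgroup.center SL2) X hZX
  rw [card_center_of_odd hodd, Nat.card_congr e.toEquiv] at h1
  exact h1.symm

omit [Fintype F] in
theorem neg_one_mem_fix (p : ℕ) [Fact p.Prime] [CharP F p] (k : ℕ) :
    (-1 : F) ∈ fixF (F := F) p k :=
  (fixF p k).neg_mem (fixF p k).one_mem

/-- the `A₄` case -/
theorem case_A4 (p : ℕ) [Fact p.Prime] [CharP F p] (hodd : Odd (Fintype.card F))
    (h5 : 5 ≤ Fintype.card F) (X : Subgroup SL2) (hZX : Subgroup.center SL2 ≤ X)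
    (hco : IsCoatom X)
    (e : ↥(X.map (QuotientGroup.mk' (Subgroup.center SL2))) ≃* alternatingGroup (Fin 4)) :
    SubfieldConcl (X.map (QuotientGroup.mk' (Subgroup.center SL2))) ∨
      (Fintype.card F = p ∧ (p % 8 = 3 ∨ p % 8 = 5) ∧ ¬ (p % 10 = 1 ∨ p % 10 = 9)) := by
  have h2 : (2 : F) ≠ 0 := two_ne_zero_of_odd hodd
  obtain ⟨a, b, ha, hb, haa, htb, hts⟩ := lift_traces_three (X := X) (e := e) h2 hZX
    aA4_ne aA4_sq bA4_ne bA4_cube abA4_ne abA4_cube
  have hX := eq_closure_of_gen gen_A4 a b ha hb haa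
  obtain ⟨a, haX⟩ := a
  obtain ⟨b, hbX⟩ := b
  simp only at haa htb hts hX
  have hΔ : tr2 b ^ 2 + tr2 (a * b) ^ 2 - 4 ≠ 0 := by
    rw [htb, hts]
    intro h
    apply h2
    linear_combination -h
  have hm1 := neg_one_mem_fix (F := F) p 1
  obtain ⟨k, hk, hka, hkb⟩ := conj_into_SLE h2 (fixF p 1) a b haa (by rw [htb]; exact hm1)
    (by rw [hts]; exact hm1) hΔ
  have hle : X.map (conjM k hk).toMonoidHom ≤ SLE (fixF p 1) := by
    rw [hX, MonoidHom.map_closure, Subgroup.closure_le]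
    rintro _ ⟨x, hx, rfl⟩
    rcases hx with rfl | rfl
    · exact hka
    · exact hkb
  rcases coatom_in_SLE p h2 X hco (conjM k hk) (fixF p 1) hle with h | h
  · left; exact h
  · right
    have hq : Fintype.card F = p := card_eq_of_fix1_top p h
    have hpp : p.Prime := Fact.out
    have hp5 : 5 ≤ p := hq ▸ h5
    have hpodd : p % 2 = 1 := by
      rw [← hq]; exact Nat.odd_iff.mp hodd
    have hcX : Nat.card X = 24 := by
      rw [card_of_iso hodd X hZX e, card_A4]
    have hcG : Nat.card SL2 = p * (p ^ 2 - 1) := by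
      rw [Cfsg.Agent.Lib.Helper38.card_SL2, hq]
    refine ⟨hq, ?_, ?_⟩
    · by_contra hcon
      have h8 : p % 8 = 1 ∨ p % 8 = 7 := by omega
      obtain ⟨H, ⟨eH⟩⟩ := (Cfsg.Agent.S0803.result hq).mpr (sq_mod_16 p h8)
      have hZY := center_le_comap H
      obtain ⟨a₀, b₀, -, -, haa₀, htb₀, hts₀⟩ := lift_traces_three
        (X := H.comap (QuotientGroup.mk' (Subgroup.center SL2)))
        (e := (MulEquiv.subgroupCongr (map_comap_mk H)).trans eH) h2 hZY
        aS'_ne aS'_sq bS'_ne bS'_cube abS'_ne abS'_cube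
      have hcY : Nat.card (H.comap (QuotientGroup.mk' (Subgroup.center SL2))) = 48 := by
        rw [card_of_iso hodd _ hZY ((MulEquiv.subgroupCongr (map_comap_mk H)).trans eH), card_S4]
      have hp7 : 7 ≤ p := by omega
      have := card_mono 7 p (by norm_num) hp7
      exact not_coatom_of_over h2 X hco a b hX haa _ a₀ b₀ a₀.2 b₀.2 haa₀
        (htb.trans htb₀.symm) (hts.trans hts₀.symm) hΔ (by rw [hcX, hcY]; norm_num)
        (by rw [hcY, hcG]; omega)
    · intro h10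
      have h5' : p % 5 = 1 ∨ p % 5 = 4 := by omega
      obtain ⟨H, ⟨eH⟩⟩ := (Cfsg.Agent.S0804.result hq).mpr (five_dvd_of_mod p h5')
      have hZY := center_le_comap H
      obtain ⟨a₀, b₀, -, -, haa₀, htb₀, hts₀⟩ := lift_traces_three
        (X := H.comap (QuotientGroup.mk' (Subgroup.center SL2)))
        (e := (MulEquiv.subgroupCongr (map_comap_mk H)).trans eH) h2 hZY
        aA5_ne aA5_sq bA5'_ne bA5'_cube abA5'_ne abA5'_cube
      have hcY : Nat.card (H.comap (QuotientGroup.mk' (Subgroup.center SL2))) = 120 := by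
        rw [card_of_iso hodd _ hZY ((MulEquiv.subgroupCongr (map_comap_mk H)).trans eH), card_A5]
      have hp11 : 11 ≤ p := by
        by_contra hlt
        have : p = 9 := by omega
        rw [this] at hpp
        revert hpp
        decide
      have := card_mono 11 p (by norm_num) hp11
      exact not_coatom_of_over h2 X hco a b hX haa _ a₀ b₀ a₀.2 b₀.2 haa₀
        (htb.trans htb₀.symm) (hts.trans hts₀.symm) hΔ (by rw [hcX, hcY]; norm_num)
        (by rw [hcY, hcG]; omega)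


theorem odd_char (p : ℕ) [Fact p.Prime] [CharP F p] (hodd : Odd (Fintype.card F)) :
    p % 2 = 1 := by
  obtain ⟨n, -, hn⟩ := FiniteField.card F p
  rw [hn] at hodd
  exact Nat.odd_iff.mp ((Nat.odd_pow_iff n.ne_zero).mp hodd)

omit [Fintype F] in
theorem two_mem_fix (p : ℕ) [Fact p.Prime] [CharP F p] (k : ℕ) :
    (2 : F) ∈ fixF (F := F) p k := by
  have := natCast_mem (fixF (F := F) p k) 2
  exact_mod_cast this

/-- the `S₄` case -/
theorem case_S4 (p : ℕ) [Fact p.Prime] [CharP F p] (hodd : Odd (Fintype.card F))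
    (X : Subgroup SL2) (hZX : Subgroup.center SL2 ≤ X)
    (hco : IsCoatom X)
    (e : ↥(X.map (QuotientGroup.mk' (Subgroup.center SL2))) ≃* Equiv.Perm (Fin 4)) :
    PGLConcl (X.map (QuotientGroup.mk' (Subgroup.center SL2))) ∨
      SubfieldConcl (X.map (QuotientGroup.mk' (Subgroup.center SL2))) ∨
      (Fintype.card F = p ∧ (p % 8 = 1 ∨ p % 8 = 7)) := by
  have h2 : (2 : F) ≠ 0 := two_ne_zero_of_odd hodd
  obtain ⟨a, b, ha, hb, haa, htb, hts⟩ := lift_traces_four (X := X) (e := e) h2 hZX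
    aS_ne aS_sq bS_ne bS_cube abS_four abS_two
  have hX := eq_closure_of_gen gen_S4 a b ha hb haa
  obtain ⟨a, haX⟩ := a
  obtain ⟨b, hbX⟩ := b
  simp only at haa htb hts hX
  have hs0 : tr2 (a * b) ≠ 0 := by
    intro h
    rw [h] at hts
    apply h2
    rw [← hts]; ring
  have hΔ : tr2 b ^ 2 + tr2 (a * b) ^ 2 - 4 ≠ 0 := by
    rw [htb, hts]
    intro h
    have : (1 : F) = 0 := by linear_combination -h
    exact one_ne_zero this
  have hm1 := neg_one_mem_fix (F := F) p 1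
  have h2E := two_mem_fix (F := F) p 1
  obtain ⟨k, hk, hka, hkb⟩ := conj_into_PG h2 (fixF p 1) a b haa (tr2 (a * b))⁻¹
    (inv_ne_zero hs0) (by rw [inv_pow, hts]; exact (fixF p 1).inv_mem h2E)
    (by rw [htb]; exact hm1) (by rw [inv_mul_cancel₀ hs0]; exact (fixF p 1).one_mem) hΔ
  have hle : X.map (conjM k hk).toMonoidHom ≤ PG (fixF p 1) := by
    rw [hX, MonoidHom.map_closure, Subgroup.closure_le]
    rintro _ ⟨x, hx, rfl⟩
    rcases hx with rfl | rfl
    · exact hka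
    · exact hkb
  rcases coatom_in_PG p h2 X hco (conjM k hk) (fixF p 1) hle with h | h | h
  · left; exact h
  · right; left; exact h
  · right; right
    have hq : Fintype.card F = p := card_eq_of_fix1_top p h
    refine ⟨hq, ?_⟩
    have := (Cfsg.Agent.S0803.result hq).mp ⟨_, ⟨e⟩⟩
    exact mod8_of_sq_mod_16 p this

/-- the `A₅` case -/
theorem case_A5 (p : ℕ) [Fact p.Prime] [CharP F p] (hodd : Odd (Fintype.card F))
    (X : Subgroup SL2) (hZX : Subgroup.center SL2 ≤ X)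
    (hco : IsCoatom X)
    (e : ↥(X.map (QuotientGroup.mk' (Subgroup.center SL2))) ≃* alternatingGroup (Fin 5)) :
    SubfieldConcl (X.map (QuotientGroup.mk' (Subgroup.center SL2))) ∨
      ((Fintype.card F % 10 = 1 ∨ Fintype.card F % 10 = 9) ∧
        (Fintype.card F = p ∨ (Fintype.card F = p ^ 2 ∧ (p % 10 = 3 ∨ p % 10 = 7)))) := by
  have h2 : (2 : F) ≠ 0 := two_ne_zero_of_odd hodd
  have hpp : p.Prime := Fact.out
  have hpodd := odd_char (F := F) p hodd
  have hp2 : p ≠ 2 := by omega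
  obtain ⟨a, b, ha, hb, haa, htb, hts⟩ := lift_traces_five (X := X) (e := e) h2 hZX
    aA5_ne aA5_sq bA5_ne bA5_cube abA5_ne abA5_five
  have hX := eq_closure_of_gen gen_A5 a b ha hb haa
  obtain ⟨a, haX⟩ := a
  obtain ⟨b, hbX⟩ := b
  simp only at haa htb hts hX
  have hΔ : tr2 b ^ 2 + tr2 (a * b) ^ 2 - 4 ≠ 0 := by
    rw [htb]
    intro h
    have : (1 : F) = 0 := by
      linear_combination h - (tr2 (a * b) - 2) * (hts - h)
    exact one_ne_zero this
  have hcX : Nat.card X = 120 := by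
    rw [card_of_iso hodd X hZX e, card_A5]
  have h5dvd := (Cfsg.Agent.S0804.result (F := F) rfl).mp ⟨_, ⟨e⟩⟩
  by_cases h5c : p = 5 ∨ p % 10 = 1 ∨ p % 10 = 9
  · have hτ := golden_fix1 (F := F) p h2 (isSquare_five p hp2 h5c) _ hts
    obtain ⟨k, hk, hka, hkb⟩ := conj_into_SLE h2 (fixF p 1) a b haa
      (by rw [htb]; exact neg_one_mem_fix p 1) hτ hΔ
    have hle : X.map (conjM k hk).toMonoidHom ≤ SLE (fixF p 1) := by
      rw [hX, MonoidHom.map_closure, Subgroup.closure_le]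
      rintro _ ⟨x, hx, rfl⟩
      rcases hx with rfl | rfl
      · exact hka
      · exact hkb
    rcases coatom_in_SLE p h2 X hco (conjM k hk) (fixF p 1) hle with h | h
    · left; exact h
    · right
      have hq : Fintype.card F = p := card_eq_of_fix1_top p h
      have hp5 : p ≠ 5 := by
        intro h5
        apply hco.1
        apply Subgroup.eq_top_of_card_eq
        rw [hcX, Cfsg.Agent.Lib.Helper38.card_SL2, hq, h5]
        norm_num
      rw [hq]
      exact ⟨by omega, Or.inl rfl⟩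
  · push Not at h5c
    obtain ⟨h5a, h5b, h5d⟩ := h5c
    have hmod : p % 10 = 3 ∨ p % 10 = 7 := by
      have : p % 5 ≠ 0 := by
        intro h0
        have := (Nat.dvd_prime hpp).mp (Nat.dvd_of_mod_eq_zero h0)
        omega
      omega
    have hτ := golden_fix2 (F := F) p _ hts
    obtain ⟨k, hk, hka, hkb⟩ := conj_into_SLE h2 (fixF p 2) a b haa
      (by rw [htb]; exact neg_one_mem_fix p 2) hτ hΔ
    have hle : X.map (conjM k hk).toMonoidHom ≤ SLE (fixF p 2) := by
      rw [hX, MonoidHom.map_closure, Subgroup.closure_le]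
      rintro _ ⟨x, hx, rfl⟩
      rcases hx with rfl | rfl
      · exact hka
      · exact hkb
    rcases coatom_in_SLE p h2 X hco (conjM k hk) (fixF p 2) hle with h | h
    · left; exact h
    · right
      have hs : p ^ 2 % 5 = 4 := by
        rw [pow_two, Nat.mul_mod]
        rcases hmod with h | h
        · have : p % 5 = 3 := by omega
          rw [this]
        · have : p % 5 = 2 := by omega
          rw [this]
      rcases card_eq_of_fix2_top p h with hq | hq
      · exfalso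
        rw [hq] at h5dvd
        exact not_five_dvd_of_sq_mod hs h5dvd
      · rw [hq]
        refine ⟨?_, Or.inr ⟨rfl, hmod⟩⟩
        right
        rw [pow_two, Nat.mul_mod]
        rcases hmod with h | h <;> rw [h]

end cases

end Cfsg.Agent.Lib.Helper14.Mx
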