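import Mathlib
import Cfsg.Agent.Lib.Helper14.MxSmall
import Cfsg.Agent.S5893

set_option autoImplicit false
set_option linter.style.haveILetI false

/-!
# Maximal subgroups of `SL₂(q)`, `q` odd: the reducible and dihedral cases
-/

namespace Cfsg.Agent.Lib.Helper14.Mx

open Cfsg.Agent.Lib.Helper2.SL2 Cfsg.Agent.Lib.Helper2.Dk Cfsg.Agent.Lib.Helper14.Dk
open Cfsg.Agent.S5893 (tori_of_SL2)

section

variable {F : Type*} [Field F] [Fintype F]

local notation "SL2" => Matrix.SpecialLinearGroup (Fin 2) F
local notation "PSL2" => Matrix.ProjectiveSpecialLinearGroup (Fin 2) F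

/-- the normalizer of a torus of `SL₂(q)`, `q` odd, is dihedral modulo the center -/
theorem normalizer_dihedral_odd (p : ℕ) [Fact p.Prime] [CharP F p]
    (h4 : 4 ≤ Fintype.card F) (x : SL2)
    (hx : x ∉ ZZ (MonoidHom.id SL2)) (hU : ¬ UU (MonoidHom.id SL2) x) :
    Nonempty (↥((Subgroup.normalizer (M x : Set SL2)).map
      (QuotientGroup.mk' (Subgroup.center SL2))) ≃*
      DihedralGroup (aa x / Nat.card (Subgroup.center SL2))) := by
  have hτ : Function.Injective (MonoidHom.id SL2) := fun _ _ h => h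
  have D := data_of_rep p (MonoidHom.id SL2) hτ
  obtain ⟨hee, -⟩ := tori_of_SL2 p h4 x hx hU
  have hcyc := torus_isCyclic (MonoidHom.id SL2) hτ hU
  obtain ⟨g, hg⟩ := IsCyclic.exists_generator (α := ↥(M x))
  have hT : M x = Subgroup.zpowers (g : SL2) := by
    ext y
    constructor
    · intro hy
      obtain ⟨k, hk⟩ := hg ⟨y, hy⟩
      refine ⟨k, ?_⟩
      have := congrArg Subtype.val hk
      simpa using this
    · rintro ⟨k, rfl⟩
      exact (M x).zpow_mem g.2 k
  have hgZ : (g : SL2) ∉ ZZ (MonoidHom.id SL2) := by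
    intro hgz
    apply hx
    have hxm : x ∈ Subgroup.zpowers (g : SL2) := by rw [← hT]; exact self_mem_M x
    obtain ⟨k, hk⟩ := hxm
    rw [← hk]
    exact Subgroup.zpow_mem _ hgz k
  obtain ⟨s, hs, hsT⟩ := D.exists_not_mem_tor hee
  have hs2 := D.tor_sq hx hee hs hsT
  rw [ZZ_id] at hs2
  have hinv := D.tor_inv hx hU hs hsT g.2 hgZ
  have hcos : ∀ n ∈ Subgroup.normalizer (M x : Set SL2), n ∉ M x → s⁻¹ * n ∈ M x :=
    fun n hn hnT => D.tor_coset hee hs hsT hn hnT
  exact dihedral_quotient (Subgroup.center SL2) (Subgroup.normalizer (M x : Set SL2)) (M x)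
    (center_le_M x) (g : SL2) s hT hs Subgroup.le_normalizer hsT hs2 hinv hcos

/-- the possible shapes of a maximal subgroup of reducible or dihedral type -/
theorem coatom_basic (p : ℕ) [Fact p.Prime] [CharP F p] (_hodd : Odd (Fintype.card F))
    (h5 : 5 ≤ Fintype.card F) (X : Subgroup SL2) (hZX : Subgroup.center SL2 ≤ X)
    (hco : IsCoatom X)
    (h : ZZ X.subtype = ⊤ ∨ IsCyc (ZZ X.subtype) (UU X.subtype) ∨
      IsBor (ZZ X.subtype) (UU X.subtype) ∨ IsDih (ZZ X.subtype) (UU X.subtype)) :
    Nat.card X = Fintype.card F * (Fintype.card F - 1) ∨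
    ∃ x : SL2, x ∉ ZZ (MonoidHom.id SL2) ∧ ¬ UU (MonoidHom.id SL2) x ∧
      X = Subgroup.normalizer (M x : Set SL2) ∧
      (aa x = Fintype.card F - 1 ∨ aa x = Fintype.card F + 1) := by
  classical
  have h4 : 4 ≤ Fintype.card F := by omega
  have hτ : Function.Injective X.subtype := X.subtype_injective
  have hτid : Function.Injective (MonoidHom.id SL2) := fun _ _ h => h
  have D := data_of_rep p X.subtype hτ
  have DG := data_of_rep p (MonoidHom.id SL2) hτid
  have hcG : Nat.card SL2 =
      Fintype.card F * (Fintype.card F - 1) * (Fintype.card F + 1) := card_SL2'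
  -- elements of X outside ZZ are outside ZZ id
  have hZid : ∀ y : ↥X, y ∉ ZZ X.subtype → (y : SL2) ∉ ZZ (MonoidHom.id SL2) := by
    intro y hy h
    apply hy
    rw [mem_ZZ] at h ⊢
    exact h
  have hq1 : 4 ≤ Fintype.card F - 1 := by omega
  have hbig : ∀ m, m ≤ Fintype.card F + 1 → 2 * m <
      Fintype.card F * (Fintype.card F - 1) * (Fintype.card F + 1) := by
    intro m hm
    have h1 : 5 * 4 ≤ Fintype.card F * (Fintype.card F - 1) := Nat.mul_le_mul h5 hq1
    have h2 : 20 * (Fintype.card F + 1) ≤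
        Fintype.card F * (Fintype.card F - 1) * (Fintype.card F + 1) :=
      Nat.mul_le_mul_right _ h1
    omega
  -- normalizers of tori are proper
  have hNne : ∀ x : SL2, x ∉ ZZ (MonoidHom.id SL2) → ¬ UU (MonoidHom.id SL2) x →
      Subgroup.normalizer (M x : Set SL2) ≠ ⊤ := by
    intro x hx hU h
    obtain ⟨hee, haa⟩ := tori_of_SL2 p h4 x hx hU
    have h1 := card_normalizer_M x
    rw [h, Subgroup.card_top, hee, hcG] at h1
    have := hbig (aa x) (by rcases haa with h3 | h3 <;> omega)
    omega
  rcases h with h | h | h | h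
  · -- X central
    exfalso
    have hXle : X ≤ Subgroup.center SL2 := by
      intro y hy
      have : (⟨y, hy⟩ : ↥X) ∈ ZZ X.subtype := by rw [h]; exact Subgroup.mem_top _
      exact this
    have hXZ : X = Subgroup.center SL2 := le_antisymm hXle hZX
    have hlt : X < BG (MonoidHom.id SL2) := by
      rw [hXZ]
      apply lt_of_le_of_ne
      · intro z hz
        rcases (mem_center_iff_pm z).mp hz with rfl | rfl
        · exact Subgroup.one_mem _
        · rw [mem_BG]
          show (-1 : SL2) 1 0 = 0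
          rw [neg10, one10, neg_zero]
      · intro heq
        have h1 : tt (1 : F) ∈ BG (MonoidHom.id SL2) := by
          rw [mem_BG]; exact tt10 1
        rw [← heq] at h1
        rcases (mem_center_iff_pm _).mp h1 with h3 | h3
        · have := (entries_of_eq h3).2.1
          rw [tt01, one01] at this
          exact one_ne_zero this
        · have := (entries_of_eq h3).2.1
          rw [tt01, neg01, one01, neg_zero] at this
          exact one_ne_zero this
    have htop := hco.2 _ hlt
    have hc := card_BG_id (F := F)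
    rw [htop, Subgroup.card_top, hcG] at hc
    have : Fintype.card F * (Fintype.card F - 1) * 1 <
        Fintype.card F * (Fintype.card F - 1) * (Fintype.card F + 1) :=
      Nat.mul_lt_mul_of_pos_left (by omega) (Nat.mul_pos (by omega) (by omega))
    omega
  · -- X inside a torus
    exfalso
    obtain ⟨x, hxZ, hU, hM⟩ := h
    have hxG := hZid x hxZ
    have hUG : ¬ UU (MonoidHom.id SL2) (x : SL2) := hU
    have hle : X ≤ Subgroup.normalizer (M (x : SL2) : Set SL2) := by
      intro y hy
      apply Subgroup.le_normalizer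
      have : (⟨y, hy⟩ : ↥X) ∈ M x := by rw [hM]; exact Subgroup.mem_top _
      rw [mem_M] at this ⊢
      exact congrArg Subtype.val this
    rcases hco.le_iff.mp hle with h1 | h1
    · exact hNne _ hxG hUG h1
    · obtain ⟨hee, -⟩ := tori_of_SL2 p h4 (x : SL2) hxG hUG
      obtain ⟨s, hs, hsT⟩ := DG.exists_not_mem_tor hee
      rw [h1] at hs
      apply hsT
      have : (⟨s, hs⟩ : ↥X) ∈ M x := by rw [hM]; exact Subgroup.mem_top _
      rw [mem_M] at this ⊢
      exact congrArg Subtype.val this
  · -- Borel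
    left
    obtain ⟨x, hxZ, hU, hN⟩ := h
    obtain ⟨c, hc⟩ := exists_std X.subtype hτ hxZ hU
    rw [hc.normalizer_eq] at hN
    set B := BG (MonoidHom.id SL2) with hB
    have hle : X ≤ B.map (MulAut.conj c⁻¹).toMonoidHom := by
      intro y hy
      have h1 : (⟨y, hy⟩ : ↥X) ∈ BG ((MulAut.conj c).toMonoidHom.comp X.subtype) := by
        rw [hN]; exact Subgroup.mem_top _
      refine ⟨c * y * c⁻¹, h1, ?_⟩
      show c⁻¹ * (c * y * c⁻¹) * c⁻¹⁻¹ = y
      group
    have hcB : Nat.card (B.map (MulAut.conj c⁻¹).toMonoidHom) =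
        Fintype.card F * (Fintype.card F - 1) := by
      rw [Subgroup.card_map_of_injective (MulAut.conj c⁻¹).injective, hB, card_BG_id]
    rcases hco.le_iff.mp hle with h1 | h1
    · exfalso
      rw [h1, Subgroup.card_top, hcG] at hcB
      have : Fintype.card F * (Fintype.card F - 1) * 1 <
          Fintype.card F * (Fintype.card F - 1) * (Fintype.card F + 1) :=
        Nat.mul_lt_mul_of_pos_left (by omega) (Nat.mul_pos (by omega) (by omega))
      omega
    · rw [← h1]; exact hcB
  · -- dihedral
    right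
    obtain ⟨x, hxZ, hU, hn, he⟩ := h
    have hxG := hZid x hxZ
    have hUG : ¬ UU (MonoidHom.id SL2) (x : SL2) := hU
    have hN : Subgroup.normalizer (M x : Set ↥X) = ⊤ := Subgroup.index_eq_one.mp hn
    have hle : X ≤ Subgroup.normalizer (M (x : SL2) : Set SL2) := by
      intro y hy
      have h1 : (⟨y, hy⟩ : ↥X) ∈ Subgroup.normalizer (M x : Set ↥X) := by
        rw [hN]; exact Subgroup.mem_top _
      rw [D.toCT.mem_normalizer_M hxZ] at h1
      rw [DG.toCT.mem_normalizer_M hxG]
      exact congrArg Subtype.val h1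
    obtain ⟨-, haa⟩ := tori_of_SL2 p h4 (x : SL2) hxG hUG
    rcases hco.le_iff.mp hle with h1 | h1
    · exact (hNne _ hxG hUG h1).elim
    · exact ⟨(x : SL2), hxG, hUG, h1.symm, haa⟩

end

end Cfsg.Agent.Lib.Helper14.Mx
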