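import Mathlib
import Cfsg.Agent.Lib.Helper14.MxBasic

set_option autoImplicit false
set_option linter.style.haveILetI false

/-!
# The exceptional dihedral subgroups of `SL₂(q)`, `q ∈ {5, 7, 9, 11}`
-/

namespace Cfsg.Agent.Lib.Helper14.Mx

open Cfsg.Agent.Lib.Helper2.SL2 Cfsg.Agent.Lib.Helper2.Dk Cfsg.Agent.Lib.Helper14.Dk

section traces

variable {F : Type*} [Field F]

local notation "SL2" => Matrix.SpecialLinearGroup (Fin 2) F

theorem tr2_mul_sq (a b : SL2) : tr2 (a * (b * b)) = tr2 b * tr2 (a * b) - tr2 a := by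
  have e : (a * (b * b)).1 = tr2 b • (a * b).1 - a.1 := by
    show a.1 * (b.1 * b.1) = tr2 b • (a.1 * b.1) - a.1
    rw [ch b, mul_sub, Matrix.mul_smul, mul_one]
  rw [← trace_coe, e, Matrix.trace_sub, Matrix.trace_smul, trace_coe, trace_coe, smul_eq_mul]

theorem tr2_sq (b : SL2) : tr2 (b * b) = tr2 b ^ 2 - 2 := by
  have e : (b * b).1 = tr2 b • b.1 - 1 := ch b
  rw [← trace_coe, e, Matrix.trace_sub, Matrix.trace_smul, trace_coe, smul_eq_mul,
    Matrix.trace_one]
  simp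
  ring

theorem tr2_neg (b : SL2) : tr2 (-b) = -tr2 b := by
  unfold tr2
  rw [neg00, neg11]; ring

end traces

section lift

variable {F : Type*} [Field F]

local notation "SL2" => Matrix.SpecialLinearGroup (Fin 2) F

variable {A : Type*} [Group A]
variable {X : Subgroup (Matrix.SpecialLinearGroup (Fin 2) F)}
variable {e : ↥(X.map (QuotientGroup.mk' (Subgroup.center
  (Matrix.SpecialLinearGroup (Fin 2) F)))) ≃* A}

/-- lifting the reflection of a dihedral pair -/
theorem lift_dih_core (h2 : (2 : F) ≠ 0) {a' b' : A} (ha1 : a' ≠ 1) (ha2 : a' * a' = 1)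
    (hab1 : a' * b' ≠ 1) (hab2 : (a' * b') * (a' * b') = 1) (b : ↥X) (hb : psi X e b = b') :
    ∃ a : ↥X, psi X e a = a' ∧ (a : SL2) * (a : SL2) = -1 ∧
      tr2 ((a : SL2) * (b : SL2)) = 0 := by
  obtain ⟨a, ha, haa⟩ := exists_lift_invol (X := X) (e := e) h2 ha1 ha2
  refine ⟨a, ha, haa, ?_⟩
  apply tr2_of_sq
  have h3 : psi X e ((a * b) * (a * b)) = 1 := by
    rw [map_mul, map_mul, ha, hb, hab2]
  rw [psi_eq_one_iff] at h3
  rcases h3 with h3 | h3
  · exfalso
    apply hab1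
    rw [← ha, ← hb, ← map_mul, psi_eq_one_iff]
    exact eq_one_or_neg_one_of_mul_self h2 _ h3
  · exact h3

theorem lift_dih_two (h2 : (2 : F) ≠ 0) {a' b' : A} (ha1 : a' ≠ 1) (ha2 : a' * a' = 1)
    (hab1 : a' * b' ≠ 1) (hab2 : (a' * b') * (a' * b') = 1) (hb1 : b' ≠ 1)
    (hb2 : b' * b' = 1) :
    ∃ a b : ↥X, psi X e a = a' ∧ psi X e b = b' ∧ (a : SL2) * (a : SL2) = -1 ∧
      tr2 ((a : SL2) * (b : SL2)) = 0 ∧ tr2 (b : SL2) = 0 := by
  obtain ⟨b, hb, hbb⟩ := exists_lift_invol (X := X) (e := e) h2 hb1 hb2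
  obtain ⟨a, ha, haa, hab⟩ := lift_dih_core (X := X) (e := e) h2 ha1 ha2 hab1 hab2 b hb
  exact ⟨a, b, ha, hb, haa, hab, tr2_of_sq _ hbb⟩

theorem lift_dih_three (h2 : (2 : F) ≠ 0) (hZX : Subgroup.center SL2 ≤ X) {a' b' : A}
    (ha1 : a' ≠ 1) (ha2 : a' * a' = 1)
    (hab1 : a' * b' ≠ 1) (hab2 : (a' * b') * (a' * b') = 1) (hb1 : b' ≠ 1)
    (hb3 : b' ^ 3 = 1) :
    ∃ a b : ↥X, psi X e a = a' ∧ psi X e b = b' ∧ (a : SL2) * (a : SL2) = -1 ∧
      tr2 ((a : SL2) * (b : SL2)) = 0 ∧ tr2 (b : SL2) = -1 := by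
  obtain ⟨b, hb, hbb⟩ := exists_lift_odd (X := X) (e := e) hZX (by decide : Odd 3) hb3
  obtain ⟨a, ha, haa, hab⟩ := lift_dih_core (X := X) (e := e) h2 ha1 ha2 hab1 hab2 b hb
  obtain ⟨h1, h2'⟩ := not_pm_of_psi_ne (X := X) (e := e) (x := b) (by rw [hb]; exact hb1)
  exact ⟨a, b, ha, hb, haa, hab, tr2_of_cube _ hbb h1 h2'⟩

theorem lift_dih_five (h2 : (2 : F) ≠ 0) (hZX : Subgroup.center SL2 ≤ X) {a' b' : A}
    (ha1 : a' ≠ 1) (ha2 : a' * a' = 1)
    (hab1 : a' * b' ≠ 1) (hab2 : (a' * b') * (a' * b') = 1) (hb1 : b' ≠ 1)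
    (hb5 : b' ^ 5 = 1) :
    ∃ a b : ↥X, psi X e a = a' ∧ psi X e b = b' ∧ (a : SL2) * (a : SL2) = -1 ∧
      tr2 ((a : SL2) * (b : SL2)) = 0 ∧ tr2 (b : SL2) ^ 2 + tr2 (b : SL2) - 1 = 0 := by
  obtain ⟨b, hb, hbb⟩ := exists_lift_odd (X := X) (e := e) hZX (by decide : Odd 5) hb5
  obtain ⟨a, ha, haa, hab⟩ := lift_dih_core (X := X) (e := e) h2 ha1 ha2 hab1 hab2 b hb
  obtain ⟨h1, h2'⟩ := not_pm_of_psi_ne (X := X) (e := e) (x := b) (by rw [hb]; exact hb1)
  exact ⟨a, b, ha, hb, haa, hab, tr2_of_pow_five _ hbb h1 h2'⟩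

theorem lift_dih_four (h2 : (2 : F) ≠ 0) {a' b' : A}
    (ha1 : a' ≠ 1) (ha2 : a' * a' = 1)
    (hab1 : a' * b' ≠ 1) (hab2 : (a' * b') * (a' * b') = 1) (hb2 : b' ^ 2 ≠ 1)
    (hb4 : b' ^ 4 = 1) :
    ∃ a b : ↥X, psi X e a = a' ∧ psi X e b = b' ∧ (a : SL2) * (a : SL2) = -1 ∧
      tr2 ((a : SL2) * (b : SL2)) = 0 ∧ tr2 (b : SL2) ^ 2 = 2 := by
  obtain ⟨b, hb⟩ := psi_surjective X e b'
  obtain ⟨a, ha, haa, hab⟩ := lift_dih_core (X := X) (e := e) h2 ha1 ha2 hab1 hab2 b hb
  have hb1 : b' ≠ 1 := by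
    intro h
    apply hb2
    rw [h, one_pow]
  obtain ⟨h1, h2'⟩ := not_pm_of_psi_ne (X := X) (e := e) (x := b) (by rw [hb]; exact hb1)
  refine ⟨a, b, ha, hb, haa, hab, tr2_of_pow_four _ ?_ h1 h2'⟩
  have h3 : psi X e (b ^ 4) = 1 := by rw [map_pow, hb, hb4]
  rw [psi_eq_one_iff] at h3
  rcases h3 with h3 | h3
  · exfalso
    apply hb2
    rw [← hb, ← map_pow, psi_eq_one_iff]
    apply eq_one_or_neg_one_of_mul_self h2
    have h4 : ((b ^ 4 : ↥X) : SL2) = (b : SL2) ^ 4 := rfl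
    rw [h4] at h3
    have h5 : ((b ^ 2 : ↥X) : SL2) = (b : SL2) ^ 2 := rfl
    rw [h5, ← pow_two, ← pow_mul]
    exact h3
  · exact h3

end lift

section dihedral

theorem gen_dih (k : ℕ) [NeZero k] :
    Subgroup.closure {DihedralGroup.sr (0 : ZMod k), DihedralGroup.r 1} = ⊤ := by
  rw [eq_top_iff]
  intro g _
  have h1 : (DihedralGroup.r 1 : DihedralGroup k) ∈
      Subgroup.closure {DihedralGroup.sr (0 : ZMod k), DihedralGroup.r 1} :=
    Subgroup.subset_closure (by simp)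
  have h0 : (DihedralGroup.sr 0 : DihedralGroup k) ∈
      Subgroup.closure {DihedralGroup.sr (0 : ZMod k), DihedralGroup.r 1} :=
    Subgroup.subset_closure (by simp)
  have hr : ∀ i : ZMod k, (DihedralGroup.r i : DihedralGroup k) ∈
      Subgroup.closure {DihedralGroup.sr (0 : ZMod k), DihedralGroup.r 1} := by
    intro i
    rw [← ZMod.natCast_zmod_val i, ← DihedralGroup.r_one_pow]
    exact Subgroup.pow_mem _ h1 _
  cases g with
  | r i => exact hr i
  | sr i =>
    have : (DihedralGroup.sr i : DihedralGroup k) = DihedralGroup.sr 0 * DihedralGroup.r i := by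
      rw [DihedralGroup.sr_mul_r, zero_add]
    rw [this]
    exact Subgroup.mul_mem _ h0 (hr i)

end dihedral


section models

/-! ### model dihedral pairs in `A₄`, `S₄`, `A₅` -/

theorem mem_A4_d : (Equiv.swap (0 : Fin 4) 2 * Equiv.swap 1 3 : Equiv.Perm (Fin 4)) ∈
    alternatingGroup (Fin 4) := by
  rw [Equiv.Perm.mem_alternatingGroup]; decide

/-- a second involution of `A₄` -/
def dA4 : alternatingGroup (Fin 4) := ⟨_, mem_A4_d⟩

theorem dA4_ne : dA4 ≠ 1 := by
  intro h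
  have := congrArg Subtype.val h
  revert this
  simp only [dA4, Subgroup.coe_one]
  decide

theorem dA4_sq : dA4 * dA4 = 1 := by
  apply Subtype.ext
  simp only [dA4, Subgroup.coe_mul, Subgroup.coe_one]
  decide

theorem adA4_ne : aA4 * dA4 ≠ 1 := by
  intro h
  have := congrArg Subtype.val h
  revert this
  simp only [aA4, dA4, Subgroup.coe_mul, Subgroup.coe_one]
  decide

theorem adA4_sq : (aA4 * dA4) * (aA4 * dA4) = 1 := by
  apply Subtype.ext
  simp only [aA4, dA4, Subgroup.coe_mul, Subgroup.coe_one]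
  decide

theorem abS'3_ne : aS * bS' ≠ 1 := by decide
theorem abS'3_sq : (aS * bS') * (aS * bS') = 1 := by decide

/-- a reflection of the square -/
def rS : Equiv.Perm (Fin 4) := Equiv.swap 0 2
/-- a rotation of the square -/
def cS : Equiv.Perm (Fin 4) := aS * bS

theorem rS_ne : rS ≠ 1 := by decide
theorem rS_sq : rS * rS = 1 := by decide
theorem rcS_ne : rS * cS ≠ 1 := by decide
theorem rcS_sq : (rS * cS) * (rS * cS) = 1 := by decide
theorem cS_two : cS ^ 2 ≠ 1 := by decide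
theorem cS_four : cS ^ 4 = 1 := by decide

theorem mem_A5_r : (Equiv.swap (1 : Fin 5) 3 * Equiv.swap 2 4 : Equiv.Perm (Fin 5)) ∈
    alternatingGroup (Fin 5) := by
  rw [Equiv.Perm.mem_alternatingGroup]; decide

/-- a reflection of the pentagon -/
def rA5 : alternatingGroup (Fin 5) := ⟨_, mem_A5_r⟩
/-- a rotation of the pentagon -/
def cA5 : alternatingGroup (Fin 5) := aA5 * bA5

theorem rA5_ne : rA5 ≠ 1 := by
  intro h
  have := congrArg Subtype.val h
  revert this
  simp only [rA5, Subgroup.coe_one]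
  decide

theorem rA5_sq : rA5 * rA5 = 1 := by
  apply Subtype.ext
  simp only [rA5, Subgroup.coe_mul, Subgroup.coe_one]
  decide

theorem rcA5_ne : rA5 * cA5 ≠ 1 := by
  intro h
  have := congrArg Subtype.val h
  revert this
  simp only [rA5, cA5, aA5, bA5, Subgroup.coe_mul, Subgroup.coe_one]
  decide

theorem rcA5_sq : (rA5 * cA5) * (rA5 * cA5) = 1 := by
  apply Subtype.ext
  simp only [rA5, cA5, aA5, bA5, Subgroup.coe_mul, Subgroup.coe_one]
  decide

theorem cA5_ne : cA5 ≠ 1 := abA5_ne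
theorem cA5_five : cA5 ^ 5 = 1 := abA5_five

end models

section exceptions

variable {F : Type*} [Field F] [Fintype F]

local notation "SL2" => Matrix.SpecialLinearGroup (Fin 2) F
local notation "PSL2" => Matrix.ProjectiveSpecialLinearGroup (Fin 2) F

theorem natCast_ne_zero_of_card (p : ℕ) [Fact p.Prime] [CharP F p] (m : ℕ)
    (hm : Nat.Coprime m (Fintype.card F)) : (m : F) ≠ 0 := by
  intro h
  have h1 := (CharP.cast_eq_zero_iff F p m).mp h
  obtain ⟨n, -, hn⟩ := FiniteField.card F p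
  have h3 : p ∣ Fintype.card F := by rw [hn]; exact dvd_pow_self p n.ne_zero
  have := Nat.dvd_gcd h1 h3
  rw [hm] at this
  exact (Fact.out : p.Prime).one_lt.ne' (Nat.dvd_one.mp this)

theorem card_of_dih (hodd : Odd (Fintype.card F)) (X : Subgroup SL2)
    (hZX : Subgroup.center SL2 ≤ X) (k : ℕ)
    (e : ↥(X.map (QuotientGroup.mk' (Subgroup.center SL2))) ≃* DihedralGroup k) :
    Nat.card X = 4 * k := by
  rw [card_of_iso hodd X hZX e, DihedralGroup.nat_card]; ring

/-- the setting of an overgroup of type `A₄`, `S₄` or `A₅` -/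
theorem card_comap_of_iso (hodd : Odd (Fintype.card F)) (H : Subgroup PSL2) {A : Type*} [Group A]
    (eH : ↥H ≃* A) :
    Nat.card (H.comap (QuotientGroup.mk' (Subgroup.center SL2))) = 2 * Nat.card A :=
  card_of_iso hodd _ (center_le_comap H) ((MulEquiv.subgroupCongr (map_comap_mk H)).trans eH)

theorem exc_two (p : ℕ) [Fact p.Prime] [CharP F p] (hodd : Odd (Fintype.card F))
    (hq : Fintype.card F = 5) (X : Subgroup SL2) (hZX : Subgroup.center SL2 ≤ X)
    (hco : IsCoatom X)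
    (e : ↥(X.map (QuotientGroup.mk' (Subgroup.center SL2))) ≃* DihedralGroup 2) : False := by
  have h2 : (2 : F) ≠ 0 := two_ne_zero_of_odd hodd
  obtain ⟨a, b, ha, hb, haa, hab, htb⟩ := lift_dih_two (X := X) (e := e) h2
    (a' := DihedralGroup.sr 0) (b' := DihedralGroup.r 1) (by decide) (by decide) (by decide)
    (by decide) (by decide) (by decide)
  have hX := eq_closure_of_gen (gen_dih 2) a b ha hb haa
  obtain ⟨a, haX⟩ := a
  obtain ⟨b, hbX⟩ := b
  simp only at haa htb hab hX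
  have hΔ : tr2 b ^ 2 + tr2 (a * b) ^ 2 - 4 ≠ 0 := by
    rw [htb, hab]
    intro h
    apply h2
    have : (2 : F) * 2 = 0 := by linear_combination -h
    rcases mul_eq_zero.mp this with h | h <;> exact h
  have hpodd := odd_char (F := F) p hodd
  obtain ⟨n, -, hn⟩ := FiniteField.card F p
  obtain ⟨H, ⟨eH⟩⟩ := (Cfsg.Agent.S0802.result (F := F) p n hn).mpr (fun h => by omega)
  have hZY := center_le_comap H
  obtain ⟨a₀, b₀, -, -, haa₀, hab₀, htb₀⟩ := lift_dih_two
    (X := H.comap (QuotientGroup.mk' (Subgroup.center SL2)))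
    (e := (MulEquiv.subgroupCongr (map_comap_mk H)).trans eH) h2
    aA4_ne aA4_sq adA4_ne adA4_sq dA4_ne dA4_sq
  have hcY := card_comap_of_iso hodd H eH
  rw [card_A4] at hcY
  have hcX := card_of_dih hodd X hZX 2 e
  have hcG : Nat.card SL2 = 120 := by
    rw [Cfsg.Agent.Lib.Helper38.card_SL2, hq]; norm_num
  exact not_coatom_of_over h2 X hco a b hX haa _ a₀ b₀ a₀.2 b₀.2 haa₀
    (htb.trans htb₀.symm) (hab.trans hab₀.symm) hΔ (by rw [hcX, hcY]; norm_num)
    (by rw [hcY, hcG]; norm_num)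

theorem exc_three (p : ℕ) [Fact p.Prime] [CharP F p] (hodd : Odd (Fintype.card F))
    (hq : Fintype.card F = 7) (X : Subgroup SL2) (hZX : Subgroup.center SL2 ≤ X)
    (hco : IsCoatom X)
    (e : ↥(X.map (QuotientGroup.mk' (Subgroup.center SL2))) ≃* DihedralGroup 3) : False := by
  have h2 : (2 : F) ≠ 0 := two_ne_zero_of_odd hodd
  obtain ⟨a, b, ha, hb, haa, hab, htb⟩ := lift_dih_three (X := X) (e := e) h2 hZX
    (a' := DihedralGroup.sr 0) (b' := DihedralGroup.r 1) (by decide) (by decide) (by decide)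
    (by decide) (by decide) (by decide)
  have hX := eq_closure_of_gen (gen_dih 3) a b ha hb haa
  obtain ⟨a, haX⟩ := a
  obtain ⟨b, hbX⟩ := b
  simp only at haa htb hab hX
  have h3 : ((3 : ℕ) : F) ≠ 0 := natCast_ne_zero_of_card p 3 (by rw [hq]; decide)
  have hΔ : tr2 b ^ 2 + tr2 (a * b) ^ 2 - 4 ≠ 0 := by
    rw [htb, hab]
    intro h
    apply h3
    push_cast
    linear_combination -h
  obtain ⟨H, ⟨eH⟩⟩ := (Cfsg.Agent.S0803.result hq).mpr (by norm_num)
  have hZY := center_le_comap H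
  obtain ⟨a₀, b₀, -, -, haa₀, hab₀, htb₀⟩ := lift_dih_three
    (X := H.comap (QuotientGroup.mk' (Subgroup.center SL2)))
    (e := (MulEquiv.subgroupCongr (map_comap_mk H)).trans eH) h2 hZY
    aS_ne aS_sq abS'3_ne abS'3_sq bS'_ne bS'_cube
  have hcY := card_comap_of_iso hodd H eH
  rw [card_S4] at hcY
  have hcX := card_of_dih hodd X hZX 3 e
  have hcG : Nat.card SL2 = 336 := by
    rw [Cfsg.Agent.Lib.Helper38.card_SL2, hq]; norm_num
  exact not_coatom_of_over h2 X hco a b hX haa _ a₀ b₀ a₀.2 b₀.2 haa₀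
    (htb.trans htb₀.symm) (hab.trans hab₀.symm) hΔ (by rw [hcX, hcY]; norm_num)
    (by rw [hcY, hcG]; norm_num)

theorem exc_four (p : ℕ) [Fact p.Prime] [CharP F p] (hodd : Odd (Fintype.card F))
    (hq : Fintype.card F = 7 ∨ Fintype.card F = 9) (X : Subgroup SL2)
    (hZX : Subgroup.center SL2 ≤ X) (hco : IsCoatom X)
    (e : ↥(X.map (QuotientGroup.mk' (Subgroup.center SL2))) ≃* DihedralGroup 4) : False := by
  have h2 : (2 : F) ≠ 0 := two_ne_zero_of_odd hodd
  obtain ⟨a, b, ha, hb, haa, hab, htb⟩ := lift_dih_four (X := X) (e := e) h2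
    (a' := DihedralGroup.sr 0) (b' := DihedralGroup.r 1) (by decide) (by decide) (by decide)
    (by decide) (by decide) (by decide)
  have hX := eq_closure_of_gen (gen_dih 4) a b ha hb haa
  obtain ⟨a, haX⟩ := a
  obtain ⟨b, hbX⟩ := b
  simp only at haa htb hab hX
  have hΔ : tr2 b ^ 2 + tr2 (a * b) ^ 2 - 4 ≠ 0 := by
    rw [htb, hab]
    intro h
    apply h2
    linear_combination -h
  have hsq : Fintype.card F ^ 2 % 16 = 1 := by
    rcases hq with h | h <;> rw [h] <;> norm_num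
  obtain ⟨H, ⟨eH⟩⟩ := (Cfsg.Agent.S0803.result (F := F) rfl).mpr hsq
  have hZY := center_le_comap H
  obtain ⟨a₀, b₀, -, -, haa₀, hab₀, htb₀⟩ := lift_dih_four
    (X := H.comap (QuotientGroup.mk' (Subgroup.center SL2)))
    (e := (MulEquiv.subgroupCongr (map_comap_mk H)).trans eH) h2
    rS_ne rS_sq rcS_ne rcS_sq cS_two cS_four
  have hcY := card_comap_of_iso hodd H eH
  rw [card_S4] at hcY
  have hcX := card_of_dih hodd X hZX 4 e
  have hcG : 336 ≤ Nat.card SL2 := by
    rw [Cfsg.Agent.Lib.Helper38.card_SL2]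
    rcases hq with h | h <;> rw [h] <;> norm_num
  -- match the traces
  have hmatch : (tr2 (b₀ : SL2) - tr2 b) * (tr2 (b₀ : SL2) + tr2 b) = 0 := by
    linear_combination htb₀ - htb
  rcases mul_eq_zero.mp hmatch with h | h
  · have ht : tr2 b = tr2 (b₀ : SL2) := by linear_combination -h
    exact not_coatom_of_over h2 X hco a b hX haa _ a₀ b₀ a₀.2 b₀.2 haa₀
      ht (hab.trans hab₀.symm) hΔ (by rw [hcX, hcY]; norm_num)
      (by rw [hcY]; omega)
  · have ht : tr2 b = tr2 (-(b₀ : SL2)) := by rw [tr2_neg]; linear_combination h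
    have hmem : -(b₀ : SL2) ∈ H.comap (QuotientGroup.mk' (Subgroup.center SL2)) := by
      rw [Cfsg.Agent.Lib.Helper14.Dk.neg_eq_neg_one_mul]
      exact Subgroup.mul_mem _ (hZY neg_one_mem_center) b₀.2
    have hs : tr2 (a * b) = tr2 ((a₀ : SL2) * -(b₀ : SL2)) := by
      rw [mul_neg, tr2_neg, hab₀, hab, neg_zero]
    exact not_coatom_of_over h2 X hco a b hX haa _ a₀ (-(b₀ : SL2)) a₀.2 hmem haa₀
      ht hs hΔ (by rw [hcX, hcY]; norm_num) (by rw [hcY]; omega)

theorem exc_five (p : ℕ) [Fact p.Prime] [CharP F p] (hodd : Odd (Fintype.card F))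
    (hq : Fintype.card F = 9 ∨ Fintype.card F = 11) (X : Subgroup SL2)
    (hZX : Subgroup.center SL2 ≤ X) (hco : IsCoatom X)
    (e : ↥(X.map (QuotientGroup.mk' (Subgroup.center SL2))) ≃* DihedralGroup 5) : False := by
  have h2 : (2 : F) ≠ 0 := two_ne_zero_of_odd hodd
  obtain ⟨a, b, ha, hb, haa, hab, htb⟩ := lift_dih_five (X := X) (e := e) h2 hZX
    (a' := DihedralGroup.sr 0) (b' := DihedralGroup.r 1) (by decide) (by decide) (by decide)
    (by decide) (by decide) (by decide)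
  have hX := eq_closure_of_gen (gen_dih 5) a b ha hb haa
  obtain ⟨a, haX⟩ := a
  obtain ⟨b, hbX⟩ := b
  simp only at haa htb hab hX
  have h5 : ((5 : ℕ) : F) ≠ 0 := natCast_ne_zero_of_card p 5 (by
    rcases hq with h | h <;> rw [h] <;> decide)
  have hΔ : tr2 b ^ 2 + tr2 (a * b) ^ 2 - 4 ≠ 0 := by
    rw [hab]
    intro h
    apply h5
    push_cast
    linear_combination h - (tr2 b - 3) * (htb - h)
  have h5dvd : 5 ∣ Fintype.card F * (Fintype.card F ^ 2 - 1) := by
    rcases hq with h | h <;> rw [h] <;> norm_num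
  obtain ⟨H, ⟨eH⟩⟩ := (Cfsg.Agent.S0804.result (F := F) rfl).mpr h5dvd
  have hZY := center_le_comap H
  obtain ⟨a₀, b₀, -, -, haa₀, hab₀, htb₀⟩ := lift_dih_five
    (X := H.comap (QuotientGroup.mk' (Subgroup.center SL2)))
    (e := (MulEquiv.subgroupCongr (map_comap_mk H)).trans eH) h2 hZY
    rA5_ne rA5_sq rcA5_ne rcA5_sq cA5_ne cA5_five
  have hcY := card_comap_of_iso hodd H eH
  rw [card_A5] at hcY
  have hcX := card_of_dih hodd X hZX 5 e
  have hcG : 720 ≤ Nat.card SL2 := by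
    rw [Cfsg.Agent.Lib.Helper38.card_SL2]
    rcases hq with h | h <;> rw [h] <;> norm_num
  -- match the traces
  have hmatch : (tr2 (b₀ : SL2) - tr2 b) * (tr2 (b₀ : SL2) + tr2 b + 1) = 0 := by
    linear_combination htb₀ - htb
  rcases mul_eq_zero.mp hmatch with h | h
  · have ht : tr2 b = tr2 (b₀ : SL2) := by linear_combination -h
    exact not_coatom_of_over h2 X hco a b hX haa _ a₀ b₀ a₀.2 b₀.2 haa₀
      ht (hab.trans hab₀.symm) hΔ (by rw [hcX, hcY]; norm_num)
      (by rw [hcY]; omega)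
  · have ht : tr2 b = tr2 ((b₀ : SL2) * (b₀ : SL2)) := by
      rw [tr2_sq]
      linear_combination h - htb₀
    have hmem : (b₀ : SL2) * (b₀ : SL2) ∈ H.comap (QuotientGroup.mk' (Subgroup.center SL2)) :=
      Subgroup.mul_mem _ b₀.2 b₀.2
    have hs : tr2 (a * b) = tr2 ((a₀ : SL2) * ((b₀ : SL2) * (b₀ : SL2))) := by
      rw [tr2_mul_sq, hab₀, hab, tr2_of_sq _ haa₀]; ring
    exact not_coatom_of_over h2 X hco a b hX haa _ a₀ ((b₀ : SL2) * (b₀ : SL2)) a₀.2 hmem haa₀
      ht hs hΔ (by rw [hcX, hcY]; norm_num) (by rw [hcY]; omega)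


/-- the dihedral case -/
theorem dih_case (p : ℕ) [Fact p.Prime] [CharP F p] (hodd : Odd (Fintype.card F))
    (h5 : 5 ≤ Fintype.card F) (X : Subgroup SL2) (hZX : Subgroup.center SL2 ≤ X)
    (hco : IsCoatom X) (x : SL2) (hx : x ∉ ZZ (MonoidHom.id SL2))
    (hU : ¬ UU (MonoidHom.id SL2) x) (hXN : X = Subgroup.normalizer (M x : Set SL2))
    (haa : aa x = Fintype.card F - 1 ∨ aa x = Fintype.card F + 1) :
    (13 ≤ Fintype.card F ∧ ∃ k : ℕ, 2 * k = Fintype.card F - 1 ∧
      Nonempty (↥(X.map (QuotientGroup.mk' (Subgroup.center SL2))) ≃* DihedralGroup k)) ∨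
    (Fintype.card F ≠ 7 ∧ Fintype.card F ≠ 9 ∧ ∃ k : ℕ, 2 * k = Fintype.card F + 1 ∧
      Nonempty (↥(X.map (QuotientGroup.mk' (Subgroup.center SL2))) ≃* DihedralGroup k)) := by
  obtain ⟨e⟩ := normalizer_dihedral_odd p (by omega) x hx hU
  rw [card_center_of_odd hodd, ← hXN] at e
  have hq2 : Fintype.card F % 2 = 1 := Nat.odd_iff.mp hodd
  rcases haa with h | h
  · by_cases h13 : 13 ≤ Fintype.card F
    · left
      exact ⟨h13, aa x / 2, by omega, ⟨e⟩⟩
    · exfalso
      have : Fintype.card F = 5 ∨ Fintype.card F = 7 ∨ Fintype.card F = 9 ∨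
          Fintype.card F = 11 := by omega
      rcases this with hq | hq | hq | hq
      · have hk : aa x / 2 = 2 := by omega
        rw [hk] at e
        exact exc_two p hodd hq X hZX hco e
      · have hk : aa x / 2 = 3 := by omega
        rw [hk] at e
        exact exc_three p hodd hq X hZX hco e
      · have hk : aa x / 2 = 4 := by omega
        rw [hk] at e
        exact exc_four p hodd (Or.inr hq) X hZX hco e
      · have hk : aa x / 2 = 5 := by omega
        rw [hk] at e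
        exact exc_five p hodd (Or.inr hq) X hZX hco e
  · by_cases h79 : Fintype.card F = 7 ∨ Fintype.card F = 9
    · exfalso
      rcases h79 with hq | hq
      · have hk : aa x / 2 = 4 := by omega
        rw [hk] at e
        exact exc_four p hodd (Or.inl hq) X hZX hco e
      · have hk : aa x / 2 = 5 := by omega
        rw [hk] at e
        exact exc_five p hodd (Or.inl hq) X hZX hco e
    · right
      push Not at h79
      exact ⟨h79.1, h79.2, aa x / 2, by omega, ⟨e⟩⟩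

end exceptions

end Cfsg.Agent.Lib.Helper14.Mx
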