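import Mathlib
import Cfsg.Agent.Lib.Helper14.MxDih
import Cfsg.Agent.Lib.Helper14.DkIsoG

set_option autoImplicit false
set_option linter.style.haveILetI false

/-!
# Maximal subgroups of `SL₂(q)` of subfield type
-/

namespace Cfsg.Agent.Lib.Helper14.Mx

open Cfsg.Agent.Lib.Helper2.SL2 Cfsg.Agent.Lib.Helper2.Dk Cfsg.Agent.Lib.Helper14.Dk

section

variable {F : Type*} [Field F] [Fintype F]

local notation "SL2" => Matrix.SpecialLinearGroup (Fin 2) F
local notation "PSL2" => Matrix.ProjectiveSpecialLinearGroup (Fin 2) F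

/-- the structure of the subgroups of subfield type -/
theorem psl_struct (p : ℕ) [Fact p.Prime] [CharP F p] (X : Subgroup SL2)
    (hZX : Subgroup.center SL2 ≤ X) (h : Cfsg.Agent.Lib.Helper14.Dk.IsPSL (ZZ X.subtype) (UU X.subtype)) :
    Nonempty (↥(X.map (QuotientGroup.mk' (Subgroup.center SL2))) ≃* alternatingGroup (Fin 5)) ∨
    ∃ (θ : SL2 ≃* SL2) (E : Subfield F), SLE E ≤ X.map θ.toMonoidHom ∧
      X.map θ.toMonoidHom ≤ PG E := by
  classical
  have hpp : p.Prime := Fact.out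
  have hτ : Function.Injective X.subtype := X.subtype_injective
  have D := data_of_rep p X.subtype hτ
  obtain ⟨k, q₀, g₂, g, hcard, hk2, hUni, hP, hT1, hT2, hTin⟩ := h
  have hZpos : 0 < Nat.card (ZZ X.subtype) := Nat.card_pos
  obtain ⟨e₀⟩ := map_mk_equiv X
  -- the exceptional case
  by_cases hex : q₀ = 3 ∧ k = 2 ∧ g₂ = 5 ∧ g = 60
  · left
    obtain ⟨-, -, h5, h60⟩ := hex
    obtain ⟨y, hy, hUy, hee, haa⟩ := hT2
    rw [h5] at haa
    rw [h60] at hcard
    have hnn : nn y ≠ 1 := by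
      intro h1
      have := nn_mul_ee_mul_aa y
      rw [h1, hee, haa, hcard] at this
      have : Nat.card (ZZ X.subtype) * 10 = Nat.card (ZZ X.subtype) * 60 := by
        rw [← this]; ring
      omega
    obtain ⟨e⟩ := iso_A5 (ZZ X.subtype) hcard y (D.toCT.Z_le_M y) haa hnn
    exact ⟨e₀.trans e⟩
  right
  -- the number of Sylow subgroups
  obtain ⟨⟨x, hx, hU⟩, hall⟩ := hUni
  obtain ⟨hee, haa⟩ := hall x hx hU
  have hq₀pos : 0 < q₀ := by
    rcases Nat.eq_zero_or_pos q₀ with h | h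
    · rw [h, mul_zero] at haa
      have := aa_pos x
      omega
    · exact h
  have hnn : nn x = q₀ + 1 := by
    have h1 := nn_mul_ee_mul_aa x
    rw [hee, haa, hcard] at h1
    have h2 : nn x * k * q₀ = g := by
      have : Nat.card (ZZ X.subtype) * (nn x * k * q₀) = Nat.card (ZZ X.subtype) * g := by
        rw [← h1]; ring
      exact Nat.eq_of_mul_eq_mul_left hZpos this
    have hkpos : 0 < k := by omega
    rcases hP with ⟨h1, h2', h3⟩ | ⟨h1, h2', h3⟩ | ⟨h1, h2', h3, h4⟩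
    · rw [h3, h2'] at h2
      have : (k * q₀) * nn x = (k * q₀) * (q₀ + 1) := by
        have e1 : (k * q₀) * nn x = nn x * k * q₀ := by ring
        rw [e1, h2]; ring
      exact Nat.eq_of_mul_eq_mul_left (Nat.mul_pos hkpos hq₀pos) this
    · rw [h3] at h2
      have : (k * q₀) * nn x = (k * q₀) * (q₀ + 1) := by
        have e1 : (k * q₀) * nn x = nn x * k * q₀ := by ring
        rw [e1, h2, ← h2']; ring
      exact Nat.eq_of_mul_eq_mul_left (Nat.mul_pos hkpos hq₀pos) this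
    · exact absurd ⟨h1, h2', h3, h4⟩ hex
  have hN : Subgroup.normalizer (M x : Set X) ≠ ⊤ := by
    intro htop
    have : nn x = 1 := by unfold nn; rw [htop, Subgroup.index_top]
    omega
  -- normalization
  obtain ⟨θ, x₁, ν₀, hν₀, hθx₁, hM, hss⟩ := exists_normalize X hZX hx hU hN
  set L := X.map θ.toMonoidHom with hL
  have hL1 : tt 1 ∈ L := ⟨x₁, x₁.2, hθx₁⟩
  have hZL : Subgroup.center SL2 ≤ L := by
    intro z hz
    refine ⟨θ.symm z, hZX ?_, by simp⟩
    rw [← equiv_mem_center_iff θ]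
    simpa using hz
  obtain ⟨e, he⟩ : ∃ e : ↥X ≃* ↥L, ∀ y : X, ((e y : L) : SL2) = θ (y : SL2) :=
    ⟨θ.subgroupMap X, fun y => rfl⟩
  have hex₁ : e x₁ = (⟨tt 1, hL1⟩ : L) := Subtype.ext ((he x₁).trans hθx₁)
  have hZc : Nat.card (ZZ L.subtype) = Nat.card (ZZ X.subtype) := by
    rw [card_ZZ_subtype L hZL, card_ZZ_subtype X hZX]
  have haa' : aa (⟨tt 1, hL1⟩ : L) = Nat.card (ZZ L.subtype) * q₀ := by
    rw [← hex₁, aa_equiv, hZc, ← haa]
    unfold aa; rw [hM]
  have hnn' : nn (⟨tt 1, hL1⟩ : L) = q₀ + 1 := by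
    rw [← hex₁, nn_equiv, ← hnn]
    unfold nn; rw [hM]
  have hA := hA_of_count p L hZL hL1 hν₀ hss q₀ haa' hnn'
  obtain ⟨E, hE, hEss⟩ := subfield_of_hA hA hν₀ hss hL1 p
  refine ⟨θ, E, ?_, ?_⟩
  · -- `SLE E ≤ L`
    have hrange : ∀ μ : F, μ ∈ Set.range E.subtype ↔ μ ∈ E := by
      intro μ
      constructor
      · rintro ⟨a, rfl⟩
        exact a.2
      · intro hμ
        exact ⟨⟨μ, hμ⟩, rfl⟩
    rw [← range_mapSL_eq E.subtype E hrange]
    apply range_mapSL_le
    intro μ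
    exact ⟨(hE _).mp μ.2, hEss _ μ.2⟩
  · -- `L ≤ PG E`
    have hrange : ∀ μ : F, μ ∈ Set.range E.subtype ↔ μ ∈ E := by
      intro μ
      constructor
      · rintro ⟨a, rfl⟩
        exact a.2
      · intro hμ
        exact ⟨⟨μ, hμ⟩, rfl⟩
    have hT : ∀ μ : F, tt μ ∈ L ↔ μ ∈ Set.range E.subtype := fun μ => by rw [hrange, hE]
    have hss' : ∀ μ : E, ss (E.subtype μ) ∈ L := fun μ => hEss _ μ.2
    intro g hg
    obtain ⟨h₀, a, ha, ha2, rfl⟩ := exists_factor E.subtype L hT hss' hA g hg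
    apply Subgroup.mul_mem
    · apply SLE_le_PG
      rw [← range_mapSL_eq E.subtype E hrange]
      exact ⟨h₀, rfl⟩
    · exact dd_mem_PG a ha ((hrange _).mp ha2)

/-- the subfield case -/
theorem case_PSL (p : ℕ) [Fact p.Prime] [CharP F p] (hodd : Odd (Fintype.card F))
    (X : Subgroup SL2) (hZX : Subgroup.center SL2 ≤ X) (hco : IsCoatom X)
    (h : Cfsg.Agent.Lib.Helper14.Dk.IsPSL (ZZ X.subtype) (UU X.subtype)) :
    PGLConcl (X.map (QuotientGroup.mk' (Subgroup.center SL2))) ∨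
      SubfieldConcl (X.map (QuotientGroup.mk' (Subgroup.center SL2))) ∨
      ((Fintype.card F % 10 = 1 ∨ Fintype.card F % 10 = 9) ∧
        (Fintype.card F = p ∨ (Fintype.card F = p ^ 2 ∧ (p % 10 = 3 ∨ p % 10 = 7))) ∧
        Nonempty (↥(X.map (QuotientGroup.mk' (Subgroup.center SL2))) ≃*
          alternatingGroup (Fin 5))) := by
  have h2 : (2 : F) ≠ 0 := two_ne_zero_of_odd hodd
  rcases psl_struct p X hZX h with ⟨⟨e⟩⟩ | ⟨θ, E, hle1, hle2⟩
  · rcases case_A5 p hodd X hZX hco e with h1 | ⟨h1, h3⟩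
    · right; left; exact h1
    · right; right; exact ⟨h1, h3, ⟨e⟩⟩
  · rcases coatom_in_PG p h2 X hco θ E hle2 with h1 | h1 | h1
    · left; exact h1
    · right; left; exact h1
    · exfalso
      apply (isCoatom_map θ hco).1
      rw [eq_top_iff]
      refine le_trans ?_ hle1
      rw [h1, SLE_top]

end

end Cfsg.Agent.Lib.Helper14.Mx
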