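import Mathlib
import Cfsg.Agent.Lib.Helper14.MxPSL
import Cfsg.Agent.Lib.Helper14.MxBasic

set_option autoImplicit false
set_option linter.style.haveILetI false

/-!
# The maximal subgroups of `PSL₂(q)`, `q` odd, with their types
-/

namespace Cfsg.Agent.Lib.Helper14.Mx

open Cfsg.Agent.Lib.Helper2.SL2 Cfsg.Agent.Lib.Helper2.Dk Cfsg.Agent.Lib.Helper14.Dk

section

variable {F : Type*} [Field F] [Fintype F]

local notation "SL2" => Matrix.SpecialLinearGroup (Fin 2) F
local notation "PSL2" => Matrix.ProjectiveSpecialLinearGroup (Fin 2) F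

/-- the types of the maximal subgroups of `PSL₂(q)`, `q` odd -/
theorem max_types (p : ℕ) [Fact p.Prime] [CharP F p] (hodd : Odd (Fintype.card F))
    (h5 : 5 ≤ Fintype.card F) (M : Subgroup PSL2) (hM : IsCoatom M) :
    2 * Nat.card M = Fintype.card F * (Fintype.card F - 1) ∨
    (13 ≤ Fintype.card F ∧ (∃ k : ℕ, 2 * k = Fintype.card F - 1 ∧
      Nonempty (M ≃* DihedralGroup k))) ∨
    (Fintype.card F ≠ 7 ∧ Fintype.card F ≠ 9 ∧ (∃ k : ℕ, 2 * k = Fintype.card F + 1 ∧
      Nonempty (M ≃* DihedralGroup k))) ∨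
    (∃ (F₀ : Type) (_ : Field F₀) (_ : Fintype F₀), Fintype.card F = Fintype.card F₀ ^ 2 ∧
        Nonempty (M ≃* Matrix.ProjGenLinGroup (Fin 2) F₀)) ∨
    (∃ (F₀ : Type) (_ : Field F₀) (_ : Fintype F₀) (r : ℕ), r.Prime ∧ Odd r ∧
        Fintype.card F = Fintype.card F₀ ^ r ∧
        Nonempty (M ≃* Matrix.ProjectiveSpecialLinearGroup (Fin 2) F₀)) ∨
    ((Fintype.card F % 10 = 1 ∨ Fintype.card F % 10 = 9) ∧
        (Fintype.card F = p ∨ (Fintype.card F = p ^ 2 ∧ (p % 10 = 3 ∨ p % 10 = 7))) ∧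
        Nonempty (M ≃* alternatingGroup (Fin 5))) ∨
    (Fintype.card F = p ∧ (p % 8 = 3 ∨ p % 8 = 5) ∧ ¬ (p % 10 = 1 ∨ p % 10 = 9) ∧
        Nonempty (M ≃* alternatingGroup (Fin 4))) ∨
    (Fintype.card F = p ∧ (p % 8 = 1 ∨ p % 8 = 7) ∧ Nonempty (M ≃* Equiv.Perm (Fin 4))) := by
  obtain ⟨X, hZX, hco, rfl⟩ : ∃ X : Subgroup SL2, Subgroup.center SL2 ≤ X ∧ IsCoatom X ∧
      X.map (QuotientGroup.mk' (Subgroup.center SL2)) = M :=
    ⟨M.comap (QuotientGroup.mk' (Subgroup.center SL2)), center_le_comap M,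
      Subgroup.isCoatom_comap_of_surjective (QuotientGroup.mk'_surjective _) hM, map_comap_mk M⟩
  have hτ : Function.Injective X.subtype := X.subtype_injective
  have D := data_of_rep p X.subtype hτ
  have hbasic : (ZZ X.subtype = ⊤ ∨ IsCyc (ZZ X.subtype) (UU X.subtype) ∨
      IsBor (ZZ X.subtype) (UU X.subtype) ∨ IsDih (ZZ X.subtype) (UU X.subtype)) →
      2 * Nat.card ↥(X.map (QuotientGroup.mk' (Subgroup.center SL2))) =
        Fintype.card F * (Fintype.card F - 1) ∨
      (13 ≤ Fintype.card F ∧ (∃ k : ℕ, 2 * k = Fintype.card F - 1 ∧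
        Nonempty (↥(X.map (QuotientGroup.mk' (Subgroup.center SL2))) ≃* DihedralGroup k))) ∨
      (Fintype.card F ≠ 7 ∧ Fintype.card F ≠ 9 ∧ (∃ k : ℕ, 2 * k = Fintype.card F + 1 ∧
        Nonempty (↥(X.map (QuotientGroup.mk' (Subgroup.center SL2))) ≃* DihedralGroup k))) := by
    intro h
    rcases coatom_basic p hodd h5 X hZX hco h with h1 | ⟨x, hx, hU, hXN, haa⟩
    · left
      have := card_map_mk (Subgroup.center SL2) X hZX
      rw [card_center_of_odd hodd] at this
      rw [this, h1]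
    · rcases dih_case p hodd h5 X hZX hco x hx hU hXN haa with h1 | h1
      · right; left; exact h1
      · right; right; exact h1
  rcases D.main with h | h | h | h | h | h | h | h
  · rcases hbasic (Or.inl h) with h1 | h1 | h1
    · exact Or.inl h1
    · exact Or.inr (Or.inl h1)
    · exact Or.inr (Or.inr (Or.inl h1))
  · rcases hbasic (Or.inr (Or.inl h)) with h1 | h1 | h1
    · exact Or.inl h1
    · exact Or.inr (Or.inl h1)
    · exact Or.inr (Or.inr (Or.inl h1))
  · rcases hbasic (Or.inr (Or.inr (Or.inl h))) with h1 | h1 | h1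
    · exact Or.inl h1
    · exact Or.inr (Or.inl h1)
    · exact Or.inr (Or.inr (Or.inl h1))
  · rcases hbasic (Or.inr (Or.inr (Or.inr h))) with h1 | h1 | h1
    · exact Or.inl h1
    · exact Or.inr (Or.inl h1)
    · exact Or.inr (Or.inr (Or.inl h1))
  · obtain ⟨e⟩ := type_A4 p X h
    rcases case_A4 p hodd h5 X hZX hco e with h1 | ⟨h1, h2, h3⟩
    · right; right; right; right; left; exact h1
    · right; right; right; right; right; right; left; exact ⟨h1, h2, h3, ⟨e⟩⟩
  · obtain ⟨e⟩ := type_S4 p X h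
    rcases case_S4 p hodd X hZX hco e with h1 | h1 | ⟨h1, h2⟩
    · right; right; right; left; exact h1
    · right; right; right; right; left; exact h1
    · right; right; right; right; right; right; right; exact ⟨h1, h2, ⟨e⟩⟩
  · obtain ⟨e⟩ := type_A5 p X h
    rcases case_A5 p hodd X hZX hco e with h1 | ⟨h1, h2⟩
    · right; right; right; right; left; exact h1
    · right; right; right; right; right; left; exact ⟨h1, h2, ⟨e⟩⟩
  · rcases case_PSL p hodd X hZX hco h with h1 | h1 | h1
    · right; right; right; left; exact h1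
    · right; right; right; right; left; exact h1
    · right; right; right; right; right; left; exact h1

end

end Cfsg.Agent.Lib.Helper14.Mx
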