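import Mathlib
import Cfsg.Agent.Lib.Helper41.OmBNDefs
import Cfsg.Agent.Lib.Helper75.SpBN_SQ

/-! S2549 OmBN hive (helper41), leaf SQ (helper14): `permBlock` is multiplicative, the simple reflections square
to one. -/

set_option autoImplicit false

namespace Cfsg.Agent.Lib.Helper41.OmBN

open Matrix Cfsg Cfsg.Agent.Lib.Helper13 Cfsg.Agent.Lib.Helper8 Cfsg.Agent.Lib.Helper41.SpBN

variable {F : Type*} [Field F] {m : ℕ} {a b : F}

theorem sq_permMat_apply (σ : Equiv.Perm (Idx m)) (s t : Idx m) :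
    (permMat σ : Matrix (Idx m) (Idx m) F) s t = if s = σ t then 1 else 0 := rfl

theorem sq_permMat_mul (σ τ : Equiv.Perm (Idx m)) :
    (permMat (σ * τ) : Matrix (Idx m) (Idx m) F) = permMat σ * permMat τ := by
  ext s t
  rw [Matrix.mul_apply, sq_permMat_apply, Finset.sum_eq_single (τ t)]
  · rw [sq_permMat_apply, sq_permMat_apply, if_pos (Eq.refl _), mul_one, Equiv.Perm.mul_apply]
  · intro c _ hc
    rw [sq_permMat_apply τ c t, if_neg hc, mul_zero]
  · intro h
    exact absurd (Finset.mem_univ _) h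

theorem sq_permMat_one : (permMat (1 : Equiv.Perm (Idx m)) : Matrix (Idx m) (Idx m) F) = 1 := by
  ext s t
  rw [sq_permMat_apply, Equiv.Perm.one_apply, Matrix.one_apply]

theorem sq_permBlock_mul (σ τ : Equiv.Perm (Idx m)) :
    (permBlock (σ * τ) : Matrix (MIdx m) (MIdx m) F) = permBlock σ * permBlock τ := by
  unfold permBlock
  rw [Matrix.fromBlocks_multiply, sq_permMat_mul]
  simp

theorem sq_permBlock_one : (permBlock (1 : Equiv.Perm (Idx m)) : Matrix (MIdx m) (MIdx m) F) = 1 := by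
  unfold permBlock
  rw [sq_permMat_one, Matrix.fromBlocks_one]

/-- a simple reflection squares to one -/
theorem sq_mul_self {s : OG F m a b} (hs : s ∈ So F m a b) : s * s = 1 := by
  obtain ⟨σ, hσ, hs⟩ := hs
  apply mat_injective
  rw [mat_mul, hs, ← sq_permBlock_mul, sq_simple_mul_self hσ, sq_permBlock_one, mat_one]

/-- LEAF SQ. -/
theorem S_sq_mem : ∀ s ∈ So F m a b, s * s ∈ Bo F m a b := by
  intro s hs
  rw [sq_mul_self hs]
  exact (Bo F m a b).one_mem

end Cfsg.Agent.Lib.Helper41.OmBN
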