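import Mathlib
import Cfsg.Agent.Lib.Helper41.OmBNDefs
import Cfsg.Agent.Lib.Helper14.OmBN_SQ

/-! S2549 OmBN hive (helper41), leaf INJ (helper14). -/

set_option autoImplicit false

namespace Cfsg.Agent.Lib.Helper41.OmBN

open Matrix Cfsg Cfsg.Agent.Lib.Helper13 Cfsg.Agent.Lib.Helper8 Cfsg.Agent.Lib.Helper41.SpBN

variable {F : Type*} [Field F] {m : ℕ} {a b : F}

/-- `oord` is injective on the `e`, `f` part -/
theorem inj_oord_inl_injective {s t : Idx m} (h : oord m (Sum.inl s) = oord m (Sum.inl t)) : s = t := by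
  rcases s with i | i <;> rcases t with j | j
  · rw [oord_e, oord_e] at h
    rw [Fin.ext h]
  · rw [oord_e, oord_f] at h
    have := i.2
    have := j.2
    omega
  · rw [oord_e, oord_f] at h
    have := i.2
    have := j.2
    omega
  · rw [oord_f, oord_f] at h
    have := i.2
    have := j.2
    have : (i : ℕ) = j := by omega
    rw [Fin.ext this]

/-- a permutation matrix block which is block upper triangular is the identity -/
theorem inj_perm_eq_one {π : Equiv.Perm (Idx m)}
    (h : (permBlock π : Matrix (MIdx m) (MIdx m) F).BlockTriangular (oord m)) : π = 1 := by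
  have h1 : ∀ t : Idx m, oord m (Sum.inl (π t)) ≤ oord m (Sum.inl t) := by
    intro t
    by_contra hlt
    push Not at hlt
    have h2 := h hlt
    unfold permBlock at h2
    rw [Matrix.fromBlocks_apply₁₁, sq_permMat_apply, if_pos rfl] at h2
    exact one_ne_zero h2
  have h2 : ∀ n : ℕ, ∀ t : Idx m, oord m (Sum.inl t) = n → π t = t := by
    intro n
    induction n using Nat.strong_induction_on with
    | _ n ih =>
      intro t ht
      rcases Nat.lt_or_ge (oord m (Sum.inl (π t))) n with hlt | hge
      · have h3 := ih _ hlt (π t) rfl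
        exact π.injective h3
      · have h3 := h1 t
        exact inj_oord_inl_injective (by omega)
  ext t
  rw [h2 _ t rfl, Equiv.Perm.one_apply]

/-- LEAF INJ. -/
theorem S_inj : ∀ s ∈ So F m a b, ∀ s' ∈ So F m a b, s⁻¹ * s' ∈ Bo F m a b → s = s' := by
  intro s hs s' hs' hB
  have hsinv : s⁻¹ = s := inv_eq_of_mul_eq_one_left (sq_mul_self hs)
  obtain ⟨σ, hσ, hsm⟩ := hs
  obtain ⟨σ', hσ', hsm'⟩ := hs'
  rw [hsinv] at hB
  have h1 : (mat (s * s')).BlockTriangular (oord m) := hB
  rw [mat_mul, hsm, hsm', ← sq_permBlock_mul] at h1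
  have h2 : σ * σ' = 1 := inj_perm_eq_one h1
  have h3 : σ * σ = 1 := sq_simple_mul_self hσ
  have h4 : σ = σ' := by
    have : σ * σ' = σ * σ := by rw [h2, h3]
    exact (mul_left_cancel this).symm
  apply mat_injective
  rw [hsm, hsm', h4]

end Cfsg.Agent.Lib.Helper41.OmBN
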