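import Mathlib
import Cfsg.Agent.Lib.Helper41.OmBNDefs

/-! S2549 OmBN hive (helper41), leaf OPP (helper14): `B ∩ n₀ B n₀⁻¹ = B ∩ N`. -/

set_option autoImplicit false

namespace Cfsg.Agent.Lib.Helper41.OmBN

open Matrix Cfsg Cfsg.Agent.Lib.Helper13 Cfsg.Agent.Lib.Helper8 Cfsg.Agent.Lib.Helper41.SpBN

variable {F : Type*} [Field F] {m : ℕ} {a b : F}

/-- the involution `e_i ↔ f_i` of the index set (identity on `W`) -/
def opp_bar (x : MIdx m) : MIdx m := Sum.map Sum.swap id x

theorem opp_bar_bar (x : MIdx m) : opp_bar (opp_bar x) = x := by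
  rcases x with (i | i) | j <;> rfl

theorem opp_oord_bar (x : MIdx m) : oord m (opp_bar x) = 2 * m - oord m x := by
  rcases x with (i | i) | j
  · rfl
  · show (i : ℕ) = 2 * m - (2 * m - (i : ℕ))
    have := i.2
    omega
  · show m = 2 * m - m
    omega

theorem opp_oord_le (x : MIdx m) : oord m x ≤ 2 * m := by
  rcases x with (i | i) | j
  · show (i : ℕ) ≤ 2 * m
    have := i.2
    omega
  · show 2 * m - (i : ℕ) ≤ 2 * m
    omega
  · show m ≤ 2 * m
    omega

/-- the entries of the longest element -/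
theorem opp_n0_apply (x y : MIdx m) :
    (permBlock (Equiv.sumComm (Fin m) (Fin m)) : Matrix (MIdx m) (MIdx m) F) x y =
      if x = opp_bar y then 1 else 0 := by
  unfold permBlock
  rcases x with s | j <;> rcases y with t | j'
  · rw [Matrix.fromBlocks_apply₁₁]
    show (if s = (Equiv.sumComm (Fin m) (Fin m)) t then (1 : F) else 0) = _
    have : (Sum.inl s : MIdx m) = opp_bar (Sum.inl t) ↔ s = (Equiv.sumComm (Fin m) (Fin m)) t := by
      show (Sum.inl s : MIdx m) = Sum.inl (Sum.swap t) ↔ _
      rw [Sum.inl.injEq]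
      rfl
    by_cases h : s = (Equiv.sumComm (Fin m) (Fin m)) t
    · rw [if_pos h, if_pos (this.2 h)]
    · rw [if_neg h, if_neg (fun h' => h (this.1 h'))]
  · rw [Matrix.fromBlocks_apply₁₂, Matrix.zero_apply, if_neg]
    intro h
    exact Sum.inl_ne_inr h
  · rw [Matrix.fromBlocks_apply₂₁, Matrix.zero_apply, if_neg]
    intro h
    exact Sum.inr_ne_inl h
  · rw [Matrix.fromBlocks_apply₂₂, Matrix.one_apply]
    have : (Sum.inr j : MIdx m) = opp_bar (Sum.inr j') ↔ j = j' := by
      show (Sum.inr j : MIdx m) = Sum.inr j' ↔ _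
      rw [Sum.inr.injEq]
    by_cases h : j = j'
    · rw [if_pos h, if_pos (this.2 h)]
    · rw [if_neg h, if_neg (fun h' => h (this.1 h'))]

/-- entries when `g n₀ = n₀ h` -/
theorem opp_entry {w g h : OG F m a b} (hw : mat w = permBlock (Equiv.sumComm (Fin m) (Fin m)))
    (hgh : g * w = w * h) (x y : MIdx m) : mat g x (opp_bar y) = mat h (opp_bar x) y := by
  have h1 : mat g * mat w = mat w * mat h := by rw [← mat_mul, ← mat_mul, hgh]
  have h2 := congrFun (congrFun h1 x) y
  rw [hw, Matrix.mul_apply, Matrix.mul_apply, Finset.sum_eq_single (opp_bar y),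
    Finset.sum_eq_single (opp_bar x)] at h2
  · rw [opp_n0_apply, opp_n0_apply, if_pos rfl, opp_bar_bar, if_pos rfl, mul_one, one_mul] at h2
    exact h2
  · intro c _ hc
    rw [opp_n0_apply, if_neg ?_, zero_mul]
    intro h
    apply hc
    rw [h, opp_bar_bar]
  · intro h
    exact absurd (Finset.mem_univ _) h
  · intro c _ hc
    rw [opp_n0_apply, if_neg hc, mul_zero]
  · intro h
    exact absurd (Finset.mem_univ _) h

/-- `oord` is injective outside `W` -/
theorem opp_oord_injective {s t : Idx m} (h : oord m (Sum.inl s) = oord m (Sum.inl t)) : s = t := by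
  rcases s with i | i <;> rcases t with j | j
  · rw [oord_e, oord_e] at h
    rw [Fin.ext h]
  · rw [oord_e, oord_f] at h
    have := i.2
    have := j.2
    omega
  · rw [oord_e, oord_f] at h
    have := i.2
    have := j.2
    omega
  · rw [oord_f, oord_f] at h
    have := i.2
    have := j.2
    have : (i : ℕ) = j := by omega
    rw [Fin.ext this]

theorem opp_oord_inl_ne (s : Idx m) (j : Fin 2) : oord m (Sum.inl s) ≠ oord m (Sum.inr j) := by
  rcases s with i | i
  · rw [oord_e, oord_w]
    have := i.2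
    omega
  · rw [oord_f, oord_w]
    have := i.2
    omega

/-- block diagonal isometries (entries vanish whenever the `oord`'s differ) are in `B ∩ N` -/
theorem opp_mem_of_diag (g : OG F m a b) (h : ∀ x y : MIdx m, oord m x ≠ oord m y → mat g x y = 0) :
    g ∈ Bo F m a b ⊓ No F m a b := by
  refine Subgroup.mem_inf.2 ⟨?_, ?_⟩
  · rw [mem_Bo_iff]
    intro i j hij
    exact h i j (Nat.ne_of_gt hij)
  · rw [mem_No_iff]
    refine ⟨1, fun s => mat g (Sum.inl s) (Sum.inl s), ?_, ?_, ?_⟩
    · intro s t
      rw [Equiv.Perm.one_apply]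
      by_cases hst : s = t
      · rw [if_pos hst, hst]
        rfl
      · rw [if_neg hst]
        exact h _ _ (fun h' => hst (opp_oord_injective h'))
    · ext s j
      exact h _ _ (opp_oord_inl_ne s j)
    · ext j s
      exact h _ _ (fun h' => opp_oord_inl_ne s j h'.symm)

/-- the coefficients of a block monomial isometry do not vanish -/
theorem opp_coeff_ne_zero {g : OG F m a b} {π : Equiv.Perm (Idx m)} {d : Idx m → F}
    (h : IsBMono (mat g) π d) (t : Idx m) : d t ≠ 0 := by
  intro h0
  have h1 : mat g⁻¹ * mat g = 1 := mat_inv_mul g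
  have h2 := congrFun (congrFun h1 (Sum.inl t)) (Sum.inl t)
  rw [Matrix.mul_apply, Matrix.one_apply_eq, Finset.sum_eq_zero] at h2
  · exact zero_ne_one h2
  · intro x _
    rcases x with s | j
    · have h3 : mat g (Sum.inl s) (Sum.inl t) = if s = π t then d t else 0 := h.1 s t
      rw [h3, h0, ite_self, mul_zero]
    · have h3 : mat g (Sum.inr j) (Sum.inl t) = 0 := by
        have := congrFun (congrFun h.2.2 j) t
        exact this
      rw [h3, mul_zero]

/-- elements of `B ∩ N` are block diagonal -/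
theorem opp_diag_of_mem {g : OG F m a b} (hg : g ∈ Bo F m a b ⊓ No F m a b) :
    ∀ x y : MIdx m, oord m x ≠ oord m y → mat g x y = 0 := by
  obtain ⟨hB, π, d, hπ⟩ := Subgroup.mem_inf.1 hg
  rw [mem_Bo_iff] at hB
  have hd := opp_coeff_ne_zero hπ
  -- the permutation is trivial
  have h1 : ∀ t : Idx m, oord m (Sum.inl (π t)) ≤ oord m (Sum.inl t) := by
    intro t
    by_contra hlt
    push Not at hlt
    have h2 := hB _ _ hlt
    have h3 : mat g (Sum.inl (π t)) (Sum.inl t) = if π t = π t then d t else 0 := hπ.1 (π t) t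
    rw [h3, if_pos rfl] at h2
    exact hd t h2
  have h2 : ∀ n : ℕ, ∀ t : Idx m, oord m (Sum.inl t) = n → π t = t := by
    intro n
    induction n using Nat.strong_induction_on with
    | _ n ih =>
      intro t ht
      rcases Nat.lt_or_ge (oord m (Sum.inl (π t))) n with hlt | hge
      · have h3 := ih _ hlt (π t) rfl
        exact π.injective h3
      · have h3 := h1 t
        exact opp_oord_injective (by omega)
  intro x y hxy
  rcases x with s | j <;> rcases y with t | j'
  · have h3 : mat g (Sum.inl s) (Sum.inl t) = if s = π t then d t else 0 := hπ.1 s t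
    rw [h3, if_neg]
    intro hst
    apply hxy
    rw [hst, h2 _ t rfl]
  · exact congrFun (congrFun hπ.2.1 s) j'
  · exact congrFun (congrFun hπ.2.2 j) t
  · exact absurd rfl hxy

/-- LEAF OPP. -/
theorem B_inf_conj {n0 : OG F m a b} (hn0 : mat n0 = permBlock (Equiv.sumComm (Fin m) (Fin m))) :
    Bo F m a b ⊓ (Bo F m a b).map (MulAut.conj n0).toMonoidHom = Bo F m a b ⊓ No F m a b := by
  ext g
  constructor
  · intro hg
    obtain ⟨hgB, hgmap⟩ := Subgroup.mem_inf.1 hg
    obtain ⟨h, hhB, hh⟩ := Subgroup.mem_map.1 hgmap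
    simp only [MulEquiv.coe_toMonoidHom, MulAut.conj_apply] at hh
    have hgh : g * n0 = n0 * h := by
      rw [← hh]
      group
    apply opp_mem_of_diag
    intro x y hxy
    rcases lt_or_gt_of_ne hxy with hlt | hgt
    · have e := opp_entry hn0 hgh x (opp_bar y)
      rw [opp_bar_bar] at e
      rw [e]
      apply (mem_Bo_iff h).1 hhB
      rw [opp_oord_bar, opp_oord_bar]
      have := opp_oord_le y
      omega
    · exact (mem_Bo_iff g).1 hgB x y hgt
  · intro hg
    obtain ⟨hgB, hgN⟩ := Subgroup.mem_inf.1 hg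
    refine Subgroup.mem_inf.2 ⟨hgB, ?_⟩
    rw [Subgroup.mem_map]
    have hdiag := opp_diag_of_mem hg
    refine ⟨n0⁻¹ * g * n0, ?_, ?_⟩
    · refine (Subgroup.mem_inf.1 (opp_mem_of_diag _ ?_)).1
      intro x y hxy
      have hgh : g * n0 = n0 * (n0⁻¹ * g * n0) := by group
      have e := opp_entry hn0 hgh (opp_bar x) y
      rw [opp_bar_bar] at e
      rw [← e]
      apply hdiag
      rw [opp_oord_bar, opp_oord_bar]
      intro h
      apply hxy
      have h1 := opp_oord_le x
      have h2 := opp_oord_le y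
      omega
    · simp only [MulEquiv.coe_toMonoidHom, MulAut.conj_apply]
      group

end Cfsg.Agent.Lib.Helper41.OmBN
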