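import Mathlib
import Cfsg.Prelude.Def_GeometricClasses
import Cfsg.Agent.Lib.Helper14.P4Defs
import Cfsg.Agent.Lib.Helper60.P4A1A

set_option autoImplicit false

namespace Cfsg.Agent.Lib.Helper14.P4

open Matrix

variable {F : Type*} [Field F] [Fintype F]

/-- scalar with square one is `±1`. -/
theorem a1_sq_one {c : F} (h : c * c = 1) : c = 1 ∨ c = -1 := by
  have : (c - 1) * (c + 1) = 0 := by linear_combination h
  rcases mul_eq_zero.mp this with h1 | h1
  · left; linear_combination h1
  · right; linear_combination h1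

theorem a1_pow_four {M : Type*} [Monoid M] (a : M) : a ^ 4 = a * a * (a * a) := by
  rw [show (4 : ℕ) = 2 + 2 from rfl, pow_add, pow_two]

theorem a1_smul_one_inj {c d : F}
    (h : c • (1 : Matrix (Fin 4) (Fin 4) F) = d • (1 : Matrix (Fin 4) (Fin 4) F)) : c = d := by
  have := congrFun (congrFun h 0) 0
  simpa using this

theorem pauliLike_of_parts (R : Subgroup (GL (Fin 4) F))
    (hRs : Cfsg.Geo.IsSymplecticTypeGroup 2 R)
    (hRi : Cfsg.Geo.ActsAbsolutelyIrreducibly (Cfsg.Geo.matrixSet R))
    (hcard : Nat.card R = 64) (hZ : Nat.card (Subgroup.center R) = 4) : PauliLike R := by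
  classical
  haveI : Finite R := Nat.finite_of_card_ne_zero (by rw [hcard]; norm_num)
  -- the commutant
  have hcomm : ∀ M : Matrix (Fin 4) (Fin 4) F,
      (∀ g ∈ R, M * (g : Matrix (Fin 4) (Fin 4) F) = (g : Matrix (Fin 4) (Fin 4) F) * M) →
        ∃ c : F, M = c • (1 : Matrix (Fin 4) (Fin 4) F) := by
    intro M hM
    apply hRi.2 M
    rintro s ⟨g, hg, rfl⟩
    exact hM g hg
  have hexp : Monoid.exponent R = 4 := by
    rw [hRs.exponent_eq]; rfl
  have hstruct := abstract_structure (G := R) hRs.pGroup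
    hRs.cyclic_of_characteristic hexp hcard hZ
  -- central elements are scalar
  have hcent : ∀ z : R, z ∈ Subgroup.center R →
      ∃ c : F, ((z : GL (Fin 4) F) : Matrix (Fin 4) (Fin 4) F) = c • 1 := by
    intro z hz
    apply hcomm
    intro g hg
    rw [Subgroup.mem_center_iff] at hz
    have := hz ⟨g, hg⟩
    have h2 := congrArg (fun u : R => ((u : GL (Fin 4) F) : Matrix (Fin 4) (Fin 4) F)) this
    simp only [Subgroup.coe_mul, Units.val_mul] at h2
    exact h2.symm
  have hpow4 : ∀ g : R, g ^ 4 = 1 := by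
    intro g
    have := Monoid.pow_exponent_eq_one g
    rwa [hexp] at this
  refine ⟨hcard, hcomm, ?_, ?_, ?_⟩
  · -- squares
    intro g hg
    obtain ⟨_, _, hsq⟩ := hstruct ⟨g, hg⟩ ⟨g, hg⟩
    obtain ⟨c, hc⟩ := hcent _ hsq
    have hc' : (g : Matrix (Fin 4) (Fin 4) F) * (g : Matrix (Fin 4) (Fin 4) F) = c • 1 := by
      rw [← hc, pow_two]; simp
    have h4 := congrArg (fun u : R => ((u : GL (Fin 4) F) : Matrix (Fin 4) (Fin 4) F))
      (hpow4 ⟨g, hg⟩)
    have h4' : (g : Matrix (Fin 4) (Fin 4) F) * (g : Matrix (Fin 4) (Fin 4) F) *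
        ((g : Matrix (Fin 4) (Fin 4) F) * (g : Matrix (Fin 4) (Fin 4) F)) = 1 := by
      have : ((⟨g, hg⟩ : R) ^ 4 : R) = ⟨g, hg⟩ * ⟨g, hg⟩ * (⟨g, hg⟩ * ⟨g, hg⟩) :=
        a1_pow_four _
      rw [this] at h4
      simpa using h4
    rw [hc', Matrix.smul_mul, Matrix.mul_smul, one_mul, smul_smul] at h4'
    have hcc : c * c = 1 := a1_smul_one_inj (by rw [h4', one_smul])
    rw [hc']
    rcases a1_sq_one hcc with h | h
    · left; rw [h, one_smul]
    · right; rw [h, neg_smul, one_smul]
  · -- commutators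
    intro g hg h hh
    obtain ⟨hk, hk2, _⟩ := hstruct ⟨g, hg⟩ ⟨h, hh⟩
    obtain ⟨c, hc⟩ := hcent _ hk
    have hkk : (g * h * g⁻¹ * h⁻¹ : GL (Fin 4) F) * (g * h * g⁻¹ * h⁻¹) = 1 := by
      have := congrArg (fun u : R => (u : GL (Fin 4) F)) hk2
      simpa [pow_two] using this
    have hc1 : ((g * h * g⁻¹ * h⁻¹ : GL (Fin 4) F) : Matrix (Fin 4) (Fin 4) F) = c • 1 := by
      simpa using hc
    have hcc : c * c = 1 := by
      have := congrArg (fun u : GL (Fin 4) F => (u : Matrix (Fin 4) (Fin 4) F)) hkk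
      simp only [Units.val_mul, Units.val_one] at this
      simp only [Units.val_mul] at hc1
      rw [hc1, Matrix.smul_mul, Matrix.mul_smul, one_mul, smul_smul] at this
      exact a1_smul_one_inj (by rw [this, one_smul])
    have hgh : (g : Matrix (Fin 4) (Fin 4) F) * (h : Matrix (Fin 4) (Fin 4) F) =
        c • ((h : Matrix (Fin 4) (Fin 4) F) * (g : Matrix (Fin 4) (Fin 4) F)) := by
      have h1 : g * h = (g * h * g⁻¹ * h⁻¹) * (h * g) := by group
      have := congrArg (fun u : GL (Fin 4) F => (u : Matrix (Fin 4) (Fin 4) F)) h1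
      rw [Units.val_mul, Units.val_mul (g * h * g⁻¹ * h⁻¹), hc1, Units.val_mul, Matrix.smul_mul,
        one_mul] at this
      exact this
    rcases a1_sq_one hcc with h1 | h1
    · left; rw [hgh, h1, one_smul]
    · right; rw [hgh, h1, neg_smul, one_smul]
  · -- the scalars of order four
    intro i hi
    haveI : Fintype (Subgroup.center R) := Fintype.ofFinite _
    let f : Subgroup.center R → F := fun z => (((z : R) : GL (Fin 4) F) : Matrix (Fin 4) (Fin 4) F) 0 0
    have hf : ∀ z : Subgroup.center R,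
        (((z : R) : GL (Fin 4) F) : Matrix (Fin 4) (Fin 4) F) = f z • 1 := by
      intro z
      obtain ⟨c, hc⟩ := hcent z.1 z.2
      have : f z = c := by
        show (((z : R) : GL (Fin 4) F) : Matrix (Fin 4) (Fin 4) F) 0 0 = c
        rw [hc]; simp
      rw [this, hc]
    have hinj : Function.Injective f := by
      intro z w hzw
      apply Subtype.ext
      apply Subtype.ext
      apply Units.ext
      rw [hf z, hf w, hzw]
    have h4 : ∀ z : Subgroup.center R, f z ^ 4 = 1 := by
      intro z
      have h1 := congrArg (fun u : R => ((u : GL (Fin 4) F) : Matrix (Fin 4) (Fin 4) F))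
        (hpow4 z.1)
      simp only [SubmonoidClass.coe_pow, Units.val_pow_eq_pow_val, OneMemClass.coe_one,
        Units.val_one] at h1
      rw [hf z, smul_pow, one_pow] at h1
      exact a1_smul_one_inj (by rw [h1, one_smul])
    set S : Finset F := Finset.univ.image f with hS
    have hScard : S.card = 4 := by
      rw [hS, Finset.card_image_of_injective _ hinj, Finset.card_univ, ← Nat.card_eq_fintype_card, hZ]
    have hsub : S ⊆ Polynomial.nthRootsFinset 4 (1 : F) := by
      intro c hc
      rw [hS, Finset.mem_image] at hc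
      obtain ⟨z, _, rfl⟩ := hc
      rw [Polynomial.mem_nthRootsFinset (by norm_num)]
      exact h4 z
    have hle : (Polynomial.nthRootsFinset 4 (1 : F)).card ≤ S.card := by
      rw [hScard]
      unfold Polynomial.nthRootsFinset
      exact (Multiset.toFinset_card_le _).trans (Polynomial.card_nthRoots 4 1)
    have hEq := Finset.eq_of_subset_of_card_le hsub hle
    have hi4 : i ∈ Polynomial.nthRootsFinset 4 (1 : F) := by
      rw [Polynomial.mem_nthRootsFinset (by norm_num)]
      have : i ^ 4 = (i * i) * (i * i) := by ring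
      rw [this, hi]; ring
    rw [← hEq, hS, Finset.mem_image] at hi4
    obtain ⟨z, _, hz⟩ := hi4
    exact ⟨((z : R) : GL (Fin 4) F), (z : R).2, by rw [hf z, hz]⟩

theorem pauliLike_of_data (R : Subgroup (GL (Fin 4) F))
    (hR : Cfsg.Geo.IsLinearSymplecticTypeData 2 R) (hR6 : Nat.card R = 2 ^ 6) : PauliLike R := by
  have hcard : Nat.card R = 64 := by rw [hR6]; norm_num
  have hZ : Nat.card (Subgroup.center R) = 4 := by
    obtain ⟨p, e, _, _, h | h | h⟩ := hR.field
    · exact absurd h.1 (by decide)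
    · exact h.2.2.1
    · have := h.2.2.2.1
      rw [hcard] at this
      norm_num at this
  exact pauliLike_of_parts R hR.symplecticType hR.absIrred hcard hZ

end Cfsg.Agent.Lib.Helper14.P4
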