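import Mathlib
import Cfsg.Agent.Lib.Helper14.P4Defs
import Cfsg.Agent.Lib.Helper14.Es3Group
import Cfsg.Agent.Lib.Helper44.SfrCent

/-! Glue lemmas for S6000: scalars, determinant adjustment, transfer along the frame. -/

set_option autoImplicit false

namespace Cfsg.Agent.Lib.Helper14.P4

open Matrix

variable {F : Type*} [Field F]

theorem gScal_comm (c : F) (hc : c ≠ 0) (g : GL (Fin 4) F) : gScal c hc * g = g * gScal c hc := by
  apply Units.ext
  rw [Units.val_mul, Units.val_mul, coe_gScal, Matrix.smul_mul, Matrix.mul_smul, one_mul, mul_one]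

theorem gScal_mem_normalizer (c : F) (hc : c ≠ 0) (R : Subgroup (GL (Fin 4) F)) :
    gScal c hc ∈ Subgroup.normalizer (R : Set (GL (Fin 4) F)) := by
  rw [Subgroup.mem_normalizer_iff]
  intro h
  rw [gScal_comm c hc h, mul_inv_cancel_right]

theorem gScal_mul_mem_normalizer (c : F) (hc : c ≠ 0) (R : Subgroup (GL (Fin 4) F))
    (n : GL (Fin 4) F) (hn : n ∈ Subgroup.normalizer (R : Set (GL (Fin 4) F))) :
    gScal c hc * n ∈ Subgroup.normalizer (R : Set (GL (Fin 4) F)) :=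
  Subgroup.mul_mem _ (gScal_mem_normalizer c hc R) hn

theorem gScal_pow (c : F) (hc : c ≠ 0) (n : ℕ) :
    (gScal c hc : GL (Fin 4) F) ^ n = gScal (c ^ n) (pow_ne_zero n hc) := by
  apply Units.ext
  rw [Units.val_pow_eq_pow_val, coe_gScal, coe_gScal, smul_pow, one_pow]

theorem eq_gScal_of_coe (g : GL (Fin 4) F) (c : F) (hc : c ≠ 0)
    (h : (g : Matrix (Fin 4) (Fin 4) F) = c • 1) : g = gScal c hc :=
  Units.ext h

/-- transfer of a conjugate into the normalizer of `R0` to the normalizer of `P R0 P⁻¹`. -/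
theorem transfer_conj (R₀ : Subgroup (GL (Fin 4) F)) (P x g : GL (Fin 4) F)
    (h : g⁻¹ * x * g ∈ Subgroup.normalizer (R₀ : Set (GL (Fin 4) F))) :
    (g * P⁻¹)⁻¹ * x * (g * P⁻¹) ∈ Subgroup.normalizer
      ((R₀.map (MulAut.conj P).toMonoidHom : Subgroup (GL (Fin 4) F)) : Set (GL (Fin 4) F)) := by
  have h1 := Cfsg.Agent.Lib.Helper14.Es3.conj_mem_normalizer_map R₀ P _ h
  have : (g * P⁻¹)⁻¹ * x * (g * P⁻¹) = P * (g⁻¹ * x * g) * P⁻¹ := by group
  rw [this]; exact h1

variable [Fintype F]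

/-- The core of the "if" direction: rescale to order `r`, conjugate into the normalizer, and correct
the determinant by an element of the centralizer. -/
theorem if_core {p : ℕ} [Fact p.Prime] [CharP F p] (r : ℕ) [Fact r.Prime] (hrp : r ≠ p)
    (R : Subgroup (GL (Fin 4) F)) (x : GL (Fin 4) F)
    (hdet : Matrix.GeneralLinearGroup.det x = 1) (z c : F)
    (hz : ((x ^ r : GL (Fin 4) F) : Matrix (Fin 4) (Fin 4) F) = z • 1) (hc : c ^ r = z)
    (hns : ∀ a : F, (x : Matrix (Fin 4) (Fin 4) F) ≠ a • 1)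
    (hconj : ∀ x' : GL (Fin 4) F, x' ^ r = 1 →
      (∀ a : F, (x' : Matrix (Fin 4) (Fin 4) F) ≠ a • 1) →
      ∃ g : GL (Fin 4) F, g⁻¹ * x' * g ∈ Subgroup.normalizer (R : Set (GL (Fin 4) F))) :
    ∃ g : GL (Fin 4) F, Matrix.GeneralLinearGroup.det g = 1 ∧
      g⁻¹ * x * g ∈ Subgroup.normalizer (R : Set (GL (Fin 4) F)) := by
  classical
  have hz0 : z ≠ 0 := by
    intro h0
    rw [h0, zero_smul] at hz
    have h3' : ((x ^ r : GL (Fin 4) F) : Matrix (Fin 4) (Fin 4) F)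
        * (((x ^ r)⁻¹ : GL (Fin 4) F) : Matrix (Fin 4) (Fin 4) F) = 1 := by
      rw [← Units.val_mul, mul_inv_cancel, Units.val_one]
    rw [hz, Matrix.zero_mul] at h3'
    exact zero_ne_one h3'
  have hc0 : c ≠ 0 := by
    intro h0
    rw [h0, zero_pow (Fact.out : r.Prime).ne_zero] at hc
    exact hz0 hc.symm
  have hci0 : c⁻¹ ≠ 0 := inv_ne_zero hc0
  obtain ⟨x', hx'⟩ : ∃ x' : GL (Fin 4) F, x' = gScal c⁻¹ hci0 * x := ⟨_, rfl⟩
  have hxx' : x = gScal c hc0 * x' := by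
    rw [hx', ← mul_assoc]
    have : gScal c hc0 * gScal c⁻¹ hci0 = (1 : GL (Fin 4) F) := by
      apply Units.ext
      rw [Units.val_mul, coe_gScal, coe_gScal, Matrix.smul_mul, Matrix.mul_smul, one_mul, smul_smul,
        mul_inv_cancel₀ hc0, one_smul, Units.val_one]
    rw [this, one_mul]
  have hx'r : x' ^ r = 1 := by
    have hcomm : Commute (gScal c⁻¹ hci0) x := gScal_comm c⁻¹ hci0 x
    rw [hx', hcomm.mul_pow, gScal_pow]
    apply Units.ext
    rw [Units.val_mul, coe_gScal, hz, Matrix.smul_mul, Matrix.mul_smul, one_mul, smul_smul, inv_pow,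
      hc, inv_mul_cancel₀ hz0, one_smul, Units.val_one]
  have hx'ns : ∀ a : F, (x' : Matrix (Fin 4) (Fin 4) F) ≠ a • 1 := by
    intro a ha
    apply hns (c * a)
    rw [hxx', Units.val_mul, coe_gScal, ha, Matrix.smul_mul, Matrix.mul_smul, one_mul, smul_smul]
  obtain ⟨g, hg⟩ := hconj x' hx'r hx'ns
  -- determinant correction
  have hgd : ((Matrix.GeneralLinearGroup.det g : Fˣ) : F)⁻¹ ≠ 0 :=
    inv_ne_zero (Units.ne_zero _)
  have hx'r' : (x' : Matrix (Fin 4) (Fin 4) F) ^ r = 1 := by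
    rw [← Units.val_pow_eq_pow_val, hx'r, Units.val_one]
  obtain ⟨C, hCy, hCdet⟩ := Cfsg.Agent.Lib.Helper44.Sfr.exists_commute_det (p := p) (n := 4)
    (by norm_num) r hrp (x' : Matrix (Fin 4) (Fin 4) F) hx'r'
    (((Matrix.GeneralLinearGroup.det g : Fˣ) : F)⁻¹) hgd
  have hCdet0 : C.det ≠ 0 := by rw [hCdet]; exact hgd
  set gC : GL (Fin 4) F := Matrix.GeneralLinearGroup.mkOfDetNeZero C hCdet0 with hgC
  have hgCcoe : (gC : Matrix (Fin 4) (Fin 4) F) = C := rfl
  have hgCx' : gC * x' = x' * gC := by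
    apply Units.ext
    rw [Units.val_mul, Units.val_mul, hgCcoe, hCy]
  have hgCx : gC * x = x * gC := by
    calc gC * x = gC * (gScal c hc0 * x') := by rw [← hxx']
      _ = gScal c hc0 * (gC * x') := by
          rw [← mul_assoc, ← gScal_comm c hc0 gC, mul_assoc]
      _ = gScal c hc0 * (x' * gC) := by rw [hgCx']
      _ = x * gC := by rw [← mul_assoc, ← hxx']
  refine ⟨gC * g, ?_, ?_⟩
  · rw [map_mul]
    apply Units.ext
    rw [Units.val_mul, Units.val_one]
    have : ((Matrix.GeneralLinearGroup.det gC : Fˣ) : F) = C.det := rfl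
    rw [this, hCdet, inv_mul_cancel₀ (Units.ne_zero _)]
  · have h1 : (gC * g)⁻¹ * x * (gC * g) = gScal c hc0 * (g⁻¹ * x' * g) := by
      have h2 : (gC * g)⁻¹ * x * (gC * g) = g⁻¹ * (gC⁻¹ * (x * gC)) * g := by group
      rw [h2, ← hgCx, inv_mul_cancel_left]
      calc g⁻¹ * x * g = g⁻¹ * (gScal c hc0 * x') * g := by rw [← hxx']
        _ = gScal c hc0 * (g⁻¹ * x' * g) := by
            rw [← mul_assoc g⁻¹, ← gScal_comm c hc0 g⁻¹]
            simp only [mul_assoc]
    rw [h1]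
    exact gScal_mul_mem_normalizer c hc0 R _ hg

end Cfsg.Agent.Lib.Helper14.P4
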