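import Mathlib
import Cfsg.Prelude.Def_LieClassical
import Cfsg.Agent.Lib.Helper40.HermSU

/-! P4U-C : `GL`-conjugate semisimple unitary matrices are conjugate under `SU`. -/

set_option autoImplicit false

namespace Cfsg.Agent.Lib.Helper14.P4

open Matrix

variable {F : Type*} [Field F] [Fintype F] {p : ℕ}

theorem su_conj_of_gl_conj (hF : Fintype.card F = p ^ 2) (x y g : GL (Fin 4) F)
    (hx : x ∈ Cfsg.GU 4 F p) (hy : y ∈ Cfsg.GU 4 F p) (hg : g⁻¹ * x * g = y)
    (N : ℕ) (hN0 : 0 < N) (hNF : (N : F) ≠ 0) (hxN : x ^ N = 1) :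
    ∃ S : GL (Fin 4) F, S ∈ Cfsg.GU 4 F p ∧ Matrix.GeneralLinearGroup.det S = 1 ∧
      S⁻¹ * x * S = y := by
  have hyN : y ^ N = 1 := by
    rw [← hg]
    have : (g⁻¹ * x * g) ^ N = g⁻¹ * x ^ N * g := by
      have := conj_pow (a := g⁻¹) (i := N) (b := x)
      rw [inv_inv] at this
      exact this
    rw [this, hxN]; group
  have hxN' : (x : Matrix (Fin 4) (Fin 4) F) ^ N = 1 := by
    rw [← Units.val_pow_eq_pow_val, hxN]; rfl
  have hyN' : (y : Matrix (Fin 4) (Fin 4) F) ^ N = 1 := by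
    rw [← Units.val_pow_eq_pow_val, hyN]; rfl
  have hchar : (y : Matrix (Fin 4) (Fin 4) F).charpoly = (x : Matrix (Fin 4) (Fin 4) F).charpoly := by
    rw [← hg, Units.val_mul, Units.val_mul, Matrix.charpoly_mul_comm, ← Matrix.mul_assoc,
      ← Units.val_mul, mul_inv_cancel, Units.val_one, Matrix.one_mul]
  obtain ⟨Sm, hdet, hunit, hconj⟩ :=
    Cfsg.Agent.Lib.Helper40.Herm.exists_special_unitary_conj hF 4
      (y : Matrix (Fin 4) (Fin 4) F) (x : Matrix (Fin 4) (Fin 4) F) hy hx N hN0 hNF hyN' hxN' hchar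
  have hdet0 : Sm.det ≠ 0 := by rw [hdet]; exact one_ne_zero
  refine ⟨Matrix.GeneralLinearGroup.mkOfDetNeZero Sm hdet0, ?_, ?_, ?_⟩
  · intro u v
    exact hunit u v
  · apply Units.ext
    exact hdet
  · have h1 : Matrix.GeneralLinearGroup.mkOfDetNeZero Sm hdet0 * y =
        x * Matrix.GeneralLinearGroup.mkOfDetNeZero Sm hdet0 := by
      apply Units.ext
      exact hconj
    rw [mul_assoc, ← h1, inv_mul_cancel_left]

end Cfsg.Agent.Lib.Helper14.P4
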