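import Mathlib
import Cfsg.Agent.Lib.Helper44.GUFieldAut
import Cfsg.Agent.Lib.Helper5.SUCard
import Cfsg.Agent.Lib.Helper14.Es3Mat

set_option autoImplicit false

/-! Matrix-level tools for the unitary group: the conjugate-transpose criterion and Gram
matrices. -/

namespace Cfsg.Agent.Lib.Helper14.Us3

open Matrix Cfsg.Agent.Lib.Helper14.Es3

variable {F : Type*} [Field F] [Fintype F] {q : ℕ}

/-- entrywise `q`-th power -/
def frm (q : ℕ) {n : ℕ} (A : Matrix (Fin n) (Fin n) F) : Matrix (Fin n) (Fin n) F :=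
  A.map (fun x => x ^ q)

theorem frm_apply {n : ℕ} (A : Matrix (Fin n) (Fin n) F) (i j : Fin n) :
    frm q A i j = A i j ^ q := rfl

theorem frm_mul (hF : Fintype.card F = q ^ 2) {n : ℕ} (A B : Matrix (Fin n) (Fin n) F) :
    frm q (A * B) = frm q A * frm q B := by
  have := Matrix.map_mul (L := A) (M := B) (f := Cfsg.Agent.Lib.Helper5.frobQ hF)
  exact this

theorem frm_frm (hF : Fintype.card F = q ^ 2) {n : ℕ} (A : Matrix (Fin n) (Fin n) F) :
    frm q (frm q A) = A := by
  ext i j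
  rw [frm_apply, frm_apply]
  exact Cfsg.Agent.Lib.Helper44.frobK_frobK hF _

theorem frm_transpose {n : ℕ} (A : Matrix (Fin n) (Fin n) F) : frm q Aᵀ = (frm q A)ᵀ := rfl

theorem frm_one (hF : Fintype.card F = q ^ 2) {n : ℕ} :
    frm q (1 : Matrix (Fin n) (Fin n) F) = 1 := by
  have := Matrix.map_one (n := Fin n) (Cfsg.Agent.Lib.Helper5.frobQ hF) (map_zero _) (map_one _)
  exact this

theorem frm_smul {n : ℕ} (c : F) (A : Matrix (Fin n) (Fin n) F) :
    frm q (c • A) = c ^ q • frm q A := by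
  ext i j
  simp [frm_apply, mul_pow]

theorem q_ne_zero (hF : Fintype.card F = q ^ 2) : q ≠ 0 := by
  have := Cfsg.Agent.Lib.Helper44.two_le_q_of_card hF
  omega

theorem frm_S3 (hF : Fintype.card F = q ^ 2) : frm q (S3 : Matrix (Fin 3) (Fin 3) F) = S3 := by
  have hq := q_ne_zero hF
  ext i j
  fin_cases i <;> fin_cases j <;> simp [frm_apply, S3, hq]

theorem frm_dg (hF : Fintype.card F = q ^ 2) (a b c : F) :
    frm q (dg a b c) = dg (a ^ q) (b ^ q) (c ^ q) := by
  have hq := q_ne_zero hF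
  ext i j
  fin_cases i <;> fin_cases j <;> simp [frm_apply, dg, hq]

theorem transpose_dg (a b c : F) : (dg a b c)ᵀ = dg a b c := by
  ext i j
  fin_cases i <;> fin_cases j <;> simp [dg]

theorem transpose_S3_mul : (S3 : Matrix (Fin 3) (Fin 3) F)ᵀ * S3 = 1 := by
  ext i j
  fin_cases i <;> fin_cases j <;> simp [S3, Matrix.mul_apply, Fin.sum_univ_three]

/-- the matrix criterion for membership in the unitary group -/
theorem mem_GU_iff (hF : Fintype.card F = q ^ 2) {n : ℕ} (g : GL (Fin n) F) :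
    g ∈ Cfsg.GU n F q ↔ (g : Matrix (Fin n) (Fin n) F)ᵀ * frm q (g : Matrix (Fin n) (Fin n) F) = 1 := by
  rw [Cfsg.Agent.Lib.Helper5.mem_GU_iff, Cfsg.Agent.Lib.Helper44.GUFA.isHermIso_iff_crit hF]
  rfl

/-- the Gram matrix of the columns -/
def gram (q : ℕ) {n : ℕ} (B : Matrix (Fin n) (Fin n) F) : Matrix (Fin n) (Fin n) F :=
  Bᵀ * frm q B

theorem gram_apply {n : ℕ} (B : Matrix (Fin n) (Fin n) F) (i j : Fin n) :
    gram q B i j = ∑ k, B k i * B k j ^ q := by
  simp [gram, Matrix.mul_apply, frm_apply]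

theorem frm_gram (hF : Fintype.card F = q ^ 2) {n : ℕ} (B : Matrix (Fin n) (Fin n) F) :
    frm q (gram q B) = (gram q B)ᵀ := by
  unfold gram
  rw [frm_mul hF, frm_frm hF, Matrix.transpose_mul, Matrix.transpose_transpose, frm_transpose]

/-- the Gram matrix is invariant under a unitary change -/
theorem gram_of_mul_eq (hF : Fintype.card F = q ^ 2) {n : ℕ} (g : GL (Fin n) F)
    (hg : g ∈ Cfsg.GU n F q) (B N : Matrix (Fin n) (Fin n) F)
    (h : (g : Matrix (Fin n) (Fin n) F) * B = B * N) :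
    Nᵀ * gram q B * frm q N = gram q B := by
  have h1 : gram q ((g : Matrix (Fin n) (Fin n) F) * B) = gram q B := by
    unfold gram
    rw [Matrix.transpose_mul, frm_mul hF, Matrix.mul_assoc, ← Matrix.mul_assoc _ (frm q _),
      (mem_GU_iff hF g).mp hg, Matrix.one_mul]
  have h2 : gram q (B * N) = Nᵀ * gram q B * frm q N := by
    unfold gram
    rw [Matrix.transpose_mul, frm_mul hF]
    simp only [Matrix.mul_assoc]
  rw [← h2, ← h, h1]

theorem det_gram_ne_zero (hF : Fintype.card F = q ^ 2) {n : ℕ} (B : Matrix (Fin n) (Fin n) F)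
    (hB : B.det ≠ 0) : (gram q B).det ≠ 0 := by
  unfold gram
  rw [Matrix.det_mul, Matrix.det_transpose]
  have : (frm q B).det = B.det ^ q := by
    have := (RingHom.map_det (Cfsg.Agent.Lib.Helper5.frobQ hF) B).symm
    exact this
  rw [this]
  exact mul_ne_zero hB (pow_ne_zero _ hB)

/-- the hermitian form of two columns -/
theorem herm_mulVec (hF : Fintype.card F = q ^ 2) {n : ℕ} (B : Matrix (Fin n) (Fin n) F)
    (k m : Fin n → F) :
    Cfsg.hermForm n F q (B *ᵥ k) (B *ᵥ m) = ∑ i, ∑ j, k i * gram q B i j * m j ^ q := by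
  unfold Cfsg.hermForm
  have h1 : ∀ t : Fin n, ((B *ᵥ m) t) ^ q = ∑ j, B t j ^ q * m j ^ q := by
    intro t
    simp only [Matrix.mulVec, dotProduct]
    rw [Cfsg.Agent.Lib.Helper44.frobK_sum hF]
    exact Finset.sum_congr rfl (fun j _ => mul_pow _ _ _)
  have h2 : ∀ t : Fin n, (B *ᵥ k) t * ((B *ᵥ m) t) ^ q
      = ∑ i, ∑ j, k i * (B t i * B t j ^ q) * m j ^ q := by
    intro t
    rw [h1]
    simp only [Matrix.mulVec, dotProduct]
    rw [Finset.sum_mul_sum]
    apply Finset.sum_congr rfl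
    intro i _
    apply Finset.sum_congr rfl
    intro j _
    ring
  simp only [h2]
  rw [Finset.sum_comm]
  apply Finset.sum_congr rfl
  intro i _
  rw [Finset.sum_comm]
  apply Finset.sum_congr rfl
  intro j _
  rw [gram_apply, Finset.mul_sum, Finset.sum_mul]

end Cfsg.Agent.Lib.Helper14.Us3
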