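import Mathlib
import Cfsg.Prelude.Def_LieClassical
import Cfsg.Agent.Lib.Helper14.P4Defs
import Cfsg.Agent.Lib.Helper14.P4Glue
import Cfsg.Agent.Lib.Helper14.Us3Basic

/-! Glue lemmas for S6001 (unitary case). -/

set_option autoImplicit false

namespace Cfsg.Agent.Lib.Helper14.P4

open Matrix

variable {F : Type*} [Field F] [Fintype F] {p : ℕ}

/-- scalar matrices of norm one are unitary -/
theorem gScal_mem_GU (hF : Fintype.card F = p ^ 2) (c : F) (hc : c ≠ 0) (hcn : c ^ (p + 1) = 1) :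
    gScal c hc ∈ Cfsg.GU 4 F p := by
  rw [Cfsg.Agent.Lib.Helper14.Us3.mem_GU_iff hF, coe_gScal, Matrix.transpose_smul,
    Matrix.transpose_one, Cfsg.Agent.Lib.Helper14.Us3.frm_smul, Cfsg.Agent.Lib.Helper14.Us3.frm_one hF,
    Matrix.smul_mul, Matrix.mul_smul, one_mul, smul_smul, mul_comm, ← pow_succ, hcn, one_smul]

/-- a unitary scalar matrix has norm one -/
theorem norm_of_scalar_mem_GU (hF : Fintype.card F = p ^ 2) (g : GL (Fin 4) F)
    (hg : g ∈ Cfsg.GU 4 F p) (z : F) (hz : (g : Matrix (Fin 4) (Fin 4) F) = z • 1) :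
    z ^ (p + 1) = 1 := by
  rw [Cfsg.Agent.Lib.Helper14.Us3.mem_GU_iff hF, hz, Matrix.transpose_smul,
    Matrix.transpose_one, Cfsg.Agent.Lib.Helper14.Us3.frm_smul, Cfsg.Agent.Lib.Helper14.Us3.frm_one hF,
    Matrix.smul_mul, Matrix.mul_smul, one_mul, smul_smul] at hg
  have := congrFun (congrFun hg 0) 0
  simp only [Matrix.smul_apply, Matrix.one_apply_eq, smul_eq_mul, mul_one] at this
  rw [pow_succ, mul_comm]; exact this

/-- the scalar `z` with `x ^ r = z • 1`, `x ∈ SU₄`: `z⁴ = 1` and `z` has norm one -/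
theorem scalar_facts (hF : Fintype.card F = p ^ 2) (x : GL (Fin 4) F) (hxU : x ∈ Cfsg.GU 4 F p)
    (hdet : Matrix.GeneralLinearGroup.det x = 1) (r : ℕ) (z : F)
    (hz : ((x ^ r : GL (Fin 4) F) : Matrix (Fin 4) (Fin 4) F) = z • 1) :
    z ^ 4 = 1 ∧ z ^ (p + 1) = 1 := by
  constructor
  · have h1 : Matrix.GeneralLinearGroup.det (x ^ r) = 1 := by rw [map_pow, hdet, one_pow]
    have h2 : ((Matrix.GeneralLinearGroup.det (x ^ r) : Fˣ) : F) =
        ((x ^ r : GL (Fin 4) F) : Matrix (Fin 4) (Fin 4) F).det := rfl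
    rw [h1, hz, Matrix.det_smul, Matrix.det_one, mul_one, Fintype.card_fin, Units.val_one] at h2
    exact h2.symm
  · exact norm_of_scalar_mem_GU hF (x ^ r) (Subgroup.pow_mem _ hxU r) z hz

end Cfsg.Agent.Lib.Helper14.P4
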