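import Mathlib

/-! Complete families of orthogonal idempotent matrices: ranks add up, and two families with the same
ranks are simultaneously conjugate.  Also: the rank is invariant under an involutive field
automorphism applied entrywise (copied from helper40's `PSUrAlg`, to keep imports light). -/

set_option autoImplicit false

namespace Cfsg.Agent.Lib.Helper14.P4

open Matrix

section idem

variable {F : Type*} [Field F] {n m : ℕ}

/-- `P l` acts on the range of `P k` as `δ`. -/
theorem uid_apply_range (E : Fin m → Matrix (Fin n) (Fin n) F)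
    (hE : ∀ k l, E k * E l = if k = l then E k else 0) (k l : Fin m)
    (u : Fin n → F) (hu : u ∈ LinearMap.range (E k).mulVecLin) :
    (E l).mulVecLin u = if l = k then u else 0 := by
  obtain ⟨v, rfl⟩ := hu
  rw [Matrix.mulVecLin_apply, Matrix.mulVecLin_apply, Matrix.mulVec_mulVec, hE l k]
  split_ifs with h
  · rw [h]
  · rw [Matrix.zero_mulVec]

theorem uid_sum_apply (E : Fin m → Matrix (Fin n) (Fin n) F) (hE1 : ∑ k, E k = 1)
    (v : Fin n → F) : ∑ k, (E k).mulVecLin v = v := by
  have : ∑ k, (E k).mulVecLin v = (∑ k, E k).mulVecLin v := by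
    simp only [Matrix.mulVecLin_apply, Matrix.sum_mulVec]
  rw [this, hE1, Matrix.mulVecLin_apply, Matrix.one_mulVec]

/-- the ranks of a complete family of orthogonal idempotents add up to `n` -/
theorem uid_sum_rank (E : Fin m → Matrix (Fin n) (Fin n) F)
    (hE : ∀ k l, E k * E l = if k = l then E k else 0) (hE1 : ∑ k, E k = 1) :
    ∑ k, (E k).rank = n := by
  classical
  let R : Fin m → Submodule F (Fin n → F) := fun k => LinearMap.range (E k).mulVecLin
  let Φ : (Fin n → F) →ₗ[F] (∀ k, R k) := LinearMap.pi (fun k => (E k).mulVecLin.rangeRestrict)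
  have hinj : Function.Injective Φ := by
    rw [← LinearMap.ker_eq_bot, LinearMap.ker_eq_bot']
    intro v hv
    rw [← uid_sum_apply E hE1 v]
    apply Finset.sum_eq_zero
    intro k _
    have := congrArg (fun f : (∀ k, R k) => ((f k : R k) : Fin n → F)) hv
    exact this
  have hsurj : Function.Surjective Φ := by
    intro u
    refine ⟨∑ k, ((u k : R k) : Fin n → F), ?_⟩
    funext l
    apply Subtype.ext
    show (E l).mulVecLin (∑ k, ((u k : R k) : Fin n → F)) = ((u l : R l) : Fin n → F)
    rw [map_sum, Finset.sum_eq_single l]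
    · rw [uid_apply_range E hE l l _ (u l).2, if_pos rfl]
    · intro k _ hkl
      rw [uid_apply_range E hE k l _ (u k).2, if_neg (Ne.symm hkl)]
    · intro h; exact absurd (Finset.mem_univ l) h
  have e : (Fin n → F) ≃ₗ[F] (∀ k, R k) := LinearEquiv.ofBijective Φ ⟨hinj, hsurj⟩
  have h1 := e.finrank_eq
  rw [Module.finrank_fintype_fun_eq_card, Fintype.card_fin, Module.finrank_pi_fintype] at h1
  show ∑ k, Module.finrank F (R k) = n
  exact h1.symm

/-- two complete families of orthogonal idempotents with the same ranks are simultaneously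
conjugate -/
theorem uid_conj (E E' : Fin m → Matrix (Fin n) (Fin n) F)
    (hE : ∀ k l, E k * E l = if k = l then E k else 0) (hE1 : ∑ k, E k = 1)
    (hE' : ∀ k l, E' k * E' l = if k = l then E' k else 0) (hE'1 : ∑ k, E' k = 1)
    (hr : ∀ k, (E k).rank = (E' k).rank) :
    ∃ g g' : Matrix (Fin n) (Fin n) F, g * g' = 1 ∧ g' * g = 1 ∧ ∀ k, E k * g = g * E' k := by
  classical
  let R : Fin m → Submodule F (Fin n → F) := fun k => LinearMap.range (E k).mulVecLin
  let R' : Fin m → Submodule F (Fin n → F) := fun k => LinearMap.range (E' k).mulVecLin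
  have hfr : ∀ k, Module.finrank F (R' k) = Module.finrank F (R k) := fun k => (hr k).symm
  let e : ∀ k, R' k ≃ₗ[F] R k := fun k => LinearEquiv.ofFinrankEq _ _ (hfr k)
  let φ : (Fin n → F) →ₗ[F] (Fin n → F) :=
    ∑ k, (R k).subtype ∘ₗ (e k).toLinearMap ∘ₗ (E' k).mulVecLin.rangeRestrict
  let ψ : (Fin n → F) →ₗ[F] (Fin n → F) :=
    ∑ k, (R' k).subtype ∘ₗ (e k).symm.toLinearMap ∘ₗ (E k).mulVecLin.rangeRestrict
  have hφ : ∀ v, φ v = ∑ k, ((e k ((E' k).mulVecLin.rangeRestrict v) : R k) : Fin n → F) := by
    intro v
    simp only [φ, LinearMap.sum_apply, LinearMap.comp_apply, Submodule.subtype_apply,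
      LinearEquiv.coe_coe]
  have hψ : ∀ v, ψ v = ∑ k, (((e k).symm ((E k).mulVecLin.rangeRestrict v) : R' k) : Fin n → F) := by
    intro v
    simp only [ψ, LinearMap.sum_apply, LinearMap.comp_apply, Submodule.subtype_apply,
      LinearEquiv.coe_coe]
  -- restriction of `P l` to a sum over the ranges
  have hres : ∀ (l : Fin m) (u : ∀ k, R k),
      (E l).mulVecLin.rangeRestrict (∑ k, ((u k : R k) : Fin n → F)) = u l := by
    intro l u
    apply Subtype.ext
    show (E l).mulVecLin (∑ k, ((u k : R k) : Fin n → F)) = ((u l : R l) : Fin n → F)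
    rw [map_sum, Finset.sum_eq_single l]
    · rw [uid_apply_range E hE l l _ (u l).2, if_pos rfl]
    · intro k _ hkl
      rw [uid_apply_range E hE k l _ (u k).2, if_neg (Ne.symm hkl)]
    · intro h; exact absurd (Finset.mem_univ l) h
  have hres' : ∀ (l : Fin m) (u : ∀ k, R' k),
      (E' l).mulVecLin.rangeRestrict (∑ k, ((u k : R' k) : Fin n → F)) = u l := by
    intro l u
    apply Subtype.ext
    show (E' l).mulVecLin (∑ k, ((u k : R' k) : Fin n → F)) = ((u l : R' l) : Fin n → F)
    rw [map_sum, Finset.sum_eq_single l]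
    · rw [uid_apply_range E' hE' l l _ (u l).2, if_pos rfl]
    · intro k _ hkl
      rw [uid_apply_range E' hE' k l _ (u k).2, if_neg (Ne.symm hkl)]
    · intro h; exact absurd (Finset.mem_univ l) h
  have hψφ : ψ ∘ₗ φ = LinearMap.id := by
    apply LinearMap.ext
    intro v
    rw [LinearMap.comp_apply, hψ, LinearMap.id_apply]
    have h1 : ∀ k, (E k).mulVecLin.rangeRestrict (φ v) = e k ((E' k).mulVecLin.rangeRestrict v) := by
      intro k
      rw [hφ]
      exact hres k (fun k => e k ((E' k).mulVecLin.rangeRestrict v))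
    simp only [h1, LinearEquiv.symm_apply_apply]
    exact uid_sum_apply E' hE'1 v
  have hφψ : φ ∘ₗ ψ = LinearMap.id := by
    apply LinearMap.ext
    intro v
    rw [LinearMap.comp_apply, hφ, LinearMap.id_apply]
    have h1 : ∀ k, (E' k).mulVecLin.rangeRestrict (ψ v) =
        (e k).symm ((E k).mulVecLin.rangeRestrict v) := by
      intro k
      rw [hψ]
      exact hres' k (fun k => (e k).symm ((E k).mulVecLin.rangeRestrict v))
    simp only [h1, LinearEquiv.apply_symm_apply]
    exact uid_sum_apply E hE1 v
  refine ⟨LinearMap.toMatrix' φ, LinearMap.toMatrix' ψ, ?_, ?_, ?_⟩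
  · rw [← LinearMap.toMatrix'_comp, hφψ, LinearMap.toMatrix'_id]
  · rw [← LinearMap.toMatrix'_comp, hψφ, LinearMap.toMatrix'_id]
  · intro j
    have hj : (E j).mulVecLin ∘ₗ φ = φ ∘ₗ (E' j).mulVecLin := by
      apply LinearMap.ext
      intro v
      rw [LinearMap.comp_apply, LinearMap.comp_apply, hφ, hφ, map_sum]
      -- left: only the `j` term survives
      rw [Finset.sum_eq_single j]
      · rw [uid_apply_range E hE j j _ (e j ((E' j).mulVecLin.rangeRestrict v)).2, if_pos rfl]
        rw [Finset.sum_eq_single j]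
        · congr 2
          apply Subtype.ext
          show (E' j).mulVecLin v = (E' j).mulVecLin ((E' j).mulVecLin v)
          rw [uid_apply_range E' hE' j j _ ⟨v, rfl⟩, if_pos rfl]
        · intro k _ hkj
          have : (E' k).mulVecLin.rangeRestrict ((E' j).mulVecLin v) = 0 := by
            apply Subtype.ext
            show (E' k).mulVecLin ((E' j).mulVecLin v) = 0
            rw [uid_apply_range E' hE' j k _ ⟨v, rfl⟩, if_neg hkj]
          rw [this, map_zero]; rfl
        · intro h; exact absurd (Finset.mem_univ j) h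
      · intro k _ hkj
        rw [uid_apply_range E hE k j _ (e k ((E' k).mulVecLin.rangeRestrict v)).2, if_neg (Ne.symm hkj)]
      · intro h; exact absurd (Finset.mem_univ j) h
    have hm : ∀ M : Matrix (Fin n) (Fin n) F, LinearMap.toMatrix' M.mulVecLin = M := by
      intro M
      rw [← Matrix.toLin'_apply', LinearMap.toMatrix'_toLin']
    have := congrArg LinearMap.toMatrix' hj
    rw [LinearMap.toMatrix'_comp, LinearMap.toMatrix'_comp, hm, hm] at this
    exact this

end idem

section rank
variable {F : Type*} [Field F] [Fintype F]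

theorem uid_card_range_map_le (τ : F →+* F) {n : ℕ} (M : Matrix (Fin n) (Fin n) F) :
    Nat.card (LinearMap.range (M.map τ).mulVecLin) ≤
      Nat.card (LinearMap.range ((M.map τ).map τ).mulVecLin) := by
  have hmem : ∀ w : LinearMap.range (M.map τ).mulVecLin,
      (fun i => τ ((w : Fin n → F) i)) ∈ LinearMap.range ((M.map τ).map τ).mulVecLin := by
    rintro ⟨w, v, rfl⟩
    refine ⟨τ ∘ v, ?_⟩
    funext i
    show ((M.map τ).map τ).mulVec (τ ∘ v) i = τ ((M.map τ).mulVec v i)
    exact (RingHom.map_mulVec τ (M.map τ) v i).symm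
  apply Nat.card_le_card_of_injective (fun w => (⟨_, hmem w⟩ : LinearMap.range _))
  intro w w' h
  apply Subtype.ext
  funext i
  have h1 := congrFun (congrArg Subtype.val h) i
  exact τ.injective h1

/-- the rank is invariant under an involutive field automorphism applied entrywise -/
theorem uid_rank_map_eq (τ : F →+* F) (hτ : ∀ a, τ (τ a) = a) {n : ℕ}
    (M : Matrix (Fin n) (Fin n) F) : (M.map τ).rank = M.rank := by
  have hMM : ∀ M : Matrix (Fin n) (Fin n) F, (M.map τ).map τ = M := by
    intro M
    ext i j
    simp only [Matrix.map_apply, hτ]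
  have hle : ∀ M : Matrix (Fin n) (Fin n) F, (M.map τ).rank ≤ M.rank := by
    intro M
    have h1 := uid_card_range_map_le τ M
    rw [hMM] at h1
    let _i1 := Fintype.ofFinite (LinearMap.range (M.map τ).mulVecLin)
    let _i2 := Fintype.ofFinite (LinearMap.range M.mulVecLin)
    have h2 : Fintype.card (LinearMap.range (M.map τ).mulVecLin) =
        Fintype.card F ^ Module.finrank F (LinearMap.range (M.map τ).mulVecLin) :=
      Module.card_eq_pow_finrank
    have h3 : Fintype.card (LinearMap.range M.mulVecLin) =
        Fintype.card F ^ Module.finrank F (LinearMap.range M.mulVecLin) :=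
      Module.card_eq_pow_finrank
    rw [Nat.card_eq_fintype_card, Nat.card_eq_fintype_card, h2, h3] at h1
    exact (Nat.pow_le_pow_iff_right Fintype.one_lt_card).1 h1
  apply le_antisymm (hle M)
  have := hle (M.map τ)
  rwa [hMM] at this

end rank

end Cfsg.Agent.Lib.Helper14.P4
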