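import Mathlib
import Cfsg.Prelude.Def_LieClassical
import Cfsg.Agent.Lib.Helper14.P4Defs
import Cfsg.Agent.Lib.Helper14.P4UIdem
import Cfsg.Agent.Lib.Helper14.Us3Basic

/-! P4U-I3: elements of order 3 of `GU₄(p)`, `p ≡ 1 (mod 3)`, of the same type are `GL`-conjugate. -/

set_option autoImplicit false

namespace Cfsg.Agent.Lib.Helper14.P4

open Matrix

section alg

variable {F : Type*} [Field F]

/-- the spectral idempotent of `X` (`X³ = 1`) for the cube root of unity `c` -/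
def ui3_E (X : Matrix (Fin 4) (Fin 4) F) (c : F) : Matrix (Fin 4) (Fin 4) F :=
  (3 : F)⁻¹ • (1 + (c * c) • X + c • (X * X))

theorem ui3_X_mul_E (X : Matrix (Fin 4) (Fin 4) F) (hX : X * X * X = 1) (c : F)
    (hc : c * c * c = 1) : X * ui3_E X c = c • ui3_E X c := by
  unfold ui3_E
  have h1 : X * (X * X) = 1 := by rw [← mul_assoc]; exact hX
  have h2 : c • ((1 : Matrix (Fin 4) (Fin 4) F) + (c * c) • X + c • (X * X)) =
      X + (c * c) • (X * X) + c • (1 : Matrix (Fin 4) (Fin 4) F) := by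
    rw [smul_add, smul_add, smul_smul, smul_smul,
      show c * (c * c) = 1 by linear_combination hc, one_smul]
    abel
  rw [Matrix.mul_smul, mul_add, mul_add, mul_one, Matrix.mul_smul, Matrix.mul_smul, h1,
    smul_comm c, h2]

theorem ui3_E_mul_E (X : Matrix (Fin 4) (Fin 4) F) (hX : X * X * X = 1) (c d : F)
    (hc : c * c * c = 1) :
    ui3_E X d * ui3_E X c = ((3 : F)⁻¹ * (1 + d * d * c + d * (c * c))) • ui3_E X c := by
  have h1 := ui3_X_mul_E X hX c hc
  have h2 : X * X * ui3_E X c = (c * c) • ui3_E X c := by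
    rw [mul_assoc, h1, Matrix.mul_smul, h1, smul_smul]
  conv_lhs => rw [ui3_E]
  rw [Matrix.smul_mul, add_mul, add_mul, one_mul, Matrix.smul_mul, Matrix.smul_mul, h1, h2,
    smul_smul, smul_smul, mul_smul]
  module

theorem ui3_rank_zero {M : Matrix (Fin 4) (Fin 4) F} (h : M.rank = 0) : M = 0 := by
  have h1 : LinearMap.range M.mulVecLin = ⊥ := Submodule.finrank_eq_zero.mp h
  rw [LinearMap.range_eq_bot] at h1
  ext a b
  have := congrFun (congrArg (fun f : (Fin 4 → F) →ₗ[F] (Fin 4 → F) => f (Pi.single b 1)) h1) a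
  simpa using this

variable (w : F)

/-- the three cube roots of unity -/
def ui3_c : Fin 3 → F := ![1, w, w * w]

theorem ui3_c_cube (hw : w * w + w + 1 = 0) (k : Fin 3) :
    ui3_c w k * ui3_c w k * ui3_c w k = 1 := by
  fin_cases k
  · show (1 : F) * 1 * 1 = 1
    ring
  · show w * w * w = 1
    linear_combination (w - 1) * hw
  · show w * w * (w * w) * (w * w) = 1
    linear_combination (w * w * w * w - w * w * w + w - 1) * hw

theorem ui3_coef (hw : w * w + w + 1 = 0) (k l : Fin 3) :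
    1 + ui3_c w k * ui3_c w k * ui3_c w l + ui3_c w k * (ui3_c w l * ui3_c w l) =
      if k = l then 3 else 0 := by
  fin_cases k <;> fin_cases l
  · show 1 + (1 : F) * 1 * 1 + 1 * (1 * 1) = if (0 : Fin 3) = 0 then 3 else 0
    rw [if_pos rfl]; ring
  · show 1 + (1 : F) * 1 * w + 1 * (w * w) = if (0 : Fin 3) = 1 then 3 else 0
    rw [if_neg (by decide)]; linear_combination hw
  · show 1 + (1 : F) * 1 * (w * w) + 1 * (w * w * (w * w)) = if (0 : Fin 3) = 2 then 3 else 0
    rw [if_neg (by decide)]; linear_combination (w * w - w + 1) * hw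
  · show 1 + w * w * 1 + w * (1 * 1) = if (1 : Fin 3) = 0 then 3 else 0
    rw [if_neg (by decide)]; linear_combination hw
  · show 1 + w * w * w + w * (w * w) = if (1 : Fin 3) = 1 then 3 else 0
    rw [if_pos rfl]; linear_combination (2 * (w - 1)) * hw
  · show 1 + w * w * (w * w) + w * (w * w * (w * w)) = if (1 : Fin 3) = 2 then 3 else 0
    rw [if_neg (by decide)]; linear_combination (w * w * w - w + 1) * hw
  · show 1 + w * w * (w * w) * 1 + w * w * (1 * 1) = if (2 : Fin 3) = 0 then 3 else 0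
    rw [if_neg (by decide)]; linear_combination (w * w - w + 1) * hw
  · show 1 + w * w * (w * w) * w + w * w * (w * w) = if (2 : Fin 3) = 1 then 3 else 0
    rw [if_neg (by decide)]; linear_combination (w * w * w - w + 1) * hw
  · show 1 + w * w * (w * w) * (w * w) + w * w * (w * w * (w * w)) =
      if (2 : Fin 3) = 2 then 3 else 0
    rw [if_pos rfl]; linear_combination (2 * (w - 1) * (w * w * w + 1)) * hw

/-- the family of spectral idempotents -/
def ui3_fam (X : Matrix (Fin 4) (Fin 4) F) : Fin 3 → Matrix (Fin 4) (Fin 4) F :=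
  fun k => ui3_E X (ui3_c w k)

theorem ui3_fam_mul (h3 : (3 : F) ≠ 0) (hw : w * w + w + 1 = 0) (X : Matrix (Fin 4) (Fin 4) F)
    (hX : X * X * X = 1) (k l : Fin 3) :
    ui3_fam w X k * ui3_fam w X l = if k = l then ui3_fam w X k else 0 := by
  unfold ui3_fam
  rw [ui3_E_mul_E X hX _ _ (ui3_c_cube w hw l), ui3_coef w hw k l]
  split_ifs with h
  · rw [inv_mul_cancel₀ h3, one_smul, h]
  · rw [mul_zero, zero_smul]

theorem ui3_fam_sum (h3 : (3 : F) ≠ 0) (hw : w * w + w + 1 = 0) (X : Matrix (Fin 4) (Fin 4) F) :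
    ∑ k, ui3_fam w X k = 1 := by
  rw [Fin.sum_univ_three]
  show ui3_E X 1 + ui3_E X w + ui3_E X (w * w) = 1
  unfold ui3_E
  have h1 : (3 : F)⁻¹ • ((1 : Matrix (Fin 4) (Fin 4) F) + ((1 : F) * 1) • X + (1 : F) • (X * X)) +
      (3 : F)⁻¹ • (1 + (w * w) • X + w • (X * X)) +
      (3 : F)⁻¹ • (1 + (w * w * (w * w)) • X + (w * w) • (X * X)) =
      ((3 : F)⁻¹ * 3) • (1 : Matrix (Fin 4) (Fin 4) F) +
        ((3 : F)⁻¹ * (1 + w * w + w * w * (w * w))) • X +
        ((3 : F)⁻¹ * (1 + w + w * w)) • (X * X) := by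
    module
  rw [h1, inv_mul_cancel₀ h3, one_smul,
    show (1 + w * w + w * w * (w * w)) = 0 by linear_combination (w * w - w + 1) * hw,
    show (1 + w + w * w) = 0 by linear_combination hw, mul_zero, zero_smul, zero_smul, add_zero,
    add_zero]

theorem ui3_fam_spectral (h3 : (3 : F) ≠ 0) (hw : w * w + w + 1 = 0)
    (X : Matrix (Fin 4) (Fin 4) F) (hX : X * X * X = 1) :
    X = ∑ k, ui3_c w k • ui3_fam w X k := by
  conv_lhs => rw [← mul_one X, ← ui3_fam_sum w h3 hw X, Finset.mul_sum]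
  apply Finset.sum_congr rfl
  intro k _
  exact ui3_X_mul_E X hX _ (ui3_c_cube w hw k)

end alg

section unitary

variable {F : Type*} [Field F] [Fintype F] {p : ℕ}

theorem ui3_frm_add (hF : Fintype.card F = p ^ 2) (A B : Matrix (Fin 4) (Fin 4) F) :
    Cfsg.Agent.Lib.Helper14.Us3.frm p (A + B) =
      Cfsg.Agent.Lib.Helper14.Us3.frm p A + Cfsg.Agent.Lib.Helper14.Us3.frm p B := by
  ext a b
  simp only [Cfsg.Agent.Lib.Helper14.Us3.frm_apply, Matrix.add_apply]
  exact Cfsg.Agent.Lib.Helper44.frobK_add hF _ _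

variable [Fact p.Prime] [CharP F p]

/-- for a unitary `X` of order 3 the idempotents of `w` and `w²` have the same rank -/
theorem ui3_rank_eq (hF : Fintype.card F = p ^ 2) (w : F) (hw : w * w + w + 1 = 0)
    (hwp : w ^ p = w) (x : GL (Fin 4) F) (hxU : x ∈ Cfsg.GU 4 F p) (hx : x ^ 3 = 1) :
    (ui3_fam w (x : Matrix (Fin 4) (Fin 4) F) 1).rank =
      (ui3_fam w (x : Matrix (Fin 4) (Fin 4) F) 2).rank := by
  set X : Matrix (Fin 4) (Fin 4) F := (x : Matrix (Fin 4) (Fin 4) F) with hXdef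
  have hX : X * X * X = 1 := by
    have := congrArg (fun g : GL (Fin 4) F => (g : Matrix (Fin 4) (Fin 4) F)) hx
    simpa [pow_succ, mul_assoc] using this
  have hX' : X * (X * X) = 1 := by rw [← mul_assoc]; exact hX
  have hU := (Cfsg.Agent.Lib.Helper14.Us3.mem_GU_iff hF x).mp hxU
  set A : Matrix (Fin 4) (Fin 4) F := (Cfsg.Agent.Lib.Helper14.Us3.frm p X)ᵀ with hA
  have hAX : A * X = 1 := by
    have := congrArg Matrix.transpose hU
    rw [Matrix.transpose_mul, Matrix.transpose_transpose, Matrix.transpose_one] at this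
    exact this
  have hAeq : A = X * X := by
    calc A = A * (X * (X * X)) := by rw [hX', mul_one]
      _ = (A * X) * (X * X) := by rw [mul_assoc]
      _ = X * X := by rw [hAX, one_mul]
  -- the adjoint of `E_w` is `E_{w²}`
  have h3p : ((3 : F)⁻¹) ^ p = (3 : F)⁻¹ := by
    rw [inv_pow]
    congr 1
    have := map_ofNat (frobenius F p) 3
    rwa [frobenius_def] at this
  have hwwp : (w * w) ^ p = w * w := by rw [mul_pow, hwp]
  have hadj : (Cfsg.Agent.Lib.Helper14.Us3.frm p (ui3_fam w X 1))ᵀ = ui3_fam w X 2 := by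
    show (Cfsg.Agent.Lib.Helper14.Us3.frm p (ui3_E X w))ᵀ = ui3_E X (w * w)
    unfold ui3_E
    rw [Cfsg.Agent.Lib.Helper14.Us3.frm_smul, ui3_frm_add hF, ui3_frm_add hF,
      Cfsg.Agent.Lib.Helper14.Us3.frm_one hF, Cfsg.Agent.Lib.Helper14.Us3.frm_smul,
      Cfsg.Agent.Lib.Helper14.Us3.frm_smul, Cfsg.Agent.Lib.Helper14.Us3.frm_mul hF, h3p, hwwp, hwp,
      Matrix.transpose_smul, Matrix.transpose_add, Matrix.transpose_add, Matrix.transpose_one,
      Matrix.transpose_smul, Matrix.transpose_smul, Matrix.transpose_mul, ← hA, hAeq]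
    have h4 : X * X * (X * X) = X := by
      calc X * X * (X * X) = (X * X * X) * X := by simp only [mul_assoc]
        _ = X := by rw [hX, one_mul]
    rw [h4, show w * w * (w * w) = w by linear_combination (w * w - w) * hw]
    congr 1
    abel
  have hτ : ∀ a : F, (Cfsg.Agent.Lib.Helper5.frobQ hF) ((Cfsg.Agent.Lib.Helper5.frobQ hF) a) = a :=
    fun a => Cfsg.Agent.Lib.Helper44.frobK_frobK hF a
  have hr := uid_rank_map_eq (Cfsg.Agent.Lib.Helper5.frobQ hF) hτ (ui3_fam w X 1)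
  have hr' : (Cfsg.Agent.Lib.Helper14.Us3.frm p (ui3_fam w X 1)).rank = (ui3_fam w X 1).rank := hr
  rw [← hadj, Matrix.rank_transpose, hr']

/-- P4U-I3 -/
theorem gl_conj_of_pow_three_unitary (hF : Fintype.card F = p ^ 2) (h3 : (3 : F) ≠ 0)
    (w : F) (hw : w * w + w + 1 = 0) (hwp : w ^ p = w)
    (x y : GL (Fin 4) F) (hxU : x ∈ Cfsg.GU 4 F p) (hyU : y ∈ Cfsg.GU 4 F p)
    (hx : x ^ 3 = 1) (hy : y ^ 3 = 1) (hx1 : x ≠ 1) (hy1 : y ≠ 1)
    (hxy : (x : Matrix (Fin 4) (Fin 4) F) * (x : Matrix (Fin 4) (Fin 4) F) +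
        (x : Matrix (Fin 4) (Fin 4) F) + 1 = 0 ↔
      (y : Matrix (Fin 4) (Fin 4) F) * (y : Matrix (Fin 4) (Fin 4) F) +
        (y : Matrix (Fin 4) (Fin 4) F) + 1 = 0) :
    ∃ g : GL (Fin 4) F, g⁻¹ * x * g = y := by
  -- ranks of the idempotents are determined by the type
  have key : ∀ z : GL (Fin 4) F, z ∈ Cfsg.GU 4 F p → z ^ 3 = 1 → z ≠ 1 →
      ((z : Matrix (Fin 4) (Fin 4) F) * (z : Matrix (Fin 4) (Fin 4) F) * (z : Matrix (Fin 4) (Fin 4) F)
        = 1) ∧
      (((z : Matrix (Fin 4) (Fin 4) F) * (z : Matrix (Fin 4) (Fin 4) F) +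
          (z : Matrix (Fin 4) (Fin 4) F) + 1 = 0 →
        (ui3_fam w (z : Matrix (Fin 4) (Fin 4) F) 0).rank = 0 ∧
        (ui3_fam w (z : Matrix (Fin 4) (Fin 4) F) 1).rank = 2 ∧
        (ui3_fam w (z : Matrix (Fin 4) (Fin 4) F) 2).rank = 2) ∧
      (¬ ((z : Matrix (Fin 4) (Fin 4) F) * (z : Matrix (Fin 4) (Fin 4) F) +
          (z : Matrix (Fin 4) (Fin 4) F) + 1 = 0) →
        (ui3_fam w (z : Matrix (Fin 4) (Fin 4) F) 0).rank = 2 ∧
        (ui3_fam w (z : Matrix (Fin 4) (Fin 4) F) 1).rank = 1 ∧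
        (ui3_fam w (z : Matrix (Fin 4) (Fin 4) F) 2).rank = 1)) := by
    intro z hzU hz hz1
    set Z : Matrix (Fin 4) (Fin 4) F := (z : Matrix (Fin 4) (Fin 4) F) with hZdef
    have hZ : Z * Z * Z = 1 := by
      have := congrArg (fun g : GL (Fin 4) F => (g : Matrix (Fin 4) (Fin 4) F)) hz
      simpa [pow_succ, mul_assoc] using this
    refine ⟨hZ, ?_⟩
    have hsum := uid_sum_rank (ui3_fam w Z) (ui3_fam_mul w h3 hw Z hZ) (ui3_fam_sum w h3 hw Z)
    rw [Fin.sum_univ_three] at hsum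
    have h12 : (ui3_fam w Z 1).rank = (ui3_fam w Z 2).rank := ui3_rank_eq hF w hw hwp z hzU hz
    have hE0 : ui3_fam w Z 0 = (3 : F)⁻¹ • (Z * Z + Z + 1) := by
      show ui3_E Z 1 = _
      unfold ui3_E
      rw [mul_one, one_smul, one_smul]
      congr 1
      abel
    -- rank of `E₀` is not 4
    have hne4 : (ui3_fam w Z 0).rank ≠ 4 := by
      intro h4
      have h1 : (ui3_fam w Z 1).rank = 0 := by omega
      have h2 : (ui3_fam w Z 2).rank = 0 := by omega
      have hsp := ui3_fam_spectral w h3 hw Z hZ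
      have hs := ui3_fam_sum w h3 hw Z
      rw [Fin.sum_univ_three, ui3_rank_zero h1, ui3_rank_zero h2, add_zero, add_zero] at hs
      rw [Fin.sum_univ_three, ui3_rank_zero h1, ui3_rank_zero h2, smul_zero, smul_zero, add_zero,
        add_zero, hs] at hsp
      have hc0 : ui3_c w 0 = 1 := rfl
      rw [hc0, one_smul] at hsp
      apply hz1
      apply Units.ext
      rw [Units.val_one]
      exact hsp
    constructor
    · intro hq
      have h0 : (ui3_fam w Z 0).rank = 0 := by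
        rw [hE0, hq, smul_zero, Matrix.rank_zero]
      refine ⟨h0, ?_, ?_⟩ <;> omega
    · intro hq
      have h0 : (ui3_fam w Z 0).rank ≠ 0 := by
        intro h0
        apply hq
        have := ui3_rank_zero h0
        rw [hE0] at this
        have h5 := congrArg (fun M : Matrix (Fin 4) (Fin 4) F => (3 : F) • M) this
        simp only [smul_smul, mul_inv_cancel₀ h3, one_smul, smul_zero] at h5
        exact h5
      refine ⟨?_, ?_, ?_⟩ <;> omega
  obtain ⟨hX, hxA, hxB⟩ := key x hxU hx hx1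
  obtain ⟨hY, hyA, hyB⟩ := key y hyU hy hy1
  have hranks : ∀ k, (ui3_fam w (x : Matrix (Fin 4) (Fin 4) F) k).rank =
      (ui3_fam w (y : Matrix (Fin 4) (Fin 4) F) k).rank := by
    by_cases hq : (x : Matrix (Fin 4) (Fin 4) F) * (x : Matrix (Fin 4) (Fin 4) F) +
        (x : Matrix (Fin 4) (Fin 4) F) + 1 = 0
    · obtain ⟨a0, a1, a2⟩ := hxA hq
      obtain ⟨b0, b1, b2⟩ := hyA (hxy.mp hq)
      intro k
      fin_cases k
      · exact a0.trans b0.symm
      · exact a1.trans b1.symm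
      · exact a2.trans b2.symm
    · obtain ⟨a0, a1, a2⟩ := hxB hq
      obtain ⟨b0, b1, b2⟩ := hyB (fun h => hq (hxy.mpr h))
      intro k
      fin_cases k
      · exact a0.trans b0.symm
      · exact a1.trans b1.symm
      · exact a2.trans b2.symm
  obtain ⟨g, g', hgg', hg'g, hconj⟩ := uid_conj
    (ui3_fam w (x : Matrix (Fin 4) (Fin 4) F)) (ui3_fam w (y : Matrix (Fin 4) (Fin 4) F))
    (ui3_fam_mul w h3 hw _ hX) (ui3_fam_sum w h3 hw _)
    (ui3_fam_mul w h3 hw _ hY) (ui3_fam_sum w h3 hw _) hranks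
  refine ⟨⟨g, g', hgg', hg'g⟩, ?_⟩
  apply Units.ext
  rw [Units.val_mul, Units.val_mul]
  show g' * (x : Matrix (Fin 4) (Fin 4) F) * g = (y : Matrix (Fin 4) (Fin 4) F)
  conv_lhs => rw [ui3_fam_spectral w h3 hw _ hX]
  conv_rhs => rw [ui3_fam_spectral w h3 hw _ hY]
  rw [Finset.mul_sum, Finset.sum_mul]
  apply Finset.sum_congr rfl
  intro k _
  rw [Matrix.mul_smul, Matrix.smul_mul, mul_assoc, hconj k, ← mul_assoc, hg'g, one_mul]

end unitary

end Cfsg.Agent.Lib.Helper14.P4
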