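import Mathlib
import Cfsg.Agent.Lib.Helper14.P4Defs
import Cfsg.Agent.Lib.Helper21.P4I3B
import Cfsg.Agent.Lib.Helper21.P4I5B

/-! Facts on the named representatives `i3b_gYA`, `i3b_gYB`, `i5b_gY5` (extracted from the proofs of
`exists_order_three` / `exists_order_five`). -/

set_option autoImplicit false

namespace Cfsg.Agent.Lib.Helper14.P4

open Matrix

variable {F : Type*} [Field F]

theorem urep_gYA_facts (h2 : (2 : F) ≠ 0) (i : F) (hi : i * i = -1) :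
    i3b_gYA h2 i hi ^ 3 = 1 ∧ i3b_gYA h2 i hi ≠ 1 ∧
      ((i3b_gYA h2 i hi : GL (Fin 4) F) : Matrix (Fin 4) (Fin 4) F) *
        ((i3b_gYA h2 i hi : GL (Fin 4) F) : Matrix (Fin 4) (Fin 4) F) +
        ((i3b_gYA h2 i hi : GL (Fin 4) F) : Matrix (Fin 4) (Fin 4) F) + 1 = 0 := by
  have hi1 : -1 - i ≠ 0 := by
    intro h
    have h1 : i = -1 := by linear_combination -h
    rw [h1] at hi
    apply h2
    linear_combination hi
  refine ⟨?_, ?_, ?_⟩
  · rw [pow_succ, pow_two, i3b_gYA_sq, inv_mul_cancel]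
  · intro h
    have h1 : mYA i = 1 := congrArg Units.val h
    have h3 := congrFun (congrFun h1 0) 2
    simp [mYA] at h3
    rcases h3 with h3 | h3
    · exact h2 h3
    · exact hi1 h3
  · show mYA i * mYA i + mYA i + 1 = 0
    rw [i3b_mYA, i3b_half_sq h2 _ _ (i3b_A_sq i hi)]
    ext a b
    fin_cases a <;> fin_cases b <;> simp [i3b_A, i3b_Ai]
    all_goals field_simp
    all_goals ring_nf

theorem urep_gYB_facts (h2 : (2 : F) ≠ 0) (i : F) (hi : i * i = -1) :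
    i3b_gYB h2 i hi ^ 3 = 1 ∧ i3b_gYB h2 i hi ≠ 1 ∧
      ((i3b_gYB h2 i hi : GL (Fin 4) F) : Matrix (Fin 4) (Fin 4) F) *
        ((i3b_gYB h2 i hi : GL (Fin 4) F) : Matrix (Fin 4) (Fin 4) F) +
        ((i3b_gYB h2 i hi : GL (Fin 4) F) : Matrix (Fin 4) (Fin 4) F) + 1 ≠ 0 := by
  have hi0 : i ≠ 0 := ne_zero_of_sq i hi
  refine ⟨?_, ?_, ?_⟩
  · rw [pow_succ, pow_two, i3b_gYB_sq, inv_mul_cancel]
  · intro h
    have h1 : mYB i = 1 := congrArg Units.val h
    have h3 := congrFun (congrFun h1 0) 1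
    simp [mYB] at h3
    rcases h3 with h3 | h3
    · exact h2 h3
    · exact hi0 h3
  · show mYB i * mYB i + mYB i + 1 ≠ 0
    rw [i3b_mYB, i3b_half_sq h2 _ _ (i3b_B_sq i hi)]
    intro h
    have h3 := congrFun (congrFun h 0) 0
    simp [i3b_B, i3b_Bi] at h3

theorem urep_gY5_facts (h2 : (2 : F) ≠ 0) (i : F) (hi : i * i = -1) :
    i5b_gY5 h2 i hi ^ 5 = 1 ∧ i5b_gY5 h2 i hi ≠ 1 := by
  have hi0 : i ≠ 0 := ne_zero_of_sq i hi
  refine ⟨?_, ?_⟩
  · have : (i5b_gY5 h2 i hi) ^ 5 = ((i5b_gY5 h2 i hi * i5b_gY5 h2 i hi) *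
        (i5b_gY5 h2 i hi * i5b_gY5 h2 i hi)) * i5b_gY5 h2 i hi := by
      rw [show (5 : ℕ) = 2 + 2 + 1 from rfl, pow_add, pow_add, pow_one, pow_two]
    rw [this, i5b_gY5_pow_four, inv_mul_cancel]
  · intro h
    have h1 : mY5 i = 1 := congrArg Units.val h
    have h3 := congrFun (congrFun h1 0) 1
    simp [mY5] at h3
    rcases h3 with h3 | h3
    · exact h2 h3
    · exact hi0 h3

end Cfsg.Agent.Lib.Helper14.P4
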