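import Mathlib
import Cfsg.Prelude.Def_LieClassical
import Cfsg.Agent.Lib.Helper14.P4Defs
import Cfsg.Agent.Lib.Helper14.P4Glue
import Cfsg.Agent.Lib.Helper14.P4UGlue
import Cfsg.Agent.Lib.Helper14.Us3Basic
import Cfsg.Agent.Lib.Helper53.P4I2A

/-! P4U-S2 : the scalar `z` with `x * x = z • 1`, `x ∈ SU₄(p)`, has a square root of norm one. -/

set_option autoImplicit false

namespace Cfsg.Agent.Lib.Helper14.P4

open Matrix

variable {F : Type*} [Field F] [Fintype F] {p : ℕ} [Fact p.Prime] [CharP F p]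

/-- a fourth root of unity is a square in `𝔽_{p²}` -/
theorem us2_exists_sqrt (hF : Fintype.card F = p ^ 2) (hp4 : p % 4 = 3) (h2 : (2 : F) ≠ 0)
    (z : F) (hz4 : z ^ 4 = 1) : ∃ c : F, c * c = z := by
  have hz0 : z ≠ 0 := by
    intro h
    rw [h] at hz4
    simp at hz4
  have hch : ringChar F ≠ 2 := by
    intro h
    apply h2
    have := ringChar.Nat.cast_ringChar (R := F)
    rw [h] at this
    exact_mod_cast this
  obtain ⟨m, hm⟩ : ∃ m, p = 4 * m + 3 := ⟨p / 4, by omega⟩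
  have hp2 : p ^ 2 = 2 * (4 * (2 * m ^ 2 + 3 * m + 1)) + 1 := by rw [hm]; ring
  have hdiv : Fintype.card F / 2 = 4 * (2 * m ^ 2 + 3 * m + 1) := by
    rw [hF, hp2]; omega
  have hsq : IsSquare z := by
    rw [FiniteField.isSquare_iff hch hz0, hdiv, pow_mul, hz4, one_pow]
  obtain ⟨c, hc⟩ := hsq
  exact ⟨c, hc.symm⟩

/-- `p` is odd -/
theorem us2_odd (hp4 : p % 4 = 3) : Odd p := by
  rw [Nat.odd_iff]; omega

/-- the trace of the Frobenius twist -/
theorem us2_trace_frm (hF : Fintype.card F = p ^ 2) (A : Matrix (Fin 4) (Fin 4) F) :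
    Matrix.trace (Cfsg.Agent.Lib.Helper14.Us3.frm p A) = Matrix.trace A ^ p := by
  have h3 := map_sum (Cfsg.Agent.Lib.Helper5.frobQ hF) (fun k => A k k) Finset.univ
  exact h3.symm

/-- the case that cannot happen: a square root of norm `-1` -/
theorem us2_no_neg (hF : Fintype.card F = p ^ 2) (hp4 : p % 4 = 3) (h2 : (2 : F) ≠ 0)
    (x : GL (Fin 4) F) (hxU : x ∈ Cfsg.GU 4 F p)
    (hdet : Matrix.GeneralLinearGroup.det x = 1) (z : F)
    (hz : (x : Matrix (Fin 4) (Fin 4) F) * (x : Matrix (Fin 4) (Fin 4) F) = z • 1)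
    (hzz : z * z = -1) (c : F) (hc : c * c = z) (hcn : c ^ (p + 1) = -1) : False := by
  have hodd := us2_odd hp4
  have h11 : (1 : F) ≠ -1 := by
    intro h
    apply h2
    have : (2 : F) = 1 + 1 := by norm_num
    rw [this]
    nth_rewrite 2 [h]
    ring
  have hc0 : c ≠ 0 := by
    intro h
    rw [h, mul_zero] at hc
    rw [← hc, mul_zero] at hzz
    exact h11 (by linear_combination (2 : F) * hzz)
  obtain ⟨d, hd⟩ : ∃ d : F, d = c⁻¹ := ⟨_, rfl⟩
  have hd0 : d ≠ 0 := by rw [hd]; exact inv_ne_zero hc0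
  have hdc : d * c = 1 := by rw [hd]; exact inv_mul_cancel₀ hc0
  obtain ⟨x', hx'⟩ : ∃ x' : GL (Fin 4) F, x' = gScal d hd0 * x := ⟨_, rfl⟩
  have hcoe : (x' : Matrix (Fin 4) (Fin 4) F) = d • (x : Matrix (Fin 4) (Fin 4) F) := by
    rw [hx', Units.val_mul, coe_gScal, Matrix.smul_mul, one_mul]
  -- x' is an involution
  have hsq : (x' : Matrix (Fin 4) (Fin 4) F) * (x' : Matrix (Fin 4) (Fin 4) F) = 1 := by
    rw [hcoe, Matrix.smul_mul, Matrix.mul_smul, smul_smul, hz, smul_smul]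
    have : d * d * z = 1 := by
      rw [← hc]
      linear_combination (d * c + 1) * hdc
    rw [this, one_smul]
  have hsqG : x' * x' = 1 := by
    apply Units.ext
    rw [Units.val_mul, hsq]; rfl
  -- the twisted relation
  have hxU' := (Cfsg.Agent.Lib.Helper14.Us3.mem_GU_iff hF x).1 hxU
  have hdn : d * d ^ p = -1 := by
    have h1 : d * d ^ p = d ^ (p + 1) := by rw [pow_succ, mul_comm]
    rw [h1]
    have h2' : d ^ (p + 1) * c ^ (p + 1) = 1 := by rw [← mul_pow, hdc, one_pow]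
    rw [hcn] at h2'
    linear_combination (-1 : F) * h2'
  have htw : (x' : Matrix (Fin 4) (Fin 4) F)ᵀ *
      Cfsg.Agent.Lib.Helper14.Us3.frm p (x' : Matrix (Fin 4) (Fin 4) F) = -1 := by
    rw [hcoe, Matrix.transpose_smul, Cfsg.Agent.Lib.Helper14.Us3.frm_smul, Matrix.smul_mul,
      Matrix.mul_smul, smul_smul, hxU', hdn, neg_one_smul]
  have hfrm : Cfsg.Agent.Lib.Helper14.Us3.frm p (x' : Matrix (Fin 4) (Fin 4) F) =
      -(x' : Matrix (Fin 4) (Fin 4) F)ᵀ := by
    have hT : (x' : Matrix (Fin 4) (Fin 4) F)ᵀ * (x' : Matrix (Fin 4) (Fin 4) F)ᵀ = 1 := by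
      rw [← Matrix.transpose_mul, hsq, Matrix.transpose_one]
    calc Cfsg.Agent.Lib.Helper14.Us3.frm p (x' : Matrix (Fin 4) (Fin 4) F)
        = ((x' : Matrix (Fin 4) (Fin 4) F)ᵀ * (x' : Matrix (Fin 4) (Fin 4) F)ᵀ) *
            Cfsg.Agent.Lib.Helper14.Us3.frm p (x' : Matrix (Fin 4) (Fin 4) F) := by
          rw [hT, one_mul]
      _ = (x' : Matrix (Fin 4) (Fin 4) F)ᵀ * ((x' : Matrix (Fin 4) (Fin 4) F)ᵀ *
            Cfsg.Agent.Lib.Helper14.Us3.frm p (x' : Matrix (Fin 4) (Fin 4) F)) := by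
          rw [Matrix.mul_assoc]
      _ = -(x' : Matrix (Fin 4) (Fin 4) F)ᵀ := by rw [htw, Matrix.mul_neg, Matrix.mul_one]
  -- the trace
  have htr : Matrix.trace (x' : Matrix (Fin 4) (Fin 4) F) ^ p =
      -Matrix.trace (x' : Matrix (Fin 4) (Fin 4) F) := by
    rw [← us2_trace_frm hF, hfrm, Matrix.trace_neg, Matrix.trace_transpose]
  -- the determinant
  have hdetx : (x : Matrix (Fin 4) (Fin 4) F).det = 1 := by
    have h1 : ((Matrix.GeneralLinearGroup.det x : Fˣ) : F) =
        (x : Matrix (Fin 4) (Fin 4) F).det := rfl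
    rw [hdet] at h1
    rw [← h1]; rfl
  have hdet' : (x' : Matrix (Fin 4) (Fin 4) F).det = -1 := by
    rw [hcoe, Matrix.det_smul, hdetx, mul_one, Fintype.card_fin]
    have h1 : d ^ 4 * (z * z) = 1 := by
      rw [← hc]
      have : d ^ 4 * (c * c * (c * c)) = (d * c) ^ 4 := by ring
      rw [this, hdc, one_pow]
    rw [hzz] at h1
    linear_combination (-1 : F) * h1
  -- x' is not a scalar
  have hns : ∀ a : F, (x' : Matrix (Fin 4) (Fin 4) F) ≠ a • 1 := by
    intro a ha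
    have haa : a * a = 1 := by
      have h1 := hsq
      rw [ha, Matrix.smul_mul, Matrix.mul_smul, smul_smul, one_mul] at h1
      have := congrFun (congrFun h1 0) 0
      simpa using this
    have h4 : (x' : Matrix (Fin 4) (Fin 4) F).det = 1 := by
      rw [ha, Matrix.det_smul, Matrix.det_one, mul_one, Fintype.card_fin]
      have : a ^ 4 = (a * a) ^ 2 := by ring
      rw [this, haa, one_pow]
    rw [hdet'] at h4
    exact h11 h4.symm
  obtain ⟨g, s, hs0, hg⟩ := conj_of_sq_eq_one h2 x' hsq hns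
  -- facts about the conjugate
  have hconjsq : (g⁻¹ * x' * g) * (g⁻¹ * x' * g) = 1 := by
    have : (g⁻¹ * x' * g) * (g⁻¹ * x' * g) = g⁻¹ * (x' * x') * g := by group
    rw [this, hsqG]; group
  have hconjsqM : ((g⁻¹ * x' * g : GL (Fin 4) F) : Matrix (Fin 4) (Fin 4) F) *
      ((g⁻¹ * x' * g : GL (Fin 4) F) : Matrix (Fin 4) (Fin 4) F) = 1 := by
    rw [← Units.val_mul, hconjsq]; rfl
  have hconjdet : ((g⁻¹ * x' * g : GL (Fin 4) F) : Matrix (Fin 4) (Fin 4) F).det = -1 := by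
    rw [Units.val_mul, Units.val_mul, Matrix.det_mul, Matrix.det_mul, hdet']
    have h1 : ((g⁻¹ : GL (Fin 4) F) : Matrix (Fin 4) (Fin 4) F).det *
        (g : Matrix (Fin 4) (Fin 4) F).det = 1 := by
      rw [← Matrix.det_mul, ← Units.val_mul, inv_mul_cancel]; simp
    linear_combination (-1 : F) * h1
  have hconjtr : Matrix.trace ((g⁻¹ * x' * g : GL (Fin 4) F) : Matrix (Fin 4) (Fin 4) F) =
      Matrix.trace (x' : Matrix (Fin 4) (Fin 4) F) := by
    rw [Units.val_mul, Units.val_mul, Matrix.trace_mul_cycle, ← Units.val_mul, mul_inv_cancel]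
    simp
  have hss : ∀ M : Matrix (Fin 4) (Fin 4) F, M * M = 1 →
      ((g⁻¹ * x' * g : GL (Fin 4) F) : Matrix (Fin 4) (Fin 4) F) = s • M → s * s = 1 := by
    intro M hM hgM
    have h1 := hconjsqM
    rw [hgM, Matrix.smul_mul, Matrix.mul_smul, smul_smul, hM] at h1
    have := congrFun (congrFun h1 0) 0
    simpa using this
  rcases hg with hg | hg
  · -- `Z1` : determinant one
    have hs := hss _ mZ1_mul_self hg
    have h4 : ((g⁻¹ * x' * g : GL (Fin 4) F) : Matrix (Fin 4) (Fin 4) F).det = 1 := by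
      rw [hg, Matrix.det_smul, Fintype.card_fin]
      have hdZ : (mZ1 : Matrix (Fin 4) (Fin 4) F).det = 1 := by
        rw [i2a_mZ1_eq, Matrix.det_diagonal]
        simp [Fin.prod_univ_four]
      have : s ^ 4 = (s * s) ^ 2 := by ring
      rw [hdZ, this, hs, one_pow, one_mul]
    rw [hconjdet] at h4
    exact h11 h4.symm
  · -- `CZ` : trace `2 s`
    have hs := hss _ mCZ_mul_self hg
    have htrs : Matrix.trace (x' : Matrix (Fin 4) (Fin 4) F) = 2 * s := by
      rw [← hconjtr, hg, Matrix.trace_smul, i2a_mCZ_eq, Matrix.trace_diagonal]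
      simp [Fin.sum_univ_four]
      ring
    have h2p : (2 : F) ^ p = 2 := by
      have := map_natCast (frobenius F p) 2
      rw [frobenius_def] at this
      exact_mod_cast this
    have hsp : s ^ p = s := by
      rcases mul_self_eq_one_iff.1 hs with h | h
      · rw [h, one_pow]
      · rw [h, hodd.neg_one_pow]
    rw [htrs, mul_pow, h2p, hsp] at htr
    have h4 : (2 : F) * (2 * s) = 0 := by linear_combination htr
    rcases mul_eq_zero.1 h4 with h | h
    · exact h2 h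
    · rcases mul_eq_zero.1 h with h | h
      · exact h2 h
      · exact hs0 h

/-- P4U-S2 (square roots of the scalar).  `x ∈ SU₄(p)`, `x² = z • 1`: then `z` has a square
root of norm 1. -/
theorem exists_unitary_sqrt (hF : Fintype.card F = p ^ 2) (hp4 : p % 4 = 3) (h2 : (2 : F) ≠ 0)
    (i : F) (hi : i * i = -1) (hip : i ^ p = -i) (x : GL (Fin 4) F) (hxU : x ∈ Cfsg.GU 4 F p)
    (hdet : Matrix.GeneralLinearGroup.det x = 1) (z : F)
    (hz : (x : Matrix (Fin 4) (Fin 4) F) * (x : Matrix (Fin 4) (Fin 4) F) = z • 1) :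
    ∃ c : F, c * c = z ∧ c ^ (p + 1) = 1 := by
  have hz2 : ((x ^ 2 : GL (Fin 4) F) : Matrix (Fin 4) (Fin 4) F) = z • 1 := by
    rw [pow_two, Units.val_mul]; exact hz
  obtain ⟨hz4, hzn⟩ := scalar_facts hF x hxU hdet 2 z hz2
  have hfac : (z * z - 1) * (z * z + 1) = 0 := by linear_combination hz4
  rcases mul_eq_zero.1 hfac with h | h
  · -- z = ± 1
    have h' : z * z = 1 := by linear_combination h
    rcases mul_self_eq_one_iff.1 h' with h1 | h1
    · exact ⟨1, by rw [h1, mul_one], one_pow _⟩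
    · refine ⟨i, by rw [h1, hi], ?_⟩
      rw [pow_succ, hip]
      linear_combination (-1 : F) * hi
  · -- z = ± i
    have hzz : z * z = -1 := by linear_combination h
    obtain ⟨c, hc⟩ := us2_exists_sqrt hF hp4 h2 z hz4
    have hee : c ^ (p + 1) * c ^ (p + 1) = 1 := by
      rw [← mul_pow, hc, hzn]
    rcases mul_self_eq_one_iff.1 hee with he | he
    · exact ⟨c, hc, he⟩
    · exact (us2_no_neg hF hp4 h2 x hxU hdet z hz hzz c hc he).elim

end Cfsg.Agent.Lib.Helper14.P4
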