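import Mathlib
import Cfsg.Agent.Lib.Helper14.PSL211Data
import Cfsg.Agent.Lib.Helper14.A5Pairs
import Cfsg.Agent.Lib.Helper14.A5Classes
import Cfsg.Agent.Lib.Helper14.PSL2Klein
import Cfsg.Agent.Lib.Helper38.SLCard
import Cfsg.Agent.S2542

set_option autoImplicit false
set_option linter.unusedSectionVars false

/-!
`PSL₂(11)` has exactly 22 subgroups isomorphic to `A₅`, in two conjugacy classes.
-/

namespace Cfsg.Agent.Lib.Helper14.PSL211

open Matrix Cfsg.Agent.Lib.Helper14.A5Pairs
open scoped Pointwise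

section list

/-- counting pairs of elements of a duplicate-free list -/
theorem card_pairs_list (l : List ℕ) (hl : l.Nodup) (P Q : ℕ → Bool) (R : ℕ → ℕ → Bool) :
    Nat.card {p : {k // k ∈ l} × {k // k ∈ l} //
      P p.1.1 = true ∧ Q p.2.1 = true ∧ R p.1.1 p.2.1 = true} =
      ((l.filter P).map (fun k => (l.filter Q).countP (R k))).sum := by
  classical
  set T : Finset (ℕ × ℕ) :=
    ((l.filter P).toFinset ×ˢ (l.filter Q).toFinset).filter (fun p => R p.1 p.2 = true) with hT
  have hTcard : T.card =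
      ((l.filter P).map (fun k => (l.filter Q).countP (R k))).sum := by
    rw [hT, Finset.card_filter, Finset.sum_product, List.sum_toFinset _ (hl.filter _)]
    congr 1
    apply List.map_congr_left
    intro a _
    rw [← Finset.card_filter, ← List.toFinset_filter,
      List.toFinset_card_of_nodup ((hl.filter _).filter _), List.countP_eq_length_filter]
  rw [← hTcard]
  let g : {p : {k // k ∈ l} × {k // k ∈ l} //
      P p.1.1 = true ∧ Q p.2.1 = true ∧ R p.1.1 p.2.1 = true} → ℕ × ℕ :=
    fun p => (p.1.1.1, p.1.2.1)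
  have hg : Function.Injective g := by
    rintro ⟨⟨⟨a, ha⟩, ⟨b, hb⟩⟩, h1⟩ ⟨⟨⟨a', ha'⟩, ⟨b', hb'⟩⟩, h2⟩ h
    simp only [g, Prod.mk.injEq] at h
    obtain ⟨rfl, rfl⟩ := h
    rfl
  have hrange : Set.range g = (T : Set (ℕ × ℕ)) := by
    ext ⟨a, b⟩
    simp only [Set.mem_range, Finset.mem_coe, hT, Finset.mem_filter, Finset.mem_product,
      List.mem_toFinset, List.mem_filter]
    constructor
    · rintro ⟨⟨⟨⟨a', ha'⟩, ⟨b', hb'⟩⟩, h1, h2, h3⟩, h⟩
      simp only [g, Prod.mk.injEq] at h
      obtain ⟨rfl, rfl⟩ := h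
      exact ⟨⟨⟨ha', h1⟩, ⟨hb', h2⟩⟩, h3⟩
    · rintro ⟨⟨⟨ha, h1⟩, ⟨hb, h2⟩⟩, h3⟩
      exact ⟨⟨⟨⟨a, ha⟩, ⟨b, hb⟩⟩, h1, h2, h3⟩, rfl⟩
  rw [← Nat.card_range_of_injective hg, hrange, Nat.card_coe_set_eq, Set.ncard_coe_finset]

end list

section bridge

variable {F : Type*} [Field F] [Fintype F]

theorem eleven_eq_zero (hF : Fintype.card F = 11) : (11 : F) = 0 := by
  have := Nat.cast_card_eq_zero F
  rw [hF] at this
  exact_mod_cast this

theorem cast_mod (hF : Fintype.card F = 11) (n : ℕ) : ((n % 11 : ℕ) : F) = (n : F) := by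
  conv_rhs => rw [← Nat.mod_add_div n 11]
  push_cast
  rw [eleven_eq_zero hF, zero_mul, add_zero]

theorem cast_inj_lt (hF : Fintype.card F = 11) {a b : ℕ} (ha : a < 11) (hb : b < 11)
    (h : (a : F) = (b : F)) : a = b := by
  have : Fact (Nat.Prime 11) := ⟨by norm_num⟩
  have hc : CharP F 11 := charP_of_card_eq_prime hF
  exact ((CharP.natCast_eq_natCast F 11).mp h).eq_of_lt_of_lt ha hb

/-- the matrix over `F` of a natural-number matrix -/
def matN (F : Type*) [Field F] (m : N2) : Matrix (Fin 2) (Fin 2) F :=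
  !![(m.a : F), (m.b : F); (m.c : F), (m.d : F)]

theorem matN_mul (hF : Fintype.card F = 11) (x y : N2) :
    matN F (x.mul y) = matN F x * matN F y := by
  ext i j
  fin_cases i <;> fin_cases j <;>
    simp [matN, N2.mul, Matrix.mul_apply, Fin.sum_univ_two, cast_mod hF]

/-- entries below 11 -/
def Norm (m : N2) : Prop := m.a < 11 ∧ m.b < 11 ∧ m.c < 11 ∧ m.d < 11

theorem norm_mul (x y : N2) : Norm (x.mul y) :=
  ⟨Nat.mod_lt _ (by norm_num), Nat.mod_lt _ (by norm_num), Nat.mod_lt _ (by norm_num),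
    Nat.mod_lt _ (by norm_num)⟩

theorem norm_dec {k : ℕ} (hk : k < 14641) : Norm (dec k) := by
  refine ⟨?_, Nat.mod_lt _ (by norm_num), Nat.mod_lt _ (by norm_num), Nat.mod_lt _ (by norm_num)⟩
  show k / 1331 < 11
  omega

theorem matN_inj (hF : Fintype.card F = 11) {m m' : N2} (hm : Norm m) (hm' : Norm m')
    (h : matN F m = matN F m') : m = m' := by
  have e := fun i j => congrFun (congrFun h i) j
  have h00 := e 0 0
  have h01 := e 0 1
  have h10 := e 1 0
  have h11 := e 1 1
  simp [matN] at h00 h01 h10 h11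
  obtain ⟨a, b, c, d⟩ := m
  obtain ⟨a', b', c', d'⟩ := m'
  obtain ⟨ha, hb, hc, hd⟩ := hm
  obtain ⟨ha', hb', hc', hd'⟩ := hm'
  simp only at ha hb hc hd ha' hb' hc' hd' h00 h01 h10 h11
  rw [cast_inj_lt hF ha ha' h00, cast_inj_lt hF hb hb' h01, cast_inj_lt hF hc hc' h10,
    cast_inj_lt hF hd hd' h11]

theorem matN_one : matN F ⟨1, 0, 0, 1⟩ = 1 := by
  ext i j
  fin_cases i <;> fin_cases j <;> simp [matN]

theorem matN_neg_one (hF : Fintype.card F = 11) : matN F ⟨10, 0, 0, 10⟩ = -1 := by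
  have h10 : (10 : F) = -1 := by
    have := eleven_eq_zero hF
    linear_combination this
  ext i j
  fin_cases i <;> fin_cases j <;> simp [matN, h10]

theorem isZ_iff' (m : N2) : isZ m = true ↔ m = ⟨1, 0, 0, 1⟩ ∨ m = ⟨10, 0, 0, 10⟩ := by
  obtain ⟨a, b, c, d⟩ := m
  simp only [isZ, Bool.and_eq_true, Bool.or_eq_true, beq_iff_eq, N2.mk.injEq]
  tauto

theorem isZ_iff (hF : Fintype.card F = 11) {m : N2} (hm : Norm m) :
    isZ m = true ↔ matN F m = 1 ∨ matN F m = -1 := by
  rw [isZ_iff']
  constructor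
  · rintro (rfl | rfl)
    · exact Or.inl matN_one
    · exact Or.inr (matN_neg_one hF)
  · rintro (h | h)
    · left
      rw [← matN_one] at h
      exact matN_inj hF hm (by unfold Norm; norm_num) h
    · right
      rw [← matN_neg_one hF] at h
      exact matN_inj hF hm (by unfold Norm; norm_num) h

theorem det_matN (hF : Fintype.card F = 11) {m : N2} (h : detOK m = true) :
    (matN F m).det = 1 := by
  simp only [detOK, beq_iff_eq] at h
  have h1 := congrArg (fun n : ℕ => (n : F)) h
  simp only [cast_mod hF] at h1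
  push_cast at h1
  rw [matN, Matrix.det_fin_two_of]
  linear_combination h1

/-- the element of `SL₂(F)` with a given code -/
def slN (hF : Fintype.card F = 11) (k : {k // k ∈ codes}) : SpecialLinearGroup (Fin 2) F :=
  ⟨matN F (dec k.1), det_matN hF (codes_det k.1 k.2)⟩

theorem dec_inj {k k' : ℕ} (hk : k < 14641) (hk' : k' < 14641) (h : dec k = dec k') : k = k' := by
  simp only [dec, N2.mk.injEq] at h
  omega

theorem slN_injective (hF : Fintype.card F = 11) : Function.Injective (slN hF) := by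
  rintro ⟨k, hk⟩ ⟨k', hk'⟩ h
  have h1 : matN F (dec k) = matN F (dec k') := congrArg Subtype.val h
  have h2 := matN_inj hF (norm_dec (codes_lt k hk)) (norm_dec (codes_lt k' hk')) h1
  exact Subtype.ext (dec_inj (codes_lt k hk) (codes_lt k' hk') h2)

theorem codes_nodup : codes.Nodup := by
  have h := List.isChain_iff_pairwise.mp codes_chain
  exact h.imp (fun hab => ne_of_lt hab)

theorem card_codes : Nat.card {k // k ∈ codes} = 1320 := by
  rw [Nat.subtype_card codes.toFinset (by simp), List.toFinset_card_of_nodup codes_nodup,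
    codes_length]

theorem slN_bijective (hF : Fintype.card F = 11) : Function.Bijective (slN hF) := by
  have hfin : Finite {k // k ∈ codes} := Nat.finite_of_card_ne_zero (by rw [card_codes]; norm_num)
  rw [Nat.bijective_iff_injective_and_card]
  refine ⟨slN_injective hF, ?_⟩
  rw [card_codes, Cfsg.Agent.Lib.Helper38.card_SL2, hF]
  norm_num

end bridge

section count

variable {F : Type*} [Field F] [Fintype F]

/-- the underlying matrix -/
def mat2 (A : SpecialLinearGroup (Fin 2) F) : Matrix (Fin 2) (Fin 2) F := A.1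

theorem mat2_mul (A B : SpecialLinearGroup (Fin 2) F) : mat2 (A * B) = mat2 A * mat2 B := rfl

/-- plus or minus the identity -/
def Cen (A : SpecialLinearGroup (Fin 2) F) : Prop :=
  mat2 A = 1 ∨ mat2 A = -1

theorem mk_eq_one_iff (A : SpecialLinearGroup (Fin 2) F) :
    (QuotientGroup.mk A : Matrix.ProjectiveSpecialLinearGroup (Fin 2) F) = 1 ↔ Cen A := by
  rw [QuotientGroup.eq_one_iff, Cfsg.Agent.Lib.Helper14.PSL2Klein.mem_center_iff']
  constructor
  · rintro (rfl | rfl)
    · left; rfl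
    · right
      show ((-1 : SpecialLinearGroup (Fin 2) F) : Matrix (Fin 2) (Fin 2) F) = -1
      simp
  · rintro (h | h)
    · left; exact Subtype.ext h
    · right
      apply Subtype.ext
      show mat2 A = ((-1 : SpecialLinearGroup (Fin 2) F) : Matrix (Fin 2) (Fin 2) F)
      rw [h]
      simp

theorem cen_iff (hF : Fintype.card F = 11) (A : SpecialLinearGroup (Fin 2) F) (x : N2)
    (hx : Norm x) (h : mat2 A = matN F x) : Cen A ↔ isZ x = true := by
  rw [isZ_iff hF hx, Cen, h]

theorem val_slN (hF : Fintype.card F = 11) (k : {k // k ∈ codes}) :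
    mat2 (slN hF k) = matN F (dec k.1) := rfl

theorem cen_A (hF : Fintype.card F = 11) (k : {k // k ∈ codes}) :
    Cen (slN hF k) ↔ isZ (dec k.1) = true :=
  cen_iff hF _ _ (norm_dec (codes_lt k.1 k.2)) (val_slN hF k)

theorem cen_A3 (hF : Fintype.card F = 11) (k : {k // k ∈ codes}) :
    Cen (slN hF k ^ 3) ↔ isZ (((dec k.1).mul (dec k.1)).mul (dec k.1)) = true := by
  apply cen_iff hF _ _ (norm_mul _ _)
  have hA3 : slN hF k ^ 3 = slN hF k * slN hF k * slN hF k := by rw [pow_succ, pow_two]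
  rw [hA3]
  simp only [mat2_mul, val_slN, matN_mul hF]

theorem cen_B5 (hF : Fintype.card F = 11) (l : {k // k ∈ codes}) :
    Cen (slN hF l ^ 5) ↔
      isZ ((((dec l.1).mul (dec l.1)).mul ((dec l.1).mul (dec l.1))).mul (dec l.1)) = true := by
  apply cen_iff hF _ _ (norm_mul _ _)
  have hB5 : slN hF l ^ 5 = slN hF l * slN hF l * (slN hF l * slN hF l) * slN hF l := by
    rw [pow_succ, pow_succ, pow_succ, pow_two, mul_assoc (slN hF l * slN hF l)]
  rw [hB5]
  simp only [mat2_mul, val_slN, matN_mul hF]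

theorem cen_AB2 (hF : Fintype.card F = 11) (k l : {k // k ∈ codes}) :
    Cen ((slN hF k * slN hF l) ^ 2) ↔
      isZ (((dec k.1).mul (dec l.1)).mul ((dec k.1).mul (dec l.1))) = true := by
  apply cen_iff hF _ _ (norm_mul _ _)
  rw [pow_two]
  simp only [mat2_mul, val_slN, matN_mul hF]

theorem isPair_iff_cond (hF : Fintype.card F = 11) (k l : {k // k ∈ codes}) :
    IsPair (QuotientGroup.mk (slN hF k) : Matrix.ProjectiveSpecialLinearGroup (Fin 2) F)
      (QuotientGroup.mk (slN hF l)) ↔
      condA k.1 = true ∧ condB l.1 = true ∧ condAB k.1 l.1 = true := by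
  unfold IsPair
  rw [← QuotientGroup.mk_pow, ← QuotientGroup.mk_pow, ← QuotientGroup.mk_mul,
    ← QuotientGroup.mk_pow, Ne, mk_eq_one_iff, mk_eq_one_iff, mk_eq_one_iff, mk_eq_one_iff,
    cen_A, cen_A3, cen_B5, cen_AB2]
  unfold condA condB condAB
  rw [Bool.and_eq_true, Bool.not_eq_true']
  constructor
  · rintro ⟨h1, h2, h3, h4⟩
    exact ⟨⟨by simpa using h1, h2⟩, h3, h4⟩
  · rintro ⟨⟨h1, h2⟩, h3, h4⟩
    exact ⟨by simpa using h1, h2, h3, h4⟩

theorem card_hat (hF : Fintype.card F = 11) :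
    Nat.card {p : SpecialLinearGroup (Fin 2) F × SpecialLinearGroup (Fin 2) F //
      IsPair (QuotientGroup.mk p.1 : Matrix.ProjectiveSpecialLinearGroup (Fin 2) F)
        (QuotientGroup.mk p.2)} = 10560 := by
  have e : {p : {k // k ∈ codes} × {k // k ∈ codes} //
      condA p.1.1 = true ∧ condB p.2.1 = true ∧ condAB p.1.1 p.2.1 = true} ≃
      {p : SpecialLinearGroup (Fin 2) F × SpecialLinearGroup (Fin 2) F //
        IsPair (QuotientGroup.mk p.1 : Matrix.ProjectiveSpecialLinearGroup (Fin 2) F)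
          (QuotientGroup.mk p.2)} := by
    refine Equiv.subtypeEquiv (Equiv.prodCongr (Equiv.ofBijective _ (slN_bijective hF))
      (Equiv.ofBijective _ (slN_bijective hF))) ?_
    rintro ⟨k, l⟩
    exact (isPair_iff_cond hF k l).symm
  rw [← Nat.card_congr e, card_pairs_list codes codes_nodup condA condB condAB]
  exact cnt_eq

theorem two_ne_zero_F (hF : Fintype.card F = 11) : (2 : F) ≠ 0 := by
  intro h
  have h1 : ((2 : ℕ) : F) = ((0 : ℕ) : F) := by push_cast; exact h
  have := cast_inj_lt hF (by norm_num) (by norm_num) h1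
  omega

theorem card_fiber_mk (hF : Fintype.card F = 11)
    (x : Matrix.ProjectiveSpecialLinearGroup (Fin 2) F) :
    Nat.card {A : SpecialLinearGroup (Fin 2) F //
      (QuotientGroup.mk A : Matrix.ProjectiveSpecialLinearGroup (Fin 2) F) = x} = 2 := by
  obtain ⟨A₀, rfl⟩ := QuotientGroup.mk_surjective x
  refine (Nat.card_congr ?_).trans
    (Cfsg.Agent.Lib.Helper14.PSL2Klein.card_center (two_ne_zero_F hF))
  refine ⟨fun A => ⟨A₀⁻¹ * A.1, QuotientGroup.eq.mp A.2.symm⟩, fun z => ⟨A₀ * z.1, ?_⟩, ?_, ?_⟩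
  · rw [QuotientGroup.mk_mul, (QuotientGroup.eq_one_iff z.1).mpr z.2, mul_one]
  · intro A
    apply Subtype.ext
    simp
  · intro z
    apply Subtype.ext
    simp

theorem card_pairs_psl (hF : Fintype.card F = 11) :
    Nat.card (Pairs (Matrix.ProjectiveSpecialLinearGroup (Fin 2) F)) = 2640 := by
  have hfin : Finite (Matrix.ProjectiveSpecialLinearGroup (Fin 2) F) :=
    Nat.finite_of_card_ne_zero (by rw [Cfsg.Agent.S2542.card_psl hF]; norm_num)
  let f : {p : SpecialLinearGroup (Fin 2) F × SpecialLinearGroup (Fin 2) F //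
      IsPair (QuotientGroup.mk p.1 : Matrix.ProjectiveSpecialLinearGroup (Fin 2) F)
        (QuotientGroup.mk p.2)} → Pairs (Matrix.ProjectiveSpecialLinearGroup (Fin 2) F) :=
    fun p => ⟨(QuotientGroup.mk p.1.1, QuotientGroup.mk p.1.2), p.2⟩
  have h := card_eq_of_fibers' f 4 (by
    intro q
    have e : {p // f p = q} ≃
        {A : SpecialLinearGroup (Fin 2) F //
          (QuotientGroup.mk A : Matrix.ProjectiveSpecialLinearGroup (Fin 2) F) = q.1.1} ×
        {B : SpecialLinearGroup (Fin 2) F //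
          (QuotientGroup.mk B : Matrix.ProjectiveSpecialLinearGroup (Fin 2) F) = q.1.2} :=
      { toFun := fun p => (⟨p.1.1.1, congrArg (fun t : Pairs _ => t.1.1) p.2⟩,
          ⟨p.1.1.2, congrArg (fun t : Pairs _ => t.1.2) p.2⟩)
        invFun := fun ab => ⟨⟨(ab.1.1, ab.2.1), by
            show IsPair (QuotientGroup.mk ab.1.1) (QuotientGroup.mk ab.2.1)
            rw [ab.1.2, ab.2.2]; exact q.2⟩, by
            apply Subtype.ext
            exact Prod.ext ab.1.2 ab.2.2⟩
        left_inv := fun p => by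
          apply Subtype.ext; apply Subtype.ext; rfl
        right_inv := fun ab => by
          obtain ⟨⟨a, ha⟩, ⟨b, hb⟩⟩ := ab
          rfl }
    rw [Nat.card_congr e, Nat.card_prod, card_fiber_mk hF, card_fiber_mk hF])
  rw [card_hat hF] at h
  omega

/-- `PSL₂(11)` has exactly 22 subgroups isomorphic to `A₅`, forming two conjugacy classes -/
theorem main (hF : Fintype.card F = 11) :
    Nat.card {H : Subgroup (Matrix.ProjectiveSpecialLinearGroup (Fin 2) F) //
      Nonempty (H ≃* alternatingGroup (Fin 5))} = 22 ∧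
    ∃ H K : Subgroup (Matrix.ProjectiveSpecialLinearGroup (Fin 2) F),
      Nonempty (H ≃* alternatingGroup (Fin 5)) ∧ Nonempty (K ≃* alternatingGroup (Fin 5)) ∧
      (∀ g : Matrix.ProjectiveSpecialLinearGroup (Fin 2) F, MulAut.conj g • H ≠ K) ∧
      ∀ L : Subgroup (Matrix.ProjectiveSpecialLinearGroup (Fin 2) F),
        Nonempty (L ≃* alternatingGroup (Fin 5)) →
        ∃ g : Matrix.ProjectiveSpecialLinearGroup (Fin 2) F,
          MulAut.conj g • L = H ∨ MulAut.conj g • L = K := by
  have hcard := Cfsg.Agent.S2542.card_psl hF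
  have hfin : Finite (Matrix.ProjectiveSpecialLinearGroup (Fin 2) F) :=
    Nat.finite_of_card_ne_zero (by rw [hcard]; norm_num)
  have hsimple : IsSimpleGroup (Matrix.ProjectiveSpecialLinearGroup (Fin 2) F) :=
    Matrix.ProjectiveSpecialLinearGroup.rank_two_simple (by
      rw [Nat.card_eq_fintype_card, hF]; norm_num)
  have h22 : Nat.card {H : Subgroup (Matrix.ProjectiveSpecialLinearGroup (Fin 2) F) //
      Nonempty (H ≃* alternatingGroup (Fin 5))} = 22 := by
    have h1 := card_pairs (G := Matrix.ProjectiveSpecialLinearGroup (Fin 2) F)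
    rw [card_pairs_psl hF] at h1
    have h2 : Nat.card {H : Subgroup (Matrix.ProjectiveSpecialLinearGroup (Fin 2) F) //
        Nonempty (H ≃* alternatingGroup (Fin 5))} * 120 = 22 * 120 := by
      rw [← h1]
    exact Nat.eq_of_mul_eq_mul_right (by norm_num) h2
  exact ⟨h22, Cfsg.Agent.Lib.Helper14.A5Classes.two_classes hcard h22⟩

end count

end Cfsg.Agent.Lib.Helper14.PSL211
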