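import Mathlib
import Cfsg.Agent.Lib.Helper14.MxMain

set_option autoImplicit false
set_option linter.style.haveILetI false

/-!
# `PGL₂(q)` as a subgroup of `PSL₂(q²)`
-/

namespace Cfsg.Agent.Lib.Helper14.Pg

open Cfsg.Agent.Lib.Helper2.SL2 Cfsg.Agent.Lib.Helper2.Dk Cfsg.Agent.Lib.Helper14.Dk
  Cfsg.Agent.Lib.Helper14.Mx

section basic

variable {K : Type*} [Field K]

local notation "SL2" => Matrix.SpecialLinearGroup (Fin 2) K

/-- the witness of an element of `PG E` has its square in `E` -/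
theorem mem_PG_iff {E : Subfield K} {g : SL2} :
    g ∈ PG E ↔ ∃ l : K, l ≠ 0 ∧ l ^ 2 ∈ E ∧ l * g 0 0 ∈ E ∧ l * g 0 1 ∈ E ∧ l * g 1 0 ∈ E ∧
      l * g 1 1 ∈ E := by
  constructor
  · rintro ⟨l, hl, g00, g01, g10, g11⟩
    exact ⟨l, hl, sq_mem_of_witness E g l g00 g01 g10 g11, g00, g01, g10, g11⟩
  · rintro ⟨l, hl, -, g00, g01, g10, g11⟩
    exact ⟨l, hl, g00, g01, g10, g11⟩

/-- squares of elements of `PG E` lie in `SLE E` -/
theorem sq_mem_SLE {E : Subfield K} {g : SL2} (hg : g ∈ PG E) : g * g ∈ SLE E := by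
  obtain ⟨l, hl, hl2, g00, g01, g10, g11⟩ := mem_PG_iff.mp hg
  have hl2i : (l ^ 2)⁻¹ ∈ E := E.inv_mem hl2
  refine ⟨?_, ?_, ?_, ?_⟩
  · rw [mul00]
    have : g 0 0 * g 0 0 + g 0 1 * g 1 0 =
        (l ^ 2)⁻¹ * ((l * g 0 0) * (l * g 0 0) + (l * g 0 1) * (l * g 1 0)) := by
      field_simp
    rw [this]
    exact E.mul_mem hl2i (E.add_mem (E.mul_mem g00 g00) (E.mul_mem g01 g10))
  · rw [mul01]
    have : g 0 0 * g 0 1 + g 0 1 * g 1 1 =
        (l ^ 2)⁻¹ * ((l * g 0 0) * (l * g 0 1) + (l * g 0 1) * (l * g 1 1)) := by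
      field_simp
    rw [this]
    exact E.mul_mem hl2i (E.add_mem (E.mul_mem g00 g01) (E.mul_mem g01 g11))
  · rw [mul10]
    have : g 1 0 * g 0 0 + g 1 1 * g 1 0 =
        (l ^ 2)⁻¹ * ((l * g 1 0) * (l * g 0 0) + (l * g 1 1) * (l * g 1 0)) := by
      field_simp
    rw [this]
    exact E.mul_mem hl2i (E.add_mem (E.mul_mem g10 g00) (E.mul_mem g11 g10))
  · rw [mul11]
    have : g 1 0 * g 0 1 + g 1 1 * g 1 1 =
        (l ^ 2)⁻¹ * ((l * g 1 0) * (l * g 0 1) + (l * g 1 1) * (l * g 1 1)) := by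
      field_simp
    rw [this]
    exact E.mul_mem hl2i (E.add_mem (E.mul_mem g10 g01) (E.mul_mem g11 g11))

/-- elements of odd order of `PG E` lie in `SLE E` -/
theorem mem_SLE_of_pow_odd {E : Subfield K} {g : SL2} (hg : g ∈ PG E) {n : ℕ} (hn : Odd n)
    (h : g ^ n = 1) : g ∈ SLE E := by
  obtain ⟨k, rfl⟩ := hn
  have e : g = (g * g) ^ (k + 1) * (g ^ (2 * k + 1))⁻¹ := by
    rw [← pow_two, ← pow_mul]
    have : 2 * (k + 1) = (2 * k + 1) + 1 := by ring
    rw [this, pow_succ]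
    group
  rw [e, h, inv_one, mul_one]
  exact (SLE E).pow_mem (sq_mem_SLE hg) _

theorem center_le_SLE (E : Subfield K) : Subgroup.center SL2 ≤ SLE E := by
  intro z hz
  rcases (mem_center_iff_pm z).mp hz with rfl | rfl
  · exact (SLE E).one_mem
  · refine ⟨?_, ?_, ?_, ?_⟩
    · rw [neg00, one00]; exact E.neg_mem E.one_mem
    · rw [neg01, one01, neg_zero]; exact E.zero_mem
    · rw [neg10, one10, neg_zero]; exact E.zero_mem
    · rw [neg11, one11]; exact E.neg_mem E.one_mem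

theorem PG_mono {E E' : Subfield K} (h : E ≤ E') : PG E ≤ PG E' := by
  rintro g ⟨l, hl, g00, g01, g10, g11⟩
  exact ⟨l, hl, h g00, h g01, h g10, h g11⟩

end basic

section embed

variable {F : Type*} [Field F] {K : Type*} [Field K] (f : F →+* K) (E : Subfield K)

theorem map_injective : Function.Injective (Matrix.ProjGenLinGroup.map (n := Fin 2) f) := by
  rw [injective_iff_map_eq_one]
  intro g hg
  induction g using Matrix.ProjGenLinGroup.induction_on with | mk A =>
  rw [Matrix.ProjGenLinGroup.map_mk] at hg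
  have h1 : A ∈ (Matrix.ProjGenLinGroup.mk.comp (Matrix.GeneralLinearGroup.map (n := Fin 2) f)).ker := by
    rw [MonoidHom.mem_ker]; exact hg
  rw [ker_mk_comp_map] at h1
  rw [Matrix.ProjGenLinGroup.mk_eq_one]
  exact h1

/-- the image of `PGL₂(F)` lies in the image of `PG E` -/
theorem map_mem (hr : ∀ μ : K, μ ∈ Set.range f ↔ μ ∈ E) (hsq : ∀ μ ∈ E, IsSquare μ)
    (g : Matrix.ProjGenLinGroup (Fin 2) F) :
    Matrix.ProjGenLinGroup.map f g ∈ ((PG E).map (QuotientGroup.mk'
      (Subgroup.center (Matrix.SpecialLinearGroup (Fin 2) K)))).map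
      (Matrix.ProjectiveSpecialLinearGroup.toPGL (n := Fin 2) (R := K)) := by
  induction g using Matrix.ProjGenLinGroup.induction_on with | mk A =>
  have hδ : (A : Matrix (Fin 2) (Fin 2) F).det ≠ 0 := Matrix.GeneralLinearGroup.det_ne_zero A
  set δ := (A : Matrix (Fin 2) (Fin 2) F).det with hδdef
  have hδ2 : δ = A 0 0 * A 1 1 - A 0 1 * A 1 0 := by rw [hδdef, Matrix.det_fin_two]
  have hfδ : f δ ≠ 0 := (map_ne_zero f).mpr hδ
  obtain ⟨c, hc⟩ := hsq (f δ)⁻¹ (E.inv_mem ((hr _).mp ⟨δ, rfl⟩))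
  have hc0 : c ≠ 0 := by
    rintro rfl
    rw [mul_zero] at hc
    exact (inv_ne_zero hfδ) hc
  have hdet : (c * f (A 0 0)) * (c * f (A 1 1)) - (c * f (A 0 1)) * (c * f (A 1 0)) = 1 := by
    have e1 : f δ = f (A 0 0) * f (A 1 1) - f (A 0 1) * f (A 1 0) := by
      rw [hδ2, map_sub, map_mul, map_mul]
    have e2 : c * c * f δ = 1 := by rw [← hc]; field_simp
    linear_combination e2 + (c * c) * (-e1)
  set x : Matrix.SpecialLinearGroup (Fin 2) K :=
    mk2 (c * f (A 0 0)) (c * f (A 0 1)) (c * f (A 1 0)) (c * f (A 1 1)) hdet with hx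
  have hxP : x ∈ PG E := by
    refine ⟨c⁻¹, inv_ne_zero hc0, ?_, ?_, ?_, ?_⟩
    · rw [hx, mk2_00, inv_mul_cancel_left₀ hc0]; exact (hr _).mp ⟨_, rfl⟩
    · rw [hx, mk2_01, inv_mul_cancel_left₀ hc0]; exact (hr _).mp ⟨_, rfl⟩
    · rw [hx, mk2_10, inv_mul_cancel_left₀ hc0]; exact (hr _).mp ⟨_, rfl⟩
    · rw [hx, mk2_11, inv_mul_cancel_left₀ hc0]; exact (hr _).mp ⟨_, rfl⟩
  refine ⟨QuotientGroup.mk' _ x, ⟨x, hxP, rfl⟩, ?_⟩
  rw [Matrix.ProjGenLinGroup.map_mk]
  show Matrix.ProjGenLinGroup.mk (Matrix.SpecialLinearGroup.toGL x) = _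
  rw [Matrix.ProjGenLinGroup.mk_eq_mk_iff]
  refine ⟨Units.mk0 c⁻¹ (inv_ne_zero hc0), ?_⟩
  apply Matrix.GeneralLinearGroup.ext
  intro i j
  have e00 : x 0 0 = c * f (A 0 0) := mk2_00 _ _ _ _ _
  have e01 : x 0 1 = c * f (A 0 1) := mk2_01 _ _ _ _ _
  have e10 : x 1 0 = c * f (A 1 0) := mk2_10 _ _ _ _ _
  have e11 : x 1 1 = c * f (A 1 1) := mk2_11 _ _ _ _ _
  fin_cases i <;> fin_cases j <;>
    simp [Matrix.mul_apply, Fin.sum_univ_two, Matrix.GeneralLinearGroup.map_apply,
      Matrix.SpecialLinearGroup.coe_GL_coe_matrix, e00, e01, e10, e11] <;>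
    field_simp

/-- the image of `PG E` lies in the image of `PGL₂(F)` -/
theorem toPGL_mem_range (hr : ∀ μ : K, μ ∈ Set.range f ↔ μ ∈ E)
    (x : Matrix.SpecialLinearGroup (Fin 2) K) (hx : x ∈ PG E) :
    Matrix.ProjectiveSpecialLinearGroup.toPGL (QuotientGroup.mk'
      (Subgroup.center (Matrix.SpecialLinearGroup (Fin 2) K)) x) ∈
      (Matrix.ProjGenLinGroup.map (n := Fin 2) f).range := by
  obtain ⟨l, hl, g00, g01, g10, g11⟩ := hx
  obtain ⟨a00, h00⟩ := (hr _).mpr g00
  obtain ⟨a01, h01⟩ := (hr _).mpr g01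
  obtain ⟨a10, h10⟩ := (hr _).mpr g10
  obtain ⟨a11, h11⟩ := (hr _).mpr g11
  have hdet : (!![a00, a01; a10, a11] : Matrix (Fin 2) (Fin 2) F).det ≠ 0 := by
    rw [Matrix.det_fin_two_of]
    intro h
    have h1 := congrArg f h
    rw [map_sub, map_mul, map_mul, h00, h01, h10, h11, map_zero] at h1
    have h2 := det2 x
    have : l ^ 2 = 0 := by linear_combination h1 - l ^ 2 * h2
    exact hl (pow_eq_zero_iff (two_ne_zero) |>.mp this)
  refine ⟨Matrix.ProjGenLinGroup.mk (Matrix.GeneralLinearGroup.mkOfDetNeZero _ hdet), ?_⟩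
  rw [Matrix.ProjGenLinGroup.map_mk]
  show _ = Matrix.ProjGenLinGroup.mk (Matrix.SpecialLinearGroup.toGL x)
  rw [Matrix.ProjGenLinGroup.mk_eq_mk_iff]
  refine ⟨Units.mk0 l⁻¹ (inv_ne_zero hl), ?_⟩
  apply Matrix.GeneralLinearGroup.ext
  intro i j
  fin_cases i <;> fin_cases j <;>
    simp [Matrix.mul_apply, Fin.sum_univ_two,
      Matrix.SpecialLinearGroup.coe_GL_coe_matrix, Matrix.GeneralLinearGroup.mkOfDetNeZero,
      h00, h01, h10, h11] <;>
    field_simp

theorem map_toGL (h : Matrix.SpecialLinearGroup (Fin 2) F) :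
    Matrix.GeneralLinearGroup.map (n := Fin 2) f (Matrix.SpecialLinearGroup.toGL h) =
      Matrix.SpecialLinearGroup.toGL (Matrix.SpecialLinearGroup.map (n := Fin 2) f h) := by
  apply Matrix.GeneralLinearGroup.ext
  intro i j
  rfl

/-- the explicit isomorphism of `PGL₂(F)` with the image of `PG E` -/
theorem exists_iso (hr : ∀ μ : K, μ ∈ Set.range f ↔ μ ∈ E) (hsq : ∀ μ ∈ E, IsSquare μ) :
    ∃ e : Matrix.ProjGenLinGroup (Fin 2) F ≃* ↥((PG E).map (QuotientGroup.mk'
        (Subgroup.center (Matrix.SpecialLinearGroup (Fin 2) K)))),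
      ∀ g, Matrix.ProjectiveSpecialLinearGroup.toPGL
        ((e g : Matrix.ProjectiveSpecialLinearGroup (Fin 2) K)) =
          Matrix.ProjGenLinGroup.map f g := by
  set Gb := (PG E).map (QuotientGroup.mk'
    (Subgroup.center (Matrix.SpecialLinearGroup (Fin 2) K))) with hGb
  have hj : Function.Injective (Matrix.ProjectiveSpecialLinearGroup.toPGL (n := Fin 2) (R := K)) :=
    Matrix.ProjectiveSpecialLinearGroup.toPGL_injective
  set eqv := Subgroup.equivMapOfInjective Gb _ hj with heqv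
  set ι' : Matrix.ProjGenLinGroup (Fin 2) F →* ↥(Gb.map
      (Matrix.ProjectiveSpecialLinearGroup.toPGL (n := Fin 2) (R := K))) :=
    (Matrix.ProjGenLinGroup.map (n := Fin 2) f).codRestrict _ (map_mem f E hr hsq) with hι'
  set φ : Matrix.ProjGenLinGroup (Fin 2) F →* ↥Gb := eqv.symm.toMonoidHom.comp ι' with hφ
  have key : ∀ g, Matrix.ProjectiveSpecialLinearGroup.toPGL
      ((φ g : Matrix.ProjectiveSpecialLinearGroup (Fin 2) K)) =
        Matrix.ProjGenLinGroup.map f g := by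
    intro g
    have h1 : eqv (φ g) = ι' g := eqv.apply_symm_apply (ι' g)
    have h2 := congrArg Subtype.val h1
    rw [heqv, Subgroup.coe_equivMapOfInjective_apply] at h2
    exact h2
  have hbij : Function.Bijective φ := by
    constructor
    · intro g₁ g₂ h
      apply map_injective f
      rw [← key g₁, ← key g₂, h]
    · rintro ⟨y, x, hx, rfl⟩
      obtain ⟨g, hg⟩ := toPGL_mem_range f E hr x hx
      refine ⟨g, ?_⟩
      apply Subtype.ext
      apply hj
      rw [key g, hg]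
  exact ⟨MulEquiv.ofBijective φ hbij, key⟩

/-- the isomorphism is compatible with the special subgroups -/
theorem iso_compat (hr : ∀ μ : K, μ ∈ Set.range f ↔ μ ∈ E)
    (e : Matrix.ProjGenLinGroup (Fin 2) F ≃* ↥((PG E).map (QuotientGroup.mk'
        (Subgroup.center (Matrix.SpecialLinearGroup (Fin 2) K)))))
    (he : ∀ g, Matrix.ProjectiveSpecialLinearGroup.toPGL
        ((e g : Matrix.ProjectiveSpecialLinearGroup (Fin 2) K)) =
          Matrix.ProjGenLinGroup.map f g)
    (g : Matrix.ProjGenLinGroup (Fin 2) F) :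
    g ∈ (Matrix.ProjGenLinGroup.mk.comp (Matrix.SpecialLinearGroup.toGL (n := Fin 2) (R := F))).range ↔
      (e g : Matrix.ProjectiveSpecialLinearGroup (Fin 2) K) ∈ (SLE E).map (QuotientGroup.mk'
        (Subgroup.center (Matrix.SpecialLinearGroup (Fin 2) K))) := by
  have hj : Function.Injective (Matrix.ProjectiveSpecialLinearGroup.toPGL (n := Fin 2) (R := K)) :=
    Matrix.ProjectiveSpecialLinearGroup.toPGL_injective
  have hrange := range_mapSL_eq f E hr
  have hcomp : ∀ h : Matrix.SpecialLinearGroup (Fin 2) F,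
      Matrix.ProjectiveSpecialLinearGroup.toPGL (QuotientGroup.mk'
        (Subgroup.center (Matrix.SpecialLinearGroup (Fin 2) K))
          (Matrix.SpecialLinearGroup.map (n := Fin 2) f h)) =
      Matrix.ProjGenLinGroup.map f (Matrix.ProjGenLinGroup.mk (Matrix.SpecialLinearGroup.toGL h)) := by
    intro h
    rw [Matrix.ProjGenLinGroup.map_mk, map_toGL]
    rfl
  constructor
  · rintro ⟨h, rfl⟩
    refine ⟨Matrix.SpecialLinearGroup.map (n := Fin 2) f h, ?_, ?_⟩
    · rw [← hrange]; exact ⟨h, rfl⟩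
    · apply hj
      rw [he, hcomp]
      rfl
  · rintro ⟨y, hy, hye⟩
    rw [← hrange] at hy
    obtain ⟨h, rfl⟩ := hy
    refine ⟨h, ?_⟩
    apply map_injective f
    rw [← he g, ← hye, hcomp]
    rfl

end embed

section relmax

variable {K : Type*} [Field K]

/-- maximality relative to `PG E` -/
structure RelMax (E : Subfield K) (X : Subgroup (Matrix.SpecialLinearGroup (Fin 2) K)) : Prop where
  center_le : Subgroup.center (Matrix.SpecialLinearGroup (Fin 2) K) ≤ X
  le : X ≤ PG E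
  ne : X ≠ PG E
  max : ∀ Y : Subgroup (Matrix.SpecialLinearGroup (Fin 2) K), X ≤ Y → Y ≤ PG E → Y = X ∨ Y = PG E
  not_le : ¬ SLE E ≤ X

variable {F : Type*} [Field F] (f : F →+* K) (E : Subfield K)

local notation "π" => QuotientGroup.mk' (Subgroup.center (Matrix.SpecialLinearGroup (Fin 2) K))

theorem exists_relMax (hr : ∀ μ : K, μ ∈ Set.range f ↔ μ ∈ E)
    (e : Matrix.ProjGenLinGroup (Fin 2) F ≃* ↥((PG E).map (QuotientGroup.mk'
        (Subgroup.center (Matrix.SpecialLinearGroup (Fin 2) K)))))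
    (he : ∀ g, Matrix.ProjectiveSpecialLinearGroup.toPGL
        ((e g : Matrix.ProjectiveSpecialLinearGroup (Fin 2) K)) =
          Matrix.ProjGenLinGroup.map f g)
    (M : Subgroup (Matrix.ProjGenLinGroup (Fin 2) F)) (hM : IsCoatom M)
    (hML : ¬ (Matrix.ProjGenLinGroup.mk.comp
      (Matrix.SpecialLinearGroup.toGL (n := Fin 2) (R := F))).range ≤ M) :
    ∃ X : Subgroup (Matrix.SpecialLinearGroup (Fin 2) K), RelMax E X ∧
      Nonempty (↥M ≃* ↥(X.map (QuotientGroup.mk'
        (Subgroup.center (Matrix.SpecialLinearGroup (Fin 2) K))))) := by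
  set ι : Matrix.ProjGenLinGroup (Fin 2) F →* Matrix.ProjectiveSpecialLinearGroup (Fin 2) K :=
    ((PG E).map π).subtype.comp e.toMonoidHom with hι
  have hιinj : Function.Injective ι := by
    intro g₁ g₂ h
    apply e.injective
    apply Subtype.ext
    exact h
  have hιmem : ∀ g, ι g ∈ (PG E).map π := fun g => (e g).2
  have hιsurj : ∀ y ∈ (PG E).map π, ∃ g, ι g = y := by
    intro y hy
    refine ⟨e.symm ⟨y, hy⟩, ?_⟩
    show ((e (e.symm ⟨y, hy⟩) : ↥((PG E).map π)) : Matrix.ProjectiveSpecialLinearGroup (Fin 2) K) = y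
    rw [e.apply_symm_apply]
  have hcenPG : Subgroup.center (Matrix.SpecialLinearGroup (Fin 2) K) ≤ PG E :=
    le_trans (center_le_SLE E) (SLE_le_PG E)
  have hker : ∀ x y : Matrix.SpecialLinearGroup (Fin 2) K, π x = π y →
      y⁻¹ * x ∈ Subgroup.center (Matrix.SpecialLinearGroup (Fin 2) K) := by
    intro x y h
    rw [← QuotientGroup.ker_mk' (Subgroup.center (Matrix.SpecialLinearGroup (Fin 2) K)),
      MonoidHom.mem_ker, map_mul, map_inv, h, inv_mul_cancel]
  set Mt := M.map ι with hMt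
  set X := Mt.comap π with hX
  have hXmap : X.map π = Mt :=
    Subgroup.map_comap_eq_self_of_surjective (QuotientGroup.mk'_surjective _) Mt
  have hZX : Subgroup.center (Matrix.SpecialLinearGroup (Fin 2) K) ≤ X := by
    intro z hz
    show π z ∈ Mt
    have : π z = 1 := by
      rw [← MonoidHom.mem_ker, QuotientGroup.ker_mk']; exact hz
    rw [this]; exact Mt.one_mem
  have hXle : X ≤ PG E := by
    intro x hx
    obtain ⟨m, -, hm⟩ : π x ∈ Mt := hx
    obtain ⟨y, hy, hyx⟩ : π x ∈ (PG E).map π := by rw [← hm]; exact hιmem m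
    have h1 := hker x y hyx.symm
    have : x = y * (y⁻¹ * x) := by group
    rw [this]
    exact (PG E).mul_mem hy (hcenPG h1)
  refine ⟨X, ⟨hZX, hXle, ?_, ?_, ?_⟩, ?_⟩
  · intro hXPG
    apply hM.1
    rw [eq_top_iff]
    intro g _
    obtain ⟨x, hx, hxg⟩ := hιmem g
    rw [← hXPG] at hx
    obtain ⟨m, hm, hmx⟩ : π x ∈ Mt := hx
    have : g = m := hιinj (by rw [hmx, hxg])
    rw [this]; exact hm
  · intro Y hXY hYP
    set N := (Y.map π).comap ι with hN
    have hMN : M ≤ N := by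
      intro m hm
      have h1 : ι m ∈ Mt := ⟨m, hm, rfl⟩
      rw [← hXmap] at h1
      exact Subgroup.map_mono hXY h1
    rcases hM.le_iff.mp hMN with h | h
    · right
      apply le_antisymm hYP
      intro x hx
      obtain ⟨g, hg⟩ := hιsurj (π x) ⟨x, hx, rfl⟩
      have h1 : g ∈ N := by rw [h]; exact Subgroup.mem_top _
      obtain ⟨y, hy, hyg⟩ : ι g ∈ Y.map π := h1
      have h2 := hker x y (by rw [hyg, hg])
      have : x = y * (y⁻¹ * x) := by group
      rw [this]
      exact Y.mul_mem hy (hXY (hZX h2))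
    · left
      apply le_antisymm _ hXY
      intro y hy
      obtain ⟨g, hg⟩ := hιsurj (π y) ⟨y, hYP hy, rfl⟩
      have h1 : g ∈ N := by
        show ι g ∈ Y.map π
        rw [hg]; exact ⟨y, hy, rfl⟩
      rw [h] at h1
      show π y ∈ Mt
      rw [← hg]; exact ⟨g, h1, rfl⟩
  · intro hSX
    apply hML
    intro g hg
    rw [iso_compat f E hr e he g] at hg
    obtain ⟨y, hy, hyg⟩ := hg
    obtain ⟨m, hm, hmy⟩ : π y ∈ Mt := hSX hy
    have : g = m := hιinj (by rw [hmy]; exact hyg.symm)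
    rw [this]; exact hm
  · exact ⟨(Subgroup.equivMapOfInjective M ι hιinj).trans (MulEquiv.subgroupCongr hXmap.symm)⟩

end relmax

section field

variable {F : Type*} [Field F] [Fintype F]

/-- in a quadratic extension, every element of the small field is a square -/
theorem isSquare_of_mem {K : Type*} [Field K] [Fintype K] (h2 : (2 : K) ≠ 0) (E : Subfield K)
    (hc : Fintype.card K = Nat.card E ^ 2) (μ : K) (hμ : μ ∈ E) : IsSquare μ := by
  by_cases h0 : μ = 0
  · exact ⟨0, by rw [h0, mul_zero]⟩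
  have hodd := odd_card_subfield h2 E
  obtain ⟨j, hj⟩ : ∃ j, Nat.card E = 2 * j + 1 := ⟨Nat.card E / 2, by omega⟩
  have hF2 : ringChar K ≠ 2 := by
    intro h
    apply h2
    have h1 : ((2 : ℕ) : K) = 0 := (ringChar.spec K 2).mpr (by rw [h])
    simpa using h1
  rw [FiniteField.isSquare_iff hF2 h0, hc, hj]
  have e : (2 * j + 1) ^ 2 / 2 = (2 * j) * (j + 1) := by
    have : (2 * j + 1) ^ 2 = 2 * ((2 * j) * (j + 1)) + 1 := by ring
    omega
  rw [e, pow_mul]
  have := pow_card_sub_one_of_mem E hμ h0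
  rw [hj, Nat.add_sub_cancel] at this
  rw [this, one_pow]

/-- the quadratic extension of a finite field -/
theorem exists_quadratic (p : ℕ) [Fact p.Prime] [CharP F p] :
    ∃ (K : Type) (_ : Field K) (_ : Fintype K) (_ : CharP K p) (f : F →+* K) (E : Subfield K),
      (∀ μ : K, μ ∈ Set.range f ↔ μ ∈ E) ∧ Fintype.card K = Fintype.card F ^ 2 ∧
      Nat.card E = Fintype.card F := by
  haveI : NeZero (2 : ℕ) := ⟨two_ne_zero⟩
  haveI : Fintype (FiniteField.Extension F p 2) := Fintype.ofFinite _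
  have hinj : Function.Injective (algebraMap F (FiniteField.Extension F p 2)) :=
    (algebraMap F (FiniteField.Extension F p 2)).injective
  haveI : CharP (FiniteField.Extension F p 2) p := charP_of_injective_algebraMap hinj p
  refine ⟨FiniteField.Extension F p 2, inferInstance, inferInstance, inferInstance,
    algebraMap F _, (algebraMap F (FiniteField.Extension F p 2)).fieldRange, ?_, ?_, ?_⟩
  · intro μ
    rw [RingHom.mem_fieldRange]
    rfl
  · rw [← Nat.card_eq_fintype_card, FiniteField.natCard_extension, Nat.card_eq_fintype_card]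
  · rw [← Nat.card_eq_fintype_card]
    symm
    apply Nat.card_congr
    exact Equiv.ofBijective (fun x => ⟨algebraMap F _ x, ⟨x, rfl⟩⟩)
      ⟨fun x y h => hinj (congrArg Subtype.val h), fun ⟨y, x, hx⟩ => ⟨x, Subtype.ext hx⟩⟩

end field

end Cfsg.Agent.Lib.Helper14.Pg
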