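import Mathlib
import Cfsg.Agent.Lib.Helper14.PgField

set_option autoImplicit false
set_option linter.style.haveILetI false
set_option linter.unusedSimpArgs false

/-!
# The Dickson invariants of `PG E` inside `SL₂(q²)`
-/

namespace Cfsg.Agent.Lib.Helper14.Pg

open Cfsg.Agent.Lib.Helper2.SL2 Cfsg.Agent.Lib.Helper2.Dk Cfsg.Agent.Lib.Helper14.Dk
  Cfsg.Agent.Lib.Helper14.Mx

section

variable {K : Type*} [Field K] [Fintype K]

local notation "SL2" => Matrix.SpecialLinearGroup (Fin 2) K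

theorem PG_ne_SLE (h2 : (2 : K) ≠ 0) (E : Subfield K)
    (hc : Fintype.card K = Nat.card E ^ 2) : PG E ≠ SLE E := by
  obtain ⟨a, ha0, haE, ha2⟩ := exists_sqrt_outside h2 E hc
  intro h
  have h1 : dd a ha0 ∈ SLE E := by rw [← h]; exact dd_mem_PG a ha0 ha2
  exact haE h1.1

theorem card_PG (p : ℕ) [Fact p.Prime] [CharP K p] (hodd : Odd (Fintype.card K))
    (E : Subfield K) (hc : Fintype.card K = Nat.card E ^ 2) :
    Nat.card ↥(PG E) = 2 * (Nat.card E * (Nat.card E ^ 2 - 1)) := by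
  have h2 : (2 : K) ≠ 0 := two_ne_zero_of_odd hodd
  obtain ⟨K₀, i1, i2, hK₀, ⟨e⟩⟩ := iso_PG p h2 E (PG_ne_SLE h2 E hc)
  have h1 := card_map_mk (Subgroup.center SL2) (PG E)
    (le_trans (center_le_SLE E) (SLE_le_PG E))
  rw [card_center_of_odd hodd, Nat.card_congr e.toEquiv,
    Cfsg.Agent.Lib.Helper5.card_PGL_eq_card_SL, Cfsg.Agent.Lib.Helper38.card_SL2, hK₀] at h1
  exact h1.symm

omit [Fintype K] in
theorem tt_one_mem_PG (E : Subfield K) : tt (1 : K) ∈ PG E :=
  SLE_le_PG E (tt_mem_SLE.mpr E.one_mem)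

omit [Fintype K] in
theorem ss_mem_SLE {E : Subfield K} {μ : K} (h : μ ∈ E) : ss μ ∈ SLE E := by
  rw [mem_SLE, ss00, ss01, ss10, ss11]
  exact ⟨E.one_mem, E.zero_mem, h, E.one_mem⟩

/-- the centralizer of the standard unipotent element in `PG E` -/
theorem aa_tt_one (hodd : Odd (Fintype.card K)) (E : Subfield K) :
    aa (⟨tt 1, tt_one_mem_PG E⟩ : ↥(PG E)) = 2 * Nat.card E := by
  set τ₁ : ↥(PG E) →* SL2 := (PG E).subtype with hτ₁
  have hinj : Function.Injective τ₁ := (PG E).subtype_injective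
  set u₁ : ↥(PG E) := ⟨tt 1, tt_one_mem_PG E⟩ with hu₁
  have hstd : Std τ₁ u₁ :=
    { inj := hinj
      h10 := rfl
      hd := rfl
      hZ := by
        rw [mem_ZZ]
        have := tt_ne_pm (F := K) one_ne_zero
        show ¬ (tt (1 : K) = 1 ∨ tt (1 : K) = -1)
        tauto }
  have hneg : (-1 : SL2) ∈ PG E := le_trans (center_le_SLE E) (SLE_le_PG E) neg_one_mem_center
  have hZ : Nat.card (ZZ τ₁) = 2 := card_ZZ_of_odd_gen hodd τ₁ hinj ⟨-1, hneg⟩ rfl
  have hVV : hstd.VV = (E : Set K) := by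
    ext c
    rw [hstd.mem_VV]
    constructor
    · rintro ⟨⟨y, hy⟩, rfl⟩
      obtain ⟨h10, hd⟩ := (hstd.mem_M_iff y).mp hy
      have hdet := det2 (y : SL2)
      have h10' : (y : SL2) 1 0 = 0 := h10
      have hd' : (y : SL2) 0 0 = (y : SL2) 1 1 := hd
      rw [h10', ← hd'] at hdet
      have hsq : (y : SL2) 0 0 * (y : SL2) 0 0 = 1 := by linear_combination hdet
      -- `y * y = tt (2 * y01 * y00)`
      have hyy : (y : SL2) * (y : SL2) = tt (2 * ((y : SL2) 0 1 * (y : SL2) 0 0)) := by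
        apply ext2 <;> simp only [mul00, mul01, mul10, mul11, tt00, tt01, tt10, tt11, h10', ← hd']
        · linear_combination hsq
        · ring
        · ring
        · linear_combination hsq
      have h1 : tt (2 * ((y : SL2) 0 1 * (y : SL2) 0 0)) ∈ SLE E := by
        rw [← hyy]; exact sq_mem_SLE y.2
      rw [tt_mem_SLE] at h1
      have h2 : (2 : K) ∈ E := by
        have : (2 : K) = 1 + 1 := by norm_num
        rw [this]; exact E.add_mem E.one_mem E.one_mem
      have h2' : (2 : K) ≠ 0 := two_ne_zero_of_odd hodd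
      have : (y : SL2) 0 1 * (y : SL2) 0 0 = (2 : K)⁻¹ * (2 * ((y : SL2) 0 1 * (y : SL2) 0 0)) := by
        field_simp
      show (y : SL2) 0 1 * (y : SL2) 0 0 ∈ E
      rw [this]
      exact E.mul_mem (E.inv_mem h2) h1
    · intro hc
      have hmem : tt c ∈ PG E := SLE_le_PG E (tt_mem_SLE.mpr hc)
      refine ⟨⟨⟨tt c, hmem⟩, ?_⟩, ?_⟩
      · rw [hstd.mem_M_iff]
        exact ⟨tt10 c, by show tt c 0 0 = tt c 1 1; rw [tt00, tt11]⟩
      · show tt c 0 1 * tt c 0 0 = c
        rw [tt01, tt00, mul_one]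
  have h1 := hstd.card_mul_ncard_VV
  rw [hZ, hVV] at h1
  rw [← h1]
  congr 1

/-- the Dickson invariants of `PG E` -/
theorem PG_invariants (p : ℕ) [Fact p.Prime] [CharP K p] (hodd : Odd (Fintype.card K))
    (E : Subfield K) (hc : Fintype.card K = Nat.card E ^ 2) (h3 : 3 ≤ Nat.card E) :
    (∀ y : ↥(PG E), y ∉ ZZ (PG E).subtype → ¬ UU (PG E).subtype y →
        ee y = 2 ∧ (aa y = 2 * (Nat.card E - 1) ∨ aa y = 2 * (Nat.card E + 1))) ∧
    (∀ y : ↥(PG E), y ∉ ZZ (PG E).subtype → UU (PG E).subtype y →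
        ee y = Nat.card E - 1 ∧ aa y = 2 * Nat.card E) := by
  set τ₁ : ↥(PG E) →* SL2 := (PG E).subtype with hτ₁
  have hinj : Function.Injective τ₁ := (PG E).subtype_injective
  have D := data_of_rep p τ₁ hinj
  have hG := card_PG p hodd E hc
  set q := Nat.card E with hq
  set u₁ : ↥(PG E) := ⟨tt 1, tt_one_mem_PG E⟩ with hu₁
  have hu₁Z : u₁ ∉ ZZ τ₁ := by
    rw [mem_ZZ]
    have := tt_ne_pm (F := K) one_ne_zero
    show ¬ (tt (1 : K) = 1 ∨ tt (1 : K) = -1)
    tauto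
  have hu₁U : UU τ₁ u₁ := by
    show tr2 (tt (1 : K)) ^ 2 = 4
    unfold tr2
    rw [tt00, tt11]; norm_num
  have hneg : (-1 : SL2) ∈ PG E := le_trans (center_le_SLE E) (SLE_le_PG E) neg_one_mem_center
  have hZ : Nat.card (ZZ τ₁) = 2 := card_ZZ_of_odd_gen hodd τ₁ hinj ⟨-1, hneg⟩ rfl
  have hs9 : 9 ≤ q ^ 2 := by
    have := Nat.pow_le_pow_left h3 2
    omega
  have hg3 : 3 * (q ^ 2 - 1) ≤ q * (q ^ 2 - 1) := Nat.mul_le_mul_right _ h3
  rcases D.main_U hu₁Z hu₁U with h | h | h | h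
  · exfalso
    obtain ⟨x, hx, hU, hN⟩ := h
    obtain ⟨c, hcs⟩ := exists_std τ₁ hinj hx hU
    rw [hcs.normalizer_eq] at hN
    have h1 : (⟨tt 1, tt_one_mem_PG E⟩ : ↥(PG E)) ∈
        BG ((MulAut.conj c).toMonoidHom.comp τ₁) := by rw [hN]; exact Subgroup.mem_top _
    have h2 : (⟨ss 1, SLE_le_PG E (ss_mem_SLE E.one_mem)⟩ : ↥(PG E)) ∈
        BG ((MulAut.conj c).toMonoidHom.comp τ₁) := by rw [hN]; exact Subgroup.mem_top _
    rw [mem_BG] at h1 h2
    have h1' : (c * tt (1 : K) * c⁻¹ : SL2) 1 0 = 0 := h1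
    have h2' : (c * ss (1 : K) * c⁻¹ : SL2) 1 0 = 0 := h2
    simp only [mul00, mul01, mul10, mul11, inv00, inv01, inv10, inv11, tt00, tt01, tt10, tt11,
      ss00, ss01, ss10, ss11] at h1' h2'
    have e1 : c 1 0 = 0 := by
      have : c 1 0 * c 1 0 = 0 := by linear_combination -h1'
      exact mul_self_eq_zero.mp this
    have e2 : c 1 1 = 0 := by
      have : c 1 1 * c 1 1 = 0 := by linear_combination h2'
      exact mul_self_eq_zero.mp this
    have hdet := det2 c
    rw [e1, e2] at hdet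
    simp at hdet
  · exfalso
    obtain ⟨x, hx, hU, hn, he⟩ := h
    have h1 : aa x ≤ q ^ 2 + 1 := by
      rcases torus_card_dvd p τ₁ hinj hx hU with h | h
      · have := Nat.le_of_dvd (by rw [hc]; omega) h
        rw [hc] at this
        omega
      · have := Nat.le_of_dvd (by omega) h
        rw [hc] at this
        exact this
    have h2 := nn_mul_ee_mul_aa x
    rw [hn, he, hG] at h2
    omega
  · exfalso
    obtain ⟨hcard, -⟩ := h
    rw [hZ, hG] at hcard
    omega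
  · obtain ⟨k, qH, g₂, g, hcard, hk2, ⟨-, hall⟩, hP, hT1, hT2, hTin⟩ := h
    obtain ⟨hee, haa⟩ := hall u₁ hu₁Z hu₁U
    rw [aa_tt_one hodd E, hZ] at haa
    have hqH : qH = q := by omega
    subst hqH
    rw [hZ, hG] at hcard
    have hg : g = q * (q ^ 2 - 1) := by omega
    have hkg : k = q - 1 ∧ g₂ = q + 1 := by
      rcases hP with ⟨h1, h2, -⟩ | ⟨h1, h2, h3'⟩ | ⟨h1, -, -, h4⟩
      · exact ⟨by omega, h2⟩
      · exfalso
        have e1 : q ^ 2 - 1 = 4 * k * (k + 1) := by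
          have : q ^ 2 = 4 * k * (k + 1) + 1 := by rw [← h1]; ring
          omega
        have e2 : g₂ = k + 1 := by omega
        rw [hg, e1, e2] at h3'
        have hpos : 0 < q * k * (k + 1) := by positivity
        have : q * (4 * k * (k + 1)) = 4 * (q * k * (k + 1)) := by ring
        omega
      · exfalso
        rw [hg, h1] at h4
        norm_num at h4
    obtain ⟨hk, hg₂⟩ := hkg
    constructor
    · intro y hy hUy
      obtain ⟨t, ht, he, ha⟩ := hTin y hy hUy
      rw [hZ] at ha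
      simp only [List.mem_cons, List.mem_nil_iff, or_false] at ht
      rcases ht with rfl | rfl
      · exact ⟨he, Or.inl (by rw [ha, hk])⟩
      · exact ⟨he, Or.inr (by rw [ha, hg₂])⟩
    · intro y hy hUy
      obtain ⟨he, ha⟩ := hall y hy hUy
      rw [hZ] at ha
      exact ⟨by rw [he, hk], ha⟩

end

end Cfsg.Agent.Lib.Helper14.Pg
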