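import Mathlib
import Cfsg.Agent.Lib.Helper14.PgData

set_option autoImplicit false
set_option linter.style.haveILetI false
set_option linter.unusedSimpArgs false

/-!
# Maximal subgroups of `PGL₂(q)`: the reducible and dihedral cases
-/

namespace Cfsg.Agent.Lib.Helper14.Pg

open Cfsg.Agent.Lib.Helper2.SL2 Cfsg.Agent.Lib.Helper2.Dk Cfsg.Agent.Lib.Helper14.Dk
  Cfsg.Agent.Lib.Helper14.Mx

section

variable {K : Type*} [Field K] [Fintype K]

local notation "SL2" => Matrix.SpecialLinearGroup (Fin 2) K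
local notation "PSL2" => Matrix.ProjectiveSpecialLinearGroup (Fin 2) K

omit [Fintype K] in
theorem RelMax.not_le_SLE {E : Subfield K} {X : Subgroup SL2} (hX : RelMax E X)
    (hne : PG E ≠ SLE E) : ¬ X ≤ SLE E := by
  intro h
  rcases hX.max (SLE E) h (SLE_le_PG E) with h1 | h1
  · exact hX.not_le (le_of_eq h1)
  · exact hne h1.symm

/-- a relatively maximal subgroup of reducible or dihedral type is the normalizer of a
centralizer -/
theorem rel_basic (p : ℕ) [Fact p.Prime] [CharP K p] (hodd : Odd (Fintype.card K))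
    (E : Subfield K) (hc : Fintype.card K = Nat.card E ^ 2) (h3 : 3 ≤ Nat.card E)
    (X : Subgroup SL2) (hX : RelMax E X)
    (h : ZZ X.subtype = ⊤ ∨ IsCyc (ZZ X.subtype) (UU X.subtype) ∨
      IsBor (ZZ X.subtype) (UU X.subtype) ∨ IsDih (ZZ X.subtype) (UU X.subtype)) :
    ∃ x : ↥(PG E), x ∉ ZZ (PG E).subtype ∧
      X = (Subgroup.normalizer (M x : Set ↥(PG E))).map (PG E).subtype := by
  classical
  have h2 : (2 : K) ≠ 0 := two_ne_zero_of_odd hodd
  have hne := PG_ne_SLE h2 E hc
  set τ₁ : ↥(PG E) →* SL2 := (PG E).subtype with hτ₁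
  have hinj : Function.Injective τ₁ := (PG E).subtype_injective
  have hτ : Function.Injective X.subtype := X.subtype_injective
  have D := data_of_rep p X.subtype hτ
  have D₁ := data_of_rep p τ₁ hinj
  obtain ⟨hsemi, huni⟩ := PG_invariants p hodd E hc h3
  have hG := card_PG p hodd E hc
  set q := Nat.card E with hq
  have hs9 : 9 ≤ q ^ 2 := by
    have := Nat.pow_le_pow_left h3 2
    omega
  have hg3 : 3 * (q ^ 2 - 1) ≤ q * (q ^ 2 - 1) := Nat.mul_le_mul_right _ h3
  have hq2 : q ^ 2 = q * q := pow_two q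
  -- the normalizers are proper
  have hNne : ∀ x : ↥(PG E), x ∉ ZZ τ₁ → Subgroup.normalizer (M x : Set ↥(PG E)) ≠ ⊤ := by
    intro x hx htop
    have h1 := card_normalizer_M x
    rw [htop, Subgroup.card_top, hG] at h1
    by_cases hU : UU τ₁ x
    · obtain ⟨hee, haa⟩ := huni x hx hU
      rw [hee, haa] at h1
      have e1 : (q - 1) * (2 * q) = 2 * (q * (q - 1)) := by ring
      rw [e1] at h1
      have e2 : q * (q - 1) = q * (q ^ 2 - 1) := by omega
      have e3 : q - 1 = q ^ 2 - 1 := Nat.eq_of_mul_eq_mul_left (by omega) e2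
      have : q < q * q := by nlinarith
      omega
    · obtain ⟨hee, haa⟩ := hsemi x hx hU
      rw [hee] at h1
      have hle : aa x ≤ 2 * (q + 1) := by rcases haa with h | h <;> omega
      have e4 : 3 * q ≤ q ^ 2 := by nlinarith
      omega
  -- the key containment
  have key : ∀ x : ↥X, x ∉ ZZ X.subtype →
      Subgroup.normalizer (M x : Set ↥X) = ⊤ →
      ∃ x₁ : ↥(PG E), x₁ ∉ ZZ τ₁ ∧
        X = (Subgroup.normalizer (M x₁ : Set ↥(PG E))).map τ₁ := by
    intro x hxZ hN
    set x₁ : ↥(PG E) := ⟨x, hX.le x.2⟩ with hx₁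
    have hx₁Z : x₁ ∉ ZZ τ₁ := by
      intro h
      apply hxZ
      rw [mem_ZZ] at h ⊢
      exact h
    refine ⟨x₁, hx₁Z, ?_⟩
    have hle : X ≤ (Subgroup.normalizer (M x₁ : Set ↥(PG E))).map τ₁ := by
      intro y hy
      rw [Subgroup.mem_map]
      refine ⟨⟨y, hX.le hy⟩, ?_, rfl⟩
      have h1 : (⟨y, hy⟩ : ↥X) ∈ Subgroup.normalizer (M x : Set ↥X) := by
        rw [hN]; exact Subgroup.mem_top _
      rw [D.toCT.mem_normalizer_M hxZ] at h1
      rw [D₁.toCT.mem_normalizer_M hx₁Z]
      apply Subtype.ext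
      have h2' := congrArg Subtype.val h1
      exact h2'
    have hle2 : (Subgroup.normalizer (M x₁ : Set ↥(PG E))).map τ₁ ≤ PG E := by
      rintro _ ⟨y, -, rfl⟩
      exact y.2
    rcases hX.max _ hle hle2 with h1 | h1
    · exact h1.symm
    · exfalso
      apply hNne x₁ hx₁Z
      rw [eq_top_iff]
      intro y _
      have : (y : SL2) ∈ (Subgroup.normalizer (M x₁ : Set ↥(PG E))).map τ₁ := by
        rw [h1]; exact y.2
      obtain ⟨y', hy', hyy⟩ := this
      have : y' = y := hinj hyy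
      rw [← this]; exact hy'
  rcases h with h | h | h | h
  · exfalso
    apply hX.not_le_SLE hne
    intro y hy
    have : (⟨y, hy⟩ : ↥X) ∈ ZZ X.subtype := by rw [h]; exact Subgroup.mem_top _
    exact center_le_SLE E this
  · exfalso
    obtain ⟨x, hxZ, hU, hM⟩ := h
    have hN : Subgroup.normalizer (M x : Set ↥X) = ⊤ := by
      rw [eq_top_iff, ← hM]; exact Subgroup.le_normalizer
    obtain ⟨x₁', -, -⟩ := key x hxZ hN
    -- redo with the explicit element
    set x₁ : ↥(PG E) := ⟨x, hX.le x.2⟩ with hx₁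
    have hx₁Z : x₁ ∉ ZZ τ₁ := by
      intro h
      apply hxZ
      rw [mem_ZZ] at h ⊢
      exact h
    have hU₁ : ¬ UU τ₁ x₁ := hU
    obtain ⟨hee, -⟩ := hsemi x₁ hx₁Z hU₁
    obtain ⟨s, hs, hsT⟩ := D₁.exists_not_mem_tor hee
    have hle : X ≤ (Subgroup.normalizer (M x₁ : Set ↥(PG E))).map τ₁ := by
      intro y hy
      rw [Subgroup.mem_map]
      refine ⟨⟨y, hX.le hy⟩, ?_, rfl⟩
      apply Subgroup.le_normalizer
      have : (⟨y, hy⟩ : ↥X) ∈ M x := by rw [hM]; exact Subgroup.mem_top _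
      rw [mem_M] at this ⊢
      apply Subtype.ext
      have h2' := congrArg Subtype.val this
      exact h2'
    have hle2 : (Subgroup.normalizer (M x₁ : Set ↥(PG E))).map τ₁ ≤ PG E := by
      rintro _ ⟨y, -, rfl⟩
      exact y.2
    rcases hX.max _ hle hle2 with h1 | h1
    · have hsX : (s : SL2) ∈ X := by rw [← h1]; exact ⟨s, hs, rfl⟩
      apply hsT
      have : (⟨s, hsX⟩ : ↥X) ∈ M x := by rw [hM]; exact Subgroup.mem_top _
      rw [mem_M] at this ⊢
      apply Subtype.ext
      have h2' := congrArg Subtype.val this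
      exact h2'
    · apply hNne x₁ hx₁Z
      rw [eq_top_iff]
      intro y _
      have : (y : SL2) ∈ (Subgroup.normalizer (M x₁ : Set ↥(PG E))).map τ₁ := by
        rw [h1]; exact y.2
      obtain ⟨y', hy', hyy⟩ := this
      have : y' = y := hinj hyy
      rw [← this]; exact hy'
  · obtain ⟨x, hxZ, hU, hN⟩ := h
    exact key x hxZ hN
  · obtain ⟨x, hxZ, hU, hn, he⟩ := h
    exact key x hxZ (Subgroup.index_eq_one.mp hn)

/-- the structure of the normalizers -/
theorem rel_basic_concl (p : ℕ) [Fact p.Prime] [CharP K p] (hodd : Odd (Fintype.card K))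
    (E : Subfield K) (hc : Fintype.card K = Nat.card E ^ 2) (h3 : 3 ≤ Nat.card E)
    (X : Subgroup SL2) (x : ↥(PG E)) (hx : x ∉ ZZ (PG E).subtype)
    (hXN : X = (Subgroup.normalizer (M x : Set ↥(PG E))).map (PG E).subtype) :
    (UU (PG E).subtype x ∧ Nat.card X = 2 * (Nat.card E * (Nat.card E - 1))) ∨
    (¬ UU (PG E).subtype x ∧ aa x = 2 * (Nat.card E - 1) ∧
      Nonempty (↥(X.map (QuotientGroup.mk' (Subgroup.center SL2))) ≃*
        DihedralGroup (Nat.card E - 1))) ∨
    (¬ UU (PG E).subtype x ∧ aa x = 2 * (Nat.card E + 1) ∧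
      Nonempty (↥(X.map (QuotientGroup.mk' (Subgroup.center SL2))) ≃*
        DihedralGroup (Nat.card E + 1))) := by
  classical
  set τ₁ : ↥(PG E) →* SL2 := (PG E).subtype with hτ₁
  have hinj : Function.Injective τ₁ := (PG E).subtype_injective
  have D₁ := data_of_rep p τ₁ hinj
  obtain ⟨hsemi, huni⟩ := PG_invariants p hodd E hc h3
  by_cases hU : UU τ₁ x
  · left
    obtain ⟨hee, haa⟩ := huni x hx hU
    refine ⟨hU, ?_⟩
    rw [hXN, Subgroup.card_map_of_injective hinj, card_normalizer_M x, hee, haa]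
    ring
  · right
    obtain ⟨hee, haa⟩ := hsemi x hx hU
    have hcyc := torus_isCyclic τ₁ hinj hU
    obtain ⟨⟨g, hgM⟩, hg⟩ := IsCyclic.exists_generator (α := ↥(M x))
    have hT : M x = Subgroup.zpowers g := by
      ext y
      constructor
      · intro hy
        obtain ⟨k, hk⟩ := hg ⟨y, hy⟩
        refine ⟨k, ?_⟩
        have := congrArg Subtype.val hk
        simpa using this
      · rintro ⟨k, rfl⟩
        exact (M x).zpow_mem hgM k
    have hgZ : g ∉ ZZ τ₁ := by
      intro hgz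
      apply hx
      have hxm : x ∈ Subgroup.zpowers g := by rw [← hT]; exact self_mem_M x
      obtain ⟨k, hk⟩ := hxm
      rw [← hk]
      exact Subgroup.zpow_mem _ hgz k
    obtain ⟨s, hs, hsT⟩ := D₁.exists_not_mem_tor hee
    have hs2 := D₁.tor_sq hx hee hs hsT
    have hinv := D₁.tor_inv hx hU hs hsT hgM hgZ
    set T' : Subgroup SL2 := (M x).map τ₁ with hT'
    have hZT : Subgroup.center SL2 ≤ T' := by
      intro z hz
      have hzP : z ∈ PG E := le_trans (center_le_SLE E) (SLE_le_PG E) hz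
      refine ⟨⟨z, hzP⟩, ?_, rfl⟩
      show (⟨z, hzP⟩ : ↥(PG E)) ∈ M x
      rw [mem_M]
      apply Subtype.ext
      show (x : SL2) * z = z * (x : SL2)
      exact Subgroup.mem_center_iff.mp hz (x : SL2)
    have hT'z : T' = Subgroup.zpowers (g : SL2) := by
      rw [hT', hT, MonoidHom.map_zpowers]
      rfl
    have hsN : (s : SL2) ∈ X := by
      rw [hXN]; exact ⟨s, hs, rfl⟩
    have hTN : T' ≤ X := by
      rw [hXN]; exact Subgroup.map_mono Subgroup.le_normalizer
    have hs' : (s : SL2) ∉ T' := by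
      rintro ⟨y, hy, hys⟩
      have : y = s := hinj hys
      rw [this] at hy
      exact hsT hy
    have hs2' : (s : SL2) * (s : SL2) ∈ Subgroup.center SL2 := hs2
    have hinv' : (s : SL2) * (g : SL2) * (s : SL2)⁻¹ =
        (g : SL2)⁻¹ := by
      have := congrArg Subtype.val hinv
      exact this
    have hcos : ∀ n ∈ X, n ∉ T' → (s : SL2)⁻¹ * n ∈ T' := by
      intro n hn hnT
      rw [hXN] at hn
      obtain ⟨n₁, hn₁, rfl⟩ := hn
      have hn₁T : n₁ ∉ M x := fun h => hnT ⟨n₁, h, rfl⟩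
      have := D₁.tor_coset hee hs hsT hn₁ hn₁T
      exact ⟨s⁻¹ * n₁, this, rfl⟩
    have key := dihedral_quotient (Subgroup.center SL2) X T' hZT _ _ hT'z hsN hTN hs' hs2' hinv'
      hcos
    have hcT : Nat.card T' = aa x := by
      rw [hT', Subgroup.card_map_of_injective hinj]; rfl
    rw [hcT, card_center_of_odd hodd] at key
    rcases haa with h | h
    · left
      refine ⟨hU, h, ?_⟩
      rw [h, Nat.mul_div_cancel_left _ (by norm_num : 0 < 2)] at key
      exact key
    · right
      refine ⟨hU, h, ?_⟩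
      rw [h, Nat.mul_div_cancel_left _ (by norm_num : 0 < 2)] at key
      exact key

end

end Cfsg.Agent.Lib.Helper14.Pg
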