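import Mathlib
import Cfsg.Agent.Lib.Helper14.PgBasic

set_option autoImplicit false
set_option linter.style.haveILetI false

/-!
# Maximal subgroups of `PGL₂(q)`: exclusion of the alternating types
-/

namespace Cfsg.Agent.Lib.Helper14.Pg

open Cfsg.Agent.Lib.Helper2.SL2 Cfsg.Agent.Lib.Helper2.Dk Cfsg.Agent.Lib.Helper14.Dk
  Cfsg.Agent.Lib.Helper14.Mx

/-- a subgroup of an alternating group containing all squares is everything -/
theorem alt_eq_top_of_sq {n : ℕ} (S : Subgroup (alternatingGroup (Fin n)))
    (h : ∀ a : alternatingGroup (Fin n), a * a ∈ S) : S = ⊤ := by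
  have h3 : ∀ c : Equiv.Perm (Fin n), c.IsThreeCycle →
      c ∈ S.map (alternatingGroup (Fin n)).subtype := by
    intro c hc
    have hcA : c ∈ alternatingGroup (Fin n) := hc.mem_alternatingGroup
    have hc3 : c ^ 3 = 1 := by rw [← hc.orderOf]; exact pow_orderOf_eq_one c
    set a : alternatingGroup (Fin n) := ⟨c, hcA⟩ with ha
    have ha3 : a ^ 3 = 1 := Subtype.ext hc3
    have e : a = (a * a) * (a * a) := by
      have : (a * a) * (a * a) = a ^ 3 * a := by
        rw [pow_succ, pow_two]; simp only [mul_assoc]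
      rw [this, ha3, one_mul]
    refine ⟨a, ?_, rfl⟩
    show a ∈ S
    rw [e]
    exact h (a * a)
  have hle : alternatingGroup (Fin n) ≤ S.map (alternatingGroup (Fin n)).subtype := by
    have h4 : Subgroup.closure {σ : Equiv.Perm (Fin n) | σ.IsThreeCycle} ≤
        S.map (alternatingGroup (Fin n)).subtype := by
      rw [Subgroup.closure_le]
      exact h3
    rwa [Equiv.Perm.closure_three_cycles_eq_alternating] at h4
  rw [eq_top_iff]
  intro a _
  obtain ⟨b, hb, hba⟩ := hle a.2
  have : b = a := Subtype.ext hba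
  rw [← this]; exact hb

section

variable {K : Type*} [Field K]

local notation "SL2" => Matrix.SpecialLinearGroup (Fin 2) K
local notation "PSL2" => Matrix.ProjectiveSpecialLinearGroup (Fin 2) K

/-- a relatively maximal subgroup is not of alternating type -/
theorem alt_not_relMax {E : Subfield K} {X : Subgroup SL2} (hX : RelMax E X)
    (hne : PG E ≠ SLE E) {n : ℕ}
    (e : ↥(X.map (QuotientGroup.mk' (Subgroup.center SL2))) ≃* alternatingGroup (Fin n)) :
    False := by
  set π := QuotientGroup.mk' (Subgroup.center SL2) with hπ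
  set H : Subgroup ↥(X.map π) := ((SLE E).map π).comap (X.map π).subtype with hH
  have hsq : ∀ y : ↥(X.map π), y * y ∈ H := by
    rintro ⟨_, x, hx, rfl⟩
    show π x * π x ∈ (SLE E).map π
    rw [← map_mul]
    exact ⟨x * x, sq_mem_SLE (hX.le hx), rfl⟩
  have hS : H.map e.toMonoidHom = ⊤ := by
    apply alt_eq_top_of_sq
    intro a
    refine ⟨e.symm a * e.symm a, hsq _, ?_⟩
    simp
  have hHtop : H = ⊤ := by
    rw [eq_top_iff]
    intro y _
    have : e y ∈ H.map e.toMonoidHom := by rw [hS]; exact Subgroup.mem_top _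
    obtain ⟨y', hy', hyy⟩ := this
    have : y' = y := e.injective hyy
    rw [← this]; exact hy'
  apply hX.not_le_SLE hne
  intro x hx
  have h1 : (⟨π x, x, hx, rfl⟩ : ↥(X.map π)) ∈ H := by rw [hHtop]; exact Subgroup.mem_top _
  obtain ⟨y, hy, hyx⟩ : π x ∈ (SLE E).map π := h1
  have h2 : y⁻¹ * x ∈ Subgroup.center SL2 := by
    rw [← QuotientGroup.ker_mk' (Subgroup.center SL2), MonoidHom.mem_ker, map_mul, map_inv,
      ← hπ, hyx, inv_mul_cancel]
  have : x = y * (y⁻¹ * x) := by group
  rw [this]
  exact (SLE E).mul_mem hy (center_le_SLE E h2)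

end

end Cfsg.Agent.Lib.Helper14.Pg
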