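import Mathlib

set_option autoImplicit false
set_option linter.style.haveILetI false

/-!
# Arithmetic used for the intersection of a maximal subgroup of `PGL₂(q)` with `PSL₂(q)`
-/

namespace Cfsg.Agent.Lib.Helper14.Pg.Ar

theorem sq_sub_one_pos {x : ℕ} (hx : 2 ≤ x) : 0 < x ^ 2 - 1 := by
  have : 4 ≤ x ^ 2 := by nlinarith
  omega

theorem cube_le_pow {x r : ℕ} (hx : 1 ≤ x) (hr : 3 ≤ r) : x ^ 3 ≤ x ^ r :=
  Nat.pow_le_pow_right hx hr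

theorem three_le_of_prime_odd {r : ℕ} (hr : r.Prime) (ho : Odd r) : 3 ≤ r := by
  have h2 := hr.two_le
  rcases ho with ⟨k, rfl⟩
  omega

/-- `x (x² - 1) < x³` -/
theorem psl_lt_cube {x : ℕ} (hx : 1 ≤ x) : x * (x ^ 2 - 1) < x ^ 3 := by
  have h1 : 1 ≤ x ^ 2 := Nat.one_le_pow _ _ hx
  have : x * (x ^ 2 - 1) = x ^ 3 - x := by
    zify [h1, Nat.le_self_pow (by norm_num : 3 ≠ 0) x]
    ring
  rw [this]
  have : x ≤ x ^ 3 := Nat.le_self_pow (by norm_num) x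
  omega

/-- a proper subfield group is small -/
theorem sub_small {q x r : ℕ} (hx : 1 ≤ x) (hr : 3 ≤ r) (hq : q = x ^ r) :
    x * (x ^ 2 - 1) < q := by
  rw [hq]
  exact lt_of_lt_of_le (psl_lt_cube hx) (cube_le_pow hx hr)

theorem v1_h2 (q n h : ℕ) (hq : 5 ≤ q) (hn : 2 * n = q * (q - 1)) (hh : h = q - 1)
    (hle : n ≤ h) : False := by
  obtain ⟨t, rfl⟩ : ∃ t, q = t + 1 := ⟨q - 1, by omega⟩
  simp only [Nat.add_sub_cancel] at hn hh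
  nlinarith

theorem v1_h3 (q n h : ℕ) (hq : 5 ≤ q) (hn : 2 * n = q * (q - 1)) (hh : h = q + 1)
    (hle : n ≤ h) : False := by
  obtain ⟨t, rfl⟩ : ∃ t, q = t + 1 := ⟨q - 1, by omega⟩
  simp only [Nat.add_sub_cancel] at hn hh
  nlinarith

theorem v1_h4 (q₁ n h : ℕ) (hq₁ : 3 ≤ q₁) (hn : 2 * n = q₁ ^ 2 * (q₁ ^ 2 - 1))
    (hh : h = q₁ * (q₁ ^ 2 - 1)) (hdvd : n ∣ h) : False := by
  have hc : 0 < q₁ * (q₁ ^ 2 - 1) := Nat.mul_pos (by omega) (sq_sub_one_pos (by omega))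
  have h1 : 2 * n ∣ 2 * h := Nat.mul_dvd_mul_left 2 hdvd
  rw [hn, hh] at h1
  have h2 : q₁ * (q₁ * (q₁ ^ 2 - 1)) ∣ 2 * (q₁ * (q₁ ^ 2 - 1)) := by
    have e : q₁ * (q₁ * (q₁ ^ 2 - 1)) = q₁ ^ 2 * (q₁ ^ 2 - 1) := by ring
    rw [e]; exact h1
  have h3 := Nat.dvd_of_mul_dvd_mul_right hc h2
  have := Nat.le_of_dvd (by norm_num) h3
  omega

theorem v1_h5 (q q₂ r₂ n h : ℕ) (hq : 5 ≤ q) (hq₂ : 1 ≤ q₂) (hr₂ : 3 ≤ r₂) (hqq : q = q₂ ^ r₂)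
    (hn : 2 * n = q * (q - 1)) (hh : 2 * h = q₂ * (q₂ ^ 2 - 1)) (hle : n ≤ h) : False := by
  have h1 := sub_small hq₂ hr₂ hqq
  obtain ⟨t, rfl⟩ : ∃ t, q = t + 1 := ⟨q - 1, by omega⟩
  simp only [Nat.add_sub_cancel] at hn
  nlinarith

theorem v1_h6 (q n : ℕ) (hq : 19 ≤ q) (hn : 2 * n = q * (q - 1)) (hle : n ≤ 60) : False := by
  obtain ⟨t, rfl⟩ : ∃ t, q = t + 1 := ⟨q - 1, by omega⟩
  simp only [Nat.add_sub_cancel] at hn
  nlinarith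

theorem v1_h7 (q n : ℕ) (hq : 5 ≤ q) (hn : 2 * n = q * (q - 1)) (hdvd : n ∣ 12) : False := by
  have hle : n ≤ 12 := Nat.le_of_dvd (by norm_num) hdvd
  have hq5 : q ≤ 5 := by
    by_contra hlt
    push Not at hlt
    obtain ⟨t, rfl⟩ : ∃ t, q = t + 1 := ⟨q - 1, by omega⟩
    simp only [Nat.add_sub_cancel] at hn
    nlinarith
  have : q = 5 := by omega
  subst this
  have : n = 10 := by omega
  subst this
  omega

theorem v1_h8 (q n : ℕ) (hq : 9 ≤ q) (hn : 2 * n = q * (q - 1)) (hle : n ≤ 24) : False := by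
  obtain ⟨t, rfl⟩ : ∃ t, q = t + 1 := ⟨q - 1, by omega⟩
  simp only [Nat.add_sub_cancel] at hn
  nlinarith

theorem v2_h1 (q n h : ℕ) (hq : 5 ≤ q) (hodd : q % 2 = 1) (hn : n = q - 1)
    (hh : 2 * h = q * (q - 1)) (hdvd : n ∣ h) : False := by
  obtain ⟨c, rfl⟩ := hdvd
  have hn0 : 0 < n := by omega
  have : n * (2 * c) = n * q := by
    have : 2 * (n * c) = n * (2 * c) := by ring
    rw [← this, hh, hn]; ring
  have := Nat.eq_of_mul_eq_mul_left hn0 this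
  omega

theorem v2_h3 (q n h : ℕ) (hq : 5 ≤ q) (hn : n = q - 1) (hh : h = q + 1) (hdvd : n ∣ h) :
    False := by
  have h1 : n ∣ h - n := Nat.dvd_sub hdvd (dvd_refl n)
  have : h - n = 2 := by omega
  rw [this] at h1
  have := Nat.le_of_dvd (by norm_num) h1
  omega

theorem v2_h5 (q q₂ r₂ n h : ℕ) (hq : 5 ≤ q) (hq₂ : 1 ≤ q₂) (hr₂ : 3 ≤ r₂) (hqq : q = q₂ ^ r₂)
    (hn : n = q - 1) (hh : 2 * h = q₂ * (q₂ ^ 2 - 1)) (hle : n ≤ h) : False := by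
  have h1 := sub_small hq₂ hr₂ hqq
  omega

theorem v3_h1 (q n h : ℕ) (hq : 5 ≤ q) (hn : n = q + 1) (hh : 2 * h = q * (q - 1))
    (hdvd : n ∣ h) : False := by
  have h1 : n ∣ 2 * h := Dvd.dvd.mul_left hdvd 2
  have e : q * (q - 1) = (q + 1) * (q - 2) + 2 := by
    obtain ⟨t, rfl⟩ : ∃ t, q = t + 2 := ⟨q - 2, by omega⟩
    have e1 : t + 2 - 1 = t + 1 := by omega
    have e2 : t + 2 - 2 = t := by omega
    rw [e1, e2]; ring
  rw [hh, e, hn] at h1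
  have h2 : (q + 1) ∣ 2 := (Nat.dvd_add_right (Dvd.intro _ rfl)).mp h1
  have := Nat.le_of_dvd (by norm_num) h2
  omega

theorem v3_h4 (q₁ n h : ℕ) (hq₁ : 2 ≤ q₁) (hn : n = q₁ ^ 2 + 1) (hh : h = q₁ * (q₁ ^ 2 - 1))
    (hdvd : n ∣ h) : False := by
  have h1 : 1 ≤ q₁ ^ 2 := Nat.one_le_pow _ _ (by omega)
  have e : q₁ * (q₁ ^ 2 + 1) = q₁ * (q₁ ^ 2 - 1) + 2 * q₁ := by
    zify [h1]; ring
  have h2 : n ∣ q₁ * (q₁ ^ 2 + 1) := by rw [hn]; exact Dvd.intro_left _ rfl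
  rw [e, ← hh] at h2
  have h3 : n ∣ 2 * q₁ := (Nat.dvd_add_right hdvd).mp h2
  have h4 := Nat.le_of_dvd (by omega) h3
  rw [hn] at h4
  nlinarith

theorem v3_h5 (q q₂ r₂ n h : ℕ) (hq₂ : 1 ≤ q₂) (hr₂ : 3 ≤ r₂) (hqq : q = q₂ ^ r₂)
    (hn : n = q + 1) (hh : 2 * h = q₂ * (q₂ ^ 2 - 1)) (hle : n ≤ h) : False := by
  have h1 := sub_small hq₂ hr₂ hqq
  omega

theorem v4_h1 (q h : ℕ) (h8 : q % 8 = 3 ∨ q % 8 = 5) (hh : 2 * h = q * (q - 1))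
    (hdvd : 12 ∣ h) : False := by
  obtain ⟨c, rfl⟩ := hdvd
  rcases h8 with h | h
  · obtain ⟨a, rfl⟩ : ∃ a, q = 8 * a + 3 := ⟨q / 8, by omega⟩
    have e1 : 8 * a + 3 - 1 = 8 * a + 2 := by omega
    rw [e1] at hh
    have : (8 * a + 3) * (8 * a + 2) = 8 * (8 * (a * a) + 5 * a) + 6 := by ring
    rw [this] at hh
    omega
  · obtain ⟨a, rfl⟩ : ∃ a, q = 8 * a + 5 := ⟨q / 8, by omega⟩
    have e1 : 8 * a + 5 - 1 = 8 * a + 4 := by omega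
    rw [e1] at hh
    have : (8 * a + 5) * (8 * a + 4) = 8 * (8 * (a * a) + 9 * a + 2) + 4 := by ring
    rw [this] at hh
    omega

theorem prime_not_pow {q x r : ℕ} (hq : q.Prime) (hr : 2 ≤ r) (h : q = x ^ r) : False := by
  have := (Nat.Prime.pow_eq_iff hq).mp h.symm
  omega

/-- `q₀ + 1` is coprime to the powers of `q₀` -/
theorem coprime_succ_pow (x r : ℕ) : Nat.Coprime (x + 1) (x ^ r) := by
  apply Nat.Coprime.pow_right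
  rw [Nat.coprime_comm]
  have : Nat.Coprime x (x + 1) := by
    rw [Nat.coprime_self_add_right]
    exact Nat.coprime_one_right x
  exact this

theorem succ_dvd_sq_sub_one (x : ℕ) : (x + 1) ∣ x * (x ^ 2 - 1) := by
  rcases Nat.eq_zero_or_pos x with rfl | hx
  · simp
  have h1 : 1 ≤ x ^ 2 := Nat.one_le_pow _ _ hx
  have : x * (x ^ 2 - 1) = (x + 1) * (x * (x - 1)) := by
    zify [h1, hx]; ring
  rw [this]
  exact Dvd.intro _ rfl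

theorem v5_h1 (q q₀ r n h : ℕ) (hq₀ : 2 ≤ q₀) (hr : Odd r) (hqq : q = q₀ ^ r)
    (hn : 2 * n = q₀ * (q₀ ^ 2 - 1)) (hh : 2 * h = q * (q - 1)) (hdvd : n ∣ h) : False := by
  have h1 : 2 * n ∣ 2 * h := Nat.mul_dvd_mul_left 2 hdvd
  rw [hn, hh] at h1
  have h2 : (q₀ + 1) ∣ q * (q - 1) := dvd_trans (succ_dvd_sq_sub_one q₀) h1
  rw [hqq] at h2
  have h3 : (q₀ + 1) ∣ q₀ ^ r - 1 := (coprime_succ_pow q₀ r).dvd_of_dvd_mul_left h2
  have h4 : (q₀ + 1) ∣ q₀ ^ r + 1 := by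
    have := Odd.nat_add_dvd_pow_add_pow q₀ 1 hr
    rwa [one_pow] at this
  have hpos : 1 ≤ q₀ ^ r := Nat.one_le_pow _ _ (by omega)
  have h5 : (q₀ + 1) ∣ (q₀ ^ r + 1) - (q₀ ^ r - 1) := Nat.dvd_sub h4 h3
  have : (q₀ ^ r + 1) - (q₀ ^ r - 1) = 2 := by omega
  rw [this] at h5
  have := Nat.le_of_dvd (by norm_num) h5
  omega

theorem v5_h2 (q q₀ r n h : ℕ) (hq₀ : 3 ≤ q₀) (hr : r ≠ 0) (hqq : q = q₀ ^ r)
    (hn : 2 * n = q₀ * (q₀ ^ 2 - 1)) (hh : h = q - 1) (hdvd : n ∣ h) : False := by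
  have h1 : 2 * n ∣ 2 * h := Nat.mul_dvd_mul_left 2 hdvd
  rw [hn, hh, hqq] at h1
  have h2 : q₀ ∣ 2 * (q₀ ^ r - 1) := dvd_trans (Dvd.intro _ rfl) h1
  have h3 : q₀ ∣ 2 * q₀ ^ r := Dvd.dvd.mul_left (dvd_pow_self q₀ hr) 2
  have hpos : 1 ≤ q₀ ^ r := Nat.one_le_pow _ _ (by omega)
  have h4 : q₀ ∣ 2 * q₀ ^ r - 2 * (q₀ ^ r - 1) := Nat.dvd_sub h3 h2
  have : 2 * q₀ ^ r - 2 * (q₀ ^ r - 1) = 2 := by omega
  rw [this] at h4
  have := Nat.le_of_dvd (by norm_num) h4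
  omega

theorem v5_h3 (q q₀ r n h : ℕ) (hq₀ : 3 ≤ q₀) (hr : r ≠ 0) (hqq : q = q₀ ^ r)
    (hn : 2 * n = q₀ * (q₀ ^ 2 - 1)) (hh : h = q + 1) (hdvd : n ∣ h) : False := by
  have h1 : 2 * n ∣ 2 * h := Nat.mul_dvd_mul_left 2 hdvd
  rw [hn, hh, hqq] at h1
  have h2 : q₀ ∣ 2 * (q₀ ^ r + 1) := dvd_trans (Dvd.intro _ rfl) h1
  have h3 : q₀ ∣ 2 * q₀ ^ r := Dvd.dvd.mul_left (dvd_pow_self q₀ hr) 2
  have h4 : q₀ ∣ 2 * (q₀ ^ r + 1) - 2 * q₀ ^ r := Nat.dvd_sub h2 h3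
  have : 2 * (q₀ ^ r + 1) - 2 * q₀ ^ r = 2 := by omega
  rw [this] at h4
  have := Nat.le_of_dvd (by norm_num) h4
  omega

theorem three_pow_odd_not_sq (r x : ℕ) (hr : Odd r) (h : 3 ^ r = x ^ 2) : False := by
  obtain ⟨k, rfl⟩ := hr
  have h1 : 3 ^ (2 * k + 1) % 4 = 3 := by
    rw [pow_succ, pow_mul, Nat.mul_mod, Nat.pow_mod]
    norm_num
  rw [h] at h1
  have : x % 4 = 0 ∨ x % 4 = 1 ∨ x % 4 = 2 ∨ x % 4 = 3 := by omega
  rcases this with h | h | h | h <;> rw [pow_two, Nat.mul_mod, h] at h1 <;> omega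

theorem v5_h4 (q q₀ q₁ r n h : ℕ) (hq₀ : 3 ≤ q₀) (hodd : q₀ % 2 = 1) (hr : Odd r)
    (hqq : q = q₀ ^ r)
    (hq1 : q = q₁ ^ 2) (hn : 2 * n = q₀ * (q₀ ^ 2 - 1)) (hh : h = q₁ * (q₁ ^ 2 - 1))
    (hdvd : n ∣ h) : False := by
  have h1 : 2 * n ∣ 2 * h := Nat.mul_dvd_mul_left 2 hdvd
  rw [hn, hh] at h1
  have h2 : (q₀ + 1) ∣ 2 * (q₁ * (q₁ ^ 2 - 1)) := dvd_trans (succ_dvd_sq_sub_one q₀) h1
  have hcop : Nat.Coprime (q₀ + 1) q₁ := by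
    apply Nat.Coprime.coprime_dvd_right _ (coprime_succ_pow q₀ r)
    rw [← hqq, hq1]
    exact Dvd.intro_left _ (by ring : q₁ * q₁ = q₁ ^ 2)
  have h3 : (q₀ + 1) ∣ 2 * (q₁ ^ 2 - 1) := by
    have : 2 * (q₁ * (q₁ ^ 2 - 1)) = q₁ * (2 * (q₁ ^ 2 - 1)) := by ring
    rw [this] at h2
    exact hcop.dvd_of_dvd_mul_left h2
  rw [← hq1, hqq] at h3
  have h4 : (q₀ + 1) ∣ 2 * (q₀ ^ r + 1) := by
    have := Odd.nat_add_dvd_pow_add_pow q₀ 1 hr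
    rw [one_pow] at this
    exact Dvd.dvd.mul_left this 2
  have hpos : 1 ≤ q₀ ^ r := Nat.one_le_pow _ _ (by omega)
  have h5 : (q₀ + 1) ∣ 2 * (q₀ ^ r + 1) - 2 * (q₀ ^ r - 1) := Nat.dvd_sub h4 h3
  have : 2 * (q₀ ^ r + 1) - 2 * (q₀ ^ r - 1) = 4 := by omega
  rw [this] at h5
  have h6 := Nat.le_of_dvd (by norm_num) h5
  have : q₀ = 3 := by omega
  subst this
  exact three_pow_odd_not_sq r q₁ hr (by rw [← hqq, hq1])

/-- comparing two subfield groups -/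
theorem v5_h5 (p a b r r₂ n h : ℕ) (hp : p.Prime) (ha : a ≠ 0) (hr : r.Prime)
    (hr₂ : r₂.Prime) (hq : (p ^ a) ^ r = (p ^ b) ^ r₂)
    (hn : 2 * n = p ^ a * ((p ^ a) ^ 2 - 1)) (hh : 2 * h = p ^ b * ((p ^ b) ^ 2 - 1))
    (hdvd : n ∣ h) : n = h := by
  have h1 : 2 * n ∣ 2 * h := Nat.mul_dvd_mul_left 2 hdvd
  rw [hn, hh] at h1
  have h2 : (p ^ a) ^ 2 - 1 ∣ p ^ b * ((p ^ b) ^ 2 - 1) := dvd_trans (Dvd.intro_left _ rfl) h1
  have hpa : 1 ≤ p ^ (2 * a) := Nat.one_le_pow _ _ hp.pos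
  have hcop : Nat.Coprime ((p ^ a) ^ 2 - 1) (p ^ b) := by
    apply Nat.Coprime.pow_right
    rw [Nat.coprime_comm, Nat.Prime.coprime_iff_not_dvd hp]
    intro hd
    have h3 : p ∣ (p ^ a) ^ 2 := by
      rw [← pow_mul]
      exact dvd_pow_self p (by omega)
    have h4 : p ∣ (p ^ a) ^ 2 - ((p ^ a) ^ 2 - 1) := Nat.dvd_sub h3 hd
    have : (p ^ a) ^ 2 - ((p ^ a) ^ 2 - 1) = 1 := by
      have : 1 ≤ (p ^ a) ^ 2 := Nat.one_le_pow _ _ (Nat.pow_pos hp.pos)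
      omega
    rw [this] at h4
    exact hp.one_lt.ne' (Nat.dvd_one.mp h4)
  have h3 : (p ^ a) ^ 2 - 1 ∣ (p ^ b) ^ 2 - 1 := hcop.dvd_of_dvd_mul_left h2
  rw [← pow_mul, ← pow_mul] at h3
  have h4 := Nat.gcd_eq_left h3
  rw [Nat.pow_sub_one_gcd_pow_sub_one] at h4
  have h5 : p ^ Nat.gcd (a * 2) (b * 2) = p ^ (a * 2) := by
    have e1 : 1 ≤ p ^ Nat.gcd (a * 2) (b * 2) := Nat.one_le_pow _ _ hp.pos
    have e2 : 1 ≤ p ^ (a * 2) := Nat.one_le_pow _ _ hp.pos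
    omega
  have h6 : Nat.gcd (a * 2) (b * 2) = a * 2 := Nat.pow_right_injective hp.two_le h5
  have h7 : a * 2 ∣ b * 2 := by rw [← h6]; exact Nat.gcd_dvd_right _ _
  have h8 : a ∣ b := (Nat.mul_dvd_mul_iff_right (by norm_num : 0 < 2)).mp h7
  obtain ⟨c, rfl⟩ := h8
  rw [← pow_mul, ← pow_mul] at hq
  have h9 : a * r = a * c * r₂ := Nat.pow_right_injective hp.two_le hq
  have h10 : r = c * r₂ := by
    have : a * r = a * (c * r₂) := by rw [h9]; ring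
    exact Nat.eq_of_mul_eq_mul_left (Nat.pos_of_ne_zero ha) this
  have h11 : c = 1 := by
    have hd : c ∣ r := ⟨r₂, h10⟩
    rcases (Nat.dvd_prime hr).mp hd with h | h
    · exact h
    · exfalso
      rw [h] at h10
      have : r * 1 = r * r₂ := by rw [mul_one]; exact h10
      have := Nat.eq_of_mul_eq_mul_left hr.pos this
      exact hr₂.one_lt.ne' this.symm
  rw [h11, mul_one] at hh
  omega

/-- a proper power with odd prime exponent is neither `p` nor `p²` -/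
theorem pow_ne_small (p a r : ℕ) (hp : p.Prime) (hr : r.Prime) (ho : Odd r)
    (h : (p ^ a) ^ r = p ∨ (p ^ a) ^ r = p ^ 2) : False := by
  have h3 := three_le_of_prime_odd hr ho
  rcases h with h | h
  · rw [← pow_mul] at h
    have : a * r = 1 := Nat.pow_right_injective hp.two_le (by
      show p ^ (a * r) = p ^ 1
      rw [h, pow_one])
    have := Nat.eq_one_of_mul_eq_one_left this
    omega
  · rw [← pow_mul] at h
    have : a * r = 2 := Nat.pow_right_injective hp.two_le h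
    have hd : r ∣ 2 := ⟨a, by rw [← this]; ring⟩
    have := Nat.le_of_dvd (by norm_num) hd
    omega

end Cfsg.Agent.Lib.Helper14.Pg.Ar
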