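import Mathlib
import Cfsg.Agent.Lib.Helper14.PgAlt

set_option autoImplicit false
set_option linter.style.haveILetI false

/-!
# Conjugation by matrices with entries in the subfield
-/

namespace Cfsg.Agent.Lib.Helper14.Pg

open Cfsg.Agent.Lib.Helper2.SL2 Cfsg.Agent.Lib.Helper2.Dk Cfsg.Agent.Lib.Helper14.Dk
  Cfsg.Agent.Lib.Helper14.Mx

section

variable {K : Type*} [Field K]

local notation "SL2" => Matrix.SpecialLinearGroup (Fin 2) K
local notation "M2" => Matrix (Fin 2) (Fin 2) K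

/-- all entries lie in the subfield -/
def InE (E : Subfield K) (m : M2) : Prop := ∀ i j, m i j ∈ E

theorem InE.mul {E : Subfield K} {a b : M2} (ha : InE E a) (hb : InE E b) : InE E (a * b) := by
  intro i j
  rw [Matrix.mul_apply, Fin.sum_univ_two]
  exact E.add_mem (E.mul_mem (ha i 0) (hb 0 j)) (E.mul_mem (ha i 1) (hb 1 j))

theorem InE.smul {E : Subfield K} {a : M2} (ha : InE E a) {c : K} (hc : c ∈ E) :
    InE E (c • a) := by
  intro i j
  rw [Matrix.smul_apply, smul_eq_mul]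
  exact E.mul_mem hc (ha i j)

theorem InE.det {E : Subfield K} {a : M2} (ha : InE E a) : a.det ∈ E := by
  rw [Matrix.det_fin_two]
  exact E.sub_mem (E.mul_mem (ha 0 0) (ha 1 1)) (E.mul_mem (ha 0 1) (ha 1 0))

theorem InE.inv {E : Subfield K} {a : M2} (ha : InE E a) : InE E a⁻¹ := by
  rw [Matrix.inv_def, Ring.inverse_eq_inv']
  apply InE.smul _ (E.inv_mem ha.det)
  intro i j
  rw [Matrix.adjugate_fin_two]
  fin_cases i <;> fin_cases j
  · exact ha 1 1
  · exact E.neg_mem (ha 0 1)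
  · exact E.neg_mem (ha 1 0)
  · exact ha 0 0

theorem mem_SLE_iff_InE {E : Subfield K} {g : SL2} : g ∈ SLE E ↔ InE E g.1 := by
  constructor
  · rintro ⟨g00, g01, g10, g11⟩ i j
    fin_cases i <;> fin_cases j
    · exact g00
    · exact g01
    · exact g10
    · exact g11
  · intro h
    exact ⟨h 0 0, h 0 1, h 1 0, h 1 1⟩

theorem mem_PG_iff_InE {E : Subfield K} {g : SL2} :
    g ∈ PG E ↔ ∃ l : K, l ≠ 0 ∧ InE E (l • g.1) := by
  constructor
  · rintro ⟨l, hl, g00, g01, g10, g11⟩
    refine ⟨l, hl, ?_⟩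
    intro i j
    rw [Matrix.smul_apply, smul_eq_mul]
    fin_cases i <;> fin_cases j
    · exact g00
    · exact g01
    · exact g10
    · exact g11
  · rintro ⟨l, hl, h⟩
    have h' : ∀ i j, l * g.1 i j ∈ E := fun i j => by
      have := h i j
      rwa [Matrix.smul_apply, smul_eq_mul] at this
    exact ⟨l, hl, h' 0 0, h' 0 1, h' 1 0, h' 1 1⟩

variable (k : Matrix (Fin 2) (Fin 2) K)
variable (hk : IsUnit k.det)

theorem conjM_symm_val (g : SL2) : ((conjM k hk).symm g).1 = k⁻¹ * g.1 * k := rfl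

theorem conjM_mem_SLE' {E : Subfield K} (hkE : InE E k) {g : SL2} (hg : g ∈ SLE E) :
    conjM k hk g ∈ SLE E := by
  rw [mem_SLE_iff_InE] at hg ⊢
  rw [conjM_val]
  exact (hkE.mul hg).mul hkE.inv

theorem conjM_symm_mem_SLE' {E : Subfield K} (hkE : InE E k) {g : SL2} (hg : g ∈ SLE E) :
    (conjM k hk).symm g ∈ SLE E := by
  rw [mem_SLE_iff_InE] at hg ⊢
  rw [conjM_symm_val]
  exact (hkE.inv.mul hg).mul hkE

theorem conjM_mem_PG' {E : Subfield K} (hkE : InE E k) {g : SL2} (hg : g ∈ PG E) :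
    conjM k hk g ∈ PG E := by
  rw [mem_PG_iff_InE] at hg ⊢
  obtain ⟨l, hl, h⟩ := hg
  refine ⟨l, hl, ?_⟩
  rw [conjM_val]
  have : l • (k * g.1 * k⁻¹) = k * (l • g.1) * k⁻¹ := by
    rw [Matrix.mul_smul, Matrix.smul_mul]
  rw [this]
  exact (hkE.mul h).mul hkE.inv

theorem conjM_symm_mem_PG' {E : Subfield K} (hkE : InE E k) {g : SL2} (hg : g ∈ PG E) :
    (conjM k hk).symm g ∈ PG E := by
  rw [mem_PG_iff_InE] at hg ⊢
  obtain ⟨l, hl, h⟩ := hg
  refine ⟨l, hl, ?_⟩
  rw [conjM_symm_val]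
  have : l • (k⁻¹ * g.1 * k) = k⁻¹ * (l • g.1) * k := by
    rw [Matrix.mul_smul, Matrix.smul_mul]
  rw [this]
  exact (hkE.inv.mul h).mul hkE

theorem map_conjM_SLE {E : Subfield K} (hkE : InE E k) :
    (SLE E).map (conjM k hk).toMonoidHom = SLE E := by
  apply le_antisymm
  · rintro _ ⟨g, hg, rfl⟩
    exact conjM_mem_SLE' k hk hkE hg
  · intro g hg
    exact ⟨(conjM k hk).symm g, conjM_symm_mem_SLE' k hk hkE hg, (conjM k hk).apply_symm_apply g⟩

theorem map_conjM_PG {E : Subfield K} (hkE : InE E k) :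
    (PG E).map (conjM k hk).toMonoidHom = PG E := by
  apply le_antisymm
  · rintro _ ⟨g, hg, rfl⟩
    exact conjM_mem_PG' k hk hkE hg
  · intro g hg
    exact ⟨(conjM k hk).symm g, conjM_symm_mem_PG' k hk hkE hg, (conjM k hk).apply_symm_apply g⟩

/-- relative maximality is invariant under conjugation by matrices over the subfield -/
theorem RelMax.conj {E : Subfield K} {X : Subgroup SL2} (hX : RelMax E X) (hkE : InE E k) :
    RelMax E (X.map (conjM k hk).toMonoidHom) := by
  set θ := conjM k hk with hθ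
  have hinj : Function.Injective θ.toMonoidHom := θ.injective
  have hPG := map_conjM_PG k hk hkE
  have hSLE := map_conjM_SLE k hk hkE
  refine ⟨?_, ?_, ?_, ?_, ?_⟩
  · intro z hz
    refine ⟨θ.symm z, hX.center_le ?_, θ.apply_symm_apply z⟩
    rw [← equiv_mem_center_iff θ, θ.apply_symm_apply]
    exact hz
  · rw [← hPG]; exact Subgroup.map_mono hX.le
  · intro h
    rw [← hPG] at h
    exact hX.ne (Subgroup.map_injective hinj h)
  · intro Y hXY hYP
    have h1 : X ≤ Y.comap θ.toMonoidHom := by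
      rw [← Subgroup.map_le_iff_le_comap]; exact hXY
    have h2 : Y.comap θ.toMonoidHom ≤ PG E := by
      intro g hg
      have : θ g ∈ PG E := hYP hg
      have h3 := conjM_symm_mem_PG' k hk hkE this
      rwa [θ.symm_apply_apply] at h3
    have hY : (Y.comap θ.toMonoidHom).map θ.toMonoidHom = Y :=
      Subgroup.map_comap_eq_self_of_surjective θ.surjective Y
    rcases hX.max _ h1 h2 with h | h
    · left; rw [← hY, h]
    · right; rw [← hY, h, hPG]
  · intro h
    apply hX.not_le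
    intro g hg
    have h1 : θ g ∈ SLE E := conjM_mem_SLE' k hk hkE hg
    obtain ⟨g', hg', hgg⟩ := h h1
    have : g' = g := θ.injective hgg
    rw [← this]; exact hg'

end

end Cfsg.Agent.Lib.Helper14.Pg
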