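import Mathlib
import Cfsg.Agent.Lib.Helper14.PgConj

set_option autoImplicit false
set_option linter.style.haveILetI false
set_option linter.unusedSimpArgs false

/-!
# Normalization of subgroups of `PG E` by matrices over the subfield
-/

namespace Cfsg.Agent.Lib.Helper14.Pg

open Cfsg.Agent.Lib.Helper2.SL2 Cfsg.Agent.Lib.Helper2.Dk Cfsg.Agent.Lib.Helper14.Dk
  Cfsg.Agent.Lib.Helper14.Mx

section

variable {K : Type*} [Field K]

local notation "SL2" => Matrix.SpecialLinearGroup (Fin 2) K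
local notation "M2" => Matrix (Fin 2) (Fin 2) K

/-- an element of `PG E` with trace `2` lies in `SLE E` -/
theorem mem_SLE_of_tr2 (h2 : (2 : K) ≠ 0) {E : Subfield K} {g : SL2} (hg : g ∈ PG E)
    (ht : tr2 g = 2) : g ∈ SLE E := by
  obtain ⟨l, hl, g00, g01, g10, g11⟩ := hg
  have h2E : (2 : K) ∈ E := by
    have : (2 : K) = 1 + 1 := by norm_num
    rw [this]; exact E.add_mem E.one_mem E.one_mem
  have hlE : l ∈ E := by
    have h1 : l * 2 ∈ E := by
      have : l * 2 = l * g 0 0 + l * g 1 1 := by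
        unfold tr2 at ht
        rw [← ht]; ring
      rw [this]; exact E.add_mem g00 g11
    have : l = (l * 2) * (2 : K)⁻¹ := by field_simp
    rw [this]; exact E.mul_mem h1 (E.inv_mem h2E)
  have key : ∀ x, l * x ∈ E → x ∈ E := fun x hx => by
    have : x = l⁻¹ * (l * x) := by field_simp
    rw [this]; exact E.mul_mem (E.inv_mem hlE) hx
  exact ⟨key _ g00, key _ g01, key _ g10, key _ g11⟩

theorem coe_mul' (a b : SL2) : (a * b).1 = a.1 * b.1 := rfl

/-- a unipotent element over `E` is conjugate to `tt 1` over `E` -/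
theorem exists_conj_tt_one {E : Subfield K} (u : SL2) (hu : u ∈ SLE E) (ht : tr2 u = 2)
    (hne : u ≠ 1) : ∃ k₁ : M2, IsUnit k₁.det ∧ InE E k₁ ∧ k₁ * u.1 = (tt (1 : K)).1 * k₁ := by
  obtain ⟨u00, u01, u10, u11⟩ := hu
  have hdet := det2 u
  have ht' : u 0 0 + u 1 1 = 2 := ht
  have hα : (u 0 0 - 1) * (u 0 0 - 1) + u 0 1 * u 1 0 = 0 := by
    have : u 1 1 = 2 - u 0 0 := by linear_combination ht'
    rw [this] at hdet
    linear_combination -hdet
  by_cases hb : u 0 1 = 0
  · by_cases hc' : u 1 0 = 0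
    · exfalso
      apply hne
      rw [hb, zero_mul, add_zero] at hα
      have h00 : u 0 0 = 1 := by
        have := mul_self_eq_zero.mp hα
        linear_combination this
      apply ext2 <;> simp only [one00, one01, one10, one11]
      · exact h00
      · exact hb
      · exact hc'
      · linear_combination ht' - h00
    · refine ⟨!![0, 1; u 1 0, -(u 0 0 - 1)], ?_, ?_, ?_⟩
      · rw [Matrix.det_fin_two_of, isUnit_iff_ne_zero]
        intro h
        apply hc'
        linear_combination -h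
      · intro i j
        fin_cases i <;> fin_cases j
        · exact E.zero_mem
        · exact E.one_mem
        · exact u10
        · exact E.neg_mem (E.sub_mem u00 E.one_mem)
      · ext i j
        fin_cases i <;> fin_cases j <;>
          simp [Matrix.mul_apply, Fin.sum_univ_two, tt]
        · linear_combination ht'
        · ring
        · linear_combination hα + (1 - u 0 0) * ht'
  · refine ⟨!![1, 0; u 0 0 - 1, u 0 1], ?_, ?_, ?_⟩
    · rw [Matrix.det_fin_two_of, isUnit_iff_ne_zero]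
      intro h
      apply hb
      linear_combination h
    · intro i j
      fin_cases i <;> fin_cases j
      · exact E.one_mem
      · exact E.zero_mem
      · exact E.sub_mem u00 E.one_mem
      · exact u01
    · ext i j
      fin_cases i <;> fin_cases j <;>
        simp [Matrix.mul_apply, Fin.sum_univ_two, tt]
      · linear_combination hα
      · linear_combination (u 0 1) * ht'

end

section norm

variable {K : Type*} [Field K] [Fintype K]

local notation "SL2" => Matrix.SpecialLinearGroup (Fin 2) K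
local notation "M2" => Matrix (Fin 2) (Fin 2) K

/-- normalization over the subfield, for a unipotent element -/
theorem exists_normalize_rel_aux (h2 : (2 : K) ≠ 0) (E : Subfield K) (X : Subgroup SL2)
    (hXE : X ≤ PG E) (x₁ : X) (ht : tr2 (x₁ : SL2) = 2) (hne : (x₁ : SL2) ≠ 1)
    (hN : Subgroup.normalizer (M x₁ : Set X) ≠ ⊤) :
    ∃ (k : M2) (hk : IsUnit k.det) (ν₀ : K), InE E k ∧ ν₀ ≠ 0 ∧
      conjM k hk (x₁ : SL2) = tt 1 ∧ ss ν₀ ∈ X.map (conjM k hk).toMonoidHom := by
  have hx₁S : (x₁ : SL2) ∈ SLE E := mem_SLE_of_tr2 h2 (hXE x₁.2) ht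
  obtain ⟨k₁, hk₁, hk₁E, hk₁x⟩ := exists_conj_tt_one (x₁ : SL2) hx₁S ht hne
  set θ₁ := conjM k₁ hk₁ with hθ₁
  have h1 : θ₁ (x₁ : SL2) = tt 1 := Subtype.ext (conjM_eq_of_mul k₁ hk₁ _ _ hk₁x)
  set τ₁ : ↥X →* SL2 := θ₁.toMonoidHom.comp X.subtype with hτ₁
  have hτ₁x : τ₁ x₁ = tt 1 := h1
  have hstd : Std τ₁ x₁ :=
    { inj := θ₁.injective.comp X.subtype_injective
      h10 := by rw [hτ₁x]; rfl
      hd := by rw [hτ₁x]; rfl
      hZ := by
        rw [mem_ZZ, hτ₁x]
        have := tt_ne_pm (F := K) one_ne_zero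
        tauto }
  have hB := hstd.normalizer_eq
  obtain ⟨g, hg⟩ : ∃ g : X, g ∉ BG τ₁ := by
    by_contra hcon
    push Not at hcon
    apply hN
    rw [hB, eq_top_iff]
    intro g _
    exact hcon g
  set w : SL2 := θ₁ (g : SL2) with hw
  have hw10 : w 1 0 ≠ 0 := hg
  set v : SL2 := w * tt 1 * w⁻¹ with hv
  obtain ⟨v00, -, v10, v11⟩ := conj_tt w (1 : K)
  have hvtr : v 0 0 + v 1 1 = 2 := by rw [hv, v00, v11]; ring
  have hvc : v 1 0 ≠ 0 := by
    rw [hv, v10]
    simpa using hw10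
  have hvss := conj_eq_ss hvtr hvc
  have hu : (g : SL2) * (x₁ : SL2) * (g : SL2)⁻¹ ∈ X :=
    X.mul_mem (X.mul_mem g.2 x₁.2) (X.inv_mem g.2)
  have hvθ : v = θ₁ ((g : SL2) * (x₁ : SL2) * (g : SL2)⁻¹) := by
    rw [map_mul, map_mul, map_inv, h1]
  have hvP : v ∈ PG E := by rw [hvθ]; exact conjM_mem_PG' k₁ hk₁ hk₁E (hXE hu)
  have hvS : v ∈ SLE E := mem_SLE_of_tr2 h2 hvP hvtr
  set y : K := (1 - v 0 0) / v 1 0 with hy
  have hyE : y ∈ E := E.div_mem (E.sub_mem E.one_mem hvS.1) hvS.2.2.1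
  set k : M2 := (tt y).1 * k₁ with hkdef
  have hk : IsUnit k.det := by
    rw [hkdef, Matrix.det_mul, (tt y).2, one_mul]; exact hk₁
  have hkE : InE E k := (mem_SLE_iff_InE.mp (tt_mem_SLE.mpr hyE)).mul hk₁E
  refine ⟨k, hk, v 1 0, hkE, hvc, ?_, ?_⟩
  · apply Subtype.ext
    apply conjM_eq_of_mul
    rw [hkdef, Matrix.mul_assoc, hk₁x, ← Matrix.mul_assoc, ← Matrix.mul_assoc, ← coe_mul',
      ← coe_mul', ← tt_add, ← tt_add, add_comm]
  · refine ⟨(g : SL2) * (x₁ : SL2) * (g : SL2)⁻¹, hu, ?_⟩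
    apply Subtype.ext
    apply conjM_eq_of_mul
    have e1 : k₁ * ((g : SL2) * (x₁ : SL2) * (g : SL2)⁻¹).1 = v.1 * k₁ := by
      rw [hvθ, hθ₁, conjM_val, Matrix.mul_assoc, Matrix.nonsing_inv_mul _ hk₁, Matrix.mul_one]
    have e2' : tt y * v = ss (v 1 0) * tt y := by
      rw [← hvss]; group
    have e2 : (tt y).1 * v.1 = (ss (v 1 0)).1 * (tt y).1 := by
      rw [← coe_mul', ← coe_mul', e2']
    rw [hkdef, Matrix.mul_assoc, e1, ← Matrix.mul_assoc, e2, Matrix.mul_assoc]

/-- normalization over the subfield -/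
theorem exists_normalize_rel (h2 : (2 : K) ≠ 0) (E : Subfield K) (X : Subgroup SL2)
    (hXE : X ≤ PG E) (hZX : Subgroup.center SL2 ≤ X) {x : X} (hx : x ∉ ZZ X.subtype)
    (hU : UU X.subtype x) (hN : Subgroup.normalizer (M x : Set X) ≠ ⊤) :
    ∃ (k : M2) (hk : IsUnit k.det) (x₁ : X) (ν₀ : K), InE E k ∧ ν₀ ≠ 0 ∧
      conjM k hk (x₁ : SL2) = tt 1 ∧ M x₁ = M x ∧ ss ν₀ ∈ X.map (conjM k hk).toMonoidHom := by
  have hxne := ne_of_not_mem_ZZ hx
  have hU' : tr2 (x : SL2) ^ 2 = 4 := hU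
  have hsq : (tr2 (x : SL2) - 2) * (tr2 (x : SL2) + 2) = 0 := by linear_combination hU'
  rcases mul_eq_zero.mp hsq with h | h
  · have ht : tr2 (x : SL2) = 2 := by linear_combination h
    obtain ⟨k, hk, ν₀, hkE, hν₀, h1, h2'⟩ :=
      exists_normalize_rel_aux h2 E X hXE x ht hxne.1 hN
    exact ⟨k, hk, x, ν₀, hkE, hν₀, h1, rfl, h2'⟩
  · set z : X := ⟨-1, hZX neg_one_mem_center⟩ with hz
    have hzc : ∀ g : X, z * g = g * z := by
      intro g
      apply Subtype.ext
      have hcen := Subgroup.mem_center_iff.mp (neg_one_mem_center (F := K))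
      exact (hcen (g : SL2)).symm
    have hM : M (z * x) = M x := M_central_mul z x hzc
    have e1 : ((z * x : X) : SL2) = -(x : SL2) := by
      show (-1 : SL2) * (x : SL2) = -(x : SL2)
      rw [← Cfsg.Agent.Lib.Helper14.Dk.neg_eq_neg_one_mul]
    have ht : tr2 ((z * x : X) : SL2) = 2 := by
      rw [e1, tr2_neg]; linear_combination -h
    have hne : ((z * x : X) : SL2) ≠ 1 := by
      rw [e1]
      intro h1
      apply hxne.2
      show (x : SL2) = -1
      have h3 : (x : SL2) = -(-(x : SL2)) := (neg_neg _).symm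
      rw [h3, h1]
    have hN' : Subgroup.normalizer (M (z * x) : Set X) ≠ ⊤ := by rw [hM]; exact hN
    obtain ⟨k, hk, ν₀, hkE, hν₀, h1, h2'⟩ :=
      exists_normalize_rel_aux h2 E X hXE (z * x) ht hne hN'
    exact ⟨k, hk, z * x, ν₀, hkE, hν₀, h1, hM, h2'⟩

end norm

end Cfsg.Agent.Lib.Helper14.Pg
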