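import Mathlib
import Cfsg.Agent.Lib.Helper14.PgNorm

set_option autoImplicit false
set_option linter.style.haveILetI false
set_option linter.unusedSimpArgs false

/-!
# Maximal subgroups of `PGL₂(q)`: the subfield case
-/

namespace Cfsg.Agent.Lib.Helper14.Pg

open Cfsg.Agent.Lib.Helper2.SL2 Cfsg.Agent.Lib.Helper2.Dk Cfsg.Agent.Lib.Helper14.Dk
  Cfsg.Agent.Lib.Helper14.Mx

section

variable {F : Type*} [Field F] [Fintype F]

local notation "SL2" => Matrix.SpecialLinearGroup (Fin 2) F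
local notation "PSL2" => Matrix.ProjectiveSpecialLinearGroup (Fin 2) F

/-- the structure of the subgroups of subfield type -/
theorem psl_struct_rel (p : ℕ) [Fact p.Prime] [CharP F p] (h2 : (2 : F) ≠ 0) (E₀ : Subfield F)
    (X : Subgroup SL2) (hXE : X ≤ PG E₀)
    (hZX : Subgroup.center SL2 ≤ X) (h : Cfsg.Agent.Lib.Helper14.Dk.IsPSL (ZZ X.subtype) (UU X.subtype)) :
    Nonempty (↥(X.map (QuotientGroup.mk' (Subgroup.center SL2))) ≃* alternatingGroup (Fin 5)) ∨
    ∃ (k : Matrix (Fin 2) (Fin 2) F) (hk : IsUnit k.det) (E : Subfield F), InE E₀ k ∧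
      SLE E ≤ X.map (conjM k hk).toMonoidHom ∧ X.map (conjM k hk).toMonoidHom ≤ PG E := by
  classical
  have hpp : p.Prime := Fact.out
  have hτ : Function.Injective X.subtype := X.subtype_injective
  have D := data_of_rep p X.subtype hτ
  obtain ⟨k, q₀, g₂, g, hcard, hk2, hUni, hP, hT1, hT2, hTin⟩ := h
  have hZpos : 0 < Nat.card (ZZ X.subtype) := Nat.card_pos
  obtain ⟨e₀⟩ := map_mk_equiv X
  -- the exceptional case
  by_cases hex : q₀ = 3 ∧ k = 2 ∧ g₂ = 5 ∧ g = 60
  · left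
    obtain ⟨-, -, h5, h60⟩ := hex
    obtain ⟨y, hy, hUy, hee, haa⟩ := hT2
    rw [h5] at haa
    rw [h60] at hcard
    have hnn : nn y ≠ 1 := by
      intro h1
      have := nn_mul_ee_mul_aa y
      rw [h1, hee, haa, hcard] at this
      have : Nat.card (ZZ X.subtype) * 10 = Nat.card (ZZ X.subtype) * 60 := by
        rw [← this]; ring
      omega
    obtain ⟨e⟩ := iso_A5 (ZZ X.subtype) hcard y (D.toCT.Z_le_M y) haa hnn
    exact ⟨e₀.trans e⟩
  right
  -- the number of Sylow subgroups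
  obtain ⟨⟨x, hx, hU⟩, hall⟩ := hUni
  obtain ⟨hee, haa⟩ := hall x hx hU
  have hq₀pos : 0 < q₀ := by
    rcases Nat.eq_zero_or_pos q₀ with h | h
    · rw [h, mul_zero] at haa
      have := aa_pos x
      omega
    · exact h
  have hnn : nn x = q₀ + 1 := by
    have h1 := nn_mul_ee_mul_aa x
    rw [hee, haa, hcard] at h1
    have h2 : nn x * k * q₀ = g := by
      have : Nat.card (ZZ X.subtype) * (nn x * k * q₀) = Nat.card (ZZ X.subtype) * g := by
        rw [← h1]; ring
      exact Nat.eq_of_mul_eq_mul_left hZpos this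
    have hkpos : 0 < k := by omega
    rcases hP with ⟨h1, h2', h3⟩ | ⟨h1, h2', h3⟩ | ⟨h1, h2', h3, h4⟩
    · rw [h3, h2'] at h2
      have : (k * q₀) * nn x = (k * q₀) * (q₀ + 1) := by
        have e1 : (k * q₀) * nn x = nn x * k * q₀ := by ring
        rw [e1, h2]; ring
      exact Nat.eq_of_mul_eq_mul_left (Nat.mul_pos hkpos hq₀pos) this
    · rw [h3] at h2
      have : (k * q₀) * nn x = (k * q₀) * (q₀ + 1) := by
        have e1 : (k * q₀) * nn x = nn x * k * q₀ := by ring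
        rw [e1, h2, ← h2']; ring
      exact Nat.eq_of_mul_eq_mul_left (Nat.mul_pos hkpos hq₀pos) this
    · exact absurd ⟨h1, h2', h3, h4⟩ hex
  have hN : Subgroup.normalizer (M x : Set X) ≠ ⊤ := by
    intro htop
    have : nn x = 1 := by unfold nn; rw [htop, Subgroup.index_top]
    omega
  -- normalization
  obtain ⟨k₀, hk₀, x₁, ν₀, hk₀E, hν₀, hθx₁, hM, hss⟩ :=
    exists_normalize_rel h2 E₀ X hXE hZX hx hU hN
  set θ := conjM k₀ hk₀ with hθ
  set L := X.map θ.toMonoidHom with hL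
  have hL1 : tt 1 ∈ L := ⟨x₁, x₁.2, hθx₁⟩
  have hZL : Subgroup.center SL2 ≤ L := by
    intro z hz
    refine ⟨θ.symm z, hZX ?_, by simp⟩
    rw [← equiv_mem_center_iff θ]
    simpa using hz
  obtain ⟨e, he⟩ : ∃ e : ↥X ≃* ↥L, ∀ y : X, ((e y : L) : SL2) = θ (y : SL2) :=
    ⟨θ.subgroupMap X, fun y => rfl⟩
  have hex₁ : e x₁ = (⟨tt 1, hL1⟩ : L) := Subtype.ext ((he x₁).trans hθx₁)
  have hZc : Nat.card (ZZ L.subtype) = Nat.card (ZZ X.subtype) := by
    rw [card_ZZ_subtype L hZL, card_ZZ_subtype X hZX]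
  have haa' : aa (⟨tt 1, hL1⟩ : L) = Nat.card (ZZ L.subtype) * q₀ := by
    rw [← hex₁, aa_equiv, hZc, ← haa]
    unfold aa; rw [hM]
  have hnn' : nn (⟨tt 1, hL1⟩ : L) = q₀ + 1 := by
    rw [← hex₁, nn_equiv, ← hnn]
    unfold nn; rw [hM]
  have hA := hA_of_count p L hZL hL1 hν₀ hss q₀ haa' hnn'
  obtain ⟨E, hE, hEss⟩ := subfield_of_hA hA hν₀ hss hL1 p
  refine ⟨k₀, hk₀, E, hk₀E, ?_, ?_⟩
  · -- `SLE E ≤ L`
    have hrange : ∀ μ : F, μ ∈ Set.range E.subtype ↔ μ ∈ E := by
      intro μ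
      constructor
      · rintro ⟨a, rfl⟩
        exact a.2
      · intro hμ
        exact ⟨⟨μ, hμ⟩, rfl⟩
    rw [← range_mapSL_eq E.subtype E hrange]
    apply range_mapSL_le
    intro μ
    exact ⟨(hE _).mp μ.2, hEss _ μ.2⟩
  · -- `L ≤ PG E`
    have hrange : ∀ μ : F, μ ∈ Set.range E.subtype ↔ μ ∈ E := by
      intro μ
      constructor
      · rintro ⟨a, rfl⟩
        exact a.2
      · intro hμ
        exact ⟨⟨μ, hμ⟩, rfl⟩
    have hT : ∀ μ : F, tt μ ∈ L ↔ μ ∈ Set.range E.subtype := fun μ => by rw [hrange, hE]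
    have hss' : ∀ μ : E, ss (E.subtype μ) ∈ L := fun μ => hEss _ μ.2
    intro g hg
    obtain ⟨h₀, a, ha, ha2, rfl⟩ := exists_factor E.subtype L hT hss' hA g hg
    apply Subgroup.mul_mem
    · apply SLE_le_PG
      rw [← range_mapSL_eq E.subtype E hrange]
      exact ⟨h₀, rfl⟩
    · exact dd_mem_PG a ha ((hrange _).mp ha2)


omit [Fintype F] in
theorem PG_injective {E₁ E₂ : Subfield F} (h : PG E₁ = PG E₂) : E₁ = E₂ := by
  ext μ
  constructor
  · intro hμ
    apply tt_mem_PG (E := E₂)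
    rw [← h]; exact SLE_le_PG E₁ (tt_mem_SLE.mpr hμ)
  · intro hμ
    apply tt_mem_PG (E := E₁)
    rw [h]; exact SLE_le_PG E₂ (tt_mem_SLE.mpr hμ)

/-- a relatively maximal subgroup inside a smaller subfield group -/
theorem subfield_concl (p : ℕ) [Fact p.Prime] [CharP F p] (hodd : Odd (Fintype.card F))
    (E : Subfield F) (hc : Fintype.card F = Nat.card E ^ 2) (X : Subgroup SL2)
    (hX : RelMax E X) (E' : Subfield F) (hE'E : E' ≤ E) (hE'ne : E' ≠ E) (hXE' : X ≤ PG E') :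
    X = PG E' ∧ ∃ r : ℕ, r.Prime ∧ Odd r ∧ Nat.card E = Nat.card E' ^ r := by
  have h2 : (2 : F) ≠ 0 := two_ne_zero_of_odd hodd
  have hne := PG_ne_SLE h2 E hc
  have hpp : p.Prime := Fact.out
  -- `X = PG E'`
  have hXeq : X = PG E' := by
    rcases hX.max (PG E') hXE' (PG_mono hE'E) with h | h
    · exact h.symm
    · exact absurd (PG_injective h) hE'ne
  refine ⟨hXeq, ?_⟩
  -- the degrees
  obtain ⟨a', m', ha'0, hE'a, hFa', hFm'⟩ := card_subfield p E'
  obtain ⟨a, m, ha0, hEa, hFa, hFm⟩ := card_subfield p E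
  haveI : Fintype E' := Fintype.ofFinite E'
  haveI : Fintype E := Fintype.ofFinite E
  obtain ⟨r, hr⟩ := card_pow_of_ringHom (F := E) (Subfield.inclusion hE'E)
  rw [← Nat.card_eq_fintype_card, ← Nat.card_eq_fintype_card] at hr
  have har : a = a' * r := by
    rw [hE'a, hEa, ← pow_mul] at hr
    exact (Nat.pow_right_injective hpp.two_le hr).symm
  have hm'2r : a' * m' = a' * (2 * r) := by
    have : p ^ (a' * m') = p ^ (a' * (2 * r)) := by
      rw [← hFa', hc, hEa, har, ← pow_mul]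
      congr 1; ring
    exact Nat.pow_right_injective hpp.two_le this
  have hr0 : r ≠ 0 := by
    rintro rfl
    rw [mul_zero] at har
    exact ha0 har
  have hr1 : r ≠ 1 := by
    rintro rfl
    apply hE'ne
    apply le_antisymm hE'E
    intro x hx
    apply mem_of_pow_card
    rw [hE'a]
    have := pow_card_of_mem E hx
    rwa [hEa, har, mul_one] at this
  have hrodd : Odd r := by
    by_contra hev
    rw [Nat.not_odd_iff_even] at hev
    obtain ⟨s, hs⟩ := hev
    apply hX.not_le_SLE hne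
    rw [hXeq]
    rintro g ⟨l, hl, g00, g01, g10, g11⟩
    have hl2 : l ^ 2 ∈ E' := sq_mem_of_witness E' g l g00 g01 g10 g11
    have hlq : l ^ (Nat.card E' ^ 2) = l := pow_card_sq_of_sq_mem h2 E' hl2
    have hlE : l ∈ E := by
      apply mem_of_pow_card
      have : Nat.card E = (Nat.card E' ^ 2) ^ s := by
        rw [← hr, hs, ← pow_mul]; congr 1; ring
      rw [this]
      exact pow_pow_eq' hlq s
    have key : ∀ x, l * x ∈ E' → x ∈ E := fun x hx => by
      have : x = l⁻¹ * (l * x) := by field_simp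
      rw [this]; exact E.mul_mem (E.inv_mem hlE) (hE'E hx)
    exact ⟨key _ g00, key _ g01, key _ g10, key _ g11⟩
  refine ⟨r, ?_, hrodd, hr.symm⟩
  by_contra hnp
  obtain ⟨r₁, hr₁d, hr₁2, hr₁lt⟩ := Nat.exists_dvd_of_not_prime2 (by omega) hnp
  obtain ⟨E'', hE''⟩ := exists_subfield p hFa' (d := a' * r₁)
    (Nat.mul_ne_zero ha'0 (by omega))
    (by rw [hm'2r]; exact Nat.mul_dvd_mul_left a' (Dvd.dvd.mul_left hr₁d 2))
  have h1 : E' ≤ E'' := subfield_le p E' E'' hE'a hE'' (Dvd.intro _ rfl)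
  have h2' : E'' ≤ E := subfield_le p E'' E hE'' hEa (by rw [har]; exact Nat.mul_dvd_mul_left a' hr₁d)
  rcases hX.max (PG E'') (le_trans hXE' (PG_mono h1)) (PG_mono h2') with h | h
  · rw [hXeq] at h
    have := PG_injective h
    rw [this, hE'a] at hE''
    have := Nat.pow_right_injective hpp.two_le hE''
    have : a' * 1 = a' * r₁ := by rw [mul_one]; exact this
    have := Nat.eq_of_mul_eq_mul_left (Nat.pos_of_ne_zero ha'0) this
    omega
  · have := PG_injective h
    rw [this, hEa, har] at hE''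
    have := Nat.pow_right_injective hpp.two_le hE''
    have := Nat.eq_of_mul_eq_mul_left (Nat.pos_of_ne_zero ha'0) this
    omega

end

end Cfsg.Agent.Lib.Helper14.Pg
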