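import Mathlib
import Cfsg.Agent.Lib.Helper14.PgPSL

set_option autoImplicit false
set_option linter.style.haveILetI false
set_option linter.unusedSimpArgs false

/-!
# Maximal subgroups of `PGL₂(q)`: the `S₄` case and the subfield case
-/

namespace Cfsg.Agent.Lib.Helper14.Pg

open Cfsg.Agent.Lib.Helper2.SL2 Cfsg.Agent.Lib.Helper2.Dk Cfsg.Agent.Lib.Helper14.Dk
  Cfsg.Agent.Lib.Helper14.Mx

section descent

variable {K : Type*} [Field K]

local notation "SL2" => Matrix.SpecialLinearGroup (Fin 2) K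
local notation "M2" => Matrix (Fin 2) (Fin 2) K

/-- the matrix over the subfield with the given entries -/
def lower (E : Subfield K) (m : M2) (hm : InE E m) : Matrix (Fin 2) (Fin 2) E :=
  fun i j => ⟨m i j, hm i j⟩

theorem lower_map (E : Subfield K) (m : M2) (hm : InE E m) :
    (lower E m hm).map E.subtype = m := by
  ext i j
  rfl

theorem map_inE (E : Subfield K) (m : Matrix (Fin 2) (Fin 2) E) : InE E (m.map E.subtype) :=
  fun i j => (m i j).2

/-- rigidity over a subfield -/
theorem pair_conj_descend (E : Subfield K) (ν n : K) (hνE : ν ∈ E) (hn : ν * n = 1)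
    (h2 : (2 : K) ≠ 0) (a a' b b' : M2) (haE : InE E a) (ha'E : InE E a') (hbE : InE E b)
    (hb'E : InE E b')
    (hatr : a 0 0 + a 1 1 = 0) (hasq : a * a = ν • (1 : M2))
    (hatr' : a' 0 0 + a' 1 1 = 0) (hasq' : a' * a' = ν • (1 : M2))
    (ht : b.trace = b'.trace) (hs : (a * b).trace = (a' * b').trace) (hd : b.det = b'.det)
    (hΔ : b.trace ^ 2 - n * (a * b).trace ^ 2 - 4 * b.det ≠ 0) :
    ∃ k : M2, IsUnit k.det ∧ InE E k ∧ k * a = a' * k ∧ k * b = b' * k := by
  set φ : E →+* K := E.subtype with hφ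
  have hinj : Function.Injective φ := E.subtype_injective
  have hν0 : ν ≠ 0 := left_ne_zero_of_mul_eq_one hn
  have hnE : n ∈ E := by
    have : n = ν⁻¹ := by field_simp; rw [mul_comm]; exact hn
    rw [this]; exact E.inv_mem hνE
  set νE : E := ⟨ν, hνE⟩ with hνEdef
  set nE : E := ⟨n, hnE⟩ with hnEdef
  have hmapinj : Function.Injective (fun M : Matrix (Fin 2) (Fin 2) E => M.map φ) :=
    Matrix.map_injective hinj
  have hsm : ∀ (c : E) , ((c • (1 : Matrix (Fin 2) (Fin 2) E)).map φ) = (φ c) • (1 : M2) := by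
    intro c
    rw [Matrix.map_smul' _ _ _ (map_mul φ), Matrix.map_one _ (map_zero φ) (map_one φ)]
  have htrace : ∀ m : Matrix (Fin 2) (Fin 2) E, φ m.trace = (m.map φ).trace := by
    intro m
    rw [Matrix.trace_fin_two, Matrix.trace_fin_two, map_add]
    rfl
  have hdet : ∀ m : Matrix (Fin 2) (Fin 2) E, φ m.det = (m.map φ).det := by
    intro m
    rw [Matrix.det_fin_two, Matrix.det_fin_two, map_sub, map_mul, map_mul]
    rfl
  obtain ⟨kE, hkE, hka, hkb⟩ := pair_conj νE nE (Subtype.ext hn) (by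
      intro h
      apply h2
      have := congrArg φ h
      rw [map_ofNat, map_zero] at this
      exact this)
    (lower E a haE) (lower E a' ha'E) (lower E b hbE) (lower E b' hb'E)
    (Subtype.ext hatr)
    (by
      apply hmapinj
      show (lower E a haE * lower E a haE).map φ = (νE • (1 : Matrix (Fin 2) (Fin 2) E)).map φ
      rw [Matrix.map_mul, lower_map, hsm]
      exact hasq)
    (Subtype.ext hatr')
    (by
      apply hmapinj
      show (lower E a' ha'E * lower E a' ha'E).map φ =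
        (νE • (1 : Matrix (Fin 2) (Fin 2) E)).map φ
      rw [Matrix.map_mul, lower_map, hsm]
      exact hasq')
    (by
      apply hinj
      rw [htrace, htrace, lower_map, lower_map]
      exact ht)
    (by
      apply hinj
      rw [htrace, htrace, Matrix.map_mul, Matrix.map_mul, lower_map, lower_map, lower_map,
        lower_map]
      exact hs)
    (by
      apply hinj
      rw [hdet, hdet, lower_map, lower_map]
      exact hd)
    (by
      intro h
      apply hΔ
      have := congrArg φ h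
      rw [map_sub, map_sub, map_mul, map_mul, map_pow, map_pow, htrace, htrace, hdet,
        Matrix.map_mul, lower_map, lower_map, map_zero, map_ofNat] at this
      exact this)
  refine ⟨kE.map φ, ?_, map_inE E kE, ?_, ?_⟩
  · rw [← hdet]
    exact hkE.map φ
  · have := congrArg (fun M : Matrix (Fin 2) (Fin 2) E => M.map φ) hka
    simp only [Matrix.map_mul, lower_map] at this
    exact this
  · have := congrArg (fun M : Matrix (Fin 2) (Fin 2) E => M.map φ) hkb
    simp only [Matrix.map_mul, lower_map] at this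
    exact this

end descent

section rel

variable {K : Type*} [Field K] [Fintype K]

local notation "SL2" => Matrix.SpecialLinearGroup (Fin 2) K
local notation "M2" => Matrix (Fin 2) (Fin 2) K

omit [Fintype K] in
theorem mem_SLE_of_tr2_ne {E : Subfield K} {g : SL2} (hg : g ∈ PG E) (htE : tr2 g ∈ E)
    (ht0 : tr2 g ≠ 0) : g ∈ SLE E := by
  obtain ⟨l, hl, g00, g01, g10, g11⟩ := hg
  have hlE : l ∈ E := by
    have h1 : l * tr2 g ∈ E := by
      have : l * tr2 g = l * g 0 0 + l * g 1 1 := by unfold tr2; ring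
      rw [this]; exact E.add_mem g00 g11
    have : l = (l * tr2 g) * (tr2 g)⁻¹ := by field_simp
    rw [this]; exact E.mul_mem h1 (E.inv_mem htE)
  have key : ∀ x, l * x ∈ E → x ∈ E := fun x hx => by
    have : x = l⁻¹ * (l * x) := by field_simp
    rw [this]; exact E.mul_mem (E.inv_mem hlE) hx
  exact ⟨key _ g00, key _ g01, key _ g10, key _ g11⟩

/-- the core conjugation statement, relative to a subfield -/
theorem conj_core_rel (h2 : (2 : K) ≠ 0) (E P : Subfield K) (hPE : P ≤ E) (a b : SL2)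
    (ha : a * a = -1) (l : K) (hl : l ≠ 0) (haE : InE E (l • a.1)) (hbE : InE E b.1)
    (hν : l ^ 2 ∈ P) (ht : tr2 b ∈ P) (hs : l * tr2 (a * b) ∈ P)
    (hΔ : tr2 b ^ 2 + tr2 (a * b) ^ 2 - 4 ≠ 0) :
    ∃ (k : M2) (_ : IsUnit k.det) (m₁ m₂ : M2), InE E k ∧ InE P m₁ ∧ InE P m₂ ∧
      k * (l • a.1) = m₁ * k ∧ k * b.1 = m₂ * k := by
  haveI : Fintype P := Fintype.ofFinite P
  set ν : K := -l ^ 2 with hνdef
  set n : K := -(l ^ 2)⁻¹ with hndef
  have hl2 : l ^ 2 ≠ 0 := pow_ne_zero 2 hl
  have hn : ν * n = 1 := by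
    rw [hνdef, hndef]; field_simp
  have hν0 : ν ≠ 0 := left_ne_zero_of_mul_eq_one hn
  have hνP : ν ∈ P := P.neg_mem hν
  have hta : tr2 a = 0 := tr2_of_sq a ha
  set t := tr2 b with htdef
  set s := l * tr2 (a * b) with hsdef
  have hK : Fintype.card P % 2 = 1 := by
    rw [← Nat.card_eq_fintype_card]; exact odd_card_subfield h2 P
  obtain ⟨x, z, hxz⟩ := exists_model (K := P) hK ⟨ν, hνP⟩ ⟨t, ht⟩ ⟨s, hs⟩
    (fun h => hν0 (congrArg Subtype.val h))
  have hxz' : (x : K) * (t - x) - (s - ν * z) * z = 1 := by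
    have := congrArg Subtype.val hxz
    simpa using this
  set b₀ : M2 := !![(x : K), s - ν * z; (z : K), t - x] with hb₀
  have hb₀P : InE P b₀ := by
    intro i j
    fin_cases i <;> fin_cases j
    · exact x.2
    · exact P.sub_mem hs (P.mul_mem hνP z.2)
    · exact z.2
    · exact P.sub_mem ht x.2
  have hJP : InE P (Jm ν) := by
    intro i j
    fin_cases i <;> fin_cases j
    · exact P.zero_mem
    · exact hνP
    · exact P.one_mem
    · exact P.zero_mem
  have hatr : (l • a.1) 0 0 + (l • a.1) 1 1 = 0 := by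
    have : (l • a.1) 0 0 + (l • a.1) 1 1 = l * tr2 a := by
      simp [tr2]; ring
    rw [this, hta, mul_zero]
  have hasq : (l • a.1) * (l • a.1) = ν • (1 : M2) := by
    rw [Matrix.smul_mul, Matrix.mul_smul, coe_sq_of_sq a ha, smul_smul, smul_smul, hνdef]
    congr 1
    ring
  have hJtr : Jm ν 0 0 + Jm ν 1 1 = 0 := by simp [Jm]
  have htr1 : b.1.trace = b₀.trace := by
    rw [trace_coe, Matrix.trace_fin_two, hb₀]
    simp [htdef]
  have hab : (l • a.1) * b.1 = l • (a * b).1 := by
    rw [Matrix.smul_mul]; rfl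
  have htr2 : ((l • a.1) * b.1).trace = (Jm ν * b₀).trace := by
    rw [hab, Matrix.trace_smul, trace_coe, trace_Jm_mul, hb₀]
    simp
    rw [← hsdef]
  have hdet : b.1.det = b₀.det := by
    rw [b.2, hb₀, Matrix.det_fin_two_of]
    linear_combination -hxz'
  have hΔ' : b.1.trace ^ 2 - n * ((l • a.1) * b.1).trace ^ 2 - 4 * b.1.det ≠ 0 := by
    rw [hab, Matrix.trace_smul, trace_coe, trace_coe, b.2]
    intro h
    apply hΔ
    have e : n * l ^ 2 = -1 := by rw [hndef]; field_simp
    have : tr2 b ^ 2 - n * (l • tr2 (a * b)) ^ 2 - 4 * 1 = tr2 b ^ 2 + tr2 (a * b) ^ 2 - 4 := by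
      rw [smul_eq_mul]
      linear_combination (-(tr2 (a * b)) ^ 2) * e
    rw [← this]
    exact h
  have hJE : InE E (Jm ν) := fun i j => hPE (hJP i j)
  have hb₀E : InE E b₀ := fun i j => hPE (hb₀P i j)
  obtain ⟨k, hk, hkE, hka, hkb⟩ := pair_conj_descend E ν n (hPE hνP) hn h2 (l • a.1) (Jm ν) b.1 b₀
    haE hJE hbE hb₀E hatr hasq hJtr (Jm_mul_Jm ν) htr1 htr2 hdet hΔ'
  exact ⟨k, hk, Jm ν, b₀, hkE, hJP, hb₀P, hka, hkb⟩

/-- the subfield conclusion -/
def SubConcl (E : Subfield K) (X : Subgroup SL2) : Prop :=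
  ∃ (F₀ : Type) (_ : Field F₀) (_ : Fintype F₀) (r : ℕ), r.Prime ∧ Odd r ∧
    Nat.card E = Fintype.card F₀ ^ r ∧
    Nonempty (↥(X.map (QuotientGroup.mk' (Subgroup.center SL2))) ≃*
      Matrix.ProjGenLinGroup (Fin 2) F₀)

theorem sub_concl (p : ℕ) [Fact p.Prime] [CharP K p] (hodd : Odd (Fintype.card K))
    (E : Subfield K) (hc : Fintype.card K = Nat.card E ^ 2) (X : Subgroup SL2)
    (hX : RelMax E X) (k : M2) (hk : IsUnit k.det) (hkE : InE E k) (E' : Subfield K)
    (hE'E : E' ≤ E) (hE'ne : E' ≠ E) (hXE' : X.map (conjM k hk).toMonoidHom ≤ PG E') :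
    SubConcl E X := by
  have h2 : (2 : K) ≠ 0 := two_ne_zero_of_odd hodd
  have hne := PG_ne_SLE h2 E hc
  have hX' := hX.conj k hk hkE
  obtain ⟨hXeq, r, hr, hrodd, hcard⟩ := subfield_concl p hodd E hc _ hX' E' hE'E hE'ne hXE'
  have hne' : PG E' ≠ SLE E' := by
    intro h
    apply hX'.not_le_SLE hne
    rw [hXeq, h]
    exact SLE_mono hE'E
  obtain ⟨K₀, i1, i2, hK₀, ⟨e₂⟩⟩ := iso_PG p h2 E' hne'
  obtain ⟨e₁⟩ := map_mk_equiv_of_aut X (conjM k hk)
  refine ⟨K₀, i1, i2, r, hr, hrodd, by rw [hK₀]; exact hcard, ⟨e₁.trans ?_⟩⟩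
  exact (MulEquiv.subgroupCongr (by rw [hXeq])).trans e₂

/-- the subfield case -/
theorem case_PSL_rel (p : ℕ) [Fact p.Prime] [CharP K p] (hodd : Odd (Fintype.card K))
    (E : Subfield K) (hc : Fintype.card K = Nat.card E ^ 2) (X : Subgroup SL2)
    (hX : RelMax E X)
    (h : Cfsg.Agent.Lib.Helper14.Dk.IsPSL (ZZ X.subtype) (UU X.subtype)) : SubConcl E X := by
  have h2 : (2 : K) ≠ 0 := two_ne_zero_of_odd hodd
  have hne := PG_ne_SLE h2 E hc
  rcases psl_struct_rel p h2 E X hX.le hX.center_le h with ⟨⟨e⟩⟩ | ⟨k, hk, E', hkE, hle1, hle2⟩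
  · exact (alt_not_relMax hX hne e).elim
  · have hX' := hX.conj k hk hkE
    have hE'E : E' ≤ E := by
      intro μ hμ
      apply tt_mem_PG (E := E)
      apply hX'.le
      apply hle1
      exact tt_mem_SLE.mpr hμ
    have hE'ne : E' ≠ E := by
      intro h
      apply hX'.not_le
      rw [← h]
      exact hle1
    exact sub_concl p hodd E hc X hX k hk hkE E' hE'E hE'ne hle2

/-- the `S₄` case -/
theorem case_S4_rel (p : ℕ) [Fact p.Prime] [CharP K p] (hodd : Odd (Fintype.card K))
    (E : Subfield K) (hc : Fintype.card K = Nat.card E ^ 2) (X : Subgroup SL2)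
    (hX : RelMax E X)
    (e : ↥(X.map (QuotientGroup.mk' (Subgroup.center SL2))) ≃* Equiv.Perm (Fin 4)) :
    ((Nat.card E).Prime ∧ (Nat.card E % 8 = 3 ∨ Nat.card E % 8 = 5)) ∨ SubConcl E X := by
  have h2 : (2 : K) ≠ 0 := two_ne_zero_of_odd hodd
  have hne := PG_ne_SLE h2 E hc
  have hZX := hX.center_le
  obtain ⟨a, b, ha, hb, haa, htb, hts⟩ := lift_traces_four (X := X) (e := e) h2 hZX
    aS_ne aS_sq bS_ne bS_cube abS_four abS_two
  have hXcl := eq_closure_of_gen gen_S4 a b ha hb haa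
  obtain ⟨a, haX⟩ := a
  obtain ⟨b, hbX⟩ := b
  simp only at haa htb hts hXcl
  have hs0 : tr2 (a * b) ≠ 0 := by
    intro h
    rw [h] at hts
    apply h2
    rw [← hts]; ring
  have hΔ : tr2 b ^ 2 + tr2 (a * b) ^ 2 - 4 ≠ 0 := by
    rw [htb, hts]
    intro h
    have : (1 : K) = 0 := by linear_combination -h
    exact one_ne_zero this
  have hm1E : (-1 : K) ∈ E := E.neg_mem E.one_mem
  have hbS : b ∈ SLE E := by
    apply mem_SLE_of_tr2_ne (hX.le hbX)
    · rw [htb]; exact hm1E
    · rw [htb]; exact neg_ne_zero.mpr one_ne_zero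
  have haS : a ∉ SLE E := by
    intro h
    apply hX.not_le_SLE hne
    rw [hXcl, Subgroup.closure_le]
    rintro x (rfl | rfl)
    · exact h
    · exact hbS
  obtain ⟨l₀, hl₀, hl₀a⟩ := mem_PG_iff_InE.mp (hX.le haX)
  have hbE : InE E b.1 := mem_SLE_iff_InE.mp hbS
  have hl₀s : l₀ * tr2 (a * b) ∈ E := by
    have : l₀ * tr2 (a * b) = (l₀ • a.1) 0 0 * b.1 0 0 + (l₀ • a.1) 0 1 * b.1 1 0 +
        ((l₀ • a.1) 1 0 * b.1 0 1 + (l₀ • a.1) 1 1 * b.1 1 1) := by
      unfold tr2
      rw [mul00, mul11]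
      simp only [Matrix.smul_apply, smul_eq_mul]
      ring
    rw [this]
    exact E.add_mem (E.add_mem (E.mul_mem (hl₀a 0 0) (hbE 0 0)) (E.mul_mem (hl₀a 0 1) (hbE 1 0)))
      (E.add_mem (E.mul_mem (hl₀a 1 0) (hbE 0 1)) (E.mul_mem (hl₀a 1 1) (hbE 1 1)))
  set l : K := (tr2 (a * b))⁻¹ with hl
  have hl0 : l ≠ 0 := inv_ne_zero hs0
  have hlaE : InE E (l • a.1) := by
    have : l • a.1 = (l₀ * tr2 (a * b))⁻¹ • (l₀ • a.1) := by
      rw [smul_smul]
      congr 1
      rw [hl]
      field_simp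
    rw [this]
    exact hl₀a.smul (E.inv_mem hl₀s)
  -- the prime field
  obtain ⟨N, -, hN⟩ := FiniteField.card K p
  obtain ⟨P, hP⟩ := exists_subfield p hN (d := 1) one_ne_zero (one_dvd _)
  obtain ⟨a', m', ha'0, hEa, -, -⟩ := card_subfield p E
  have hPE : P ≤ E := subfield_le p P E hP hEa (one_dvd _)
  have h2P : (2 : K) ∈ P := by
    have := natCast_mem P 2
    exact_mod_cast this
  have hl2 : l ^ 2 * 2 = 1 := by
    rw [hl, inv_pow, hts]
    field_simp
  have hl2P : l ^ 2 ∈ P := by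
    have : l ^ 2 = (2 : K)⁻¹ := by
      field_simp
      linear_combination hl2
    rw [this]; exact P.inv_mem h2P
  obtain ⟨k, hk, m₁, m₂, hkE, hm₁, hm₂, h1, h2'⟩ := conj_core_rel h2 E P hPE a b haa l hl0 hlaE hbE
    hl2P (by rw [htb]; exact P.neg_mem P.one_mem)
    (by rw [hl, inv_mul_cancel₀ hs0]; exact P.one_mem) hΔ
  have hka : conjM k hk a ∈ PG P := conjM_mem_PG k hk a m₁ l hl0 h1 P hm₁
  have hkb : conjM k hk b ∈ PG P := SLE_le_PG P (conjM_mem_SLE k hk b m₂ h2' P hm₂)
  have hle : X.map (conjM k hk).toMonoidHom ≤ PG P := by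
    rw [hXcl, MonoidHom.map_closure, Subgroup.closure_le]
    rintro _ ⟨x, hx, rfl⟩
    rcases hx with rfl | rfl
    · exact hka
    · exact hkb
  by_cases hPeq : P = E
  · left
    have hq : Nat.card E = p := by rw [← hPeq, hP, pow_one]
    refine ⟨by rw [hq]; exact Fact.out, ?_⟩
    haveI : Fintype E := Fintype.ofFinite E
    have hns : ¬ IsSquare (2 : E) := by
      rintro ⟨c, hc2⟩
      have hc2' : (c : K) * c = 2 := by
        have h2E : ((2 : E) : K) = 2 := by norm_cast
        have := congrArg Subtype.val hc2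
        rw [h2E] at this
        simpa using this.symm
      have hprod : (l * c - 1) * (l * c + 1) = 0 := by
        linear_combination (l ^ 2) * hc2' + hl2
      have hc0 : (c : K) ≠ 0 := by
        intro h
        rw [h, mul_zero] at hc2'
        exact h2 hc2'.symm
      have hlE : l ∈ E := by
        rcases mul_eq_zero.mp hprod with h | h
        · have : l = (c : K)⁻¹ := by
            field_simp
            linear_combination h
          rw [this]; exact E.inv_mem c.2
        · have : l = -(c : K)⁻¹ := by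
            field_simp
            linear_combination h
          rw [this]; exact E.neg_mem (E.inv_mem c.2)
      apply haS
      rw [mem_SLE_iff_InE]
      have : a.1 = l⁻¹ • (l • a.1) := by
        rw [smul_smul, inv_mul_cancel₀ hl0, one_smul]
      rw [this]
      exact hlaE.smul (E.inv_mem hlE)
    rw [FiniteField.isSquare_two_iff] at hns
    rw [Nat.card_eq_fintype_card]
    omega
  · right
    exact sub_concl p hodd E hc X hX k hk hkE P hPE hPeq hle

end rel

end Cfsg.Agent.Lib.Helper14.Pg
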