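import Mathlib

set_option autoImplicit false
set_option linter.style.haveILetI false

/-!
# A group of order `120` with a simple normal subgroup of order `60` has no maximal subgroup of
order `8`

This uses Burnside's transfer theorem.
-/

namespace Cfsg.Agent.Lib.Helper14.Pg

theorem no_coatom_card_eight {G : Type*} [Group G] [Finite G] (L : Subgroup G) [hLn : L.Normal]
    (hLs : IsSimpleGroup L) (hL : Nat.card L = 60) (hG : Nat.card G = 120)
    (M : Subgroup G) (hM : IsCoatom M) (hcard : Nat.card M = 8) : False := by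
  have hLM : ¬ L ≤ M := fun h => by
    have := Subgroup.card_dvd_of_le h
    rw [hL, hcard] at this
    omega
  have hsup : M ⊔ L = ⊤ := by
    by_contra h
    apply hLM
    have h1 : ¬ M < M ⊔ L := fun hlt => h (hM.2 _ hlt)
    have h2 : M ⊔ L ≤ M := by
      by_contra h3
      exact h1 (lt_of_le_not_ge le_sup_left h3)
    exact le_trans le_sup_right h2
  have hidx : L.index = 2 := by
    have := L.card_mul_index
    rw [hL, hG] at this
    omega
  have hrel : L.relIndex M = 2 := by
    rw [← Subgroup.relIndex_sup_right, hsup, Subgroup.relIndex_top_right, hidx]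
  have hcV1 : Nat.card (L.subgroupOf M) = 4 := by
    have := (L.subgroupOf M).card_mul_index
    rw [hcard] at this
    have h2 : (L.subgroupOf M).index = 2 := hrel
    rw [h2] at this
    omega
  have hcV : Nat.card (M ⊓ L : Subgroup G) = 4 := by
    rw [← hcV1, inf_comm, ← Subgroup.subgroupOf_map_subtype,
      Subgroup.card_map_of_injective M.subtype_injective]
  have hcV' : Nat.card ((M ⊓ L).subgroupOf L) = 4 := by
    rw [← hcV]
    have : ((M ⊓ L).subgroupOf L).map L.subtype = M ⊓ L := by
      rw [Subgroup.subgroupOf_map_subtype]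
      exact inf_eq_left.mpr inf_le_right
    conv_rhs => rw [← this]
    rw [Subgroup.card_map_of_injective L.subtype_injective]
  have hMN : M ≤ Subgroup.normalizer ((M ⊓ L : Subgroup G) : Set G) := by
    intro m hm
    rw [Subgroup.mem_normalizer_iff]
    intro x
    constructor
    · rintro ⟨hx1, hx2⟩
      exact ⟨M.mul_mem (M.mul_mem hm hx1) (M.inv_mem hm), hLn.conj_mem x hx2 m⟩
    · rintro ⟨hx1, hx2⟩
      refine ⟨?_, ?_⟩
      · have := M.mul_mem (M.mul_mem (M.inv_mem hm) hx1) hm
        simpa [mul_assoc] using this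
      · have := hLn.conj_mem _ hx2 m⁻¹
        simpa [mul_assoc] using this
  have hNM : Subgroup.normalizer ((M ⊓ L : Subgroup G) : Set G) = M := by
    rcases hM.le_iff.mp hMN with h | h
    · exfalso
      have hVn : (M ⊓ L).Normal := Subgroup.normalizer_eq_top_iff.mp h
      have hV'n : ((M ⊓ L).subgroupOf L).Normal := inferInstance
      rcases hLs.eq_bot_or_eq_top_of_normal _ hV'n with h1 | h1
      · rw [h1, Subgroup.card_bot] at hcV'
        omega
      · rw [h1, Subgroup.card_top, hL] at hcV'
        omega
    · exact h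
  have hNV' : Subgroup.normalizer (((M ⊓ L).subgroupOf L : Subgroup L) : Set L) =
      (M ⊓ L).subgroupOf L := by
    rw [← Subgroup.subgroupOf_normalizer_eq inf_le_right, hNM, Subgroup.inf_subgroupOf_right]
  haveI : Fact (Nat.Prime 2) := ⟨Nat.prime_two⟩
  have hpg : IsPGroup 2 ((M ⊓ L).subgroupOf L) := IsPGroup.of_card (n := 2) (by rw [hcV']; norm_num)
  have hidxV' : ((M ⊓ L).subgroupOf L).index = 15 := by
    have := ((M ⊓ L).subgroupOf L).card_mul_index
    rw [hcV', hL] at this
    omega
  set P : Sylow 2 L := hpg.toSylow (by rw [hidxV']; norm_num) with hP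
  have hPV : (P : Subgroup L) = (M ⊓ L).subgroupOf L := IsPGroup.toSylow_coe _ _
  have hcomm : ∀ a b : ((M ⊓ L).subgroupOf L), a * b = b * a := by
    have hmc : IsMulCommutative ((M ⊓ L).subgroupOf L) :=
      IsPGroup.isMulCommutative_of_card_eq_prime_sq (p := 2) (by rw [hcV']; norm_num)
    intro a b
    exact mul_comm' a b
  have hNC : Subgroup.normalizer ((P : Subgroup L) : Set L) ≤
      Subgroup.centralizer ((P : Subgroup L) : Set L) := by
    rw [hPV, hNV']
    intro g hg
    rw [Subgroup.mem_centralizer_iff]
    intro h hh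
    have := hcomm ⟨h, hh⟩ ⟨g, hg⟩
    exact congrArg Subtype.val this
  have hcompl := MonoidHom.ker_transferSylow_isComplement' P hNC
  have hNn : (MonoidHom.transferSylow P hNC).ker.Normal := inferInstance
  have hcN := hcompl.card_mul_card
  have hcP : Nat.card (P : Subgroup L) = 4 := by rw [hPV]; exact hcV'
  rw [hcP, hL] at hcN
  rcases hLs.eq_bot_or_eq_top_of_normal _ hNn with h1 | h1
  · rw [h1, Subgroup.card_bot] at hcN
    omega
  · rw [h1, Subgroup.card_top, hL] at hcN
    omega

end Cfsg.Agent.Lib.Helper14.Pg
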