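import Mathlib
import Cfsg.Agent.Lib.Helper14.PgCases
import Cfsg.Agent.Lib.Helper14.PgEight

set_option autoImplicit false
set_option linter.style.haveILetI false
set_option linter.unusedSimpArgs false

/-!
# The maximal subgroups of `PGL₂(q)`, `q` odd, not containing `PSL₂(q)`
-/

namespace Cfsg.Agent.Lib.Helper14.Pg

open Cfsg.Agent.Lib.Helper2.SL2 Cfsg.Agent.Lib.Helper2.Dk Cfsg.Agent.Lib.Helper14.Dk
  Cfsg.Agent.Lib.Helper14.Mx

section

variable {K : Type*} [Field K] [Fintype K]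

local notation "SL2" => Matrix.SpecialLinearGroup (Fin 2) K
local notation "M2" => Matrix (Fin 2) (Fin 2) K

/-- the relatively maximal subgroups of `PG E` -/
theorem rel_main (p : ℕ) [Fact p.Prime] [CharP K p] (hodd : Odd (Fintype.card K))
    (E : Subfield K) (hc : Fintype.card K = Nat.card E ^ 2) (h3 : 3 ≤ Nat.card E)
    (X : Subgroup SL2) (hX : RelMax E X) :
    Nat.card X = 2 * (Nat.card E * (Nat.card E - 1)) ∨
    Nonempty (↥(X.map (QuotientGroup.mk' (Subgroup.center SL2))) ≃*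
      DihedralGroup (Nat.card E - 1)) ∨
    Nonempty (↥(X.map (QuotientGroup.mk' (Subgroup.center SL2))) ≃*
      DihedralGroup (Nat.card E + 1)) ∨
    ((Nat.card E).Prime ∧ (Nat.card E % 8 = 3 ∨ Nat.card E % 8 = 5) ∧
      Nonempty (↥(X.map (QuotientGroup.mk' (Subgroup.center SL2))) ≃* Equiv.Perm (Fin 4))) ∨
    SubConcl E X := by
  have h2 : (2 : K) ≠ 0 := two_ne_zero_of_odd hodd
  have hne := PG_ne_SLE h2 E hc
  have hτ : Function.Injective X.subtype := X.subtype_injective
  have D := data_of_rep p X.subtype hτ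
  have hbasic : (ZZ X.subtype = ⊤ ∨ IsCyc (ZZ X.subtype) (UU X.subtype) ∨
      IsBor (ZZ X.subtype) (UU X.subtype) ∨ IsDih (ZZ X.subtype) (UU X.subtype)) →
      Nat.card X = 2 * (Nat.card E * (Nat.card E - 1)) ∨
      Nonempty (↥(X.map (QuotientGroup.mk' (Subgroup.center SL2))) ≃*
        DihedralGroup (Nat.card E - 1)) ∨
      Nonempty (↥(X.map (QuotientGroup.mk' (Subgroup.center SL2))) ≃*
        DihedralGroup (Nat.card E + 1)) := by
    intro h
    obtain ⟨x, hx, hXN⟩ := rel_basic p hodd E hc h3 X hX h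
    rcases rel_basic_concl p hodd E hc h3 X x hx hXN with ⟨-, h1⟩ | ⟨-, -, h1⟩ | ⟨-, -, h1⟩
    · left; exact h1
    · right; left; exact h1
    · right; right; exact h1
  rcases D.main with h | h | h | h | h | h | h | h
  · rcases hbasic (Or.inl h) with h1 | h1 | h1
    · exact Or.inl h1
    · exact Or.inr (Or.inl h1)
    · exact Or.inr (Or.inr (Or.inl h1))
  · rcases hbasic (Or.inr (Or.inl h)) with h1 | h1 | h1
    · exact Or.inl h1
    · exact Or.inr (Or.inl h1)
    · exact Or.inr (Or.inr (Or.inl h1))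
  · rcases hbasic (Or.inr (Or.inr (Or.inl h))) with h1 | h1 | h1
    · exact Or.inl h1
    · exact Or.inr (Or.inl h1)
    · exact Or.inr (Or.inr (Or.inl h1))
  · rcases hbasic (Or.inr (Or.inr (Or.inr h))) with h1 | h1 | h1
    · exact Or.inl h1
    · exact Or.inr (Or.inl h1)
    · exact Or.inr (Or.inr (Or.inl h1))
  · obtain ⟨e⟩ := type_A4 p X h
    exact (alt_not_relMax hX hne e).elim
  · obtain ⟨e⟩ := type_S4 p X h
    rcases case_S4_rel p hodd E hc X hX e with ⟨h1, h2'⟩ | h1
    · right; right; right; left; exact ⟨h1, h2', ⟨e⟩⟩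
    · right; right; right; right; exact h1
  · obtain ⟨e⟩ := type_A5 p X h
    exact (alt_not_relMax hX hne e).elim
  · right; right; right; right
    exact case_PSL_rel p hodd E hc X hX h

end

section five

variable {F : Type*} [Field F] [Fintype F]

/-- for `q = 5` the normalizer of the split torus of `PGL₂(q)` is not maximal -/
theorem no_dihedral_five (hq : Fintype.card F = 5)
    (M : Subgroup (Matrix.ProjGenLinGroup (Fin 2) F)) (hM : IsCoatom M)
    (e : M ≃* DihedralGroup 4) : False := by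
  have hodd : Odd (Fintype.card F) := by rw [hq]; decide
  set L : Subgroup (Matrix.ProjGenLinGroup (Fin 2) F) := (Matrix.ProjGenLinGroup.mk.comp
    (Matrix.SpecialLinearGroup.toGL (n := Fin 2) (R := F))).range with hLdef
  have hLr : L = (Matrix.ProjectiveSpecialLinearGroup.toPGL (n := Fin 2) (R := F)).range := by
    ext g
    constructor
    · rintro ⟨x, rfl⟩
      exact ⟨QuotientGroup.mk x, rfl⟩
    · rintro ⟨y, rfl⟩
      obtain ⟨x, rfl⟩ := QuotientGroup.mk_surjective y
      exact ⟨x, rfl⟩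
  have eL : Matrix.ProjectiveSpecialLinearGroup (Fin 2) F ≃* ↥L :=
    (MonoidHom.ofInjective Matrix.ProjectiveSpecialLinearGroup.toPGL_injective).trans
      (MulEquiv.subgroupCongr hLr.symm)
  haveI hsimp : IsSimpleGroup (Matrix.ProjectiveSpecialLinearGroup (Fin 2) F) :=
    Matrix.ProjectiveSpecialLinearGroup.rank_two_simple (by
      rw [Nat.card_eq_fintype_card, hq]; norm_num)
  have hLs : IsSimpleGroup ↥L := eL.symm.isSimpleGroup
  have hcL : Nat.card ↥L = 60 := by
    rw [← Nat.card_congr eL.toEquiv]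
    have := two_mul_card_PSL2 (F := F) hodd
    rw [hq] at this
    norm_num at this
    omega
  have hcG : Nat.card (Matrix.ProjGenLinGroup (Fin 2) F) = 120 := by
    rw [Cfsg.Agent.Lib.Helper5.card_PGL_eq_card_SL, Cfsg.Agent.Lib.Helper38.card_SL2, hq]
    norm_num
  haveI : Finite (Matrix.ProjGenLinGroup (Fin 2) F) :=
    Nat.finite_of_card_ne_zero (by rw [hcG]; norm_num)
  have hidx : L.index = 2 := by
    have := L.card_mul_index
    rw [hcL, hcG] at this
    omega
  haveI hLn : L.Normal := Subgroup.normal_of_index_eq_two hidx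
  have hcM : Nat.card M = 8 := by
    rw [Nat.card_congr e.toEquiv, DihedralGroup.nat_card]
  exact no_coatom_card_eight L hLs hcL hcG M hM hcM

/-- the maximal subgroups of `PGL₂(q)`, `q` odd, not containing `PSL₂(q)` -/
theorem pgl_max_types (hodd : Odd (Fintype.card F)) (h3 : 3 < Fintype.card F)
    (M : Subgroup (Matrix.ProjGenLinGroup (Fin 2) F)) (hM : IsCoatom M)
    (hML : ¬ (Matrix.ProjGenLinGroup.mk.comp
      (Matrix.SpecialLinearGroup.toGL (n := Fin 2) (R := F))).range ≤ M) :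
    Nat.card M = Fintype.card F * (Fintype.card F - 1) ∨
    (Fintype.card F ≠ 5 ∧ Nonempty (M ≃* DihedralGroup (Fintype.card F - 1))) ∨
    Nonempty (M ≃* DihedralGroup (Fintype.card F + 1)) ∨
    ((Fintype.card F).Prime ∧ (Fintype.card F % 8 = 3 ∨ Fintype.card F % 8 = 5) ∧
      Nonempty (M ≃* Equiv.Perm (Fin 4))) ∨
    (∃ (F₀ : Type) (_ : Field F₀) (_ : Fintype F₀) (r : ℕ), r.Prime ∧ Odd r ∧
      Fintype.card F = Fintype.card F₀ ^ r ∧
        Nonempty (M ≃* Matrix.ProjGenLinGroup (Fin 2) F₀)) := by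
  obtain ⟨p, hp, hcp⟩ := exists_char_fact F
  haveI := hp
  haveI := hcp
  obtain ⟨K, iK1, iK2, iK3, f, E, hr, hcK, hcE⟩ := exists_quadratic (F := F) p
  haveI := iK3
  have hoddK : Odd (Fintype.card K) := by rw [hcK]; exact hodd.pow
  have h2 : (2 : K) ≠ 0 := two_ne_zero_of_odd hoddK
  have hc : Fintype.card K = Nat.card E ^ 2 := by rw [hcE]; exact hcK
  have hsq := isSquare_of_mem h2 E hc
  obtain ⟨e, he⟩ := exists_iso f E hr hsq
  obtain ⟨X, hX, ⟨eM⟩⟩ := exists_relMax f E hr e he M hM hML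
  have h3' : 3 ≤ Nat.card E := by rw [hcE]; omega
  rcases rel_main p hoddK E hc h3' X hX with h1 | ⟨⟨e1⟩⟩ | ⟨⟨e1⟩⟩ | ⟨h1, h2', ⟨e1⟩⟩ |
    ⟨F₀, i1, i2, r, hr1, hr2, hr3, ⟨e1⟩⟩
  · left
    have hcm := card_map_mk (Subgroup.center (Matrix.SpecialLinearGroup (Fin 2) K)) X hX.center_le
    rw [card_center_of_odd hoddK, h1, hcE] at hcm
    rw [Nat.card_congr eM.toEquiv]
    exact Nat.eq_of_mul_eq_mul_left (by norm_num : 0 < 2) hcm
  · right; left
    rw [hcE] at e1
    refine ⟨?_, ⟨eM.trans e1⟩⟩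
    intro hq5
    have h4 : Fintype.card F - 1 = 4 := by omega
    rw [h4] at e1
    exact no_dihedral_five hq5 M hM (eM.trans e1)
  · right; right; left
    rw [hcE] at e1
    exact ⟨eM.trans e1⟩
  · right; right; right; left
    rw [hcE] at h1 h2'
    exact ⟨h1, h2', ⟨eM.trans e1⟩⟩
  · right; right; right; right
    exact ⟨F₀, i1, i2, r, hr1, hr2, by rw [← hcE]; exact hr3, ⟨eM.trans e1⟩⟩

end five

end Cfsg.Agent.Lib.Helper14.Pg
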