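import Mathlib
import Cfsg.Agent.Lib.Helper14.PgMain

set_option autoImplicit false
set_option linter.style.haveILetI false
set_option linter.unusedSimpArgs false

/-!
# Structural facts on small groups and dihedral groups, used for the intersection of a maximal
subgroup of `PGL₂(q)` with `PSL₂(q)`
-/

namespace Cfsg.Agent.Lib.Helper14.Pg

open Cfsg.Agent.Lib.Helper2.SL2 Cfsg.Agent.Lib.Helper2.Dk Cfsg.Agent.Lib.Helper14.Dk
  Cfsg.Agent.Lib.Helper14.Mx

/-- `A₅` has no subgroup of order `30` -/
theorem no_card_thirty {A : Type*} [Group A] (e : A ≃* alternatingGroup (Fin 5))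
    (W : Subgroup A) (hW : Nat.card W = 30) : False := by
  haveI : Finite A := Finite.of_equiv _ e.symm.toEquiv
  have hA : Nat.card A = 60 := by rw [Nat.card_congr e.toEquiv, card_A5]
  haveI : IsSimpleGroup A := e.isSimpleGroup
  have hidx : W.index = 2 := by
    have := W.card_mul_index
    rw [hW, hA] at this
    omega
  haveI : W.Normal := Subgroup.normal_of_index_eq_two hidx
  rcases IsSimpleGroup.eq_bot_or_eq_top_of_normal W inferInstance with h | h
  · rw [h, Subgroup.card_bot] at hW
    omega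
  · rw [h, Subgroup.card_top, hA] at hW
    omega

/-- `A₄` has no subgroup of order `6` -/
theorem no_card_six {A : Type*} [Group A] (e : A ≃* alternatingGroup (Fin 4))
    (W : Subgroup A) (hW : Nat.card W = 6) : False := by
  haveI : Finite A := Finite.of_equiv _ e.symm.toEquiv
  have hA : Nat.card A = 12 := by rw [Nat.card_congr e.toEquiv, card_A4]
  have hidx : W.index = 2 := by
    have := W.card_mul_index
    rw [hW, hA] at this
    omega
  have hsq : ∀ a : alternatingGroup (Fin 4), a * a ∈ W.map e.toMonoidHom := by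
    intro a
    refine ⟨e.symm a * e.symm a, Subgroup.mul_self_mem_of_index_two hidx _, ?_⟩
    simp
  have htop := alt_eq_top_of_sq _ hsq
  have hc : Nat.card (W.map e.toMonoidHom) = 6 := by
    rw [Subgroup.card_map_of_injective e.injective, hW]
  rw [htop, Subgroup.card_top, card_A4] at hc
  omega

/-- a subgroup of order `12` of a dihedral group has an element of order `6` or `12` -/
theorem dihedral_twelve {A : Type*} [Group A] {k : ℕ} (hk : k ≠ 0) (e : A ≃* DihedralGroup k)
    (W : Subgroup A) (hW : Nat.card W = 12) (hexp : ∀ w ∈ W, w ^ 4 = 1 ∨ w ^ 3 = 1) : False := by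
  haveI : NeZero k := ⟨hk⟩
  set W₁ : Subgroup (DihedralGroup k) := W.map e.toMonoidHom with hW₁
  have hc₁ : Nat.card W₁ = 12 := by
    rw [Subgroup.card_map_of_injective e.injective, hW]
  have hexp₁ : ∀ w ∈ W₁, w ^ 4 = 1 ∨ w ^ 3 = 1 := by
    rintro _ ⟨w, hw, rfl⟩
    rcases hexp w hw with h | h
    · left
      show e w ^ 4 = 1
      rw [← map_pow, h, map_one]
    · right
      show e w ^ 3 = 1
      rw [← map_pow, h, map_one]
  set R : Subgroup (DihedralGroup k) := Subgroup.zpowers (DihedralGroup.r 1) with hR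
  have hcR : Nat.card R = k := by
    rw [hR, Nat.card_zpowers, DihedralGroup.orderOf_r_one]
  have hidx : R.index = 2 := by
    have := R.card_mul_index
    rw [hcR, DihedralGroup.nat_card] at this
    have hk' : 0 < k := Nat.pos_of_ne_zero hk
    have : k * R.index = k * 2 := by rw [this]; ring
    exact Nat.eq_of_mul_eq_mul_left hk' this
  haveI : R.Normal := Subgroup.normal_of_index_eq_two hidx
  have hrel : R.relIndex W₁ ∣ 2 := by
    rw [← hidx]; exact Subgroup.relIndex_dvd_index_of_normal R W₁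
  have hcard : Nat.card (W₁ ⊓ R : Subgroup (DihedralGroup k)) * R.relIndex W₁ = 12 := by
    have h1 := Subgroup.relIndex_mul_relIndex (⊥ : Subgroup (DihedralGroup k)) (W₁ ⊓ R) W₁ bot_le
      inf_le_left
    rw [Subgroup.relIndex_bot_left, Subgroup.relIndex_bot_left, Subgroup.inf_relIndex_left,
      hc₁] at h1
    exact h1
  have hC6 : Nat.card (W₁ ⊓ R : Subgroup (DihedralGroup k)) = 6 ∨
      Nat.card (W₁ ⊓ R : Subgroup (DihedralGroup k)) = 12 := by
    have h2 := Nat.le_of_dvd (by norm_num) hrel
    have h0 : R.relIndex W₁ ≠ 0 := by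
      intro h
      rw [h, mul_zero] at hcard
      omega
    have : R.relIndex W₁ = 1 ∨ R.relIndex W₁ = 2 := by omega
    rcases this with h | h <;> rw [h] at hcard <;> omega
  haveI : IsCyclic (W₁ ⊓ R : Subgroup (DihedralGroup k)) :=
    Subgroup.isCyclic_of_le (inf_le_right : W₁ ⊓ R ≤ R)
  obtain ⟨g, hg⟩ := IsCyclic.exists_generator (α := (W₁ ⊓ R : Subgroup (DihedralGroup k)))
  have hord : orderOf g = Nat.card (W₁ ⊓ R : Subgroup (DihedralGroup k)) :=
    orderOf_eq_card_of_forall_mem_zpowers hg
  have hgW : (g : DihedralGroup k) ∈ W₁ := g.2.1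
  have hord' : orderOf (g : DihedralGroup k) =
      Nat.card (W₁ ⊓ R : Subgroup (DihedralGroup k)) := by
    rw [← hord, Subgroup.orderOf_coe]
  rcases hexp₁ _ hgW with h | h
  · have := orderOf_dvd_of_pow_eq_one h
    rw [hord'] at this
    rcases hC6 with h6 | h6 <;> rw [h6] at this <;> omega
  · have := orderOf_dvd_of_pow_eq_one h
    rw [hord'] at this
    rcases hC6 with h6 | h6 <;> rw [h6] at this <;> omega

/-- an index-two subgroup of a dihedral group contains the square of a generating rotation -/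
theorem exists_order_half {G : Type*} [Group G] (L M : Subgroup G) (hL : L.index = 2) {n : ℕ}
    (hn : n ≠ 0) (e : M ≃* DihedralGroup n) :
    ∃ g ∈ M ⊓ L, orderOf g = n / Nat.gcd n 2 := by
  haveI : NeZero n := ⟨hn⟩
  set ρ : M := e.symm (DihedralGroup.r 1) with hρ
  have hord : orderOf ρ = n := by
    rw [hρ, MulEquiv.orderOf_eq, DihedralGroup.orderOf_r_one]
  refine ⟨((ρ : G)) ^ 2, ⟨M.pow_mem ρ.2 2, Subgroup.sq_mem_of_index_two hL _⟩, ?_⟩
  rw [orderOf_pow' _ two_ne_zero, Subgroup.orderOf_coe, hord]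

/-- the elements of `S₄` have order dividing `4` or `3` -/
theorem perm_four_pow (σ : Equiv.Perm (Fin 4)) : σ ^ 4 = 1 ∨ σ ^ 3 = 1 := by
  revert σ
  decide +kernel

end Cfsg.Agent.Lib.Helper14.Pg

namespace Cfsg.Agent.Lib.Helper14.Pg

open Cfsg.Agent.Lib.Helper2.SL2 Cfsg.Agent.Lib.Helper2.Dk Cfsg.Agent.Lib.Helper14.Dk
  Cfsg.Agent.Lib.Helper14.Mx

section orders

variable {K : Type*} [Field K] [Fintype K]

local notation "SL2" => Matrix.SpecialLinearGroup (Fin 2) K

/-- the orders of the elements of the image of `PG E` in `PSL₂` -/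
theorem PG_pow_cases (p : ℕ) [Fact p.Prime] [CharP K p] (hodd : Odd (Fintype.card K))
    (E : Subfield K) (hc : Fintype.card K = Nat.card E ^ 2) (h3 : 3 ≤ Nat.card E)
    (y : SL2) (hy : y ∈ PG E) :
    (QuotientGroup.mk' (Subgroup.center SL2) y) ^ (Nat.card E - 1) = 1 ∨
    (QuotientGroup.mk' (Subgroup.center SL2) y) ^ (Nat.card E + 1) = 1 ∨
    (QuotientGroup.mk' (Subgroup.center SL2) y) ^ (Nat.card E) = 1 := by
  classical
  set τ₁ : ↥(PG E) →* SL2 := (PG E).subtype with hτ₁
  have hinj : Function.Injective τ₁ := (PG E).subtype_injective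
  obtain ⟨hsemi, huni⟩ := PG_invariants p hodd E hc h3
  set x : ↥(PG E) := ⟨y, hy⟩ with hx
  by_cases hxZ : x ∈ ZZ τ₁
  · have h1 : QuotientGroup.mk' (Subgroup.center SL2) y = 1 := by
      rw [← MonoidHom.mem_ker, QuotientGroup.ker_mk']
      exact hxZ
    left
    rw [h1, one_pow]
  set T' : Subgroup SL2 := (M x).map τ₁ with hT'
  have hZT : Subgroup.center SL2 ≤ T' := by
    intro z hz
    have hzP : z ∈ PG E := le_trans (center_le_SLE E) (SLE_le_PG E) hz
    refine ⟨⟨z, hzP⟩, ?_, rfl⟩
    show (⟨z, hzP⟩ : ↥(PG E)) ∈ M x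
    rw [mem_M]
    apply Subtype.ext
    show (x : SL2) * z = z * (x : SL2)
    exact Subgroup.mem_center_iff.mp hz (x : SL2)
  have hcT : Nat.card T' = aa x := by
    rw [hT', Subgroup.card_map_of_injective hinj]; rfl
  have hcm := card_map_mk (Subgroup.center SL2) T' hZT
  rw [card_center_of_odd hodd, hcT] at hcm
  have hyT : y ∈ T' := ⟨x, self_mem_M x, rfl⟩
  have hmem : QuotientGroup.mk' (Subgroup.center SL2) y ∈
      T'.map (QuotientGroup.mk' (Subgroup.center SL2)) := ⟨y, hyT, rfl⟩
  have hpow : (QuotientGroup.mk' (Subgroup.center SL2) y) ^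
      Nat.card (T'.map (QuotientGroup.mk' (Subgroup.center SL2))) = 1 := by
    have := pow_card_eq_one' (G := ↥(T'.map (QuotientGroup.mk' (Subgroup.center SL2))))
      (x := ⟨_, hmem⟩)
    have h' := congrArg Subtype.val this
    exact h'
  by_cases hU : UU τ₁ x
  · obtain ⟨-, haa⟩ := huni x hxZ hU
    rw [haa] at hcm
    have : Nat.card (T'.map (QuotientGroup.mk' (Subgroup.center SL2))) = Nat.card E := by omega
    right; right
    rw [← this]; exact hpow
  · obtain ⟨-, haa⟩ := hsemi x hxZ hU
    rcases haa with haa | haa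
    · rw [haa] at hcm
      have : Nat.card (T'.map (QuotientGroup.mk' (Subgroup.center SL2))) = Nat.card E - 1 := by
        omega
      left
      rw [← this]; exact hpow
    · rw [haa] at hcm
      have : Nat.card (T'.map (QuotientGroup.mk' (Subgroup.center SL2))) = Nat.card E + 1 := by
        omega
      right; left
      rw [← this]; exact hpow

end orders

section pglorders

variable {F : Type*} [Field F] [Fintype F]

/-- the orders of the elements of `PGL₂(q)`, `q` odd -/
theorem pgl_pow_cases (hodd : Odd (Fintype.card F)) (h3 : 3 ≤ Fintype.card F)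
    (g : Matrix.ProjGenLinGroup (Fin 2) F) :
    g ^ (Fintype.card F - 1) = 1 ∨ g ^ (Fintype.card F + 1) = 1 ∨ g ^ (Fintype.card F) = 1 := by
  obtain ⟨p, hp, hcp⟩ := exists_char_fact F
  haveI := hp
  haveI := hcp
  obtain ⟨K, iK1, iK2, iK3, f, E, hr, hcK, hcE⟩ := exists_quadratic (F := F) p
  haveI := iK3
  have hoddK : Odd (Fintype.card K) := by rw [hcK]; exact hodd.pow
  have h2 : (2 : K) ≠ 0 := two_ne_zero_of_odd hoddK
  have hc : Fintype.card K = Nat.card E ^ 2 := by rw [hcE]; exact hcK
  have hsq := isSquare_of_mem h2 E hc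
  obtain ⟨e, he⟩ := exists_iso f E hr hsq
  have h3' : 3 ≤ Nat.card E := by rw [hcE]; exact h3
  obtain ⟨y, hy, hyg⟩ := (e g).2
  have key := PG_pow_cases p hoddK E hc h3' y hy
  rw [hcE] at key
  have htr : ∀ m : ℕ, (QuotientGroup.mk' (Subgroup.center
      (Matrix.SpecialLinearGroup (Fin 2) K)) y) ^ m = 1 → g ^ m = 1 := by
    intro m hm
    apply e.injective
    rw [map_pow, map_one]
    apply Subtype.ext
    rw [Subgroup.coe_pow, ← hyg]
    exact hm
  rcases key with h | h | h
  · left; exact htr _ h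
  · right; left; exact htr _ h
  · right; right; exact htr _ h

end pglorders

end Cfsg.Agent.Lib.Helper14.Pg
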