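import Mathlib
import Cfsg.Agent.Lib.Helper14.PgStruct
import Cfsg.Agent.Lib.Helper14.PgArith

set_option autoImplicit false
set_option linter.style.haveILetI false
set_option linter.unusedSimpArgs false
set_option linter.unusedVariables false

/-!
# The intersection of a maximal subgroup of `PGL₂(q)` with `PSL₂(q)`: comparing the types
-/

namespace Cfsg.Agent.Lib.Helper14.Pg

open Cfsg.Agent.Lib.Helper2.SL2 Cfsg.Agent.Lib.Helper2.Dk Cfsg.Agent.Lib.Helper14.Dk
  Cfsg.Agent.Lib.Helper14.Mx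

/-- the order of a finite field whose power is a power of `p` -/
theorem card_field_eq_pow (p : ℕ) (hp : p.Prime) {N : ℕ} (F₀ : Type*) [Field F₀] [Fintype F₀]
    {r : ℕ} (hr : r ≠ 0) (h : p ^ N = Fintype.card F₀ ^ r) :
    ∃ a, a ≠ 0 ∧ Fintype.card F₀ = p ^ a := by
  obtain ⟨p₀, hp₀⟩ := CharP.exists F₀
  haveI : Fact p₀.Prime := ⟨CharP.char_is_prime F₀ p₀⟩
  obtain ⟨n, hn1, hn⟩ := FiniteField.card F₀ p₀
  have h1 : p₀ ∣ Fintype.card F₀ ^ r := by
    rw [hn]
    exact dvd_pow (dvd_pow_self p₀ n.ne_zero) hr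
  rw [← h] at h1
  have h2 : p₀ = p := (Nat.prime_dvd_prime_iff_eq hn1 hp).mp (hn1.dvd_of_dvd_pow h1)
  exact ⟨n, n.ne_zero, by rw [hn, h2]⟩

theorem not_twenty_one (p : ℕ) (hp : p.Prime) (h : 21 = p ∨ 21 = p ^ 2) : False := by
  rcases h with h | h
  · rw [← h] at hp
    norm_num at hp
  · have : p ≤ 4 := by nlinarith
    interval_cases p <;> omega

/-- comparing the type of the intersection with the types of the maximal subgroups of `PSL₂(q)` -/
theorem profile_contra {A : Type*} [Group A] [Finite A] (W : Subgroup A) (hW : W ≠ ⊤)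
    (q p : ℕ) (hp : p.Prime) (N : ℕ) (hqp : q = p ^ N)
    (hodd : q % 2 = 1) (h5 : 5 ≤ q) (h7 : q ≠ 7) (h9 : q ≠ 9) (h11 : q ≠ 11)
    (h40 : q.Prime → q % 40 ≠ 11 ∧ q % 40 ≠ 19 ∧ q % 40 ≠ 21 ∧ q % 40 ≠ 29)
    (hV : 2 * Nat.card W = q * (q - 1) ∨
      (q ≠ 5 ∧ Nat.card W = q - 1 ∧ ∃ w ∈ W, orderOf w = (q - 1) / 2) ∨
      Nat.card W = q + 1 ∨
      (q.Prime ∧ (q % 8 = 3 ∨ q % 8 = 5) ∧ Nat.card W = 12 ∧
        ∀ w ∈ W, w ^ 4 = 1 ∨ w ^ 3 = 1) ∨
      (∃ a r, a ≠ 0 ∧ r.Prime ∧ Odd r ∧ q = (p ^ a) ^ r ∧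
        2 * Nat.card W = p ^ a * ((p ^ a) ^ 2 - 1)))
    (hH : 2 * Nat.card A = q * (q - 1) ∨
      (13 ≤ q ∧ (∃ k : ℕ, 2 * k = q - 1 ∧ Nonempty (A ≃* DihedralGroup k))) ∨
      (q ≠ 7 ∧ q ≠ 9 ∧ (∃ k : ℕ, 2 * k = q + 1 ∧ Nonempty (A ≃* DihedralGroup k))) ∨
      (∃ (F₀ : Type) (_ : Field F₀) (_ : Fintype F₀), q = Fintype.card F₀ ^ 2 ∧
          Nonempty (A ≃* Matrix.ProjGenLinGroup (Fin 2) F₀)) ∨
      (∃ (F₀ : Type) (_ : Field F₀) (_ : Fintype F₀) (r : ℕ), r.Prime ∧ Odd r ∧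
          q = Fintype.card F₀ ^ r ∧
          Nonempty (A ≃* Matrix.ProjectiveSpecialLinearGroup (Fin 2) F₀)) ∨
      ((q % 10 = 1 ∨ q % 10 = 9) ∧
          (q = p ∨ (q = p ^ 2 ∧ (p % 10 = 3 ∨ p % 10 = 7))) ∧
          Nonempty (A ≃* alternatingGroup (Fin 5))) ∨
      (q = p ∧ (p % 8 = 3 ∨ p % 8 = 5) ∧ ¬ (p % 10 = 1 ∨ p % 10 = 9) ∧
          Nonempty (A ≃* alternatingGroup (Fin 4))) ∨
      (q = p ∧ (p % 8 = 1 ∨ p % 8 = 7) ∧ Nonempty (A ≃* Equiv.Perm (Fin 4)))) : False := by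
  have hdvd : Nat.card W ∣ Nat.card A := Subgroup.card_subgroup_dvd_card W
  have hne : Nat.card W ≠ Nat.card A := fun h => hW (Subgroup.card_eq_iff_eq_top W |>.mp h)
  have hpos : 0 < Nat.card A := Nat.card_pos
  have hle : Nat.card W ≤ Nat.card A := Nat.le_of_dvd hpos hdvd
  -- the data of the fifth type
  have h5data : ∀ a r, a ≠ 0 → r.Prime → Odd r → q = (p ^ a) ^ r →
      3 ≤ p ^ a ∧ (p ^ a) % 2 = 1 ∧ 3 ≤ r := by
    intro a r ha hr ho hqq
    have h3 := Ar.three_le_of_prime_odd hr ho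
    have h2 : 2 ≤ p ^ a := Nat.one_lt_pow ha hp.one_lt
    have hoddq : Odd ((p ^ a) ^ r) := by rw [← hqq]; exact Nat.odd_iff.mpr hodd
    have := (Nat.odd_pow_iff (by omega : r ≠ 0)).mp hoddq
    have := Nat.odd_iff.mp this
    exact ⟨by omega, this, h3⟩
  rcases hH with hh | ⟨h13, k, hk, ⟨e⟩⟩ | ⟨-, -, k, hk, ⟨e⟩⟩ | ⟨F₁, i1, i2, hq1, ⟨e⟩⟩ |
    ⟨F₂, i1, i2, r₂, hr₂, ho₂, hq2, ⟨e⟩⟩ | ⟨h10, hpp, ⟨e⟩⟩ | ⟨hqp', h8, -, ⟨e⟩⟩ | ⟨hqp', h8, ⟨e⟩⟩
  · -- the Borel subgroups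
    rcases hV with hn | ⟨hq5, hn, -⟩ | hn | ⟨hqpr, h8, hn, -⟩ | ⟨a, r, ha, hr, ho, hqq, hn⟩
    · omega
    · exact Ar.v2_h1 q _ _ h5 hodd hn hh hdvd
    · exact Ar.v3_h1 q _ _ h5 hn hh hdvd
    · exact Ar.v4_h1 q _ h8 hh (by rw [← hn]; exact hdvd)
    · obtain ⟨h3a, -, -⟩ := h5data a r ha hr ho hqq
      exact Ar.v5_h1 q (p ^ a) r _ _ (by omega) ho hqq hn hh hdvd
  · -- dihedral of order `q - 1`
    have hh : Nat.card A = q - 1 := by
      rw [Nat.card_congr e.toEquiv, DihedralGroup.nat_card, hk]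
    have hk0 : k ≠ 0 := by omega
    rcases hV with hn | ⟨hq5, hn, -⟩ | hn | ⟨hqpr, h8, hn, hexp⟩ | ⟨a, r, ha, hr, ho, hqq, hn⟩
    · exact Ar.v1_h2 q _ _ h5 hn hh hle
    · omega
    · omega
    · exact dihedral_twelve hk0 e W hn hexp
    · obtain ⟨h3a, -, h3r⟩ := h5data a r ha hr ho hqq
      exact Ar.v5_h2 q (p ^ a) r _ _ h3a (by omega) hqq hn hh hdvd
  · -- dihedral of order `q + 1`
    have hh : Nat.card A = q + 1 := by
      rw [Nat.card_congr e.toEquiv, DihedralGroup.nat_card, hk]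
    have hk0 : k ≠ 0 := by omega
    rcases hV with hn | ⟨hq5, hn, -⟩ | hn | ⟨hqpr, h8, hn, hexp⟩ | ⟨a, r, ha, hr, ho, hqq, hn⟩
    · exact Ar.v1_h3 q _ _ h5 hn hh hle
    · exact Ar.v2_h3 q _ _ h5 hn hh hdvd
    · omega
    · exact dihedral_twelve hk0 e W hn hexp
    · obtain ⟨h3a, -, h3r⟩ := h5data a r ha hr ho hqq
      exact Ar.v5_h3 q (p ^ a) r _ _ h3a (by omega) hqq hn hh hdvd
  · -- `PGL₂(q₁)`
    have hh : Nat.card A = Fintype.card F₁ * (Fintype.card F₁ ^ 2 - 1) := by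
      rw [Nat.card_congr e.toEquiv, Cfsg.Agent.Lib.Helper5.card_PGL_eq_card_SL,
        Cfsg.Agent.Lib.Helper38.card_SL2]
    have hq₁3 : 3 ≤ Fintype.card F₁ := by
      by_contra hlt
      push Not at hlt
      have : Fintype.card F₁ ^ 2 ≤ 4 := by nlinarith
      omega
    have hq₁odd : Odd (Fintype.card F₁) := by
      have hoddq : Odd (Fintype.card F₁ ^ 2) := by rw [← hq1]; exact Nat.odd_iff.mpr hodd
      exact (Nat.odd_pow_iff two_ne_zero).mp hoddq
    rcases hV with hn | ⟨hq5, hn, w, hw, hord⟩ | hn | ⟨hqpr, h8, hn, hexp⟩ |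
      ⟨a, r, ha, hr, ho, hqq, hn⟩
    · rw [hq1] at hn
      exact Ar.v1_h4 _ _ _ hq₁3 hn hh hdvd
    · -- the orders of the elements
      have hq13 : 13 ≤ q := by omega
      have hord' : orderOf (e w) = (q - 1) / 2 := by rw [MulEquiv.orderOf_eq, hord]
      have hbound : (q - 1) / 2 ≤ Fintype.card F₁ + 1 := by
        rcases pgl_pow_cases hq₁odd hq₁3 (e w) with h | h | h
        · have := orderOf_dvd_of_pow_eq_one h
          rw [hord'] at this
          have := Nat.le_of_dvd (by omega) this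
          omega
        · have := orderOf_dvd_of_pow_eq_one h
          rw [hord'] at this
          exact Nat.le_of_dvd (by omega) this
        · have := orderOf_dvd_of_pow_eq_one h
          rw [hord'] at this
          have := Nat.le_of_dvd (by omega) this
          omega
      have h4 : 4 ≤ Fintype.card F₁ := by
        by_contra hlt
        push Not at hlt
        have : Fintype.card F₁ ^ 2 ≤ 9 := by nlinarith
        omega
      have : Fintype.card F₁ ^ 2 ≤ 2 * Fintype.card F₁ + 4 := by omega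
      nlinarith
    · rw [hq1] at hn
      exact Ar.v3_h4 _ _ _ (by omega) hn hh hdvd
    · exact Ar.prime_not_pow hqpr (le_refl 2) hq1
    · obtain ⟨h3a, hodda, h3r⟩ := h5data a r ha hr ho hqq
      exact Ar.v5_h4 q (p ^ a) (Fintype.card F₁) r _ _ h3a hodda ho hqq hq1 hn hh hdvd
  · -- `PSL₂(q₂)`
    have h3r₂ := Ar.three_le_of_prime_odd hr₂ ho₂
    have hq₂odd : Odd (Fintype.card F₂) := by
      have hoddq : Odd (Fintype.card F₂ ^ r₂) := by rw [← hq2]; exact Nat.odd_iff.mpr hodd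
      exact (Nat.odd_pow_iff (by omega : r₂ ≠ 0)).mp hoddq
    have hh : 2 * Nat.card A = Fintype.card F₂ * (Fintype.card F₂ ^ 2 - 1) := by
      rw [Nat.card_congr e.toEquiv]
      exact two_mul_card_PSL2 hq₂odd
    have hq₂1 : 1 ≤ Fintype.card F₂ := Fintype.card_pos
    rcases hV with hn | ⟨hq5, hn, -⟩ | hn | ⟨hqpr, h8, hn, hexp⟩ | ⟨a, r, ha, hr, ho, hqq, hn⟩
    · exact Ar.v1_h5 q _ r₂ _ _ h5 hq₂1 h3r₂ hq2 hn hh hle
    · exact Ar.v2_h5 q _ r₂ _ _ h5 hq₂1 h3r₂ hq2 hn hh hle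
    · exact Ar.v3_h5 q _ r₂ _ _ hq₂1 h3r₂ hq2 hn hh hle
    · exact Ar.prime_not_pow hqpr (by omega) hq2
    · obtain ⟨b, hb, hFb⟩ := card_field_eq_pow p hp F₂ (by omega : r₂ ≠ 0)
        (show p ^ N = Fintype.card F₂ ^ r₂ by rw [← hqp, hq2])
      rw [hFb] at hh hq2
      exact hne (Ar.v5_h5 p a b r r₂ _ _ hp ha hr hr₂ (by rw [← hqq, hq2]) hn hh hdvd)
  · -- `A₅`
    have hh : Nat.card A = 60 := by rw [Nat.card_congr e.toEquiv, card_A5]
    rw [hh] at hdvd hne hle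
    rcases hV with hn | ⟨hq5, hn, -⟩ | hn | ⟨hqpr, h8, hn, hexp⟩ | ⟨a, r, ha, hr, ho, hqq, hn⟩
    · exact Ar.v1_h6 q _ (by omega) hn hle
    · have hq13 : 13 ≤ q := by omega
      obtain ⟨c, hc⟩ := hdvd
      rw [hn] at hc hne
      have hc5 : c ≤ 5 := by
        by_contra hlt
        push Not at hlt
        have : (q - 1) * 6 ≤ (q - 1) * c := Nat.mul_le_mul_left _ hlt
        omega
      have hc1 : 2 ≤ c := by
        by_contra hlt
        push Not at hlt
        interval_cases c <;> omega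
      interval_cases c
      · have hq31 : q = 31 := by omega
        exact no_card_thirty e W (by rw [hn, hq31])
      · have hq21 : q = 21 := by omega
        rw [hq21] at hpp
        exact not_twenty_one p hp (by
          rcases hpp with h | ⟨h, -⟩
          · left; exact h
          · right; exact h)
      · omega
      · omega
    · obtain ⟨c, hc⟩ := hdvd
      rw [hn] at hc hne
      have hc10 : c ≤ 10 := by
        by_contra hlt
        push Not at hlt
        have : (q + 1) * 11 ≤ (q + 1) * c := Nat.mul_le_mul_left _ hlt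
        omega
      have hc1 : 2 ≤ c := by
        by_contra hlt
        push Not at hlt
        interval_cases c <;> omega
      interval_cases c
      · have hq29 : q = 29 := by omega
        have := h40 (by rw [hq29]; norm_num)
        omega
      · have hq19 : q = 19 := by omega
        have := h40 (by rw [hq19]; norm_num)
        omega
      all_goals omega
    · have := h40 hqpr
      omega
    · refine Ar.pow_ne_small p a r hp hr ho ?_
      rw [← hqq]
      rcases hpp with h | ⟨h, -⟩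
      · left; exact h
      · right; exact h
  · -- `A₄`
    have hh : Nat.card A = 12 := by rw [Nat.card_congr e.toEquiv, card_A4]
    rw [hh] at hdvd hne hle
    rcases hV with hn | ⟨hq5, hn, -⟩ | hn | ⟨hqpr, h8', hn, hexp⟩ | ⟨a, r, ha, hr, ho, hqq, hn⟩
    · exact Ar.v1_h7 q _ h5 hn hdvd
    · omega
    · obtain ⟨c, hc⟩ := hdvd
      rw [hn] at hc hne
      have hc1 : 2 ≤ c := by
        by_contra hlt
        push Not at hlt
        interval_cases c <;> omega
      have hq5' : q = 5 := by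
        have : (q + 1) * 2 ≤ (q + 1) * c := Nat.mul_le_mul_left _ hc1
        omega
      exact no_card_six e W (by rw [hn, hq5'])
    · omega
    · refine Ar.pow_ne_small p a r hp hr ho ?_
      rw [← hqq]
      left; exact hqp'
  · -- `S₄`
    have hh : Nat.card A = 24 := by rw [Nat.card_congr e.toEquiv, card_S4]
    rw [hh] at hdvd hne hle
    rcases hV with hn | ⟨hq5, hn, -⟩ | hn | ⟨hqpr, h8', hn, hexp⟩ | ⟨a, r, ha, hr, ho, hqq, hn⟩
    · exact Ar.v1_h8 q _ (by omega) hn hle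
    · obtain ⟨c, hc⟩ := hdvd
      rw [hn] at hc hne
      have hq13 : 13 ≤ q := by omega
      have hc1 : 2 ≤ c := by
        by_contra hlt
        push Not at hlt
        interval_cases c <;> omega
      have : (q - 1) * 2 ≤ (q - 1) * c := Nat.mul_le_mul_left _ hc1
      omega
    · obtain ⟨c, hc⟩ := hdvd
      rw [hn] at hc hne
      have hc1 : 2 ≤ c := by
        by_contra hlt
        push Not at hlt
        interval_cases c <;> omega
      have : (q + 1) * 2 ≤ (q + 1) * c := Nat.mul_le_mul_left _ hc1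
      omega
    · omega
    · refine Ar.pow_ne_small p a r hp hr ho ?_
      rw [← hqq]
      left; exact hqp'

end Cfsg.Agent.Lib.Helper14.Pg
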