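import Mathlib
import Cfsg.Agent.Lib.Helper14.PgInter

set_option autoImplicit false
set_option linter.style.haveILetI false
set_option linter.unusedSimpArgs false
set_option linter.unusedVariables false

/-!
# The intersection of a maximal subgroup of `PGL₂(q)` with `PSL₂(q)` is maximal
-/

namespace Cfsg.Agent.Lib.Helper14.Pg

open Cfsg.Agent.Lib.Helper2.SL2 Cfsg.Agent.Lib.Helper2.Dk Cfsg.Agent.Lib.Helper14.Dk
  Cfsg.Agent.Lib.Helper14.Mx

section general

variable {G : Type*} [Group G]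

theorem isCoatom_inf_subgroupOf_top (L M : Subgroup G) (hL : L = ⊤) (hM : IsCoatom M) :
    IsCoatom ((M ⊓ L).subgroupOf L) := by
  subst hL
  rw [inf_top_eq]
  have h := (OrderIso.isCoatom_iff (Subgroup.topEquiv (G := G)).comapSubgroup M).mpr hM
  exact h

/-- the intersection of a maximal subgroup with a normal subgroup of index two -/
theorem two_mul_card_inf (L M : Subgroup G) [hLn : L.Normal] (hidx : L.index = 2)
    (hM : IsCoatom M) (hLM : ¬ L ≤ M) : 2 * Nat.card (M ⊓ L : Subgroup G) = Nat.card M := by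
  have hsup : M ⊔ L = ⊤ := by
    by_contra h
    apply hLM
    have h1 : ¬ M < M ⊔ L := fun hlt => h (hM.2 _ hlt)
    have h2 : M ⊔ L ≤ M := by
      by_contra h3
      exact h1 (lt_of_le_not_ge le_sup_left h3)
    exact le_trans le_sup_right h2
  have hrel : L.relIndex M = 2 := by
    rw [← Subgroup.relIndex_sup_right, hsup, Subgroup.relIndex_top_right, hidx]
  have hcV1 : Nat.card (L.subgroupOf M) * 2 = Nat.card M := by
    have := (L.subgroupOf M).card_mul_index
    have h2 : (L.subgroupOf M).index = 2 := hrel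
    rw [h2] at this
    exact this
  have hcV : Nat.card (M ⊓ L : Subgroup G) = Nat.card (L.subgroupOf M) := by
    rw [inf_comm, ← Subgroup.subgroupOf_map_subtype,
      Subgroup.card_map_of_injective M.subtype_injective]
  rw [hcV]
  omega

/-- transporting the types along an isomorphism -/
theorem transport_types {A B : Type*} [Group A] [Group B] (ψ : A ≃* B) (q p : ℕ)
    (hH : 2 * Nat.card B = q * (q - 1) ∨
      (13 ≤ q ∧ (∃ k : ℕ, 2 * k = q - 1 ∧ Nonempty (B ≃* DihedralGroup k))) ∨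
      (q ≠ 7 ∧ q ≠ 9 ∧ (∃ k : ℕ, 2 * k = q + 1 ∧ Nonempty (B ≃* DihedralGroup k))) ∨
      (∃ (F₀ : Type) (_ : Field F₀) (_ : Fintype F₀), q = Fintype.card F₀ ^ 2 ∧
          Nonempty (B ≃* Matrix.ProjGenLinGroup (Fin 2) F₀)) ∨
      (∃ (F₀ : Type) (_ : Field F₀) (_ : Fintype F₀) (r : ℕ), r.Prime ∧ Odd r ∧
          q = Fintype.card F₀ ^ r ∧
          Nonempty (B ≃* Matrix.ProjectiveSpecialLinearGroup (Fin 2) F₀)) ∨
      ((q % 10 = 1 ∨ q % 10 = 9) ∧
          (q = p ∨ (q = p ^ 2 ∧ (p % 10 = 3 ∨ p % 10 = 7))) ∧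
          Nonempty (B ≃* alternatingGroup (Fin 5))) ∨
      (q = p ∧ (p % 8 = 3 ∨ p % 8 = 5) ∧ ¬ (p % 10 = 1 ∨ p % 10 = 9) ∧
          Nonempty (B ≃* alternatingGroup (Fin 4))) ∨
      (q = p ∧ (p % 8 = 1 ∨ p % 8 = 7) ∧ Nonempty (B ≃* Equiv.Perm (Fin 4)))) :
    2 * Nat.card A = q * (q - 1) ∨
      (13 ≤ q ∧ (∃ k : ℕ, 2 * k = q - 1 ∧ Nonempty (A ≃* DihedralGroup k))) ∨
      (q ≠ 7 ∧ q ≠ 9 ∧ (∃ k : ℕ, 2 * k = q + 1 ∧ Nonempty (A ≃* DihedralGroup k))) ∨
      (∃ (F₀ : Type) (_ : Field F₀) (_ : Fintype F₀), q = Fintype.card F₀ ^ 2 ∧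
          Nonempty (A ≃* Matrix.ProjGenLinGroup (Fin 2) F₀)) ∨
      (∃ (F₀ : Type) (_ : Field F₀) (_ : Fintype F₀) (r : ℕ), r.Prime ∧ Odd r ∧
          q = Fintype.card F₀ ^ r ∧
          Nonempty (A ≃* Matrix.ProjectiveSpecialLinearGroup (Fin 2) F₀)) ∨
      ((q % 10 = 1 ∨ q % 10 = 9) ∧
          (q = p ∨ (q = p ^ 2 ∧ (p % 10 = 3 ∨ p % 10 = 7))) ∧
          Nonempty (A ≃* alternatingGroup (Fin 5))) ∨
      (q = p ∧ (p % 8 = 3 ∨ p % 8 = 5) ∧ ¬ (p % 10 = 1 ∨ p % 10 = 9) ∧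
          Nonempty (A ≃* alternatingGroup (Fin 4))) ∨
      (q = p ∧ (p % 8 = 1 ∨ p % 8 = 7) ∧ Nonempty (A ≃* Equiv.Perm (Fin 4))) := by
  rcases hH with h | ⟨h1, k, hk, ⟨e⟩⟩ | ⟨h1, h2, k, hk, ⟨e⟩⟩ | ⟨F₀, i1, i2, h1, ⟨e⟩⟩ |
    ⟨F₀, i1, i2, r, h1, h2, h3, ⟨e⟩⟩ | ⟨h1, h2, ⟨e⟩⟩ | ⟨h1, h2, h3, ⟨e⟩⟩ | ⟨h1, h2, ⟨e⟩⟩
  · left; rw [Nat.card_congr ψ.toEquiv]; exact h
  · right; left; exact ⟨h1, k, hk, ⟨ψ.trans e⟩⟩
  · right; right; left; exact ⟨h1, h2, k, hk, ⟨ψ.trans e⟩⟩
  · right; right; right; left; exact ⟨F₀, i1, i2, h1, ⟨ψ.trans e⟩⟩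
  · right; right; right; right; left; exact ⟨F₀, i1, i2, r, h1, h2, h3, ⟨ψ.trans e⟩⟩
  · right; right; right; right; right; left; exact ⟨h1, h2, ⟨ψ.trans e⟩⟩
  · right; right; right; right; right; right; left; exact ⟨h1, h2, h3, ⟨ψ.trans e⟩⟩
  · right; right; right; right; right; right; right; exact ⟨h1, h2, ⟨ψ.trans e⟩⟩

end general

section main

variable {F : Type*} [Field F] [Fintype F]

omit [Fintype F] in
theorem range_eq_range_toPGL :
    (Matrix.ProjGenLinGroup.mk.comp (Matrix.SpecialLinearGroup.toGL (n := Fin 2) (R := F))).range =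
      (Matrix.ProjectiveSpecialLinearGroup.toPGL (n := Fin 2) (R := F)).range := by
  ext g
  constructor
  · rintro ⟨x, rfl⟩
    exact ⟨QuotientGroup.mk x, rfl⟩
  · rintro ⟨y, rfl⟩
    obtain ⟨x, rfl⟩ := QuotientGroup.mk_surjective y
    exact ⟨x, rfl⟩

theorem range_eq_top_of_even (hev : ¬ Odd (Fintype.card F)) :
    (Matrix.ProjGenLinGroup.mk.comp (Matrix.SpecialLinearGroup.toGL (n := Fin 2) (R := F))).range =
      ⊤ := by
  rw [range_eq_range_toPGL, MonoidHom.range_eq_top]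
  apply Matrix.ProjectiveSpecialLinearGroup.toPGL_surj_of_roots
  intro r
  have hF : ringChar F = 2 := by
    rw [FiniteField.even_card_iff_char_two]
    have := Nat.not_odd_iff_even.mp hev
    exact Nat.even_iff.mp this
  obtain ⟨c, hc⟩ := FiniteField.isSquare_of_char_two hF (r : F)
  have hc0 : c ≠ 0 := by
    rintro rfl
    rw [mul_zero] at hc
    exact r.ne_zero hc
  refine ⟨Units.mk0 c hc0, ?_⟩
  apply Units.ext
  rw [Fintype.card_fin, Units.val_pow_eq_pow_val, Units.val_mk0, hc, pow_two]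

/-- the odd case -/
theorem inter_isCoatom_odd (hodd : Odd (Fintype.card F)) (h5 : 5 ≤ Fintype.card F)
    (h7 : Fintype.card F ≠ 7) (h9 : Fintype.card F ≠ 9) (h11 : Fintype.card F ≠ 11)
    (h40 : (Fintype.card F).Prime → Fintype.card F % 40 ∉ ({11, 19, 21, 29} : Finset ℕ))
    (M : Subgroup (Matrix.ProjGenLinGroup (Fin 2) F)) (hM : IsCoatom M)
    (hML : ¬ (Matrix.ProjGenLinGroup.mk.comp
      (Matrix.SpecialLinearGroup.toGL (n := Fin 2) (R := F))).range ≤ M) :
    IsCoatom ((M ⊓ (Matrix.ProjGenLinGroup.mk.comp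
      (Matrix.SpecialLinearGroup.toGL (n := Fin 2) (R := F))).range).subgroupOf
      (Matrix.ProjGenLinGroup.mk.comp
        (Matrix.SpecialLinearGroup.toGL (n := Fin 2) (R := F))).range) := by
  classical
  obtain ⟨p, hp, hcp⟩ := exists_char_fact F
  haveI := hp
  haveI := hcp
  have hpp : p.Prime := Fact.out
  obtain ⟨N, -, hN⟩ := FiniteField.card F p
  set q := Fintype.card F with hq
  set L : Subgroup (Matrix.ProjGenLinGroup (Fin 2) F) := (Matrix.ProjGenLinGroup.mk.comp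
    (Matrix.SpecialLinearGroup.toGL (n := Fin 2) (R := F))).range with hLdef
  have hLr : L = (Matrix.ProjectiveSpecialLinearGroup.toPGL (n := Fin 2) (R := F)).range :=
    range_eq_range_toPGL
  have eL : Matrix.ProjectiveSpecialLinearGroup (Fin 2) F ≃* ↥L :=
    (MonoidHom.ofInjective Matrix.ProjectiveSpecialLinearGroup.toPGL_injective).trans
      (MulEquiv.subgroupCongr hLr.symm)
  have hcL : 2 * Nat.card ↥L = q * (q ^ 2 - 1) := by
    rw [← Nat.card_congr eL.toEquiv]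
    exact two_mul_card_PSL2 (F := F) hodd
  have hcG : Nat.card (Matrix.ProjGenLinGroup (Fin 2) F) = q * (q ^ 2 - 1) := by
    rw [Cfsg.Agent.Lib.Helper5.card_PGL_eq_card_SL, Cfsg.Agent.Lib.Helper38.card_SL2]
  have hGpos : 0 < q * (q ^ 2 - 1) := Nat.mul_pos (by omega) (Ar.sq_sub_one_pos (by omega))
  haveI : Finite (Matrix.ProjGenLinGroup (Fin 2) F) :=
    Nat.finite_of_card_ne_zero (by rw [hcG]; omega)
  have hidx : L.index = 2 := by
    have := L.card_mul_index
    rw [hcG] at this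
    have h1 : Nat.card ↥L * L.index = Nat.card ↥L * 2 := by rw [this, ← hcL]; ring
    have hLpos : 0 < Nat.card ↥L := Nat.card_pos
    exact Nat.eq_of_mul_eq_mul_left hLpos h1
  haveI hLn : L.Normal := Subgroup.normal_of_index_eq_two hidx
  have hcard2 := two_mul_card_inf L M hidx hM hML
  -- the intersection
  have hV'top : (M ⊓ L).subgroupOf L ≠ ⊤ := by
    intro h
    rw [Subgroup.subgroupOf_eq_top] at h
    exact hML (le_trans h inf_le_left)
  rcases eq_top_or_exists_le_coatom ((M ⊓ L).subgroupOf L) with h | ⟨H', hH', hVH⟩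
  · exact absurd h hV'top
  by_cases hVeq : (M ⊓ L).subgroupOf L = H'
  · rw [hVeq]; exact hH'
  exfalso
  set W : Subgroup ↥H' := ((M ⊓ L).subgroupOf L).subgroupOf H' with hWdef
  have hW : W ≠ ⊤ := by
    intro h
    rw [hWdef, Subgroup.subgroupOf_eq_top] at h
    exact hVeq (le_antisymm hVH h)
  have hcW : Nat.card W = Nat.card (M ⊓ L : Subgroup (Matrix.ProjGenLinGroup (Fin 2) F)) := by
    have h1 : W.map H'.subtype = (M ⊓ L).subgroupOf L := by
      rw [hWdef, Subgroup.subgroupOf_map_subtype]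
      exact inf_eq_left.mpr hVH
    have h2 : ((M ⊓ L).subgroupOf L).map L.subtype = M ⊓ L := by
      rw [Subgroup.subgroupOf_map_subtype]
      exact inf_eq_left.mpr inf_le_right
    rw [← Subgroup.card_map_of_injective H'.subtype_injective, h1,
      ← Subgroup.card_map_of_injective L.subtype_injective, h2]
  have hcard2' : 2 * Nat.card W = Nat.card M := by rw [hcW]; exact hcard2
  -- lifting elements of the intersection
  have hlift : ∀ g ∈ M ⊓ L, ∃ w ∈ W, ((w : ↥L) : Matrix.ProjGenLinGroup (Fin 2) F) = g := by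
    intro g hg
    have hg' : (⟨g, hg.2⟩ : ↥L) ∈ (M ⊓ L).subgroupOf L := by
      rw [Subgroup.mem_subgroupOf]; exact hg
    refine ⟨⟨⟨g, hg.2⟩, hVH hg'⟩, ?_, rfl⟩
    rw [hWdef, Subgroup.mem_subgroupOf]
    exact hg'
  have hWM : ∀ w ∈ W, ((w : ↥L) : Matrix.ProjGenLinGroup (Fin 2) F) ∈ M := by
    intro w hw
    rw [hWdef, Subgroup.mem_subgroupOf, Subgroup.mem_subgroupOf] at hw
    exact hw.1
  -- the type of the intersection
  have hoddq : q % 2 = 1 := Nat.odd_iff.mp hodd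
  have hV : 2 * Nat.card W = q * (q - 1) ∨
      (q ≠ 5 ∧ Nat.card W = q - 1 ∧ ∃ w ∈ W, orderOf w = (q - 1) / 2) ∨
      Nat.card W = q + 1 ∨
      (q.Prime ∧ (q % 8 = 3 ∨ q % 8 = 5) ∧ Nat.card W = 12 ∧
        ∀ w ∈ W, w ^ 4 = 1 ∨ w ^ 3 = 1) ∨
      (∃ a r, a ≠ 0 ∧ r.Prime ∧ Odd r ∧ q = (p ^ a) ^ r ∧
        2 * Nat.card W = p ^ a * ((p ^ a) ^ 2 - 1)) := by
    rcases pgl_max_types hodd (by omega) M hM hML with h1 | ⟨hq5, ⟨e1⟩⟩ | ⟨⟨e1⟩⟩ |
      ⟨hqpr, h8, ⟨e1⟩⟩ | ⟨F₀, i1, i2, r, hr1, hr2, hr3, ⟨e1⟩⟩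
    · left
      rw [hcard2', h1]
    · right; left
      have hcM : Nat.card M = 2 * (q - 1) := by
        rw [Nat.card_congr e1.toEquiv, DihedralGroup.nat_card]
      refine ⟨hq5, by omega, ?_⟩
      obtain ⟨g, hg, hgo⟩ := exists_order_half L M hidx (n := q - 1) (by omega) e1
      obtain ⟨w, hw, hwg⟩ := hlift g hg
      refine ⟨w, hw, ?_⟩
      have hgcd : Nat.gcd (q - 1) 2 = 2 := by
        apply Nat.gcd_eq_right
        omega
      rw [hgcd] at hgo
      rw [← hgo, ← hwg, Subgroup.orderOf_coe, Subgroup.orderOf_coe]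
    · right; right; left
      have hcM : Nat.card M = 2 * (q + 1) := by
        rw [Nat.card_congr e1.toEquiv, DihedralGroup.nat_card]
      omega
    · right; right; right; left
      have hcM : Nat.card M = 24 := by
        rw [Nat.card_congr e1.toEquiv, card_S4]
      refine ⟨hqpr, h8, by omega, ?_⟩
      intro w hw
      have hm := hWM w hw
      have key := perm_four_pow (e1 ⟨_, hm⟩)
      have htr : ∀ k : ℕ, (e1 ⟨_, hm⟩) ^ k = 1 → w ^ k = 1 := by
        intro k hk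
        rw [← map_pow] at hk
        have h1 : (⟨_, hm⟩ : ↥M) ^ k = 1 := by
          apply e1.injective
          rw [hk, map_one]
        have h2 := congrArg Subtype.val h1
        rw [Subgroup.coe_pow] at h2
        apply Subtype.ext
        apply Subtype.ext
        rw [Subgroup.coe_pow, Subgroup.coe_pow]
        exact h2
      rcases key with h | h
      · left; exact htr 4 h
      · right; exact htr 3 h
    · right; right; right; right
      obtain ⟨a, ha, hFa⟩ := card_field_eq_pow p hpp F₀ hr1.ne_zero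
        (show p ^ (N : ℕ) = Fintype.card F₀ ^ r by rw [← hN]; exact hr3)
      have hcM : Nat.card M = Fintype.card F₀ * (Fintype.card F₀ ^ 2 - 1) := by
        rw [Nat.card_congr e1.toEquiv, Cfsg.Agent.Lib.Helper5.card_PGL_eq_card_SL,
          Cfsg.Agent.Lib.Helper38.card_SL2]
      rw [hFa] at hcM hr3
      exact ⟨a, r, ha, hr1, hr2, hr3, by rw [hcard2', hcM]⟩
  -- the type of the maximal subgroup
  have hH''co : IsCoatom (H'.map eL.symm.toMonoidHom) :=
    (OrderIso.isCoatom_iff (MulEquiv.mapSubgroup eL.symm) H').mpr hH'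
  have hH := transport_types (eL.symm.subgroupMap H') q p
    (max_types p hodd h5 (H'.map eL.symm.toMonoidHom) hH''co)
  have h40' : q.Prime → q % 40 ≠ 11 ∧ q % 40 ≠ 19 ∧ q % 40 ≠ 21 ∧ q % 40 ≠ 29 := by
    intro hqp
    have := h40 hqp
    simp only [Finset.mem_insert, Finset.mem_singleton, not_or] at this
    exact this
  exact profile_contra W hW q p hpp N hN hoddq h5 h7 h9 h11 h40' hV hH

/-- the intersection of a maximal subgroup of `PGL₂(q)` with `PSL₂(q)` is maximal -/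
theorem inter_isCoatom (h4 : 4 ≤ Fintype.card F)
    (h7 : Fintype.card F ≠ 7) (h9 : Fintype.card F ≠ 9) (h11 : Fintype.card F ≠ 11)
    (h40 : (Fintype.card F).Prime → Fintype.card F % 40 ∉ ({11, 19, 21, 29} : Finset ℕ))
    (M : Subgroup (Matrix.ProjGenLinGroup (Fin 2) F)) (hM : IsCoatom M)
    (hML : ¬ (Matrix.ProjGenLinGroup.mk.comp
      (Matrix.SpecialLinearGroup.toGL (n := Fin 2) (R := F))).range ≤ M) :
    IsCoatom ((M ⊓ (Matrix.ProjGenLinGroup.mk.comp
      (Matrix.SpecialLinearGroup.toGL (n := Fin 2) (R := F))).range).subgroupOf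
      (Matrix.ProjGenLinGroup.mk.comp
        (Matrix.SpecialLinearGroup.toGL (n := Fin 2) (R := F))).range) := by
  by_cases hodd : Odd (Fintype.card F)
  · have h5 : 5 ≤ Fintype.card F := by
      rcases hodd with ⟨k, hk⟩
      omega
    exact inter_isCoatom_odd hodd h5 h7 h9 h11 h40 M hM hML
  · exact isCoatom_inf_subgroupOf_top _ M (range_eq_top_of_even hodd) hM

end main

end Cfsg.Agent.Lib.Helper14.Pg
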