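import Mathlib
import Cfsg.Agent.Lib.Helper41.PsDefs

/-! Ps hive (S4321): core of leaf PS27 `ps_half` (assembly), helper14.
The leaves used (PS1 chain, PS5 red_e, PS6 red_a, PS7 mix, PS8 sylow_elt, PS13 case4, PS26 crux)
are explicit hypotheses, so this file depends on nothing but `PsDefs`. -/

set_option autoImplicit false

namespace Cfsg.Agent.Lib.Helper41.Ps

open Subgroup
open Cfsg.Agent.Lib.Helper22.Cg

universe u

/-- primes dividing coprime numbers are distinct. -/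
theorem ps27_ne_of_coprime {m n u v : ℕ} (hc : m.Coprime n) (hu : u.Prime) (hum : u ∣ m)
    (hvn : v ∣ n) : u ≠ v := by
  intro h
  subst h
  have := Nat.Coprime.eq_one_of_dvd (Nat.Coprime.coprime_dvd_left hum hc) hvn
  exact hu.one_lt.ne' this

/-- PS27 core: the half with `p ∤ cs e`, from the leaves as hypotheses. -/
theorem ps_half_core {G : Type u} [Group G] [Finite G] (p : ℕ) [Fact p.Prime]
    (ps_chain' : ∀ (r s r' s' : ℕ) (x y z : G),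
      p ∣ orderOf x → p ∣ orderOf y → p ∣ orderOf z →
      r.Prime → s.Prime → r'.Prime → s'.Prime →
      r ∣ cs x → r' ∣ cs x → r' ∣ cs y → s' ∣ cs y → s' ∣ cs z →
      s ∣ cs z → r' ≠ s' → r ≠ s → Goal G p r s)
    (ps_red_e' : ∀ e : G, p ∣ orderOf e → ¬ p ∣ cs e →
      ∃ (P : Sylow p G) (ε φ : G), ε ∈ P ∧ ε ≠ 1 ∧ (∀ y ∈ P, ε * y = y * ε) ∧
        (∀ y ∈ P, φ * y = y * φ) ∧ ¬ p ∣ orderOf φ ∧ cs φ ∣ cs e ∧ cs ε ∣ cs e ∧
        (cs φ = 1 → cs ε = cs e))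
    (ps_red_a' : ¬ p ∣ Nat.card ↥(Subgroup.center G) → ∀ (P : Sylow p G) (a : G),
      p ∣ orderOf a → ∃ α : G, α ∈ P ∧ α ≠ 1 ∧ cs α ∣ cs a ∧ 1 < cs α)
    (ps_mix' : ∀ α φ : G, α * φ = φ * α → α ≠ 1 → (∃ n : ℕ, orderOf α = p ^ n) →
      ¬ p ∣ orderOf φ → p ∣ orderOf (α * φ) ∧ cs α ∣ cs (α * φ) ∧ cs φ ∣ cs (α * φ))
    (ps_sylow_elt' : ∀ (P : Sylow p G) (x : G), x ∈ P →
      (∃ n : ℕ, orderOf x = p ^ n) ∧ (x ≠ 1 → p ∣ orderOf x))
    (ps_case4' : ∀ (P : Sylow p G) (α z : G), α ∈ P → z ∈ P → α * z = z * α → ¬ p ∣ cs α →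
      ¬ p ∣ cs z → (cs α).Coprime (cs z) → 1 < cs α → 1 < cs z →
      ∃ t t' : ℕ, t.Prime ∧ t'.Prime ∧ t ∣ cs α ∧ t' ∣ cs z ∧ t ∣ cs (α * z) ∧
        t' ∣ cs (α * z) ∧ p ∣ orderOf (α * z))
    (ps_crux' : ¬ p ∣ Nat.card ↥(Subgroup.center G) → ∀ (P : Sylow p G) (b α : G), b ∈ P →
      b ≠ 1 → (∀ y ∈ P, b * y = y * b) → α ∈ P → p ∣ cs α →
      ∃ x : G, p ∣ orderOf x ∧ p ∣ cs x ∧ ¬ (cs x).Coprime (cs b))
    (hZ : ¬ p ∣ Nat.card ↥(Subgroup.center G)) (r s : ℕ) (hr : r.Prime) (hs : s.Prime)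
    (hrs : r ≠ s) (a e : G) (ha : p ∣ orderOf a) (he : p ∣ orderOf e) (hra : r ∣ cs a)
    (hse : s ∣ cs e) (hcop : (cs a).Coprime (cs e)) (hpe : ¬ p ∣ cs e) : Goal G p r s := by
  have hpp : p.Prime := Fact.out
  obtain ⟨P, ε, φ, hεP, hε1, hεZ, hφP, hpφ, hφe, hεe, hφ1⟩ := ps_red_e' e he hpe
  obtain ⟨α, hαP, hα1, hαa, h1α⟩ := ps_red_a' hZ P a ha
  have hαφ : α * φ = φ * α := (hφP α hαP).symm
  have hαp := (ps_sylow_elt' P α hαP).1
  have hεsing : p ∣ orderOf ε := (ps_sylow_elt' P ε hεP).2 hε1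
  have hcsα_ne : cs α ≠ 1 := by omega
  by_cases hcφ : cs φ = 1
  · -- φ central: work with ε
    have hεcs : cs ε = cs e := hφ1 hcφ
    have hsε : s ∣ cs ε := by rw [hεcs]; exact hse
    have hpε : ¬ p ∣ cs ε := by rw [hεcs]; exact hpe
    by_cases hpα : p ∣ cs α
    · obtain ⟨x, hxs, hpx, hncop⟩ := ps_crux' hZ P ε α hεP hε1 hεZ hαP hpα
      obtain ⟨t', ht', ht'x, ht'ε⟩ := Nat.Prime.not_coprime_iff_dvd.mp hncop
      have hne : p ≠ t' := by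
        intro h
        apply hpε
        rw [h]
        exact ht'ε
      exact ps_chain' r s p t' a x ε ha hxs hεsing hr hs hpp ht' hra (hpα.trans hαa) hpx ht'x
        ht'ε hsε hne hrs
    · have hcomm : α * ε = ε * α := (hεZ α hαP).symm
      have hcop' : (cs α).Coprime (cs ε) :=
        Nat.Coprime.coprime_dvd_left hαa (Nat.Coprime.coprime_dvd_right hεe hcop)
      have h1ε : 1 < cs ε := by
        have hpos : 0 < cs ε := Nat.pos_of_ne_zero Subgroup.index_ne_zero_of_finite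
        have := Nat.le_of_dvd hpos hsε
        have := hs.two_le
        omega
      obtain ⟨t, t', ht, ht', htα, ht'ε, htx, ht'x, hxs⟩ :=
        ps_case4' P α ε hαP hεP hcomm hpα hpε hcop' h1α h1ε
      have hne : t ≠ t' := ps27_ne_of_coprime hcop' ht htα ht'ε
      exact ps_chain' r s t t' a (α * ε) ε ha hxs hεsing hr hs ht ht' hra (htα.trans hαa) htx
        ht'x ht'ε hsε hne hrs
  · -- φ not central
    obtain ⟨hxs, hαx, hφx⟩ := ps_mix' α φ hαφ hα1 hαp hpφ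
    obtain ⟨r', hr', hr'α⟩ := Nat.exists_prime_and_dvd hcsα_ne
    obtain ⟨s', hs', hs'φ⟩ := Nat.exists_prime_and_dvd hcφ
    have hne : r' ≠ s' :=
      ps27_ne_of_coprime hcop hr' (hr'α.trans hαa) (hs'φ.trans hφe)
    exact ps_chain' r s r' s' a (α * φ) e ha hxs he hr hs hr' hs' hra (hr'α.trans hαa)
      (hr'α.trans hαx) (hs'φ.trans hφx) (hs'φ.trans hφe) hse hne hrs

end Cfsg.Agent.Lib.Helper41.Ps
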