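import Mathlib
import Cfsg.Agent.Lib.Helper41.PsDefs
import Cfsg.Agent.Lib.Helper14.PsPS27Core
import Cfsg.Agent.Lib.Helper59.PsPS1
import Cfsg.Agent.Lib.Helper5.PsPS5
import Cfsg.Agent.Lib.Helper29.PsPS6
import Cfsg.Agent.Lib.Helper85.PsPS7
import Cfsg.Agent.Lib.Helper11.PsPS8
import Cfsg.Agent.Lib.Helper68.PsPS13
import Cfsg.Agent.Lib.Helper40.PsPS26

/-! Ps hive (S4321): leaf PS27 `ps_half` (assembly), helper14. -/

set_option autoImplicit false

namespace Cfsg.Agent.Lib.Helper41.Ps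

open Subgroup
open Cfsg.Agent.Lib.Helper22.Cg

universe u

/-- PS27. the half with `p ∤ cs e`. -/
theorem ps_half {G : Type u} [Group G] [Finite G] (p : ℕ) [Fact p.Prime]
    (hZ : ¬ p ∣ Nat.card ↥(Subgroup.center G)) (r s : ℕ) (hr : r.Prime) (hs : s.Prime)
    (hrs : r ≠ s) (a e : G) (ha : p ∣ orderOf a) (he : p ∣ orderOf e) (hra : r ∣ cs a)
    (hse : s ∣ cs e) (hcop : (cs a).Coprime (cs e)) (hpe : ¬ p ∣ cs e) : Goal G p r s :=
  ps_half_core p (fun r s r' s' x y z => ps_chain p r s r' s' x y z) (fun e => ps_red_e p e)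
    (fun hZ P a => ps_red_a p hZ P a) (fun α φ => ps_mix p α φ) (fun P x => ps_sylow_elt p P x)
    (fun P α z => ps_case4 p P α z) (fun hZ P b α => ps_crux p hZ P b α)
    hZ r s hr hs hrs a e ha he hra hse hcop hpe

end Cfsg.Agent.Lib.Helper41.Ps
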