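import Mathlib

/-!
# S5990 hive ("Qm", owner helper14): the arithmetic of the clauses for odd `r ≠ p`

`n = 2 d = dim V`, `V` of minus type, members = elliptic `m`-spaces; `i = ord_r q`,
`c = if Even i then i else 2 i` the block size, `tP i j` = "a sum of `j` blocks is of plus type".
-/

set_option autoImplicit false

namespace Cfsg.Agent.Lib.Helper14.Qm

/-- a fixed-point-free invariant nondegenerate sum of `j` blocks is of plus type -/
def tP (i j : ℕ) : Prop := Odd i ∨ Even j

/-- `s` blocks can occur in a space of minus type and dimension `n` -/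
def Valid (n i c s : ℕ) : Prop := 1 ≤ s ∧ s * c ≤ n ∧ (s * c = n → ¬ tP i s)

/-- an element with `s` blocks fixes an elliptic `m`-space -/
def FixA (n m i c s : ℕ) : Prop :=
  ∃ j, j ≤ s ∧ j * c ≤ m ∧ m - j * c ≤ n - s * c ∧ (m = j * c → ¬ tP i j) ∧
    (m - j * c = n - s * c → (tP i j ↔ tP i s))

/-- the clauses of S5990 for odd `r ≠ p` -/
def RHS (d m i c : ℕ) : Prop :=
  (Odd i ∧ ((2 * d) % c = 0 ∨ (c ≤ m ∧ 0 < m % c ∧ m % c ≤ (2 * d) % c))) ∨
  (Even i ∧ (((2 * d) % c = 0 ∧ (Even ((2 * d) / i) ∨ (m % c = 0 ∧ Odd (m / i)))) ∨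
    (0 < (2 * d) % c ∧ i ≤ m ∧ ((0 < m % c ∧ m % c < (2 * d) % c) ∨ (m % c = 0 ∧ Odd (m / i)) ∨
      (m % c = (2 * d) % c ∧ Even ((2 * d + m - 2 * ((2 * d) % c)) / i))))))

theorem ar_div_unique (c m j : ℕ) (h1 : j * c ≤ m) (h2 : m < j * c + c) :
    m / c = j ∧ m % c = m - j * c := by
  have hc : 0 < c := by
    rcases Nat.eq_zero_or_pos c with h | h
    · subst h
      omega
    · exact h
  have h3 : m / c = j := by
    apply Nat.div_eq_of_lt_le
    · exact h1
    · rw [Nat.succ_mul]
      exact h2
  refine ⟨h3, ?_⟩
  have h4 := Nat.div_add_mod m c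
  rw [h3, mul_comm] at h4
  omega

/-- the case `i` odd, sufficiency -/
theorem ar_suff_odd (n m c : ℕ) (hc : 0 < c) (hm2 : 2 ≤ m) (hmn : m + 2 ≤ n)
    (h : n % c = 0 ∨ (c ≤ m ∧ 0 < m % c ∧ m % c ≤ n % c)) (s : ℕ) (hs1 : 1 ≤ s) (hs : s * c < n) :
    ∃ j, j ≤ s ∧ j * c < m ∧ m - j * c ≤ n - s * c := by
  have hn := Nat.div_add_mod n c
  have hm := Nat.div_add_mod m c
  have hρ := Nat.mod_lt n hc
  have hμ := Nat.mod_lt m hc
  rw [mul_comm] at hn hm
  rcases h with h0 | ⟨hcm, hμ0, hμρ⟩
  · -- `c ∣ n`
    have hsN : s + 1 ≤ n / c := by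
      by_contra hlt
      push Not at hlt
      have : n / c ≤ s := by omega
      have := Nat.mul_le_mul_right c this
      omega
    have hsc : (s + 1) * c ≤ n / c * c := Nat.mul_le_mul_right c hsN
    rw [Nat.succ_mul] at hsc
    by_cases hμ0 : m % c = 0
    · -- `m = M c`, `M ≥ 1`
      have hM1 : 1 ≤ m / c := by
        rcases Nat.eq_zero_or_pos (m / c) with h | h
        · rw [h] at hm
          omega
        · exact h
      by_cases hle : m / c - 1 ≤ s
      · refine ⟨m / c - 1, hle, ?_, ?_⟩
        · have : (m / c - 1) * c + c = m / c * c := by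
            rw [← Nat.succ_mul]
            congr 1
            omega
          omega
        · have : (m / c - 1) * c + c = m / c * c := by
            rw [← Nat.succ_mul]
            congr 1
            omega
          omega
      · push Not at hle
        refine ⟨s, le_refl s, ?_, by omega⟩
        have : (s + 1) * c ≤ (m / c - 1) * c := Nat.mul_le_mul_right c (by omega)
        have h2 : (m / c - 1) * c + c = m / c * c := by
          rw [← Nat.succ_mul]
          congr 1
          omega
        rw [Nat.succ_mul] at this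
        omega
    · by_cases hle : m / c ≤ s
      · exact ⟨m / c, hle, by omega, by omega⟩
      · push Not at hle
        refine ⟨s, le_refl s, ?_, by omega⟩
        have : (s + 1) * c ≤ m / c * c := Nat.mul_le_mul_right c (by omega)
        rw [Nat.succ_mul] at this
        omega
  · -- `c ∤ n`
    have hsN : s ≤ n / c := by
      by_contra hlt
      push Not at hlt
      have := Nat.mul_le_mul_right c (show n / c + 1 ≤ s by omega)
      rw [Nat.succ_mul] at this
      omega
    have hsc : s * c ≤ n / c * c := Nat.mul_le_mul_right c hsN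
    by_cases hle : m / c ≤ s
    · exact ⟨m / c, hle, by omega, by omega⟩
    · push Not at hle
      refine ⟨s, le_refl s, ?_, by omega⟩
      have : (s + 1) * c ≤ m / c * c := Nat.mul_le_mul_right c (by omega)
      rw [Nat.succ_mul] at this
      omega

theorem ar_mul_facts (x y c : ℕ) :
    (x ≤ y → x * c ≤ y * c) ∧ (x < y → x * c + c ≤ y * c) ∧
      (0 < c → x * c ≤ y * c → x ≤ y) ∧ (0 < c → x * c < y * c → x < y) := by
  refine ⟨fun h => Nat.mul_le_mul_right c h, fun h => ?_, fun hc h => ?_, fun hc h => ?_⟩
  · have := Nat.mul_le_mul_right c (show x + 1 ≤ y from h)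
    rw [Nat.succ_mul] at this
    exact this
  · exact Nat.le_of_mul_le_mul_right h hc
  · exact Nat.lt_of_mul_lt_mul_right h

/-- if `s c < m < n` then `j = s` works -/
theorem ar_fix_of_lt (n m i c s : ℕ) (hmn : m < n) (hs : s * c < m) : FixA n m i c s := by
  refine ⟨s, le_refl s, hs.le, by omega, fun h => by omega, fun h => by omega⟩

/-- the case `i` odd: the reduced form of `FixA` -/
theorem ar_fix_odd_iff (n m i c s : ℕ) (hi : Odd i) :
    FixA n m i c s ↔ ∃ j, j ≤ s ∧ j * c < m ∧ m - j * c ≤ n - s * c := by
  constructor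
  · rintro ⟨j, h1, h2, h3, h4, -⟩
    refine ⟨j, h1, ?_, h3⟩
    rcases Nat.lt_or_ge (j * c) m with h | h
    · exact h
    · exact absurd (Or.inl hi) (h4 (by omega))
  · rintro ⟨j, h1, h2, h3⟩
    refine ⟨j, h1, h2.le, h3, fun h => by omega, fun _ => ?_⟩
    exact ⟨fun _ => Or.inl hi, fun _ => Or.inl hi⟩

theorem ar_valid_odd_iff (n i c s : ℕ) (hi : Odd i) :
    Valid n i c s ↔ 1 ≤ s ∧ s * c < n := by
  constructor
  · rintro ⟨h1, h2, h3⟩
    refine ⟨h1, ?_⟩
    rcases Nat.lt_or_ge (s * c) n with h | h
    · exact h
    · exact absurd (Or.inl hi) (h3 (by omega))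
  · rintro ⟨h1, h2⟩
    exact ⟨h1, h2.le, fun h => by omega⟩

theorem ar_tP_even (i j : ℕ) (hi : Even i) : tP i j ↔ Even j := by
  constructor
  · rintro (h | h)
    · exact absurd hi (Nat.not_even_iff_odd.mpr h)
    · exact h
  · exact fun h => Or.inr h

/-- sufficiency -/
theorem qm_arith_suff (d m i c : ℕ) (hi0 : 0 < i) (hc : c = if Even i then i else 2 * i)
    (hm2 : 2 ≤ m) (hmn : m + 2 ≤ 2 * d) (h : RHS d m i c) (s : ℕ)
    (hs : Valid (2 * d) i c s) : FixA (2 * d) m i c s := by
  have hc0 : 0 < c := by
    rw [hc]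
    split_ifs <;> omega
  rcases Nat.lt_or_ge (s * c) m with hlt | hge
  · exact ar_fix_of_lt _ _ _ _ _ (by omega) hlt
  rcases h with ⟨hio, h⟩ | ⟨hie, h⟩
  · -- `i` odd
    rw [ar_fix_odd_iff _ _ _ _ _ hio]
    rw [ar_valid_odd_iff _ _ _ _ hio] at hs
    exact ar_suff_odd (2 * d) m c hc0 hm2 hmn h s hs.1 hs.2
  · -- `i` even
    have hci : c = i := by
      rw [hc, if_pos hie]
    rw [← hci] at h
    obtain ⟨-, hs2, hs3⟩ := hs
    have hn := Nat.div_add_mod (2 * d) c
    have hm := Nat.div_add_mod m c
    have hρ := Nat.mod_lt (2 * d) hc0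
    have hμ := Nat.mod_lt m hc0
    rw [mul_comm] at hn hm
    -- `M ≤ s`
    have hMs : m / c ≤ s := by
      apply (ar_mul_facts (m / c) s c).2.2.1 hc0
      omega
    have hMsc := (ar_mul_facts (m / c) s c).1 hMs
    have hsN : s ≤ 2 * d / c := by
      apply (ar_mul_facts s (2 * d / c) c).2.2.1 hc0
      by_contra hcon
      push Not at hcon
      have := (ar_mul_facts (2 * d / c) s c).2.2.2 hc0 hcon
      have := (ar_mul_facts (2 * d / c) s c).2.1 this
      omega
    have hsNc := (ar_mul_facts s (2 * d / c) c).1 hsN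
    have hsNlt := (ar_mul_facts s (2 * d / c) c).2.1
    have hM1 : m % c = 0 → 1 ≤ m / c := by
      intro h0
      rcases Nat.eq_zero_or_pos (m / c) with h | h
      · rw [h] at hm
        omega
      · exact h
    have htP : ∀ j, tP i j ↔ Even j := fun j => ar_tP_even i j hie
    rcases h with ⟨hρ0, hA | ⟨hμ0, hMo⟩⟩ | ⟨hρ0, hcm, ⟨hμ0, hμρ⟩ | ⟨hμ0, hMo⟩ | ⟨hμρ, hE⟩⟩
    · -- A: `c ∣ n`, `n / c` even
      have hslt : s < 2 * d / c := by
        rcases Nat.lt_or_ge s (2 * d / c) with h | h
        · exact h
        · have hse : s = 2 * d / c := le_antisymm hsN h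
          have : s * c = 2 * d := by
            rw [hse]
            omega
          have h3 := hs3 this
          rw [htP] at h3
          rw [hse] at h3
          exact absurd hA h3
      have hk := hsNlt hslt
      by_cases hμ0 : m % c = 0
      · have hM1' := hM1 hμ0
        by_cases hMo : Odd (m / c)
        · refine ⟨m / c, hMs, by omega, by omega, fun _ => ?_, fun h => by omega⟩
          rw [htP]
          exact Nat.not_even_iff_odd.mpr hMo
        · rw [Nat.not_odd_iff_even] at hMo
          have hM2 : (m / c - 1) * c + c = m / c * c := by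
            rw [← Nat.succ_mul]
            congr 1
            omega
          have hjo : Odd (m / c - 1) := by
            rcases hMo with ⟨t, ht⟩
            exact ⟨t - 1, by omega⟩
          refine ⟨m / c - 1, by omega, by omega, by omega, fun h => by omega, fun h => ?_⟩
          -- `k = c`, so `s = n / c - 1` is odd
          rw [htP, htP]
          have hso : Odd s := by
            have h1 : s * c + c = 2 * d / c * c := by omega
            have h2 : (s + 1) * c = 2 * d / c * c := by
              rw [Nat.succ_mul]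
              exact h1
            have h3 : s + 1 = 2 * d / c := Nat.eq_of_mul_eq_mul_right hc0 h2
            rcases hA with ⟨t, ht⟩
            exact ⟨t - 1, by omega⟩
          constructor
          · intro h
            exact absurd h (Nat.not_even_iff_odd.mpr hjo)
          · intro h
            exact absurd h (Nat.not_even_iff_odd.mpr hso)
      · refine ⟨m / c, hMs, by omega, by omega, fun h => by omega, fun h => by omega⟩
    · -- B: `c ∣ n`, `c ∣ m`, `m / c` odd
      refine ⟨m / c, hMs, by omega, by omega, fun _ => ?_, fun h => ?_⟩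
      · rw [htP]
        exact Nat.not_even_iff_odd.mpr hMo
      · have hsc : s * c = 2 * d := by omega
        have h3 := hs3 hsc
        rw [htP] at h3 ⊢
        rw [htP]
        constructor
        · intro h
          exact absurd h (Nat.not_even_iff_odd.mpr hMo)
        · intro h
          exact absurd h h3
    · -- C
      refine ⟨m / c, hMs, by omega, by omega, fun h => by omega, fun h => by omega⟩
    · -- D
      refine ⟨m / c, hMs, by omega, by omega, fun _ => ?_, fun h => by omega⟩
      rw [htP]
      exact Nat.not_even_iff_odd.mpr hMo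
    · -- E
      have hsum : (2 * d + m - 2 * ((2 * d) % c)) / c = 2 * d / c + m / c := by
        have : 2 * d + m - 2 * ((2 * d) % c) = (2 * d / c + m / c) * c := by
          rw [Nat.add_mul]
          omega
        rw [this, Nat.mul_div_cancel _ hc0]
      rw [hsum] at hE
      refine ⟨m / c, hMs, by omega, by omega, fun h => by omega, fun h => ?_⟩
      have hse : s = 2 * d / c := by
        rcases Nat.lt_or_ge s (2 * d / c) with h' | h'
        · have := hsNlt h'
          omega
        · exact le_antisymm hsN h'
      rw [htP, htP, hse]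
      rcases Nat.even_or_odd (m / c) with h1 | h1
      · have : Even (2 * d / c) := by
          rcases hE with ⟨t, ht⟩
          rcases h1 with ⟨u, hu⟩
          exact ⟨t - u, by omega⟩
        exact ⟨fun _ => this, fun _ => h1⟩
      · have : ¬ Even (2 * d / c) := by
          intro h2
          rcases hE with ⟨t, ht⟩
          rcases h1 with ⟨u, hu⟩
          rcases h2 with ⟨v, hv⟩
          omega
        exact ⟨fun h => absurd h (Nat.not_even_iff_odd.mpr h1), fun h => absurd h this⟩

/-- a largest valid `s` exists as soon as one valid `s` exists -/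
theorem qm_exists_max (n i c : ℕ) (hc0 : 0 < c) (h : ∃ s, Valid n i c s) :
    ∃ s, Valid n i c s ∧ ∀ s', Valid n i c s' → s' ≤ s := by
  classical
  have hb : ∀ s', Valid n i c s' → s' ≤ n := by
    rintro s' ⟨-, h2, -⟩
    calc s' = s' * 1 := (Nat.mul_one s').symm
      _ ≤ s' * c := Nat.mul_le_mul_left s' hc0
      _ ≤ n := h2
  obtain ⟨s0, hs0⟩ := h
  refine ⟨Nat.findGreatest (fun s => Valid n i c s) n, ?_, ?_⟩
  · exact Nat.findGreatest_spec (P := fun s => Valid n i c s) (hb s0 hs0) hs0
  · intro s' hs'
    exact Nat.le_findGreatest (hb s' hs') hs'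

/-- necessity -/
theorem qm_arith_nec (d m i c : ℕ) (hi0 : 0 < i) (hc : c = if Even i then i else 2 * i)
    (hm2 : 2 ≤ m) (hmn : m + 2 ≤ 2 * d) (s : ℕ) (hs : Valid (2 * d) i c s)
    (hmax : ∀ s', Valid (2 * d) i c s' → s' ≤ s) (hfix : FixA (2 * d) m i c s)
    (hcm : c ≤ m ∨ c ∣ 2 * d) : RHS d m i c := by
  have hc0 : 0 < c := by
    rw [hc]
    split_ifs <;> omega
  have hn := Nat.div_add_mod (2 * d) c
  have hm := Nat.div_add_mod m c
  have hρ := Nat.mod_lt (2 * d) hc0
  have hμ := Nat.mod_lt m hc0
  rw [mul_comm] at hn hm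
  have hsN : s ≤ 2 * d / c := by
    apply (ar_mul_facts s (2 * d / c) c).2.2.1 hc0
    by_contra hcon
    push Not at hcon
    have := (ar_mul_facts (2 * d / c) s c).2.2.2 hc0 hcon
    have := (ar_mul_facts (2 * d / c) s c).2.1 this
    have := hs.2.1
    omega
  have hN1 : 1 ≤ 2 * d / c := le_trans hs.1 hsN
  have hdvd : c ∣ 2 * d → (2 * d) % c = 0 := fun h => Nat.mod_eq_zero_of_dvd h
  rcases Nat.even_or_odd i with hie | hio
  · -- `i` even
    right
    refine ⟨hie, ?_⟩
    have hci : c = i := by
      rw [hc, if_pos hie]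
    rw [← hci]
    have htP : ∀ j, tP i j ↔ Even j := fun j => ar_tP_even i j hie
    rcases Nat.eq_zero_or_pos ((2 * d) % c) with hρ0 | hρ0
    · left
      refine ⟨hρ0, ?_⟩
      rcases Nat.even_or_odd (2 * d / c) with hNe | hNo
      · exact Or.inl hNe
      · right
        -- `n / c` is valid
        have hv : Valid (2 * d) i c (2 * d / c) := by
          refine ⟨hN1, by omega, fun _ => ?_⟩
          rw [htP]
          exact Nat.not_even_iff_odd.mpr hNo
        have hse : s = 2 * d / c := le_antisymm hsN (hmax _ hv)
        obtain ⟨j, h1, h2, h3, h4, -⟩ := hfix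
        have hsc : s * c = 2 * d := by
          rw [hse]
          omega
        have hmj : m = j * c := by omega
        have hj := ar_div_unique c m j (by omega) (by omega)
        have h4' := h4 hmj
        rw [htP, Nat.not_even_iff_odd] at h4'
        rw [hj.1]
        exact ⟨by omega, h4'⟩
    · right
      have hv : Valid (2 * d) i c (2 * d / c) := ⟨hN1, by omega, fun h => by omega⟩
      have hse : s = 2 * d / c := le_antisymm hsN (hmax _ hv)
      have hcm' : c ≤ m := by
        rcases hcm with h | h
        · exact h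
        · have := hdvd h
          omega
      refine ⟨hρ0, hcm', ?_⟩
      obtain ⟨j, h1, h2, h3, h4, h5⟩ := hfix
      have hsc : s * c + (2 * d) % c = 2 * d := by
        rw [hse]
        omega
      have hj := ar_div_unique c m j h2 (by omega)
      rcases Nat.eq_zero_or_pos (m % c) with hμ0 | hμ0
      · right
        left
        refine ⟨hμ0, ?_⟩
        have h4' := h4 (by omega)
        rw [htP, Nat.not_even_iff_odd] at h4'
        rw [hj.1]
        exact h4'
      · rcases Nat.lt_or_ge (m % c) ((2 * d) % c) with hlt | hge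
        · exact Or.inl ⟨hμ0, hlt⟩
        · right
          right
          have hμρ : m % c = (2 * d) % c := by omega
          refine ⟨hμρ, ?_⟩
          have hsum : (2 * d + m - 2 * ((2 * d) % c)) / c = 2 * d / c + m / c := by
            have : 2 * d + m - 2 * ((2 * d) % c) = (2 * d / c + m / c) * c := by
              rw [Nat.add_mul]
              omega
            rw [this, Nat.mul_div_cancel _ hc0]
          rw [hsum]
          have h5' := h5 (by omega)
          rw [htP, htP, hse, ← hj.1] at h5'
          rcases Nat.even_or_odd (m / c) with h1 | h1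
          · exact (h5'.mp h1).add h1
          · have : Odd (2 * d / c) := by
              rw [← Nat.not_even_iff_odd]
              intro h
              exact absurd (h5'.mpr h) (Nat.not_even_iff_odd.mpr h1)
            exact this.add_odd h1
  · -- `i` odd
    left
    refine ⟨hio, ?_⟩
    rcases Nat.eq_zero_or_pos ((2 * d) % c) with hρ0 | hρ0
    · exact Or.inl hρ0
    · right
      have hv : Valid (2 * d) i c (2 * d / c) := ⟨hN1, by omega, fun h => by omega⟩
      have hse : s = 2 * d / c := le_antisymm hsN (hmax _ hv)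
      have hcm' : c ≤ m := by
        rcases hcm with h | h
        · exact h
        · have := hdvd h
          omega
      rw [ar_fix_odd_iff _ _ _ _ _ hio] at hfix
      obtain ⟨j, h1, h2, h3⟩ := hfix
      have hsc : s * c + (2 * d) % c = 2 * d := by
        rw [hse]
        omega
      have hj := ar_div_unique c m j h2.le (by omega)
      exact ⟨hcm', by omega, by omega⟩

end Cfsg.Agent.Lib.Helper14.Qm
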