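import Mathlib
import Cfsg.Prelude.Def_ClassicalGeometry
import Cfsg.Prelude.Def_GeometricClasses
import Cfsg.Prelude.Def_Classical
import Cfsg.Agent.Lib.Helper65.QeDefs
import Cfsg.Agent.Lib.Helper8.OrthFormsMinus
import Cfsg.Agent.Lib.Helper8.InvolChar2

/-! # Definitions for the Qm hive (helper14): S5990, `PΩ⁻_{2d}(q)`, ALL `q`, on elliptic `m`-spaces.

The abstract layer is SHARED with helper65's Qe hive (`Cfsg.Agent.Lib.Helper65.Qe`: `pol`, `PlusQ`,
`IsomQ`, `FixesQ`, `tp`); reused vocabulary: `Cfsg.Agent.Lib.Helper99.Nd`,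
`Cfsg.Agent.Lib.Helper2.BG.Inv`, `Cfsg.Agent.Lib.Helper5.Hy.Fix`/`Plus`/`Fixes`,
`Cfsg.Agent.Lib.Helper8.minusForm`/`IsInvIso`/`nilPart`. -/

set_option autoImplicit false

namespace Cfsg.Agent.Lib.Helper14.Qm

open Module

section defs

variable (d : ℕ) (F : Type*) [Field F]

/-- the index type of `quadFormMinus (d - 1)` -/
abbrev IM := (Fin (d - 1) ⊕ Fin (d - 1)) ⊕ Fin 2

/-- the ambient space of `quadFormMinus (d - 1)` -/
abbrev VM := IM d → F

/-- square matrices on `IM d` -/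
abbrev MM := Matrix (IM d) (IM d) F

/-- `quadFormMinus (d - 1) F a b` as a quadratic form (`Cfsg.Agent.Lib.Helper8.minusForm`) -/
noncomputable abbrev QM (a b : F) : QuadraticForm F (VM d F) :=
  Cfsg.Agent.Lib.Helper8.minusForm (d - 1) F a b

/-- the coordinate subspace on the hyperbolic pairs `i ∈ S` TOGETHER WITH the anisotropic plane:
vectors with `v (inl (inl i)) = v (inl (inr i)) = 0` for `i ∉ S` -/
def ellSub (S : Set (Fin (d - 1))) : Submodule F (VM d F) where
  carrier := {v | ∀ i, i ∉ S → v (Sum.inl (Sum.inl i)) = 0 ∧ v (Sum.inl (Sum.inr i)) = 0}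
  add_mem' := by
    intro a b ha hb i hi
    simp only [Pi.add_apply, (ha i hi).1, (ha i hi).2, (hb i hi).1, (hb i hi).2, add_zero,
      and_self]
  zero_mem' := by
    intro i _
    simp
  smul_mem' := by
    intro c a ha i hi
    simp only [Pi.smul_apply, (ha i hi).1, (ha i hi).2, smul_zero, and_self]

theorem mem_ellSub {d : ℕ} {F : Type*} [Field F] {S : Set (Fin (d - 1))} {v : VM d F} :
    v ∈ ellSub d F S ↔ ∀ i, i ∉ S → v (Sum.inl (Sum.inl i)) = 0 ∧ v (Sum.inl (Sum.inr i)) = 0 :=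
  Iff.rfl

end defs

section frozen

variable {F : Type*} [Field F]

/-- the frozen predicate of S5990: `W` is an elliptic `m`-space of `quadFormMinus (d - 1) F a b` -/
def IsEll (d : ℕ) (a b : F) (m : ℕ) (W : Submodule F (VM d F)) : Prop :=
  Module.finrank F ↥W = m ∧
    Cfsg.Geo.IsNondegenerateOn (QuadraticMap.polar (Cfsg.quadFormMinus (d - 1) F a b)) W ∧
    ¬ Cfsg.Geo.IsPlusTypeOn (Cfsg.quadFormMinus (d - 1) F a b) W

/-- the matrix `x` leaves an elliptic `m`-space invariant (the frozen conclusion of S5990) -/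
def FixE (d : ℕ) (a b : F) (m : ℕ) (x : GL (IM d) F) : Prop :=
  ∃ W : Submodule F (VM d F), IsEll d a b m W ∧ W.map (Matrix.toLin' (x : MM d F)) ≤ W

end frozen

end Cfsg.Agent.Lib.Helper14.Qm
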