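import Mathlib
import Cfsg.Prelude.Def_ClassicalGeometry
import Cfsg.Prelude.Def_GeometricClasses
import Cfsg.Prelude.Def_Classical
import Cfsg.Agent.Lib.Helper14.QmDefs
import Cfsg.Agent.Lib.Helper13.LagQ
import Cfsg.Agent.Lib.Helper43.ZeroCount
import Cfsg.Agent.Lib.Helper83.TqBRM
import Cfsg.Agent.Lib.Helper59.TqOMEGA
import Cfsg.Agent.Lib.Helper23.TqSCAL

/-! # Qm hive (helper14), S5990: QM-BR (bridges), QM-OMEGA, scalar reduction -/

set_option autoImplicit false

namespace Cfsg.Agent.Lib.Helper14.Qm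

open Module
open Cfsg.Agent.Lib.Helper2.BG Cfsg.Agent.Lib.Helper99 Cfsg.Agent.Lib.Helper48.Ti
open Cfsg.Agent.Lib.Helper5.Hy (Plus Fixes Fix Orth)
open Cfsg.Agent.Lib.Helper65.Qe (pol PlusQ IsomQ FixesQ tp)
open Cfsg.Agent.Lib.Helper8 (minusForm IsInvIso nilPart)

section bridge

variable {F : Type*} [Field F]

theorem br_coe (d : ℕ) (a b : F) (v : VM d F) :
    Cfsg.quadFormMinus (d - 1) F a b v = QM d F a b v := by
  rw [Cfsg.Agent.Lib.Helper8.minusForm_coe]

theorem br_polar (d : ℕ) (a b : F) (u v : VM d F) :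
    QuadraticMap.polar (Cfsg.quadFormMinus (d - 1) F a b) u v = pol (QM d F a b) u v := by
  rw [Cfsg.Agent.Lib.Helper8.minusForm_coe]
  rfl

/-- QM-BR (1): the frozen nondegeneracy predicate is `Nd (pol QM)` -/
theorem br_nd (d : ℕ) (a b : F) (W : Submodule F (VM d F)) :
    Cfsg.Geo.IsNondegenerateOn (QuadraticMap.polar (Cfsg.quadFormMinus (d - 1) F a b)) W ↔
      Nd (pol (QM d F a b)) W := by
  constructor
  · intro h u hu hzero
    by_contra hne
    obtain ⟨-, x, hx, hxne⟩ := h u hu hne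
    apply hxne
    rw [br_polar]
    exact hzero x hx
  · intro h w hw hne
    have hex : ∃ x ∈ W, pol (QM d F a b) w x ≠ 0 := by
      by_contra hcon
      push Not at hcon
      exact hne (h w hw hcon)
    obtain ⟨x, hx, hxne⟩ := hex
    refine ⟨⟨x, hx, ?_⟩, ⟨x, hx, ?_⟩⟩
    · rw [br_polar]
      intro h0
      apply hxne
      have : pol (QM d F a b) w x = pol (QM d F a b) x w := by
        change QuadraticMap.polar _ w x = QuadraticMap.polar _ x w
        exact QuadraticMap.polar_comm _ _ _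
      rw [this]
      exact h0
    · rw [br_polar]
      exact hxne

/-- QM-BR (2): the frozen plus-type predicate is `PlusQ QM` -/
theorem br_plus (d : ℕ) (a b : F) (W : Submodule F (VM d F)) :
    Cfsg.Geo.IsPlusTypeOn (Cfsg.quadFormMinus (d - 1) F a b) W ↔ PlusQ (QM d F a b) W := by
  constructor
  · rintro ⟨U, hUW, hU, hdim⟩
    refine ⟨U, hUW, fun u hu => ?_, hdim⟩
    rw [← br_coe]
    exact hU u hu
  · rintro ⟨U, hUW, hU, hdim⟩
    refine ⟨U, hUW, fun u hu => ?_, hdim⟩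
    rw [br_coe]
    exact hU u hu

theorem br_card (d : ℕ) (hd : 1 ≤ d) : Fintype.card (IM d) = 2 * d := by
  rw [Fintype.card_sum, Fintype.card_sum, Fintype.card_fin, Fintype.card_fin]
  omega

/-- QM-BR (3): the whole space is nondegenerate, of dimension `2 d`, NOT of plus type -/
theorem br_top [Fintype F] (d : ℕ) (hd : 1 ≤ d) (a b : F)
    (hab : ∀ x y : F, x ^ 2 + a * x * y + b * y ^ 2 = 0 → x = 0 ∧ y = 0) :
    Nd (pol (QM d F a b)) ⊤ ∧ finrank F (VM d F) = 2 * d ∧ ¬ PlusQ (QM d F a b) ⊤ := by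
  have hnd := Cfsg.Agent.Lib.Helper43.ZeroCount.minusForm_nondeg F a b hab (d - 1)
  have hfin : finrank F (VM d F) = 2 * d := by
    rw [Module.finrank_fintype_fun_eq_card, br_card d hd]
  refine ⟨?_, hfin, ?_⟩
  · intro u _ hu
    apply hnd.1
    intro y
    exact hu y Submodule.mem_top
  · rintro ⟨U, -, hU, hdim⟩
    rw [finrank_top, hfin] at hdim
    have h1 := Cfsg.Agent.Lib.Helper13.LagQ.quadFormMinus_no_lagrangian a b hab (d - 1) U
      (fun x hx => by rw [br_coe]; exact hU x hx)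
    apply h1
    have hU2 : 2 * finrank F ↥U = 2 * d := hdim
    have hU3 : finrank F ↥U = d := by omega
    exact hU3.trans (by omega)

/-- QM-BR (4): matrices in the isometry group are isometries of `QM` -/
theorem br_isom (d : ℕ) (a b : F) (x : GL (IM d) F)
    (hx : x ∈ Cfsg.isometryGroup F (Cfsg.quadFormMinus (d - 1) F a b)) :
    IsomQ (QM d F a b) (Matrix.toLin' (x : MM d F)) := by
  intro v
  rw [← br_coe, ← br_coe, Matrix.toLin'_apply]
  exact (Cfsg.Agent.Lib.Helper59.Tq.scal_mem_iff _ x).mp hx v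

/-- the frozen predicate in the abstract vocabulary -/
theorem br_isEll (d : ℕ) (a b : F) (m : ℕ) (W : Submodule F (VM d F)) :
    IsEll d a b m W ↔ (Nd (pol (QM d F a b)) W ∧ finrank F W = m ∧ (PlusQ (QM d F a b) W ↔ False)) := by
  unfold IsEll
  rw [br_nd, br_plus]
  constructor
  · rintro ⟨h1, h2, h3⟩
    exact ⟨h2, h1, iff_false_intro h3⟩
  · rintro ⟨h1, h2, h3⟩
    exact ⟨h2, h1, h3.mp⟩

/-- the frozen conclusion in the abstract vocabulary -/
theorem br_fixE (d : ℕ) (a b : F) (m : ℕ) (x : GL (IM d) F) :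
    FixE d a b m x ↔ FixesQ (QM d F a b) (Matrix.toLin' (x : MM d F)) m False := by
  constructor
  · rintro ⟨W, hW, hinv⟩
    obtain ⟨h1, h2, h3⟩ := (br_isEll d a b m W).mp hW
    refine ⟨W, ?_, h1, h2, h3⟩
    intro v hv
    exact hinv ⟨v, hv, rfl⟩
  · rintro ⟨W, hinv, h1, h2, h3⟩
    refine ⟨W, (br_isEll d a b m W).mpr ⟨h1, h2, h3⟩, ?_⟩
    rintro _ ⟨v, hv, rfl⟩
    exact hinv v hv

end bridge

section omega

variable {F : Type*} [Field F] [Fintype F]

/-- QM-OMEGA: an isometry of odd order lies in `Ω` -/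
theorem mem_omegaGL_of_odd_minus (d : ℕ) (hd : 3 ≤ d) (a b : F)
    (hab : ∀ x y : F, x ^ 2 + a * x * y + b * y ^ 2 = 0 → x = 0 ∧ y = 0) (x : GL (IM d) F)
    (hx : x ∈ Cfsg.isometryGroup F (Cfsg.quadFormMinus (d - 1) F a b)) (n : ℕ) (hn : Odd n)
    (hxn : x ^ n = 1) : x ∈ Cfsg.Geo.omegaGL (Cfsg.quadFormMinus (d - 1) F a b) :=
  Cfsg.Agent.Lib.Helper59.Tq.mem_omegaGL_of_odd _ d hd
    (Cfsg.Agent.Lib.Helper59.Tq.std_minus d (by omega) a b hab) x hx n hn hxn

/-- scalar reduction: `x ^ r` scalar, `x` not scalar, `r` odd: `y = x ^ r * x` is an isometry with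
`y ^ r = 1`, `y ≠ 1`, and `x` leaves invariant every subspace that `y` leaves invariant -/
theorem exists_pow_eq_one_minus (d : ℕ) (hd : 1 ≤ d) (a b : F)
    (hab : ∀ x y : F, x ^ 2 + a * x * y + b * y ^ 2 = 0 → x = 0 ∧ y = 0) (r : ℕ) (hr : Odd r)
    (x : GL (IM d) F) (hx : x ∈ Cfsg.isometryGroup F (Cfsg.quadFormMinus (d - 1) F a b))
    (hxr : ∃ z : F, ((x ^ r : GL (IM d) F) : MM d F) = z • 1)
    (hns : ∀ z : F, (x : MM d F) ≠ z • 1) :
    ∃ y : GL (IM d) F, y ∈ Cfsg.isometryGroup F (Cfsg.quadFormMinus (d - 1) F a b) ∧ y ^ r = 1 ∧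
      y ≠ 1 ∧ ∀ W : Submodule F (VM d F), Inv (Matrix.toLin' (y : MM d F)) W →
        W.map (Matrix.toLin' (x : MM d F)) ≤ W := by
  have hS := Cfsg.Agent.Lib.Helper59.Tq.std_minus d hd a b hab
  obtain ⟨z, hz⟩ := hxr
  have hzz : z * z = 1 :=
    Cfsg.Agent.Lib.Helper59.Tq.scalar_sq_eq_one _ d hd hS (x ^ r) (Subgroup.pow_mem _ hx r) z hz
  have hymat : ((x ^ r * x : GL (IM d) F) : MM d F) = z • (x : MM d F) := by
    rw [Units.val_mul, hz, Matrix.smul_mul, Matrix.one_mul]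
  refine ⟨x ^ r * x, Subgroup.mul_mem _ (Subgroup.pow_mem _ hx r) hx, ?_, ?_, ?_⟩
  · obtain ⟨k, hk⟩ := hr
    have h1 : (x ^ r * x) ^ r = (x ^ r) ^ (r + 1) := by
      rw [← pow_succ, ← pow_mul, ← pow_mul, mul_comm]
    rw [h1]
    apply Units.ext
    rw [Units.val_pow_eq_pow_val, hz, smul_pow, one_pow, Units.val_one]
    have : z ^ (r + 1) = 1 := by
      have : r + 1 = 2 * (k + 1) := by omega
      rw [this, pow_mul, pow_two, hzz, one_pow]
    rw [this, one_smul]
  · intro hy1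
    have h2 : z • (x : MM d F) = 1 := by
      rw [← hymat, hy1, Units.val_one]
    apply hns z
    have h3 : z • (z • (x : MM d F)) = z • (1 : MM d F) := by rw [h2]
    rwa [smul_smul, hzz, one_smul] at h3
  · intro W hW
    rintro _ ⟨w, hw, rfl⟩
    have h4 : Matrix.toLin' ((x ^ r * x : GL (IM d) F) : MM d F) w ∈ W := hW w hw
    rw [hymat, map_smul, LinearMap.smul_apply] at h4
    have h5 := W.smul_mem z h4
    rwa [smul_smul, hzz, one_smul] at h5

end omega

end Cfsg.Agent.Lib.Helper14.Qm
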