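import Cfsg.Agent.Lib.Helper14.QmOddAbs
import Cfsg.Agent.Lib.Helper14.QmBR
import Cfsg.Agent.Lib.Helper43.QmELT
import Cfsg.Agent.Lib.Helper21.EqCONG
import Cfsg.Agent.Lib.Helper5.HyAsmB

/-! # Qm hive (helper14), S5990: the case of odd `r ≠ p` -/

set_option autoImplicit false
set_option linter.unusedSectionVars false

namespace Cfsg.Agent.Lib.Helper14.Qm

open Module
open Cfsg.Agent.Lib.Helper2.BG Cfsg.Agent.Lib.Helper99 Cfsg.Agent.Lib.Helper48.Ti
open Cfsg.Agent.Lib.Helper5.Hy (Plus Fixes Fix Orth)
open Cfsg.Agent.Lib.Helper65.Qe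

section mapprops

variable {F V : Type*} [Field F] [AddCommGroup V] [Module F V] [FiniteDimensional F V]
variable {Q : QuadraticForm F V}

theorem od_isom_pol {f : Module.End F V} (hf : IsomQ Q f) (u v : V) :
    pol Q (f u) (f v) = pol Q u v := by
  change QuadraticMap.polar Q (f u) (f v) = QuadraticMap.polar Q u v
  rw [QuadraticMap.polar, QuadraticMap.polar, ← map_add, hf, hf, hf]

/-- images of subspaces under an injective isometry keep `Nd`, `finrank` and `PlusQ` -/
theorem od_map_props {f : Module.End F V} (hf : IsomQ Q f) (hinj : Function.Injective f)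
    (W : Submodule F V) :
    (Nd (pol Q) W → Nd (pol Q) (W.map f)) ∧ finrank F ↥(W.map f) = finrank F W ∧
      (PlusQ Q W → PlusQ Q (W.map f)) := by
  have hdim : ∀ U : Submodule F V, finrank F ↥(U.map f) = finrank F U := fun U =>
    LinearEquiv.finrank_eq (Submodule.equivMapOfInjective f hinj U).symm
  refine ⟨?_, hdim W, ?_⟩
  · intro hW u hu h
    obtain ⟨u', hu', rfl⟩ := Submodule.mem_map.1 hu
    have : u' = 0 := hW u' hu' (fun v hv => by
      have := h (f v) (Submodule.mem_map_of_mem hv)
      rwa [od_isom_pol hf] at this)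
    rw [this, map_zero]
  · rintro ⟨U, hUW, hU, hdimU⟩
    refine ⟨U.map f, Submodule.map_mono hUW, ?_, by rw [hdim, hdim, hdimU]⟩
    intro a ha
    obtain ⟨a', ha', rfl⟩ := Submodule.mem_map.1 ha
    rw [hf]
    exact hU a' ha'

theorem od_isomQ_pow {f : Module.End F V} (hf : IsomQ Q f) (k : ℕ) : IsomQ Q (f ^ k) := by
  intro v
  induction k with
  | zero => simp
  | succ k ih => rw [pow_succ', Module.End.mul_apply, hf, ih]

/-- the family of elliptic `m`-spaces is closed under an isometry of finite order -/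
theorem od_family_closed {f : Module.End F V} (hf : IsomQ Q f) (r : ℕ) (hr : 0 < r)
    (hfr : f ^ r = 1) (m : ℕ) (W : Submodule F V)
    (h : Nd (pol Q) W ∧ finrank F W = m ∧ (PlusQ Q W ↔ False)) :
    Nd (pol Q) (W.map f) ∧ finrank F ↥(W.map f) = m ∧ (PlusQ Q (W.map f) ↔ False) := by
  obtain ⟨h1, h2, h3⟩ := h
  have hmul : f * f ^ (r - 1) = 1 := by
    rw [← pow_succ', Nat.sub_add_cancel hr, hfr]
  have hmul' : f ^ (r - 1) * f = 1 := by
    rw [← pow_succ, Nat.sub_add_cancel hr, hfr]
  have hinj : Function.Injective f := by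
    intro u v huv
    have := congrArg (f ^ (r - 1)) huv
    rw [← Module.End.mul_apply, ← Module.End.mul_apply, hmul'] at this
    simpa using this
  have hinj' : Function.Injective (f ^ (r - 1)) := by
    intro u v huv
    have := congrArg f huv
    rw [← Module.End.mul_apply, ← Module.End.mul_apply, hmul] at this
    simpa using this
  obtain ⟨m1, m2, -⟩ := od_map_props hf hinj W
  refine ⟨m1 h1, by rw [m2, h2], ?_⟩
  constructor
  · intro hP
    apply h3.1
    have h4 := (od_map_props (od_isomQ_pow hf (r - 1)) hinj' (W.map f)).2.2 hP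
    have h5 : (W.map f).map (f ^ (r - 1)) = W := by
      rw [← Submodule.map_comp]
      have : (f ^ (r - 1)) ∘ₗ f = LinearMap.id := hmul'
      rw [this, Submodule.map_id]
    rwa [h5] at h4
  · intro hb
    exact absurd hb not_false

end mapprops

section concrete

variable {F : Type*} [Field F] [Fintype F]

theorem od_toLin_ne_one (d : ℕ) (x : GL (IM d) F) (hx : x ≠ 1) :
    Matrix.toLin' (x : MM d F) ≠ 1 := by
  intro h
  apply hx
  apply Units.ext
  have : Matrix.toLin' (x : MM d F) = Matrix.toLin' (1 : MM d F) := by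
    rw [h, Matrix.toLin'_one]
    rfl
  exact Matrix.toLin'.injective this

/-- the main equivalence for odd `r ≠ p` -/
theorem odd_main {p : ℕ} [Fact p.Prime] [CharP F p] (d m : ℕ) (hd : 4 ≤ d) (hm : 2 ≤ m)
    (hme : Even m) (hmn : m + 2 ≤ 2 * d) (a b : F)
    (hab : ∀ x y : F, x ^ 2 + a * x * y + b * y ^ 2 = 0 → x = 0 ∧ y = 0)
    (r : ℕ) [Fact r.Prime] (hr2 : r ≠ 2) (hrp : r ≠ p)
    (hrΩ : r ∣ Nat.card {W : Submodule F (VM d F) // IsEll d a b m W})
    (i c : ℕ) (hi : i = orderOf ((Fintype.card F : ℕ) : ZMod r))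
    (hc : c = if Even i then i else 2 * i) :
    (∀ x : GL (IM d) F, x ∈ Cfsg.Geo.omegaGL (Cfsg.quadFormMinus (d - 1) F a b) →
      (∃ z : F, ((x ^ r : GL (IM d) F) : MM d F) = z • (1 : MM d F)) →
      (∀ z : F, (x : MM d F) ≠ z • (1 : MM d F)) → FixE d a b m x) ↔ RHS d m i c := by
  have hr : r.Prime := Fact.out
  have hrodd : Odd r := hr.odd_of_ne_two hr2
  have hrq : ¬ r ∣ Fintype.card F := Cfsg.Agent.Lib.Helper5.Hy.asm_not_dvd_card (p := p) r hrp
  obtain ⟨hipos, hcpos, hceven⟩ :=
    Cfsg.Agent.Lib.Helper5.Hy.asm_c_pos (F := F) r hrq i c hi hc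
  obtain ⟨hV, hn, hminus⟩ := br_top d (by omega) a b hab
  have hev : Even (finrank F (VM d F)) := by rw [hn]; exact even_two_mul d
  have hS := Cfsg.Agent.Lib.Helper59.Tq.std_minus d (by omega) a b hab
  -- the set of the statement in the abstract vocabulary
  have hcardP : Nat.card {W : Submodule F (VM d F) // IsEll d a b m W} =
      Nat.card {W : Submodule F (VM d F) //
        Nd (pol (QM d F a b)) W ∧ finrank F W = m ∧ (PlusQ (QM d F a b) W ↔ False)} :=
    Nat.card_congr (Equiv.subtypeEquivRight (fun W => br_isEll d a b m W))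
  constructor
  · -- LHS → RHS
    intro hL
    by_cases hval : ∃ s, Valid (2 * d) i c s
    · obtain ⟨s, hsv, hsmax⟩ := qm_exists_max (2 * d) i c hcpos hval
      have hside : s * c = 2 * d → (Even i ∧ Odd s) := by
        intro h
        have := hsv.2.2 h
        unfold tP at this
        push Not at this
        exact ⟨Nat.not_odd_iff_even.mp this.1, Nat.not_even_iff_odd.mp this.2⟩
      obtain ⟨x, hxO, hxr, hxfix⟩ := exists_isom_blocks (p := p) r hr2 hrp d (by omega) a b hab
        i c hi hc s hsv.1 hsv.2.1 hside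
      have hxΩ := mem_omegaGL_of_odd_minus d (by omega) a b hab x hxO r hrodd hxr
      set f := Matrix.toLin' (x : MM d F) with hfdef
      have hf : IsomQ (QM d F a b) f := br_isom d a b x hxO
      have hfr : f ^ r = 1 := by
        rw [hfdef, Cfsg.Agent.Lib.Helper5.Hy.asm_toLin_pow, hxr]
        simp
        rfl
      have hsc : 1 * c ≤ s * c := Nat.mul_le_mul_right c hsv.1
      have hx1 : x ≠ 1 := by
        intro h
        have h1 : finrank F ↥(Fix f) = 2 * d := by
          have : f = 1 := by
            rw [hfdef, h]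
            simp
            rfl
          rw [this]
          have : Fix (1 : Module.End F (VM d F)) = ⊤ := by
            ext v
            simp
          rw [this, finrank_top, hn]
        omega
      have hns := Cfsg.Agent.Lib.Helper59.Tq.nonScalar_of_pow_eq_one _ d (by omega) hS r hrodd x
        hxO hxr hx1
      have hfixE := hL x hxΩ ⟨1, by rw [hxr, one_smul]; rfl⟩ hns
      have hfixQ := (br_fixE d a b m x).mp hfixE
      obtain ⟨hCnd, s', hs', htype, -⟩ :=
        oa_struct hV hev hminus hf r hr2 hrq hfr i c hi hc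
      have hss : s' = s := by
        have h1 : finrank F ↥(Fix f) = 2 * d - s * c := hxfix
        have h2 : 2 * d = finrank F ↥(Fix f) + s' * c := by rw [← hn]; exact hs'
        have h3 := hsv.2.1
        have : s' * c = s * c := by omega
        exact Nat.eq_of_mul_eq_mul_right hcpos this
      subst hss
      have hfixA := oa_nec hV hf r hr2 hrq hfr i c hi hc s' hs' htype m hme hfixQ
      rw [hn] at hfixA
      apply qm_arith_nec d m i c hipos hc hm hmn s' hsv hsmax hfixA
      -- `c ≤ m ∨ c ∣ 2 d` by counting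
      by_contra hcon
      push Not at hcon
      obtain ⟨hmc, hndvd⟩ := hcon
      -- the fixed space is small
      have hCc : finrank F ↥(Fix f) < c := by
        by_contra hge
        push Not at hge
        have hv' : Valid (2 * d) i c (s' + 1) := by
          refine ⟨by omega, by rw [Nat.succ_mul]; omega, ?_⟩
          intro h
          exfalso
          exact hndvd ⟨s' + 1, by rw [← h, mul_comm]⟩
        have := hsmax _ hv'
        omega
      -- all invariant members lie in `Fix f`
      have hno := fun g hg hgr hgC =>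
        no_isomQ_of_small (Q := QM d F a b) r hV hr2 hrq i c hi hc hCc g hg hgr hgC
      have hcong := Cfsg.Agent.Lib.Helper39.Eq.card_modEq_fixedQ f r hfr
        (fun W : Submodule F (VM d F) =>
          Nd (pol (QM d F a b)) W ∧ finrank F W = m ∧ (PlusQ (QM d F a b) W ↔ False))
        (fun W hW => od_family_closed hf r hr.pos hfr m W hW)
      have hcard : Nat.card {W : Submodule F (VM d F) //
          (Nd (pol (QM d F a b)) W ∧ finrank F W = m ∧ (PlusQ (QM d F a b) W ↔ False)) ∧
            Inv f W} =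
          Nat.card {W : Submodule F (VM d F) // W ≤ Fix f ∧ Nd (pol (QM d F a b)) W ∧
            finrank F W = m ∧ (PlusQ (QM d F a b) W ↔ False)} := by
        apply Nat.card_congr
        apply Equiv.subtypeEquivRight
        intro W
        constructor
        · rintro ⟨⟨h1, h2', h3⟩, h4⟩
          exact ⟨le_fix_of_lt (Q := QM d F a b) r hf hr2 hrq hfr i c hi hc h4 h1
            (by rw [h2']; exact hmc), h1, h2', h3⟩
        · rintro ⟨h0, h1, h2', h3⟩
          exact ⟨⟨h1, h2', h3⟩, Cfsg.Agent.Lib.Helper5.Hy.asm_inv_of_le_fix h0⟩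
      have hdvd : r ∣ Nat.card {W : Submodule F (VM d F) // W ≤ Fix f ∧
          Nd (pol (QM d F a b)) W ∧ finrank F W = m ∧ (PlusQ (QM d F a b) W ↔ False)} := by
        rw [← hcard]
        rw [hcardP] at hrΩ
        exact (Nat.modEq_zero_iff_dvd.1 (hcong.symm.trans (Nat.modEq_zero_iff_dvd.2 hrΩ)))
      -- a fixed member exists and lies in `Fix f`
      obtain ⟨W, hWi, hWnd, hWdim, hWt⟩ := hfixQ
      have hWle : W ≤ Fix f := le_fix_of_lt (Q := QM d F a b) r hf hr2 hrq hfr i c hi hc hWi hWnd
        (by rw [hWdim]; exact hmc)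
      have hmle : m ≤ finrank F ↥(Fix f) := by
        rw [← hWdim]
        exact Submodule.finrank_mono hWle
      rcases Nat.lt_or_ge m (finrank F ↥(Fix f)) with hlt | hge
      · exact not_dvd_card_typeQ (Q := QM d F a b) hV hCnd r hno m hme (by omega) hlt False hdvd
      · -- `m = dim Fix f`: the only candidate is `Fix f`
        have hmeq : m = finrank F ↥(Fix f) := le_antisymm hmle hge
        have hWeq : W = Fix f :=
          Submodule.eq_of_le_of_finrank_eq hWle (by rw [hWdim, hmeq])
        have hone : Nat.card {W : Submodule F (VM d F) // W ≤ Fix f ∧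
            Nd (pol (QM d F a b)) W ∧ finrank F W = m ∧ (PlusQ (QM d F a b) W ↔ False)} = 1 := by
          rw [Nat.card_eq_one_iff_unique]
          refine ⟨⟨?_⟩, ⟨⟨W, hWle, hWnd, hWdim, hWt⟩⟩⟩
          rintro ⟨W1, h1, -, h3, -⟩ ⟨W2, h1', -, h3', -⟩
          apply Subtype.ext
          change W1 = W2
          rw [Submodule.eq_of_le_of_finrank_eq h1 (by rw [h3, hmeq]),
            Submodule.eq_of_le_of_finrank_eq h1' (by rw [h3', hmeq])]
        rw [hone] at hdvd
        exact hr.one_lt.ne' (Nat.dvd_one.mp hdvd)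
    · -- no valid `s`: no element of order `r` at all, so `r ∤ #Ω`
      exfalso
      have hno : ∀ g : Module.End F (VM d F), IsomQ (QM d F a b) g → g ^ r = 1 →
          (∀ v, (∀ u ∈ (⊤ : Submodule F (VM d F)), pol (QM d F a b) u v = 0) → g v = v) →
          g = 1 := by
        intro g hg hgr _
        by_contra hg1
        obtain ⟨-, s, -, -, hv⟩ := oa_struct hV hev hminus hg r hr2 hrq hgr i c hi hc
        apply hval
        refine ⟨s, ?_⟩
        have := hv hg1
        rwa [hn] at this
      have h5 := not_dvd_card_typeQ (Q := QM d F a b) hV (C := ⊤) hV r hno m hme (by omega)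
        (by rw [finrank_top, hn]; omega) False
      apply h5
      have hcard : Nat.card {W : Submodule F (VM d F) // W ≤ ⊤ ∧ Nd (pol (QM d F a b)) W ∧
          finrank F W = m ∧ (PlusQ (QM d F a b) W ↔ False)} =
          Nat.card {W : Submodule F (VM d F) //
            Nd (pol (QM d F a b)) W ∧ finrank F W = m ∧ (PlusQ (QM d F a b) W ↔ False)} :=
        Nat.card_congr (Equiv.subtypeEquivRight (fun W => by simp))
      rw [hcard, ← hcardP]
      exact hrΩ
  · -- RHS → LHS
    intro hR x hxΩ hxr hns
    have hxO := Cfsg.Agent.Lib.Helper59.Tq.omegaGL_le _ hxΩ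
    obtain ⟨y, hyO, hyr, hy1, hyW⟩ :=
      exists_pow_eq_one_minus d (by omega) a b hab r hrodd x hxO hxr hns
    set f := Matrix.toLin' (y : MM d F) with hfdef
    have hf : IsomQ (QM d F a b) f := br_isom d a b y hyO
    have hfr : f ^ r = 1 := by
      rw [hfdef, Cfsg.Agent.Lib.Helper5.Hy.asm_toLin_pow, hyr]
      simp
      rfl
    have hf1 : f ≠ 1 := od_toLin_ne_one d y hy1
    obtain ⟨-, s, hs, htype, hv⟩ := oa_struct hV hev hminus hf r hr2 hrq hfr i c hi hc
    have hvalid := hv hf1
    rw [hn] at hvalid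
    have hfixA := qm_arith_suff d m i c hipos hc hm hmn hR s hvalid
    rw [← hn] at hfixA
    obtain ⟨W, hWi, hWnd, hWdim, hWt⟩ :=
      oa_suff hV hf r hr2 hrq hfr i c hi hc s hs htype m hme hfixA
    exact ⟨W, (br_isEll d a b m W).mpr ⟨hWnd, hWdim, hWt⟩, hyW W hWi⟩

end concrete

end Cfsg.Agent.Lib.Helper14.Qm
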