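import Cfsg.Agent.Lib.Helper65.QeLayer
import Cfsg.Agent.Lib.Helper54.QeASM0
import Cfsg.Agent.Lib.Helper5.QeASM1
import Cfsg.Agent.Lib.Helper85.QeASM3
import Cfsg.Agent.Lib.Helper20.QeASM4
import Cfsg.Agent.Lib.Helper20.QeASM5
import Cfsg.Agent.Lib.Helper14.QmArith
import Cfsg.Agent.Lib.Helper5.HyAsmA

/-! # Qm hive (helper14), S5990: abstract assembly for odd `r ≠ p`, `V` of minus type, elliptic members -/

set_option autoImplicit false

namespace Cfsg.Agent.Lib.Helper14.Qm

open Module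
open Cfsg.Agent.Lib.Helper2.BG Cfsg.Agent.Lib.Helper99 Cfsg.Agent.Lib.Helper48.Ti
open Cfsg.Agent.Lib.Helper5.Hy (Plus Fixes Fix Orth)
open Cfsg.Agent.Lib.Helper65.Qe

section abstract

variable {F V : Type*} [Field F] [Fintype F] [AddCommGroup V] [Module F V] [FiniteDimensional F V]
variable {Q : QuadraticForm F V}

theorem oa_plusQ_bot (Q : QuadraticForm F V) : PlusQ Q ⊥ :=
  ⟨⊥, le_refl _, fun u hu => by rw [(Submodule.mem_bot F).1 hu, map_zero], by simp⟩

theorem oa_eq_one_of_fix_top {f : Module.End F V} (h : finrank F ↥(Fix f) = finrank F V) :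
    f = 1 := by
  have htop : Fix f = ⊤ := Submodule.eq_top_of_finrank_eq h
  refine LinearMap.ext fun v => ?_
  have hv : v ∈ Fix f := by rw [htop]; exact Submodule.mem_top
  rw [LinearMap.mem_ker, LinearMap.sub_apply, Module.End.one_apply, sub_eq_zero] at hv
  rw [hv, Module.End.one_apply]

/-- the structure of an isometry of odd prime order `r ≠ p` of a space of MINUS type -/
theorem oa_struct (hV : Nd (pol Q) ⊤) (he : Even (finrank F V)) (hminus : ¬ PlusQ Q ⊤)
    {f : Module.End F V} (hf : IsomQ Q f) (r : ℕ) [Fact r.Prime] (hr2 : r ≠ 2)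
    (hrq : ¬ r ∣ Fintype.card F) (hfr : f ^ r = 1) (i c : ℕ)
    (hi : i = orderOf ((Fintype.card F : ℕ) : ZMod r)) (hc : c = if Even i then i else 2 * i) :
    Nd (pol Q) (Fix f) ∧ ∃ s : ℕ, finrank F V = finrank F ↥(Fix f) + s * c ∧
      (PlusQ Q (Fix f) ↔ ¬ tP i s) ∧ (f ≠ 1 → Valid (finrank F V) i c s) := by
  obtain ⟨hnd, ⟨s, hs⟩, htype⟩ := plusQ_fix_iff (Q := Q) (f := f) r hV hf hr2 hrq hfr i c hi hc he
  obtain ⟨hipos, hcpos, hceven⟩ :=
    Cfsg.Agent.Lib.Helper5.Hy.asm_c_pos (F := F) r hrq i c hi hc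
  have hsub : finrank F V - finrank F ↥(Fix f) = s * c := by omega
  rw [hsub, tp_iff (F := F) r hr2 hrq i c hi hc s] at htype
  have htype' : PlusQ Q (Fix f) ↔ ¬ tP i s := by
    rw [htype]
    unfold tP
    constructor
    · intro h h1
      exact hminus (h.mpr h1)
    · intro h
      exact ⟨fun h1 => absurd h1 hminus, fun h1 => absurd h1 h⟩
  refine ⟨hnd, s, hs, htype', ?_⟩
  intro hf1
  refine ⟨?_, by omega, ?_⟩
  · by_contra h0
    have hs0 : s = 0 := by omega
    apply hf1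
    apply oa_eq_one_of_fix_top
    rw [hs, hs0]
    simp
  · intro hsc
    have h0 : finrank F ↥(Fix f) = 0 := by omega
    have hbot : Fix f = ⊥ := Submodule.finrank_eq_zero.1 h0
    rw [hbot] at htype'
    exact htype'.mp (oa_plusQ_bot Q)

/-- sufficiency -/
theorem oa_suff (hV : Nd (pol Q) ⊤)
    {f : Module.End F V} (hf : IsomQ Q f) (r : ℕ) [Fact r.Prime] (hr2 : r ≠ 2)
    (hrq : ¬ r ∣ Fintype.card F) (hfr : f ^ r = 1) (i c : ℕ)
    (hi : i = orderOf ((Fintype.card F : ℕ) : ZMod r)) (hc : c = if Even i then i else 2 * i)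
    (s : ℕ) (hs : finrank F V = finrank F ↥(Fix f) + s * c) (htype : PlusQ Q (Fix f) ↔ ¬ tP i s)
    (m : ℕ) (hme : Even m) (hfix : FixA (finrank F V) m i c s) : FixesQ Q f m False := by
  obtain ⟨j, hjs, hjm, hle, h0, he'⟩ := hfix
  have hjsc : j * c ≤ s * c := Nat.mul_le_mul_right c hjs
  have hsub : finrank F V - s * c = finrank F ↥(Fix f) := by omega
  rw [hsub] at hle he'
  apply fixesQ_of_mode (Q := Q) (f := f) r hV hf hr2 hrq hfr i c hi hc m hme False j hjm
    (by omega)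
  by_cases hm0 : m = j * c
  · right
    left
    refine ⟨hm0, ?_⟩
    rw [tp_iff (F := F) r hr2 hrq i c hi hc j]
    exact ⟨fun h => absurd h not_false, fun h => absurd h (h0 hm0)⟩
  · rcases Nat.lt_or_ge (m - j * c) (finrank F ↥(Fix f)) with hlt | hge
    · left
      exact ⟨by omega, hlt⟩
    · right
      right
      have heq : m - j * c = finrank F ↥(Fix f) := le_antisymm hle hge
      refine ⟨heq, ?_⟩
      rw [tp_iff (F := F) r hr2 hrq i c hi hc j]
      have h1 := he' heq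
      constructor
      · intro h
        exact absurd h not_false
      · intro h
        exfalso
        -- `PlusQ (Fix f) ↔ ¬ tP i s`, `tP i j ↔ tP i s`
        by_cases hts : tP i s
        · exact (htype.mp (h.mpr (h1.mpr hts))) hts
        · exact hts (h1.mp (h.mp (htype.mpr hts)))

/-- necessity -/
theorem oa_nec (hV : Nd (pol Q) ⊤) {f : Module.End F V} (hf : IsomQ Q f) (r : ℕ) [Fact r.Prime]
    (hr2 : r ≠ 2) (hrq : ¬ r ∣ Fintype.card F) (hfr : f ^ r = 1) (i c : ℕ)
    (hi : i = orderOf ((Fintype.card F : ℕ) : ZMod r)) (hc : c = if Even i then i else 2 * i)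
    (s : ℕ) (hs : finrank F V = finrank F ↥(Fix f) + s * c) (htype : PlusQ Q (Fix f) ↔ ¬ tP i s)
    (m : ℕ) (hme : Even m) (h : FixesQ Q f m False) : FixA (finrank F V) m i c s := by
  obtain ⟨hipos, hcpos, hceven⟩ :=
    Cfsg.Agent.Lib.Helper5.Hy.asm_c_pos (F := F) r hrq i c hi hc
  obtain ⟨j, hjm, hjs, hle, h0, he'⟩ :=
    mode_of_fixesQ (Q := Q) (f := f) r hV hf hr2 hrq hfr i c hi hc m hme False h
  have hsub : finrank F V - s * c = finrank F ↥(Fix f) := by omega
  refine ⟨j, ?_, hjm, by rw [hsub]; exact hle, ?_, ?_⟩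
  · apply Nat.le_of_mul_le_mul_right _ hcpos
    omega
  · intro hm0
    have h1 := h0 hm0
    rw [tp_iff (F := F) r hr2 hrq i c hi hc j] at h1
    exact fun h2 => h1.mpr h2
  · intro heq
    rw [hsub] at heq
    have h1 := he' heq
    rw [tp_iff (F := F) r hr2 hrq i c hi hc j] at h1
    -- `¬ (PlusQ (Fix f) ↔ tP i j)`
    have h2 : ¬ (PlusQ Q (Fix f) ↔ (Odd i ∨ Even j)) := fun h3 => h1.mpr h3
    change tP i j ↔ tP i s
    by_cases hts : tP i s
    · refine ⟨fun _ => hts, fun _ => ?_⟩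
      by_contra hj
      exact h2 ⟨fun h3 => absurd hts (htype.mp h3), fun h3 => absurd h3 hj⟩
    · refine ⟨fun hj => ?_, fun h3 => absurd h3 hts⟩
      exfalso
      exact h2 ⟨fun _ => hj, fun _ => htype.mpr hts⟩

end abstract

end Cfsg.Agent.Lib.Helper14.Qm
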