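import Cfsg.Agent.Lib.Helper14.QmBR
import Cfsg.Agent.Lib.Helper78.QmNALT
import Cfsg.Agent.Lib.Helper4.QmALT
import Cfsg.Agent.Lib.Helper85.QmRANK
import Cfsg.Agent.Lib.Helper42.QmCOORD
import Cfsg.Agent.Lib.Helper54.QmCONJ
import Cfsg.Agent.Lib.Helper2.QmBAD

/-! # Qm hive (helper14), S5990: the case `r = 2 = p` (characteristic 2) -/

set_option autoImplicit false
set_option linter.unusedSectionVars false

namespace Cfsg.Agent.Lib.Helper14.Qm

open Module
open Cfsg.Agent.Lib.Helper2.BG Cfsg.Agent.Lib.Helper99 Cfsg.Agent.Lib.Helper48.Ti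
open Cfsg.Agent.Lib.Helper5.Hy (Plus Fixes Fix Orth)
open Cfsg.Agent.Lib.Helper65.Qe (pol PlusQ IsomQ FixesQ tp)
open Cfsg.Agent.Lib.Helper8 (minusForm IsInvIso nilPart)

section concrete

variable {F : Type*} [Field F] [Fintype F]

/-- in characteristic 2 the coefficient `a` of an anisotropic binary form is nonzero -/
theorem te_a_ne_zero (h2 : (2 : F) = 0) (hsq : ∀ u : F, ∃ c : F, c * c = u) (a b : F)
    (hab : ∀ x y : F, x ^ 2 + a * x * y + b * y ^ 2 = 0 → x = 0 ∧ y = 0) : a ≠ 0 := by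
  intro ha
  obtain ⟨c, hc⟩ := hsq b
  have h1 := hab c 1 (by
    rw [ha, pow_two, hc]
    have : b + 0 * c * 1 + b * 1 ^ 2 = 2 * b := by ring
    rw [this, h2, zero_mul])
  exact one_ne_zero h1.2

/-- every involutive isometry fixes an elliptic `m`-space if `d` is even or `m ≡ 2 (mod 4)` -/
theorem te_good (h2 : (2 : F) = 0) (hsq : ∀ u : F, ∃ c : F, c * c = u) (d m : ℕ) (hd : 4 ≤ d)
    (hm : 2 ≤ m) (hme : Even m) (hmn : m + 2 ≤ 2 * d) (a b : F)
    (hab : ∀ x y : F, x ^ 2 + a * x * y + b * y ^ 2 = 0 → x = 0 ∧ y = 0)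
    (hR : Even d ∨ m % 4 = 2) {t : (VM d F) →ₗ[F] (VM d F)} (ht : IsInvIso (QM d F a b) t) :
    FixesQ (QM d F a b) t m False := by
  classical
  have ha := te_a_ne_zero h2 hsq a b hab
  have hQ : (QuadraticMap.polarBilin (QM d F a b)).Nondegenerate :=
    Cfsg.Agent.Lib.Helper43.ZeroCount.minusForm_nondeg F a b hab (d - 1)
  obtain ⟨hrk, hrkalt⟩ := rank_le_minus h2 d (by omega) a b hab ht
  obtain ⟨k, hk⟩ : ∃ k, m = 2 * k + 2 := by
    rcases hme with ⟨u, hu⟩
    exact ⟨u - 1, by omega⟩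
  -- the model fixes `ellSub S` with `|S| = k`
  have hmodel : ∀ (t' : (VM d F) →ₗ[F] (VM d F)) (S : Finset (Fin (d - 1))), S.card = k →
      (ellSub d F (S : Set (Fin (d - 1)))).map t' ≤ ellSub d F (S : Set (Fin (d - 1))) →
      FixesQ (QM d F a b) t' m False := by
    intro t' S hS hinv
    obtain ⟨h1, h3, h4⟩ := isEll_ellSub d (by omega) a b hab S
    refine ⟨ellSub d F (S : Set (Fin (d - 1))), ?_, h3, by rw [h1, hS, hk], iff_false_intro h4⟩
    intro v hv
    exact hinv ⟨v, hv, rfl⟩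
  by_cases hA : ∀ z, QM d F a b (nilPart t z) = 0
  · -- alternating type
    obtain ⟨⟨r', hr'⟩, hle⟩ := hrkalt hA
    have hr2 : finrank F (LinearMap.range (nilPart t)) = 2 * r' := by omega
    obtain ⟨t', ht', hrk', hA', hS'⟩ := std_alt_minus (F := F) h2 d r' (by omega) a b
    obtain ⟨S, hScard, hSinv⟩ := hS' k (by omega) (by
      rcases Nat.lt_or_ge (2 * r' + 1) d with h | h
      · exact Or.inl h
      · right
        have hde : d = 2 * r' + 1 := by omega
        rcases hR with hev | hm4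
        · rcases hev with ⟨u, hu⟩
          omega
        · exact ⟨(k / 2), by omega⟩)
    obtain ⟨g, hg, hgt⟩ := Cfsg.Agent.Lib.Helper8.conj_of_same_type h2 hsq hQ ht ht'
      (by rw [hr2, hrk']) ⟨fun _ => hA', fun _ => hA⟩
    exact fixesQ_of_conj g hg hgt m False (hmodel t' S hScard hSinv)
  · -- non-alternating type
    have hs1 : 1 ≤ finrank F (LinearMap.range (nilPart t)) := by
      push Not at hA
      obtain ⟨z, hz⟩ := hA
      by_contra h0
      have h00 : finrank F (LinearMap.range (nilPart t)) = 0 := by omega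
      have hbot : LinearMap.range (nilPart t) = ⊥ := Submodule.finrank_eq_zero.1 h00
      have : nilPart t z = 0 := by
        have : nilPart t z ∈ LinearMap.range (nilPart t) := ⟨z, rfl⟩
        rw [hbot] at this
        exact (Submodule.mem_bot F).1 this
      apply hz
      rw [this, map_zero]
    obtain ⟨t', ht', hrk', hA', hS'⟩ := std_nonalt_minus (F := F) h2 d
      (finrank F (LinearMap.range (nilPart t))) hs1 hrk a b hab ha
    obtain ⟨S, -, hScard⟩ := Finset.exists_subset_card_eq (s := (Finset.univ : Finset (Fin (d - 1))))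
      (n := k) (by rw [Finset.card_univ, Fintype.card_fin]; omega)
    have hA'' : ¬ ∀ z, QM d F a b (nilPart t' z) = 0 := by
      push Not
      exact hA'
    obtain ⟨g, hg, hgt⟩ := Cfsg.Agent.Lib.Helper8.conj_of_same_type h2 hsq hQ ht ht'
      (by rw [hrk']) ⟨fun h => absurd h hA, fun h => absurd h hA''⟩
    exact fixesQ_of_conj g hg hgt m False (hmodel t' S hScard (hS' _))

/-- the main equivalence for `r = 2 = p` -/
theorem two_even_main (h2 : (2 : F) = 0) (hsq : ∀ u : F, ∃ c : F, c * c = u) (d m : ℕ)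
    (hd : 4 ≤ d) (hm : 2 ≤ m) (hme : Even m) (hmn : m + 2 ≤ 2 * d) (a b : F)
    (hab : ∀ x y : F, x ^ 2 + a * x * y + b * y ^ 2 = 0 → x = 0 ∧ y = 0) :
    (∀ x : GL (IM d) F, x ∈ Cfsg.Geo.omegaGL (Cfsg.quadFormMinus (d - 1) F a b) →
      (∃ z : F, ((x ^ 2 : GL (IM d) F) : MM d F) = z • (1 : MM d F)) →
      (∀ z : F, (x : MM d F) ≠ z • (1 : MM d F)) → FixE d a b m x) ↔
    (Even d ∨ m % 4 = 2) := by
  have hS := Cfsg.Agent.Lib.Helper59.Tq.std_minus d (by omega) a b hab
  constructor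
  · intro hL
    by_contra hcon
    push Not at hcon
    obtain ⟨hdo, hm4⟩ := hcon
    rw [Nat.not_even_iff_odd] at hdo
    obtain ⟨x, hxΩ, hxx, hx1, hbad⟩ := char2_bad_minus h2 d hd hdo a b hab
    have hxO := Cfsg.Agent.Lib.Helper59.Tq.omegaGL_le _ hxΩ
    have hns : ∀ z : F, (x : MM d F) ≠ z • (1 : MM d F) := by
      intro z hz
      have hzz := Cfsg.Agent.Lib.Helper59.Tq.scalar_sq_eq_one _ d (by omega) hS x hxO z hz
      have hz1 : z = 1 := by
        have : (z - 1) * (z - 1) = 0 := by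
          have : (z - 1) * (z - 1) = z * z - 2 * z + 1 := by ring
          rw [this, hzz, h2]
          ring_nf
          rw [h2]
        have := mul_self_eq_zero.mp this
        exact sub_eq_zero.mp this
      apply hx1
      apply Units.ext
      rw [hz, hz1, one_smul, Units.val_one]
    obtain ⟨W, hW, hWinv⟩ := hL x hxΩ ⟨1, by rw [pow_two, hxx, one_smul]; rfl⟩ hns
    obtain ⟨hWnd, hWdim, hWt⟩ := (br_isEll d a b m W).mp hW
    apply hWt.mp
    apply hbad W hWnd hWinv
    rw [hWdim]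
    rcases hme with ⟨u, hu⟩
    exact ⟨u / 2, by omega⟩
  · intro hR x hxΩ hxr hns
    have hxO := Cfsg.Agent.Lib.Helper59.Tq.omegaGL_le _ hxΩ
    obtain ⟨z, hz⟩ := hxr
    have hzz : z * z = 1 :=
      Cfsg.Agent.Lib.Helper59.Tq.scalar_sq_eq_one _ d (by omega) hS (x ^ 2)
        (Subgroup.pow_mem _ hxO 2) z hz
    have hz1 : z = 1 := by
      have : (z - 1) * (z - 1) = 0 := by
        have : (z - 1) * (z - 1) = z * z - 2 * z + 1 := by ring
        rw [this, hzz, h2]
        ring_nf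
        rw [h2]
      have := mul_self_eq_zero.mp this
      exact sub_eq_zero.mp this
    have hxx : (x : MM d F) * (x : MM d F) = 1 := by
      rw [← Units.val_mul, ← pow_two, hz, hz1, one_smul]
    set t := Matrix.toLin' (x : MM d F) with htdef
    have ht : IsInvIso (QM d F a b) t := by
      refine ⟨br_isom d a b x hxO, ?_⟩
      intro v
      rw [htdef, ← Matrix.toLin'_mul_apply, hxx, Matrix.toLin'_one]
      rfl
    rw [br_fixE]
    exact te_good h2 hsq d m hd hm hme hmn a b hab hR ht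

end concrete

end Cfsg.Agent.Lib.Helper14.Qm
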