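import Cfsg.Agent.Lib.Helper14.QmBR
import Cfsg.Agent.Lib.Helper65.QeLayer
import Cfsg.Agent.Lib.Helper64.QmINV
import Cfsg.Agent.Lib.Helper53.HqSQM1
import Cfsg.Agent.Lib.Helper69.HqSQM2
import Cfsg.Agent.Lib.Helper37.QmR2A
import Cfsg.Agent.Lib.Helper69.QmR2B
import Cfsg.Agent.Lib.Helper5.HyAsmB

/-! # Qm hive (helper14), S5990: the case `r = 2`, `q` odd -/

set_option autoImplicit false
set_option linter.unusedSectionVars false

namespace Cfsg.Agent.Lib.Helper14.Qm

open Module
open Cfsg.Agent.Lib.Helper2.BG Cfsg.Agent.Lib.Helper99 Cfsg.Agent.Lib.Helper48.Ti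
open Cfsg.Agent.Lib.Helper5.Hy (Plus Fixes Fix Orth)
open Cfsg.Agent.Lib.Helper65.Qe

section concrete

variable {F : Type*} [Field F] [Fintype F]

theorem to_toLin_mul (d : ℕ) (x : GL (IM d) F) (M : MM d F)
    (h : (x : MM d F) * (x : MM d F) = M) :
    Matrix.toLin' (x : MM d F) * Matrix.toLin' (x : MM d F) = Matrix.toLin' M := by
  rw [← h, Matrix.toLin'_mul]
  rfl

/-- the main equivalence for `r = 2`, `q` odd -/
theorem two_odd_main (h2 : (2 : F) ≠ 0) (d m : ℕ) (hd : 4 ≤ d) (hm : 2 ≤ m)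
    (hme : Even m) (hmn : m + 2 ≤ 2 * d) (a b : F)
    (hab : ∀ x y : F, x ^ 2 + a * x * y + b * y ^ 2 = 0 → x = 0 ∧ y = 0) :
    (∀ x : GL (IM d) F, x ∈ Cfsg.Geo.omegaGL (Cfsg.quadFormMinus (d - 1) F a b) →
      (∃ z : F, ((x ^ 2 : GL (IM d) F) : MM d F) = z • (1 : MM d F)) →
      (∀ z : F, (x : MM d F) ≠ z • (1 : MM d F)) → FixE d a b m x) ↔
    (Even d ∨ Fintype.card F % 8 ≠ 7 ∨ m % 4 = 2) := by
  obtain ⟨hV, hn, hminus⟩ := br_top d (by omega) a b hab
  have hev : Even (finrank F (VM d F)) := by rw [hn]; exact even_two_mul d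
  have hS := Cfsg.Agent.Lib.Helper59.Tq.std_minus d (by omega) a b hab
  have hs : ∀ u v : VM d F, pol (QM d F a b) u v = pol (QM d F a b) v u := glue_pol_symm
  have hminusB : ¬ Plus (pol (QM d F a b)) ⊤ := by
    rw [← glue_plusQ_iff h2]
    exact hminus
  -- consequences of the existence of an isometry with square `-1`
  have hneg : ∀ f : Module.End F (VM d F), Isom (pol (QM d F a b)) f → f * f = -1 →
      (¬ IsSquare (-1 : F)) ∧ Odd d := by
    intro f hf hff
    have h1 := Cfsg.Agent.Lib.Helper15.Hq.sq_neg_type h2 hs hf hff (inv_top f) hV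
    rw [finrank_top, hn] at h1
    have h3 : ¬ (IsSquare (-1 : F) ∨ 4 ∣ 2 * d) := fun h => hminusB (h1.mpr h)
    push Not at h3
    refine ⟨h3.1, ?_⟩
    rw [← Nat.not_even_iff_odd]
    rintro ⟨t, ht⟩
    exact h3.2 ⟨t, by omega⟩
  constructor
  · -- LHS → RHS
    intro hL
    by_contra hcon
    push Not at hcon
    obtain ⟨hdo, hq8, hm4⟩ := hcon
    rw [Nat.not_even_iff_odd] at hdo
    obtain ⟨x, hxΩ, hxx⟩ := exists_sq_neg_one_mem_minus h2 d (by omega) hdo hq8 a b hab
    have hxO := Cfsg.Agent.Lib.Helper59.Tq.omegaGL_le _ hxΩ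
    have hx2 : ((x ^ 2 : GL (IM d) F) : MM d F) = (-1 : F) • (1 : MM d F) := by
      rw [pow_two, Units.val_mul, hxx]
      simp
    have hns : ∀ z : F, (x : MM d F) ≠ z • (1 : MM d F) := by
      intro z hz
      have hzz := Cfsg.Agent.Lib.Helper59.Tq.scalar_sq_eq_one _ d (by omega) hS x hxO z hz
      have h1 : (x : MM d F) * (x : MM d F) = (z * z) • (1 : MM d F) := by
        rw [hz, Matrix.smul_mul, Matrix.mul_smul, Matrix.one_mul, smul_smul]
      rw [hxx, hzz, one_smul] at h1
      -- `-1 = 1` in `MM d F`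
      have hi : Nonempty (IM d) := ⟨Sum.inr 0⟩
      obtain ⟨i0⟩ := hi
      have := congrFun (congrFun h1 i0) i0
      simp only [Matrix.neg_apply, Matrix.one_apply_eq] at this
      apply h2
      linear_combination (-1 : F) * this
    obtain ⟨W, hW, hWinv⟩ := hL x hxΩ ⟨-1, hx2⟩ hns
    obtain ⟨hWnd, hWdim, hWt⟩ := (br_isEll d a b m W).mp hW
    set f := Matrix.toLin' (x : MM d F) with hfdef
    have hf : Isom (pol (QM d F a b)) f := glue_isom (br_isom d a b x hxO)
    have hff : f * f = -1 := by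
      rw [hfdef, to_toLin_mul d x (-1) hxx]
      rw [map_neg, Matrix.toLin'_one]
      rfl
    have hWi : Inv f W := (inv_iff_map_le f W).2 hWinv
    have h1 := Cfsg.Agent.Lib.Helper15.Hq.sq_neg_type h2 hs hf hff hWi hWnd
    rw [hWdim, ← glue_plusQ_iff h2] at h1
    apply hWt.mp
    apply h1.mpr
    right
    rcases hme with ⟨t, ht⟩
    exact ⟨t / 2, by omega⟩
  · -- RHS → LHS
    intro hR x hxΩ hxr hns
    have hxO := Cfsg.Agent.Lib.Helper59.Tq.omegaGL_le _ hxΩ
    obtain ⟨z, hz⟩ := hxr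
    have hzz : z * z = 1 :=
      Cfsg.Agent.Lib.Helper59.Tq.scalar_sq_eq_one _ d (by omega) hS (x ^ 2)
        (Subgroup.pow_mem _ hxO 2) z hz
    set f := Matrix.toLin' (x : MM d F) with hfdef
    have hfQ : IsomQ (QM d F a b) f := br_isom d a b x hxO
    have hf : Isom (pol (QM d F a b)) f := glue_isom hfQ
    have hxx : (x : MM d F) * (x : MM d F) = z • (1 : MM d F) := by
      rw [← hz, pow_two, Units.val_mul]
    have hz1 : z = 1 ∨ z = -1 := by
      have : (z - 1) * (z + 1) = 0 := by ring_nf; rw [← pow_two] at *; linear_combination hzz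
      rcases mul_eq_zero.mp this with h | h
      · left
        exact sub_eq_zero.mp h
      · right
        exact eq_neg_of_add_eq_zero_left h
    rw [br_fixE]
    rcases hz1 with rfl | rfl
    · -- involution
      have hff : f * f = 1 := by
        rw [hfdef, to_toLin_mul d x _ hxx, one_smul, Matrix.toLin'_one]
        rfl
      obtain ⟨W, hWi, hWnd, hWdim, hWt⟩ :=
        fixes_of_invol_full h2 hs hV hev (by rw [hn]; omega) hf hff m hme hm
          (by rw [hn]; exact hmn) False
      exact ⟨W, hWi, hWnd, hWdim, by rw [glue_plusQ_iff h2]; exact hWt⟩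
    · -- `x² = -1`
      have hff : f * f = -1 := by
        rw [hfdef, to_toLin_mul d x _ hxx]
        rw [neg_smul, one_smul, map_neg, Matrix.toLin'_one]
        rfl
      obtain ⟨hnsq, hdo⟩ := hneg f hf hff
      have hm4 : m % 4 = 2 := by
        rcases hR with hde | hq8 | hm4
        · exact absurd hde (Nat.not_even_iff_odd.mpr hdo)
        · exfalso
          have hsq2 := isSquare_two_of_sq_neg_one_mem_minus h2 d (by omega) hdo a b hab x hxΩ
            (by rw [hxx]; simp)
          rw [FiniteField.isSquare_two_iff] at hsq2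
          rw [FiniteField.isSquare_neg_one_iff] at hnsq
          omega
        · exact hm4
      obtain ⟨W, hWi, hWnd, hWdim⟩ :=
        Cfsg.Agent.Lib.Helper15.Hq.sq_neg_exists h2 hs hV hf hff m hme (by rw [hn]; omega)
      refine ⟨W, hWi, hWnd, hWdim, ?_⟩
      rw [glue_plusQ_iff h2, Cfsg.Agent.Lib.Helper15.Hq.sq_neg_type h2 hs hf hff hWi hWnd, hWdim]
      constructor
      · rintro (h | h)
        · exact hnsq h
        · omega
      · intro h
        exact absurd h not_false

end concrete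

end Cfsg.Agent.Lib.Helper14.Qm
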