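import Mathlib

set_option autoImplicit false

namespace Cfsg.Agent.Lib.Helper14

open QuaternionGroup
open scoped commutatorElement

variable {m : ℕ}

theorem quat_comm_of_mul_eq {G : Type*} [Group G] (g₁ g₂ h : G) (H : Subgroup G) (hh : h ∈ H)
    (e : g₁ * g₂ = h * g₂ * g₁) : ⁅g₁, g₂⁆ ∈ H := by
  have : ⁅g₁, g₂⁆ = h := by
    rw [commutatorElement_def, e]; group
  rw [this]; exact hh

theorem quat_a_two_mul_mem (i : ZMod (2 * m)) [NeZero m] :
    (a (2 * i) : QuaternionGroup m) ∈ Subgroup.zpowers ((a 1 : QuaternionGroup m) ^ 2) := by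
  refine ⟨(i.val : ℤ), ?_⟩
  simp only [zpow_natCast]
  rw [← pow_mul, a_one_pow]
  congr 1
  push_cast
  rw [ZMod.natCast_zmod_val]

theorem quat_commutator_le [NeZero m] :
    commutator (QuaternionGroup m) ≤ Subgroup.zpowers ((a 1 : QuaternionGroup m) ^ 2) := by
  rw [commutator_def, Subgroup.commutator_le]
  intro g₁ _ g₂ _
  rcases g₁ with i | i <;> rcases g₂ with j | j
  · apply quat_comm_of_mul_eq _ _ 1 _ (Subgroup.one_mem _)
    simp [a_mul_a, add_comm]
  · apply quat_comm_of_mul_eq _ _ (a (2 * i)) _ (quat_a_two_mul_mem i)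
    simp only [a_mul_xa, xa_mul_a]
    congr 1; ring
  · apply quat_comm_of_mul_eq _ _ (a (2 * (-j))) _ (quat_a_two_mul_mem (-j))
    simp only [a_mul_a, a_mul_xa, xa_mul_a]
    congr 1; ring
  · apply quat_comm_of_mul_eq _ _ (a (2 * (j - i))) _ (quat_a_two_mul_mem (j - i))
    simp only [a_mul_a, a_mul_xa, xa_mul_a, xa_mul_xa]
    congr 1; ring

theorem quat_le_commutator [NeZero m] :
    Subgroup.zpowers ((a 1 : QuaternionGroup m) ^ 2) ≤ commutator (QuaternionGroup m) := by
  rw [Subgroup.zpowers_le]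
  have h : ⁅(a 1 : QuaternionGroup m), (xa 0 : QuaternionGroup m)⁆ = a 1 ^ 2 := by
    have e : (a 1 : QuaternionGroup m) * xa 0 = a 1 ^ 2 * xa 0 * a 1 := by
      rw [a_one_pow]
      simp only [a_mul_xa, xa_mul_a]
      congr 1; push_cast; ring
    rw [commutatorElement_def, e]; group
  rw [← h, commutator_def]
  exact Subgroup.commutator_mem_commutator (Subgroup.mem_top _) (Subgroup.mem_top _)

theorem quat_commutator_eq [NeZero m] :
    commutator (QuaternionGroup m) = Subgroup.zpowers ((a 1 : QuaternionGroup m) ^ 2) :=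
  le_antisymm quat_commutator_le quat_le_commutator

theorem quat_mem_zpowers_a (i : ZMod (2 * m)) [NeZero m] :
    (a i : QuaternionGroup m) ∈ Subgroup.zpowers (a 1 : QuaternionGroup m) := by
  refine ⟨(i.val : ℤ), ?_⟩
  simp only [zpow_natCast]
  rw [a_one_pow, ZMod.natCast_zmod_val]

theorem quat_xa_conj (i : ZMod (2 * m)) :
    (xa i : QuaternionGroup m) * a 1 * (xa i)⁻¹ = (a 1)⁻¹ := by
  have h1 : (xa i : QuaternionGroup m)⁻¹ = xa ((m : ZMod (2 * m)) + i) := by
    apply inv_eq_of_mul_eq_one_right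
    rw [xa_mul_xa, one_def]
    congr 1
    have : ((m : ZMod (2 * m)) + (m + i) - i) = ((2 * m : ℕ) : ZMod (2 * m)) := by
      push_cast; ring
    rw [this, ZMod.natCast_self]
  have h2 : (a 1 : QuaternionGroup m)⁻¹ = a (-1) := by
    apply inv_eq_of_mul_eq_one_right
    rw [a_mul_a, one_def]
    congr 1; ring
  rw [h1, h2, xa_mul_a, xa_mul_xa]
  congr 1
  have : ((m : ZMod (2 * m)) + (m + i) - (i + 1)) = ((2 * m : ℕ) : ZMod (2 * m)) - 1 := by
    push_cast; ring
  rw [this, ZMod.natCast_self]; ring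

end Cfsg.Agent.Lib.Helper14
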