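import Mathlib
import Cfsg.Agent.Lib.Helper14.Quat

set_option autoImplicit false

namespace Cfsg.Agent.Lib.Helper14

open scoped commutatorElement

/-- Abstract data of a generalized quaternion subgroup `S` with cyclic maximal subgroup `⟨α⟩`. -/
structure QSetup {G : Type*} [Group G] (S : Subgroup G) (α : G) (m : ℕ) : Prop where
  mem : α ∈ S
  order : orderOf α = 2 * m
  card : Nat.card S = 4 * m
  inv : ∀ s ∈ S, s ∈ Subgroup.zpowers α ∨ s * α * s⁻¹ = α⁻¹
  comm : ⁅S, S⁆ = Subgroup.zpowers (α ^ 2)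

theorem qsetup_of_equiv {G : Type*} [Group G] (S : Subgroup G) (m : ℕ) [NeZero m]
    (e : S ≃* QuaternionGroup m) :
    QSetup S ((e.symm (QuaternionGroup.a 1) : S) : G) m := by
  set β : S := e.symm (QuaternionGroup.a 1) with hβ
  refine ⟨β.2, ?_, ?_, ?_, ?_⟩
  · rw [Subgroup.orderOf_coe, hβ, MulEquiv.orderOf_eq, QuaternionGroup.orderOf_a_one]
  · rw [Nat.card_congr e.toEquiv, Nat.card_eq_fintype_card, QuaternionGroup.card]
  · intro s hs
    have hse : (⟨s, hs⟩ : S) = e.symm (e ⟨s, hs⟩) := (e.symm_apply_apply _).symm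
    rcases h : e ⟨s, hs⟩ with i | i
    · left
      rw [h] at hse
      have h1 := quat_mem_zpowers_a (m := m) i
      obtain ⟨k, hk⟩ := h1
      refine ⟨k, ?_⟩
      have : (⟨s, hs⟩ : S) = β ^ k := by
        rw [hse, hβ, ← map_zpow, ← hk]
      have := congrArg (Subtype.val) this
      simpa using this.symm
    · right
      rw [h] at hse
      have h1 := quat_xa_conj (m := m) i
      have h2 : (⟨s, hs⟩ : S) * β * (⟨s, hs⟩ : S)⁻¹ = β⁻¹ := by
        rw [hse, hβ, ← map_inv, ← map_mul, ← map_mul, h1, map_inv]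
      have := congrArg (Subtype.val) h2
      simpa using this
  · -- commutator
    let ι : QuaternionGroup m →* G := S.subtype.comp e.symm.toMonoidHom
    have hmap : Subgroup.map ι ⊤ = S := by
      rw [← MonoidHom.range_eq_map]
      ext x
      constructor
      · rintro ⟨y, rfl⟩
        exact (e.symm y).2
      · intro hx
        exact ⟨e ⟨x, hx⟩, by simp [ι]⟩
    have h1 : ⁅S, S⁆ = Subgroup.map ι (commutator (QuaternionGroup m)) := by
      rw [commutator_def, Subgroup.map_commutator, hmap]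
    rw [h1, quat_commutator_eq, MonoidHom.map_zpowers]
    congr 1
    rw [map_pow]
    rfl


section abstract

variable {G : Type*} [Group G] {S : Subgroup G} {α : G} {m : ℕ}

theorem QSetup.conj_alpha (h : QSetup S α m) {s : G} (hs : s ∈ S) :
    s * α * s⁻¹ = α ∨ s * α * s⁻¹ = α⁻¹ := by
  rcases h.inv s hs with h1 | h1
  · left
    obtain ⟨k, rfl⟩ := h1
    have : Commute (α ^ k) α := (Commute.refl α).zpow_left k
    rw [this.eq, mul_assoc, mul_inv_cancel, mul_one]
  · right; exact h1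

theorem QSetup.conj_sq (h : QSetup S α m) {s : G} (hs : s ∈ S) :
    s * α ^ 2 * s⁻¹ = α ^ 2 ∨ s * α ^ 2 * s⁻¹ = (α ^ 2)⁻¹ := by
  have e : s * α ^ 2 * s⁻¹ = (s * α * s⁻¹) ^ 2 := by rw [conj_pow]
  rcases h.conj_alpha hs with h1 | h1
  · left; rw [e, h1]
  · right; rw [e, h1, inv_pow]

theorem QSetup.S_le_normalizer (h : QSetup S α m) :
    S ≤ Subgroup.normalizer ((Subgroup.zpowers (α ^ 2) : Subgroup G) : Set G) := by
  rw [Subgroup.le_normalizer_iff]
  intro s hs d hd
  obtain ⟨k, rfl⟩ := hd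
  have e : s * (α ^ 2) ^ k * s⁻¹ = (s * α ^ 2 * s⁻¹) ^ k := by rw [conj_zpow]
  rw [e]
  rcases h.conj_sq hs with h1 | h1
  · rw [h1]; exact Subgroup.zpow_mem _ (Subgroup.mem_zpowers _) k
  · rw [h1]; exact Subgroup.zpow_mem _ (Subgroup.inv_mem _ (Subgroup.mem_zpowers _)) k

theorem QSetup.A_le_S (h : QSetup S α m) : Subgroup.zpowers α ≤ S := by
  rw [Subgroup.zpowers_le]; exact h.mem

theorem QSetup.A_le_C (_h : QSetup S α m) :
    Subgroup.zpowers α ≤ Subgroup.centralizer ((Subgroup.zpowers (α ^ 2) : Subgroup G) : Set G) := by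
  rw [Subgroup.zpowers_le, Subgroup.mem_centralizer_iff]
  intro d hd
  obtain ⟨k, rfl⟩ := hd
  have : Commute ((α ^ 2) ^ k) α := ((Commute.refl α).pow_left 2).zpow_left k
  exact this.eq

theorem QSetup.S_inf_C (h : QSetup S α m) (hm : 3 ≤ m) :
    S ⊓ Subgroup.centralizer ((Subgroup.zpowers (α ^ 2) : Subgroup G) : Set G)
      = Subgroup.zpowers α := by
  apply le_antisymm
  · rintro s ⟨hs, hc⟩
    rcases h.inv s hs with h1 | h1
    · exact h1
    · exfalso
      have hc2 : α ^ 2 * s = s * α ^ 2 :=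
        (Subgroup.mem_centralizer_iff.mp hc) (α ^ 2) (Subgroup.mem_zpowers _)
      have e1 : s * α ^ 2 * s⁻¹ = α ^ 2 := by rw [← hc2, mul_assoc, mul_inv_cancel, mul_one]
      have e2 : s * α ^ 2 * s⁻¹ = (α ^ 2)⁻¹ := by
        rw [show s * α ^ 2 * s⁻¹ = (s * α * s⁻¹) ^ 2 by rw [conj_pow], h1, inv_pow]
      have e3 : α ^ 4 = 1 := by
        have : α ^ 2 = (α ^ 2)⁻¹ := e1.symm.trans e2
        have h4 : α ^ 2 * α ^ 2 = 1 := by
          nth_rewrite 1 [this]; exact inv_mul_cancel _
        rw [← h4, ← pow_add]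
      have := orderOf_dvd_of_pow_eq_one e3
      rw [h.order] at this
      have := Nat.le_of_dvd (by norm_num) this
      omega
  · exact le_inf h.A_le_S h.A_le_C

theorem QSetup.card_A (h : QSetup S α m) : Nat.card (Subgroup.zpowers α) = 2 * m := by
  rw [Nat.card_zpowers, h.order]

theorem QSetup.card_D (h : QSetup S α m) : Nat.card (Subgroup.zpowers (α ^ 2)) = m := by
  rw [Nat.card_zpowers, orderOf_pow_of_dvd (by norm_num) (by rw [h.order]; exact dvd_mul_right 2 m),
    h.order, Nat.mul_div_cancel_left _ (by norm_num : 0 < 2)]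

theorem relIndex_mul_card_of_le {H K : Subgroup G} (hHK : H ≤ K) :
    H.relIndex K * Nat.card H = Nat.card K := by
  rw [Subgroup.relIndex, ← Nat.card_congr (Subgroup.subgroupOfEquivOfLe hHK).toEquiv]
  exact Subgroup.index_mul_card _

theorem QSetup.relIndex_A_S (h : QSetup S α m) (hm : m ≠ 0) :
    (Subgroup.zpowers α).relIndex S = 2 := by
  have := relIndex_mul_card_of_le h.A_le_S
  rw [h.card_A, h.card] at this
  have h2 : 0 < 2 * m := by omega
  apply Nat.eq_of_mul_eq_mul_right h2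
  rw [this]; ring

end abstract


section sylow

variable {G : Type*} [Group G] [Finite G] {S : Sylow 2 G} {α : G} {n : ℕ}

theorem QSetup.relIndex_C_N_dvd (h : QSetup (S : Subgroup G) α (2 ^ (n + 2))) :
    (Subgroup.centralizer ((Subgroup.zpowers (α ^ 2) : Subgroup G) : Set G)).relIndex
      (Subgroup.normalizer ((Subgroup.zpowers (α ^ 2) : Subgroup G) : Set G)) ∣ 2 ^ (n + 1) := by
  have key := Subgroup.card_dvd_of_injective _
    (QuotientGroup.kerLift_injective (Subgroup.zpowers (α ^ 2)).normalizerMonoidHom)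
  rw [Subgroup.normalizerMonoidHom_ker, ← Subgroup.index, ← Subgroup.relIndex] at key
  have hcyc : IsCyclic (Subgroup.zpowers (α ^ 2)) := inferInstance
  rw [hcyc.card_mulAut, h.card_D, Nat.totient_prime_pow_succ Nat.prime_two] at key
  simpa using key

theorem QSetup.exists_not_mem_C (h : QSetup (S : Subgroup G) α (2 ^ (n + 2))) :
    ∃ s ∈ (S : Subgroup G),
      s ∉ Subgroup.centralizer ((Subgroup.zpowers (α ^ 2) : Subgroup G) : Set G) := by
  by_contra hcon
  push Not at hcon
  have hm : 3 ≤ 2 ^ (n + 2) := by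
    have : 2 ^ 2 ≤ 2 ^ (n + 2) := Nat.pow_le_pow_right (by norm_num) (by omega)
    omega
  have hle : (S : Subgroup G) ≤ Subgroup.zpowers α := by
    rw [← h.S_inf_C hm]
    exact le_inf le_rfl hcon
  have := Subgroup.card_le_of_le hle
  rw [h.card_A, h.card] at this
  have : 0 < 2 ^ (n + 2) := by positivity
  omega

theorem QSetup.index_arith (h : QSetup (S : Subgroup G) α (2 ^ (n + 2))) :
    (Subgroup.centralizer ((Subgroup.zpowers (α ^ 2) : Subgroup G) : Set G)).relIndex
      (Subgroup.normalizer ((Subgroup.zpowers (α ^ 2) : Subgroup G) : Set G)) = 2 ∧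
    Odd ((Subgroup.zpowers α).relIndex
      (Subgroup.centralizer ((Subgroup.zpowers (α ^ 2) : Subgroup G) : Set G))) := by
  set D := Subgroup.zpowers (α ^ 2) with hD
  set A := Subgroup.zpowers α with hA
  set C := Subgroup.centralizer (D : Set G) with hC
  set N := Subgroup.normalizer (D : Set G) with hN
  have hCN : C ≤ N := Subgroup.centralizer_le_normalizer _
  have hSN : (S : Subgroup G) ≤ N := h.S_le_normalizer
  have hAS : A ≤ (S : Subgroup G) := h.A_le_S
  have hAC : A ≤ C := h.A_le_C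
  have hm0 : (2 : ℕ) ^ (n + 2) ≠ 0 := by positivity
  have e1 : A.relIndex C * C.relIndex N = A.relIndex N := Subgroup.relIndex_mul_relIndex _ _ _ hAC hCN
  have e2 : A.relIndex (S : Subgroup G) * (S : Subgroup G).relIndex N = A.relIndex N :=
    Subgroup.relIndex_mul_relIndex _ _ _ hAS hSN
  rw [h.relIndex_A_S hm0] at e2
  have hodd : ¬ 2 ∣ (S : Subgroup G).relIndex N := by
    intro h2
    exact S.not_dvd_index (h2.trans (Subgroup.relIndex_dvd_index_of_le hSN))
  obtain ⟨j, hj, hCNj⟩ := (Nat.dvd_prime_pow Nat.prime_two).mp h.relIndex_C_N_dvd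
  have hj1 : j ≠ 0 := by
    intro hj0
    rw [hj0, pow_zero, Subgroup.relIndex_eq_one] at hCNj
    obtain ⟨s, hs, hsC⟩ := h.exists_not_mem_C
    exact hsC (hCNj (hSN hs))
  rw [hCNj, ← e2] at e1
  -- A.relIndex C * 2^j = 2 * odd
  obtain ⟨j', rfl⟩ := Nat.exists_eq_succ_of_ne_zero hj1
  rw [pow_succ, ← mul_assoc, mul_comm _ 2] at e1
  have e3 : A.relIndex C * 2 ^ j' = (S : Subgroup G).relIndex N := by
    exact Nat.eq_of_mul_eq_mul_left (by norm_num : 0 < 2) e1
  have hj0 : j' = 0 := by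
    by_contra hne
    apply hodd
    rw [← e3]
    exact Dvd.dvd.mul_left (dvd_pow_self 2 hne) _
  subst hj0
  refine ⟨by rw [hCNj]; rfl, ?_⟩
  rw [pow_zero, mul_one] at e3
  rw [e3]
  exact Nat.odd_iff.mpr (Nat.two_dvd_ne_zero.mp hodd)


theorem QSetup.isPGroup_A (h : QSetup (S : Subgroup G) α (2 ^ (n + 2))) :
    IsPGroup 2 ((Subgroup.zpowers α).subgroupOf
      (Subgroup.centralizer ((Subgroup.zpowers (α ^ 2) : Subgroup G) : Set G))) :=
  (S.isPGroup'.to_le h.A_le_S).comap_subtype

theorem QSetup.not_dvd_index_A (h : QSetup (S : Subgroup G) α (2 ^ (n + 2))) :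
    ¬ 2 ∣ ((Subgroup.zpowers α).subgroupOf
      (Subgroup.centralizer ((Subgroup.zpowers (α ^ 2) : Subgroup G) : Set G))).index := by
  have := h.index_arith.2
  rw [Subgroup.relIndex] at this
  exact Nat.two_dvd_ne_zero.mpr (Nat.odd_iff.mp this)

/-- The Sylow 2-subgroup `⟨α⟩` of `C_G(D)`. -/
noncomputable def QSetup.sylowC (h : QSetup (S : Subgroup G) α (2 ^ (n + 2))) :
    Sylow 2 (Subgroup.centralizer ((Subgroup.zpowers (α ^ 2) : Subgroup G) : Set G)) :=
  h.isPGroup_A.toSylow h.not_dvd_index_A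

theorem QSetup.sylowC_coe (h : QSetup (S : Subgroup G) α (2 ^ (n + 2))) :
    (h.sylowC : Subgroup (Subgroup.centralizer ((Subgroup.zpowers (α ^ 2) : Subgroup G) : Set G)))
      = (Subgroup.zpowers α).subgroupOf
      (Subgroup.centralizer ((Subgroup.zpowers (α ^ 2) : Subgroup G) : Set G)) :=
  IsPGroup.toSylow_coe _ _

theorem QSetup.isCyclic_sylowC (h : QSetup (S : Subgroup G) α (2 ^ (n + 2))) :
    IsCyclic h.sylowC := by
  have : IsCyclic ((Subgroup.zpowers α).subgroupOf
      (Subgroup.centralizer ((Subgroup.zpowers (α ^ 2) : Subgroup G) : Set G))) :=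
    isCyclic_of_surjective (Subgroup.subgroupOfEquivOfLe h.A_le_C).symm.toMonoidHom
      (Subgroup.subgroupOfEquivOfLe h.A_le_C).symm.surjective
  exact this

theorem QSetup.card_sylowC (h : QSetup (S : Subgroup G) α (2 ^ (n + 2))) :
    Nat.card h.sylowC = 2 ^ (n + 3) := by
  have : Nat.card h.sylowC = Nat.card ((Subgroup.zpowers α).subgroupOf
      (Subgroup.centralizer ((Subgroup.zpowers (α ^ 2) : Subgroup G) : Set G))) := rfl
  rw [this, Nat.card_congr (Subgroup.subgroupOfEquivOfLe h.A_le_C).toEquiv, h.card_A]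
  ring

theorem QSetup.minFac_card_C (h : QSetup (S : Subgroup G) α (2 ^ (n + 2))) :
    (Nat.card (Subgroup.centralizer ((Subgroup.zpowers (α ^ 2) : Subgroup G) : Set G))).minFac
      = 2 := by
  rw [Nat.minFac_eq_two_iff]
  have h1 : Nat.card h.sylowC ∣ Nat.card (Subgroup.centralizer
      ((Subgroup.zpowers (α ^ 2) : Subgroup G) : Set G)) := Subgroup.card_subgroup_dvd_card _
  rw [h.card_sylowC] at h1
  exact (dvd_pow_self 2 (by omega)).trans h1

/-- The normal 2-complement of `C_G(D)`, as a subgroup of `C_G(D)`. -/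
noncomputable def QSetup.K0 (h : QSetup (S : Subgroup G) α (2 ^ (n + 2))) :
    Subgroup (Subgroup.centralizer ((Subgroup.zpowers (α ^ 2) : Subgroup G) : Set G)) :=
  (MonoidHom.transferSylow h.sylowC
    (h.isCyclic_sylowC.normalizer_le_centralizer h.minFac_card_C)).ker

theorem QSetup.K0_isComplement' (h : QSetup (S : Subgroup G) α (2 ^ (n + 2))) :
    h.K0.IsComplement' h.sylowC :=
  h.isCyclic_sylowC.isComplement' h.minFac_card_C


/-- The normal 2-complement of `C_G(D)`, as a subgroup of `G`. -/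
noncomputable def QSetup.K (h : QSetup (S : Subgroup G) α (2 ^ (n + 2))) : Subgroup G :=
  h.K0.map (Subgroup.centralizer ((Subgroup.zpowers (α ^ 2) : Subgroup G) : Set G)).subtype

theorem QSetup.K_le_C (h : QSetup (S : Subgroup G) α (2 ^ (n + 2))) :
    h.K ≤ Subgroup.centralizer ((Subgroup.zpowers (α ^ 2) : Subgroup G) : Set G) :=
  Subgroup.map_subtype_le _

theorem QSetup.card_K0_odd (h : QSetup (S : Subgroup G) α (2 ^ (n + 2))) :
    ¬ 2 ∣ Nat.card h.K0 := by
  have h1 := h.K0_isComplement'.card_mul_card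
  have h2 := h.sylowC.toSubgroup.card_mul_index
  have h3 : Nat.card h.K0 = h.sylowC.toSubgroup.index := by
    have hpos : 0 < Nat.card h.sylowC.toSubgroup := Nat.card_pos
    apply Nat.eq_of_mul_eq_mul_right hpos
    rw [h1, mul_comm, h2]
  rw [h3]
  exact h.sylowC.not_dvd_index

theorem QSetup.card_K (h : QSetup (S : Subgroup G) α (2 ^ (n + 2))) :
    Nat.card h.K = Nat.card h.K0 :=
  Subgroup.card_map_of_injective (Subgroup.subtype_injective _)

theorem QSetup.odd_card_K (h : QSetup (S : Subgroup G) α (2 ^ (n + 2))) :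
    Odd (Nat.card h.K) := by
  rw [h.card_K]
  exact Nat.odd_iff.mpr (Nat.two_dvd_ne_zero.mp h.card_K0_odd)

theorem QSetup.relIndex_K_C (h : QSetup (S : Subgroup G) α (2 ^ (n + 2))) :
    h.K.relIndex (Subgroup.centralizer ((Subgroup.zpowers (α ^ 2) : Subgroup G) : Set G))
      = 2 ^ (n + 3) := by
  have h1 : h.K.subgroupOf (Subgroup.centralizer ((Subgroup.zpowers (α ^ 2) : Subgroup G) : Set G))
      = h.K0 := by
    rw [QSetup.K, Subgroup.subgroupOf]
    exact Subgroup.comap_map_eq_self_of_injective (Subgroup.subtype_injective _) _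
  rw [Subgroup.relIndex, h1, h.K0_isComplement'.symm.index_eq_card, h.card_sylowC]

theorem QSetup.mem_K_iff (h : QSetup (S : Subgroup G) α (2 ^ (n + 2))) (x : G) :
    x ∈ h.K ↔ x ∈ Subgroup.centralizer ((Subgroup.zpowers (α ^ 2) : Subgroup G) : Set G) ∧
      Odd (orderOf x) := by
  constructor
  · intro hx
    refine ⟨h.K_le_C hx, ?_⟩
    have h1 : orderOf x ∣ Nat.card h.K := by
      have := orderOf_dvd_natCard (⟨x, hx⟩ : h.K)
      rwa [Subgroup.orderOf_mk] at this
    exact Odd.of_dvd_nat h.odd_card_K h1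
  · rintro ⟨hxC, hodd⟩
    refine ⟨⟨x, hxC⟩, ?_, rfl⟩
    show (⟨x, hxC⟩ : Subgroup.centralizer ((Subgroup.zpowers (α ^ 2) : Subgroup G) : Set G)) ∈
      (MonoidHom.transferSylow h.sylowC
        (h.isCyclic_sylowC.normalizer_le_centralizer h.minFac_card_C)).ker
    rw [MonoidHom.mem_ker]
    set φ := MonoidHom.transferSylow h.sylowC
        (h.isCyclic_sylowC.normalizer_le_centralizer h.minFac_card_C) with hφ
    set y : Subgroup.centralizer ((Subgroup.zpowers (α ^ 2) : Subgroup G) : Set G) := ⟨x, hxC⟩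
    have h1 : orderOf (φ y) ∣ orderOf x := by
      have h0 := orderOf_map_dvd φ y
      have e : orderOf y = orderOf x := Subgroup.orderOf_mk x hxC
      rwa [e] at h0
    have h2 : orderOf (φ y) ∣ 2 ^ (n + 3) := by
      rw [← h.card_sylowC]
      exact orderOf_dvd_natCard _
    have h3 : Nat.Coprime (orderOf x) (2 ^ (n + 3)) :=
      (Nat.coprime_pow_right_iff (by omega) _ _).mpr (Nat.coprime_two_right.mpr hodd)
    have h4 : orderOf (φ y) = 1 := Nat.eq_one_of_dvd_coprimes h3 h1 h2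
    exact orderOf_eq_one_iff.mp h4

theorem QSetup.N_le_normalizer_K (h : QSetup (S : Subgroup G) α (2 ^ (n + 2))) :
    Subgroup.normalizer ((Subgroup.zpowers (α ^ 2) : Subgroup G) : Set G)
      ≤ Subgroup.normalizer (h.K : Set G) := by
  rw [Subgroup.le_normalizer_iff]
  intro g hg k hk
  rw [h.mem_K_iff] at hk ⊢
  refine ⟨?_, ?_⟩
  · -- centralizer is normal in normalizer
    rw [Subgroup.mem_centralizer_iff]
    intro d hd
    have hgi : g⁻¹ ∈ Subgroup.normalizer ((Subgroup.zpowers (α ^ 2) : Subgroup G) : Set G) :=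
      Subgroup.inv_mem _ hg
    have hd' : g⁻¹ * d * g ∈ (Subgroup.zpowers (α ^ 2) : Subgroup G) := by
      have := (Subgroup.le_normalizer_iff.mp le_rfl) g⁻¹ hgi d hd
      simpa using this
    have hc := (Subgroup.mem_centralizer_iff.mp hk.1) (g⁻¹ * d * g) hd'
    calc d * (g * k * g⁻¹) = g * ((g⁻¹ * d * g) * k) * g⁻¹ := by group
      _ = g * (k * (g⁻¹ * d * g)) * g⁻¹ := by rw [hc]
      _ = g * k * g⁻¹ * d := by group
  · have : g * k * g⁻¹ = MulAut.conj g k := by simp
    rw [this, MulEquiv.orderOf_eq]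
    exact hk.2


theorem le_of_relIndex_dvd_odd_and_two_pow {H L : Subgroup G} (k a : ℕ)
    (h1 : H.relIndex L ∣ a) (ha : Odd a) (h2 : H.relIndex L ∣ 2 ^ k) : L ≤ H := by
  rw [← Subgroup.relIndex_eq_one]
  have hc : Nat.Coprime a (2 ^ k) := by
    rcases Nat.eq_zero_or_pos k with hk | hk
    · rw [hk, pow_zero]; exact Nat.coprime_one_right _
    · exact (Nat.coprime_pow_right_iff hk _ _).mpr (Nat.coprime_two_right.mpr ha)
  exact Nat.eq_one_of_dvd_coprimes hc h1 h2

theorem QSetup.main842 (h : QSetup (S : Subgroup G) α (2 ^ (n + 2))) :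
    Odd (Nat.card h.K) ∧
    h.K ≤ Subgroup.centralizer ((Subgroup.zpowers (α ^ 2) : Subgroup G) : Set G) ∧
    Subgroup.normalizer ((Subgroup.zpowers (α ^ 2) : Subgroup G) : Set G)
      ≤ Subgroup.normalizer (h.K : Set G) ∧
    h.K ⊔ (S : Subgroup G) = Subgroup.normalizer ((Subgroup.zpowers (α ^ 2) : Subgroup G) : Set G) ∧
    h.K ⊔ ((S : Subgroup G) ⊓ Subgroup.centralizer ((Subgroup.zpowers (α ^ 2) : Subgroup G) : Set G))
      = Subgroup.centralizer ((Subgroup.zpowers (α ^ 2) : Subgroup G) : Set G) ∧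
    ((Subgroup.centralizer ((Subgroup.zpowers (α ^ 2) : Subgroup G) : Set G)).subgroupOf
      (Subgroup.normalizer ((Subgroup.zpowers (α ^ 2) : Subgroup G) : Set G))).index = 2 := by
  have hm : 3 ≤ 2 ^ (n + 2) := by
    have : 2 ^ 2 ≤ 2 ^ (n + 2) := Nat.pow_le_pow_right (by norm_num) (by omega)
    omega
  have hCN : Subgroup.centralizer ((Subgroup.zpowers (α ^ 2) : Subgroup G) : Set G) ≤
      Subgroup.normalizer ((Subgroup.zpowers (α ^ 2) : Subgroup G) : Set G) :=
    Subgroup.centralizer_le_normalizer _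
  have hSN := h.S_le_normalizer
  obtain ⟨hidx, hoddAC⟩ := h.index_arith
  refine ⟨h.odd_card_K, h.K_le_C, h.N_le_normalizer_K, ?_, ?_, hidx⟩
  · apply le_antisymm
    · exact sup_le (h.K_le_C.trans hCN) hSN
    · have hoddS : Odd ((S : Subgroup G).relIndex
          (Subgroup.normalizer ((Subgroup.zpowers (α ^ 2) : Subgroup G) : Set G))) := by
        apply Nat.odd_iff.mpr
        apply Nat.two_dvd_ne_zero.mp
        intro h2
        exact S.not_dvd_index (h2.trans (Subgroup.relIndex_dvd_index_of_le hSN))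
      apply le_of_relIndex_dvd_odd_and_two_pow (n + 4) _
        (Subgroup.relIndex_dvd_of_le_left _ le_sup_right) hoddS
      have h1 := Subgroup.relIndex_mul_relIndex _ _ _ h.K_le_C hCN
      rw [h.relIndex_K_C, hidx] at h1
      have h2 : h.K.relIndex (Subgroup.normalizer ((Subgroup.zpowers (α ^ 2) : Subgroup G) : Set G))
          = 2 ^ (n + 4) := by rw [← h1]; ring
      rw [← h2]
      exact Subgroup.relIndex_dvd_of_le_left _ le_sup_left
  · rw [h.S_inf_C hm]
    apply le_antisymm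
    · exact sup_le h.K_le_C h.A_le_C
    · apply le_of_relIndex_dvd_odd_and_two_pow (n + 3) _
        (Subgroup.relIndex_dvd_of_le_left _ le_sup_right) hoddAC
      rw [← h.relIndex_K_C]
      exact Subgroup.relIndex_dvd_of_le_left _ le_sup_left

end sylow

end Cfsg.Agent.Lib.Helper14
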