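import Mathlib
import Cfsg.Agent.Lib.Helper14.QuatSylow

set_option autoImplicit false

namespace Cfsg.Agent.Lib.Helper14

section cyclic

variable {G : Type*} [Group G] [Finite G]

/-- A subgroup of a finite cyclic group `⟨z⟩` is determined by its order. -/
theorem eq_zpowers_pow_of_le_zpowers (z : G) (H : Subgroup G) (hH : H ≤ Subgroup.zpowers z) :
    H = Subgroup.zpowers (z ^ (orderOf z / Nat.card H)) := by
  set N₀ := orderOf z with hN₀
  set d := Nat.card H with hd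
  have hd0 : 0 < d := Nat.card_pos
  have hN0 : 0 < N₀ := orderOf_pos z
  have hdN : d ∣ N₀ := by
    rw [hN₀, ← Nat.card_zpowers]
    exact Subgroup.card_dvd_of_le hH
  obtain ⟨q, hq⟩ := hdN
  have hq0 : 0 < q := by
    rcases Nat.eq_zero_or_pos q with h | h
    · rw [h, mul_zero] at hq; omega
    · exact h
  have hdiv : N₀ / d = q := by rw [hq, Nat.mul_div_cancel_left _ hd0]
  rw [hdiv]
  have hle : H ≤ Subgroup.zpowers (z ^ q) := by
    intro x hx
    obtain ⟨k, rfl⟩ := hH hx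
    have h1 : (z ^ k) ^ d = 1 := by
      have h0 : (⟨z ^ k, hx⟩ : H) ^ Nat.card H = 1 := pow_card_eq_one'
      have h0' := congrArg Subtype.val h0
      rw [Subgroup.coe_pow, Subgroup.coe_one] at h0'
      exact h0'
    rw [← zpow_natCast, ← zpow_mul] at h1
    have h2 : (N₀ : ℤ) ∣ k * d := by
      rw [hN₀]; exact orderOf_dvd_iff_zpow_eq_one.mpr h1
    rw [hq] at h2
    push_cast at h2
    have h3 : (q : ℤ) ∣ k := by
      have : (d : ℤ) * q ∣ d * k := by rw [mul_comm (d : ℤ) k]; exact h2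
      exact (mul_dvd_mul_iff_left (by exact_mod_cast hd0.ne')).mp this
    obtain ⟨j, rfl⟩ := h3
    refine ⟨j, ?_⟩
    simp only [zpow_mul, zpow_natCast]
  apply Subgroup.eq_of_le_of_card_ge hle
  rw [Nat.card_zpowers, orderOf_pow_of_dvd hq0.ne' (by rw [← hN₀, hq]; exact dvd_mul_left q d),
    ← hN₀, hq, Nat.mul_div_cancel _ hq0]

theorem eq_of_le_zpowers_of_card_eq (z : G) (H₁ H₂ : Subgroup G) (h₁ : H₁ ≤ Subgroup.zpowers z)
    (h₂ : H₂ ≤ Subgroup.zpowers z) (hc : Nat.card H₁ = Nat.card H₂) : H₁ = H₂ := by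
  rw [eq_zpowers_pow_of_le_zpowers z H₁ h₁, eq_zpowers_pow_of_le_zpowers z H₂ h₂, hc]

end cyclic


section sylow2

open scoped Pointwise

variable {G : Type*} [Group G]

theorem conj_mem_centralizer_of_mem_normalizer (D : Subgroup G) {g y : G}
    (hg : g ∈ Subgroup.normalizer (D : Set G)) (hy : y ∈ Subgroup.centralizer (D : Set G)) :
    g * y * g⁻¹ ∈ Subgroup.centralizer (D : Set G) := by
  rw [Subgroup.mem_centralizer_iff]
  intro d hd
  have hgi : g⁻¹ ∈ Subgroup.normalizer (D : Set G) := Subgroup.inv_mem _ hg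
  have hd' : g⁻¹ * d * g ∈ D := by
    have := (Subgroup.le_normalizer_iff.mp le_rfl) g⁻¹ hgi d hd
    simpa using this
  have hc := (Subgroup.mem_centralizer_iff.mp hy) (g⁻¹ * d * g) hd'
  calc d * (g * y * g⁻¹) = g * ((g⁻¹ * d * g) * y) * g⁻¹ := by group
    _ = g * (y * (g⁻¹ * d * g)) * g⁻¹ := by rw [hc]
    _ = g * y * g⁻¹ * d := by group

variable [Finite G] {S : Sylow 2 G} {α : G} {n : ℕ}

theorem QSetup.exists_conj_mem_A (h : QSetup (S : Subgroup G) α (2 ^ (n + 2))) (y : G)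
    (hy : y ∈ Subgroup.centralizer ((Subgroup.zpowers (α ^ 2) : Subgroup G) : Set G)) (k : ℕ)
    (hyo : y ^ (2 ^ k) = 1) :
    ∃ c ∈ Subgroup.centralizer ((Subgroup.zpowers (α ^ 2) : Subgroup G) : Set G),
      c * y * c⁻¹ ∈ Subgroup.zpowers α := by
  set C := Subgroup.centralizer ((Subgroup.zpowers (α ^ 2) : Subgroup G) : Set G) with hC
  let y' : C := ⟨y, hy⟩
  let R : Subgroup C := Subgroup.zpowers y'
  have hR : IsPGroup 2 R := by
    intro g
    refine ⟨k, ?_⟩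
    obtain ⟨g, hg⟩ := g
    obtain ⟨j, rfl⟩ := Subgroup.mem_zpowers_iff.mp hg
    apply Subtype.ext
    apply Subtype.ext
    simp only [Subgroup.coe_pow, Subgroup.coe_zpow, Subgroup.coe_one, y']
    rw [← zpow_natCast, ← zpow_mul, mul_comm, zpow_mul, zpow_natCast, hyo, one_zpow]
  obtain ⟨Q, hQ⟩ := hR.exists_le_sylow
  obtain ⟨c, hc⟩ := MulAction.exists_smul_eq C Q h.sylowC
  refine ⟨c, c.2, ?_⟩
  have h1 : y' ∈ (Q : Subgroup C) := hQ (Subgroup.mem_zpowers y')
  have h2 : MulAut.conj c • y' ∈ MulAut.conj c • (Q : Subgroup C) :=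
    Subgroup.smul_mem_pointwise_smul _ _ _ h1
  rw [← Sylow.coe_subgroup_smul, hc, h.sylowC_coe, Subgroup.mem_subgroupOf] at h2
  simpa [MulAut.smul_def, y'] using h2

theorem QSetup.part1 (h : QSetup (S : Subgroup G) α (2 ^ (n + 2))) (y : G)
    (hy : y ∈ Subgroup.centralizer ((Subgroup.zpowers (α ^ 2) : Subgroup G) : Set G))
    (hdvd : Nat.card (Subgroup.zpowers (α ^ 2)) ∣ orderOf y) :
    Subgroup.zpowers (α ^ 2) ≤ Subgroup.zpowers y := by
  rw [h.card_D] at hdvd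
  set C := Subgroup.centralizer ((Subgroup.zpowers (α ^ 2) : Subgroup G) : Set G) with hC
  have ho0 : orderOf y ≠ 0 := (orderOf_pos y).ne'
  obtain ⟨k, r, hr, hkr⟩ := Nat.exists_eq_two_pow_mul_odd ho0
  have hk : n + 2 ≤ k := by
    rw [hkr] at hdvd
    have hcop : Nat.Coprime (2 ^ (n + 2)) r :=
      Nat.Coprime.pow_left _ (Nat.coprime_two_left.mpr hr)
    have := hcop.dvd_of_dvd_mul_right hdvd
    exact (Nat.pow_dvd_pow_iff_le_right (by norm_num)).mp this
  set j := r * 2 ^ (k - (n + 2)) with hj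
  have hj0 : j ≠ 0 := by
    rw [hj]
    have hr0 : r ≠ 0 := by
      intro h0; rw [h0] at hr; exact absurd hr (by decide)
    exact Nat.mul_ne_zero hr0 (by positivity)
  have hjo : orderOf y = j * 2 ^ (n + 2) := by
    rw [hkr, hj, mul_assoc, ← pow_add, Nat.sub_add_cancel hk, mul_comm]
  set y₂ := y ^ j with hy₂
  have hy₂o : orderOf y₂ = 2 ^ (n + 2) := by
    rw [hy₂, orderOf_pow_of_dvd hj0 (by rw [hjo]; exact dvd_mul_right _ _), hjo,
      Nat.mul_div_cancel_left _ (Nat.pos_of_ne_zero hj0)]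
  have hy₂C : y₂ ∈ C := Subgroup.pow_mem _ hy j
  have hy₂pow : y₂ ^ (2 ^ (n + 2)) = 1 := by rw [← hy₂o]; exact pow_orderOf_eq_one y₂
  obtain ⟨c, hcC, hcA⟩ := h.exists_conj_mem_A y₂ hy₂C (n + 2) hy₂pow
  -- zpowers (c y₂ c⁻¹) = D
  have hcard1 : Nat.card (Subgroup.zpowers (c * y₂ * c⁻¹)) = 2 ^ (n + 2) := by
    rw [Nat.card_zpowers]
    have : c * y₂ * c⁻¹ = MulAut.conj c y₂ := by simp
    rw [this, MulEquiv.orderOf_eq, hy₂o]
  have heq : Subgroup.zpowers (c * y₂ * c⁻¹) = Subgroup.zpowers (α ^ 2) := by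
    apply eq_of_le_zpowers_of_card_eq α
    · rw [Subgroup.zpowers_le]; exact hcA
    · rw [Subgroup.zpowers_le]; exact Subgroup.pow_mem _ (Subgroup.mem_zpowers α) 2
    · rw [hcard1, h.card_D]
  have hmemD : c * y₂ * c⁻¹ ∈ Subgroup.zpowers (α ^ 2) := by
    rw [← heq]; exact Subgroup.mem_zpowers _
  have hcomm := (Subgroup.mem_centralizer_iff.mp hcC) _ hmemD
  have hy₂D : y₂ ∈ Subgroup.zpowers (α ^ 2) := by
    have : y₂ = c * y₂ * c⁻¹ := by
      have e : c * y₂ * c⁻¹ * c = c * (c * y₂ * c⁻¹) := hcomm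
      have e' : c * y₂ = c * (c * y₂ * c⁻¹) := by
        rw [← e]; group
      exact mul_left_cancel e'
    rw [this]; exact hmemD
  have hD_eq : Subgroup.zpowers (α ^ 2) = Subgroup.zpowers y₂ := by
    symm
    apply Subgroup.eq_of_le_of_card_ge
    · rw [Subgroup.zpowers_le]; exact hy₂D
    · rw [h.card_D, Nat.card_zpowers, hy₂o]
  rw [hD_eq, Subgroup.zpowers_le]
  exact Subgroup.pow_mem _ (Subgroup.mem_zpowers y) j


theorem QSetup.part2 (h : QSetup (S : Subgroup G) α (2 ^ (n + 2))) (g y : G)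
    (hy : y ∈ Subgroup.centralizer ((Subgroup.zpowers (α ^ 2) : Subgroup G) : Set G))
    (hdvd : Nat.card (Subgroup.zpowers (α ^ 2)) ∣ orderOf y)
    (hz : g * y * g⁻¹ ∈ Subgroup.centralizer ((Subgroup.zpowers (α ^ 2) : Subgroup G) : Set G)) :
    g ∈ Subgroup.normalizer ((Subgroup.zpowers (α ^ 2) : Subgroup G) : Set G) := by
  have hconj : g * y * g⁻¹ = MulAut.conj g y := by simp
  have ho : orderOf (g * y * g⁻¹) = orderOf y := by rw [hconj, MulEquiv.orderOf_eq]
  have h1 := h.part1 y hy hdvd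
  have h2 := h.part1 (g * y * g⁻¹) hz (by rw [ho]; exact hdvd)
  rw [Subgroup.mem_normalizer_iff_map_conj_eq]
  apply eq_of_le_zpowers_of_card_eq (g * y * g⁻¹)
  · have : Subgroup.map (MulAut.conj g : G →* G) (Subgroup.zpowers y)
        = Subgroup.zpowers (g * y * g⁻¹) := by
      rw [MonoidHom.map_zpowers, hconj]; rfl
    rw [← this]
    exact Subgroup.map_mono h1
  · exact h2
  · exact Subgroup.card_map_of_injective (MulAut.conj g).injective

theorem QSetup.part3 (h : QSetup (S : Subgroup G) α (2 ^ (n + 2))) (g y : G)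
    (hg : g ∈ Subgroup.normalizer ((Subgroup.zpowers (α ^ 2) : Subgroup G) : Set G))
    (hy : y ∈ Subgroup.centralizer ((Subgroup.zpowers (α ^ 2) : Subgroup G) : Set G))
    (hdvd : Nat.card (Subgroup.zpowers (α ^ 2)) ∣ orderOf y) :
    g * y * g⁻¹ ∈ Subgroup.centralizer ((Subgroup.zpowers (α ^ 2) : Subgroup G) : Set G) ∧
    Nat.card (Subgroup.zpowers (α ^ 2)) ∣ orderOf (g * y * g⁻¹) := by
  refine ⟨conj_mem_centralizer_of_mem_normalizer _ hg hy, ?_⟩
  have hconj : g * y * g⁻¹ = MulAut.conj g y := by simp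
  rw [hconj, MulEquiv.orderOf_eq]
  exact hdvd

end sylow2

end Cfsg.Agent.Lib.Helper14
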