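import Mathlib
import Cfsg.Prelude.Def_ClassicalGeometry
set_option autoImplicit false
set_option linter.unusedSectionVars false
set_option linter.unusedSimpArgs false
set_option linter.unusedTactic false
set_option linter.unreachableTactic false

/-! `SO₃(3) ≅ S₄` via the action on the four singular points of `x₀² + x₁y₁`. -/

namespace Cfsg.Agent.Lib.Helper14.SO33
open Matrix

variable {F : Type*} [Field F]

/-- the index type of `quadFormOdd 1` -/
abbrev I3 := Unit ⊕ (Fin 1 ⊕ Fin 1)

/-- a vector with given coordinates -/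
def vec (a b c : F) : I3 → F := Sum.elim (fun _ => a) (Sum.elim (fun _ => b) (fun _ => c))

@[simp] theorem vec_i0 (a b c : F) : vec a b c (Sum.inl ()) = a := rfl
@[simp] theorem vec_i1 (a b c : F) (k : Fin 1) : vec a b c (Sum.inr (Sum.inl k)) = b := rfl
@[simp] theorem vec_i2 (a b c : F) (k : Fin 1) : vec a b c (Sum.inr (Sum.inr k)) = c := rfl

theorem vec_eta (v : I3 → F) :
    v = vec (v (Sum.inl ())) (v (Sum.inr (Sum.inl 0))) (v (Sum.inr (Sum.inr 0))) := by
  funext x
  rcases x with ⟨⟩ | k | k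
  · rfl
  · rw [Subsingleton.elim k 0]; rfl
  · rw [Subsingleton.elim k 0]; rfl

theorem vec_inj {a b c a' b' c' : F} : vec a b c = vec a' b' c' ↔ a = a' ∧ b = b' ∧ c = c' := by
  constructor
  · intro h
    refine ⟨?_, ?_, ?_⟩
    · exact congrFun h (Sum.inl ())
    · exact congrFun h (Sum.inr (Sum.inl 0))
    · exact congrFun h (Sum.inr (Sum.inr 0))
  · rintro ⟨rfl, rfl, rfl⟩; rfl

theorem neg_vec (a b c : F) : -vec a b c = vec (-a) (-b) (-c) := by
  funext x
  rcases x with ⟨⟩ | k | k <;> rfl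

theorem vec_eq_zero {a b c : F} : vec a b c = 0 ↔ a = 0 ∧ b = 0 ∧ c = 0 := by
  have : (0 : I3 → F) = vec 0 0 0 := by
    funext x
    rcases x with ⟨⟩ | k | k <;> rfl
  rw [this, vec_inj]

theorem Q_vec (a b c : F) : Cfsg.quadFormOdd 1 F (vec a b c) = a ^ 2 + b * c := by
  simp [Cfsg.quadFormOdd]

/-- a matrix with given rows -/
def mat (r0 r1 r2 : F × F × F) : Matrix I3 I3 F :=
  Matrix.of (fun i => Sum.elim (fun _ => vec r0.1 r0.2.1 r0.2.2)
    (Sum.elim (fun _ => vec r1.1 r1.2.1 r1.2.2) (fun _ => vec r2.1 r2.2.1 r2.2.2)) i)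

theorem sum_I3 (f : I3 → F) :
    ∑ x, f x = f (Sum.inl ()) + (f (Sum.inr (Sum.inl 0)) + f (Sum.inr (Sum.inr 0))) := by
  rw [Fintype.sum_sum_type, Fintype.sum_sum_type]
  simp

theorem mulVec_vec (M : Matrix I3 I3 F) (a b c : F) :
    M *ᵥ vec a b c = vec
      (M (Sum.inl ()) (Sum.inl ()) * a + (M (Sum.inl ()) (Sum.inr (Sum.inl 0)) * b +
        M (Sum.inl ()) (Sum.inr (Sum.inr 0)) * c))
      (M (Sum.inr (Sum.inl 0)) (Sum.inl ()) * a + (M (Sum.inr (Sum.inl 0)) (Sum.inr (Sum.inl 0)) * b +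
        M (Sum.inr (Sum.inl 0)) (Sum.inr (Sum.inr 0)) * c))
      (M (Sum.inr (Sum.inr 0)) (Sum.inl ()) * a + (M (Sum.inr (Sum.inr 0)) (Sum.inr (Sum.inl 0)) * b +
        M (Sum.inr (Sum.inr 0)) (Sum.inr (Sum.inr 0)) * c)) := by
  rw [vec_eta (M *ᵥ vec a b c)]
  simp only [Matrix.mulVec, dotProduct, sum_I3, vec_i0, vec_i1, vec_i2]

section card3
variable [Fintype F]

theorem three_eq_zero (hF : Fintype.card F = 3) : (3 : F) = 0 := by
  have := Nat.cast_card_eq_zero F
  rw [hF] at this
  exact_mod_cast this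

theorem one_ne_neg_one (hF : Fintype.card F = 3) : (1 : F) ≠ -1 := by
  intro h
  have h3 := three_eq_zero hF
  have : (1 : F) = 0 := by linear_combination h3 - h
  exact one_ne_zero this

theorem tri (hF : Fintype.card F = 3) (x : F) : x = 0 ∨ x = 1 ∨ x = -1 := by
  classical
  have hne := one_ne_neg_one hF
  have hcard : ({0, 1, -1} : Finset F).card = 3 := by
    rw [Finset.card_insert_of_notMem, Finset.card_insert_of_notMem, Finset.card_singleton]
    · simpa using hne
    · simp only [Finset.mem_insert, Finset.mem_singleton, not_or]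
      refine ⟨zero_ne_one, ?_⟩
      intro h
      have : (1 : F) = 0 := by linear_combination h
      exact one_ne_zero this
  have huniv : ({0, 1, -1} : Finset F) = Finset.univ := by
    apply Finset.eq_univ_of_card
    rw [hcard, hF]
  have := Finset.mem_univ x
  rw [← huniv] at this
  simpa using this

/-- the four singular points -/
def w (i : Fin 4) : I3 → F :=
  match i with
  | 0 => vec 0 1 0
  | 1 => vec 0 0 1
  | 2 => vec 1 1 (-1)
  | 3 => vec 1 (-1) 1

/-- classification of the singular vectors -/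
theorem singular_cases (hF : Fintype.card F = 3) (v : I3 → F)
    (hv : Cfsg.quadFormOdd 1 F v = 0) (hv0 : v ≠ 0) : ∃ j : Fin 4, v = w j ∨ v = -w j := by
  have h3 := three_eq_zero hF
  have h1 := one_ne_neg_one hF
  have h2 : (2 : F) ≠ 0 := by
    intro h
    apply h1
    linear_combination h
  rw [vec_eta v] at hv hv0 ⊢
  rw [Q_vec] at hv
  rw [ne_eq, vec_eq_zero] at hv0
  rcases tri hF (v (Sum.inl ())) with ha | ha | ha <;>
  rcases tri hF (v (Sum.inr (Sum.inl 0))) with hb | hb | hb <;>
  rcases tri hF (v (Sum.inr (Sum.inr 0))) with hc | hc | hc <;>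
  rw [ha, hb, hc] at hv hv0 ⊢
  all_goals first
    | (exfalso; exact hv0 ⟨rfl, rfl, rfl⟩)
    | (exfalso; apply h2; linear_combination hv)
    | (exfalso; apply h2; linear_combination (-1 : F) * hv)
    | (exfalso; apply one_ne_zero (α := F); linear_combination hv)
    | (exfalso; apply one_ne_zero (α := F); linear_combination (-1 : F) * hv)
    | (exfalso; apply one_ne_zero (α := F); linear_combination hv - h3)
    | (exfalso; apply one_ne_zero (α := F); linear_combination h3 - hv)
    | exact ⟨0, Or.inl rfl⟩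
    | exact ⟨1, Or.inl rfl⟩
    | exact ⟨2, Or.inl rfl⟩
    | exact ⟨3, Or.inl rfl⟩
    | (refine ⟨0, Or.inr ?_⟩; simp only [w, neg_vec, neg_neg, neg_zero]; done)
    | (refine ⟨1, Or.inr ?_⟩; simp only [w, neg_vec, neg_neg, neg_zero]; done)
    | (refine ⟨2, Or.inr ?_⟩; simp only [w, neg_vec, neg_neg, neg_zero]; done)
    | (refine ⟨3, Or.inr ?_⟩; simp only [w, neg_vec, neg_neg, neg_zero]; done)

end card3

theorem mat_mulVec (a0 a1 a2 b0 b1 b2 c0 c1 c2 x y z : F) :
    mat (a0, a1, a2) (b0, b1, b2) (c0, c1, c2) *ᵥ vec x y z =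
      vec (a0 * x + (a1 * y + a2 * z)) (b0 * x + (b1 * y + b2 * z)) (c0 * x + (c1 * y + c2 * z)) := by
  rw [mulVec_vec]
  rfl

/-- reindexing to `Fin 3` -/
def e3 : I3 ≃ Fin 3 where
  toFun x := match x with
    | Sum.inl _ => 0
    | Sum.inr (Sum.inl _) => 1
    | Sum.inr (Sum.inr _) => 2
  invFun i := match i with
    | 0 => Sum.inl ()
    | 1 => Sum.inr (Sum.inl 0)
    | 2 => Sum.inr (Sum.inr 0)
  left_inv x := by
    rcases x with ⟨⟩ | k | k
    · rfl
    · rw [Subsingleton.elim k 0]
    · rw [Subsingleton.elim k 0]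
  right_inv i := by
    fin_cases i <;> rfl

theorem det_mat (a0 a1 a2 b0 b1 b2 c0 c1 c2 : F) :
    (mat (a0, a1, a2) (b0, b1, b2) (c0, c1, c2)).det =
      a0 * b1 * c2 - a0 * b2 * c1 - a1 * b0 * c2 + a1 * b2 * c0 + a2 * b0 * c1 - a2 * b1 * c0 := by
  rw [← Matrix.det_submatrix_equiv_self e3.symm, Matrix.det_fin_three]
  rfl

theorem mat_mul_mat (a0 a1 a2 b0 b1 b2 c0 c1 c2 a0' a1' a2' b0' b1' b2' c0' c1' c2' : F) :
    mat (a0, a1, a2) (b0, b1, b2) (c0, c1, c2) * mat (a0', a1', a2') (b0', b1', b2') (c0', c1', c2') =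
      mat (a0 * a0' + (a1 * b0' + a2 * c0'), a0 * a1' + (a1 * b1' + a2 * c1'),
            a0 * a2' + (a1 * b2' + a2 * c2'))
          (b0 * a0' + (b1 * b0' + b2 * c0'), b0 * a1' + (b1 * b1' + b2 * c1'),
            b0 * a2' + (b1 * b2' + b2 * c2'))
          (c0 * a0' + (c1 * b0' + c2 * c0'), c0 * a1' + (c1 * b1' + c2 * c1'),
            c0 * a2' + (c1 * b2' + c2 * c2')) := by
  ext i j
  rw [Matrix.mul_apply, Fintype.sum_sum_type, Fintype.sum_sum_type]
  rcases i with ⟨⟩ | k | k <;> rcases j with ⟨⟩ | l | l <;>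
    simp [mat, vec]

theorem mat_one : (1 : Matrix I3 I3 F) = mat (1, 0, 0) (0, 1, 0) (0, 0, 1) := by
  ext i j
  rcases i with ⟨⟩ | k | k <;> rcases j with ⟨⟩ | l | l <;>
    simp [mat, vec, Matrix.one_apply] <;> exact Subsingleton.elim _ _

/-- the matrix of an element of `SO₃` -/
def mt (x : ↥(Cfsg.specialIsometryGroup F (Cfsg.quadFormOdd 1 F))) : Matrix I3 I3 F :=
  ((x : ↥(Cfsg.isometryGroup F (Cfsg.quadFormOdd 1 F))) : Matrix.GeneralLinearGroup I3 F)

theorem mt_mul (x y : ↥(Cfsg.specialIsometryGroup F (Cfsg.quadFormOdd 1 F))) :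
    mt (x * y) = mt x * mt y := rfl

theorem mt_one : mt (1 : ↥(Cfsg.specialIsometryGroup F (Cfsg.quadFormOdd 1 F))) = 1 := rfl

theorem mt_inj {x y : ↥(Cfsg.specialIsometryGroup F (Cfsg.quadFormOdd 1 F))} (h : mt x = mt y) :
    x = y := by
  apply Subtype.ext
  apply Subtype.ext
  apply Units.ext
  exact h

theorem mt_isom (x : ↥(Cfsg.specialIsometryGroup F (Cfsg.quadFormOdd 1 F))) (v : I3 → F) :
    Cfsg.quadFormOdd 1 F (mt x *ᵥ v) = Cfsg.quadFormOdd 1 F v :=
  x.1.2 v v

theorem mt_det (x : ↥(Cfsg.specialIsometryGroup F (Cfsg.quadFormOdd 1 F))) : (mt x).det = 1 := by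
  have h := x.2
  simp only [Cfsg.specialIsometryGroup, MonoidHom.mem_ker, MonoidHom.coe_comp, Function.comp_apply,
    Subgroup.coe_subtype] at h
  have := congrArg Units.val h
  simpa [mt] using this

theorem mt_inv_mul (x : ↥(Cfsg.specialIsometryGroup F (Cfsg.quadFormOdd 1 F))) :
    mt x⁻¹ * mt x = 1 := by
  rw [← mt_mul, inv_mul_cancel, mt_one]

/-- construct an element of `SO₃` from an involutory matrix -/
def mkSO (M : Matrix I3 I3 F) (hsq : M * M = 1)
    (hiso : ∀ v, Cfsg.quadFormOdd 1 F (M *ᵥ v) = Cfsg.quadFormOdd 1 F v) (hdet : M.det = 1) :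
    ↥(Cfsg.specialIsometryGroup F (Cfsg.quadFormOdd 1 F)) :=
  ⟨⟨⟨M, M, hsq, hsq⟩, fun u _ => hiso u⟩, by
    simp only [Cfsg.specialIsometryGroup, MonoidHom.mem_ker, MonoidHom.coe_comp, Function.comp_apply,
      Subgroup.coe_subtype]
    apply Units.ext
    simpa using hdet⟩

theorem mt_mkSO (M : Matrix I3 I3 F) (hsq : M * M = 1)
    (hiso : ∀ v, Cfsg.quadFormOdd 1 F (M *ᵥ v) = Cfsg.quadFormOdd 1 F v) (hdet : M.det = 1) :
    mt (mkSO M hsq hiso hdet) = M := rfl

/-- `M` maps the point `i` to the point `j` -/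
def Rel (M : Matrix I3 I3 F) (i j : Fin 4) : Prop := M *ᵥ w i = w j ∨ M *ᵥ w i = -w j

theorem rel_one (i : Fin 4) : Rel (1 : Matrix I3 I3 F) i i := by
  left; simp

theorem rel_mul {M N : Matrix I3 I3 F} {i j k : Fin 4} (h1 : Rel N i j) (h2 : Rel M j k) :
    Rel (M * N) i k := by
  unfold Rel at *
  rw [← Matrix.mulVec_mulVec]
  rcases h1 with h1 | h1 <;> rcases h2 with h2 | h2 <;> rw [h1]
  · left; exact h2
  · right; exact h2
  · right; rw [Matrix.mulVec_neg, h2]
  · left; rw [Matrix.mulVec_neg, h2, neg_neg]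

section card3
variable [Fintype F]

theorem w_ne_zero (i : Fin 4) : (w i : I3 → F) ≠ 0 := by
  fin_cases i <;> simp [w, vec_eq_zero]

theorem w_unique (hF : Fintype.card F = 3) {j j' : Fin 4}
    (h : (w j : I3 → F) = w j' ∨ (w j : I3 → F) = -w j') : j = j' := by
  have h1 := one_ne_neg_one hF
  have h1' : (-1 : F) ≠ 1 := fun h => h1 h.symm
  fin_cases j <;> fin_cases j' <;> simp [w, neg_vec, vec_inj, h1, h1'] at h ⊢

theorem exists_rel (hF : Fintype.card F = 3)
    (x : ↥(Cfsg.specialIsometryGroup F (Cfsg.quadFormOdd 1 F))) (i : Fin 4) :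
    ∃ j, Rel (mt x) i j := by
  apply singular_cases hF
  · rw [mt_isom]
    fin_cases i <;> simp [w, Q_vec]
  · intro h0
    have := congrArg (fun v => mt x⁻¹ *ᵥ v) h0
    simp only [Matrix.mulVec_mulVec, mt_inv_mul, Matrix.one_mulVec, Matrix.mulVec_zero] at this
    exact w_ne_zero i this

theorem rel_unique (hF : Fintype.card F = 3) {M : Matrix I3 I3 F} {i j j' : Fin 4}
    (h : Rel M i j) (h' : Rel M i j') : j = j' := by
  unfold Rel at *
  apply w_unique hF
  rcases h with h | h <;> rcases h' with h' | h'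
  · left; rw [← h, ← h']
  · right; rw [← h, h']
  · right; rw [← h', h, neg_neg]
  · left; rw [← neg_inj, ← h, ← h']

/-- the action on the four points -/
noncomputable def act (hF : Fintype.card F = 3)
    (x : ↥(Cfsg.specialIsometryGroup F (Cfsg.quadFormOdd 1 F))) (i : Fin 4) : Fin 4 :=
  Classical.choose (exists_rel hF x i)

theorem rel_act (hF : Fintype.card F = 3)
    (x : ↥(Cfsg.specialIsometryGroup F (Cfsg.quadFormOdd 1 F))) (i : Fin 4) :
    Rel (mt x) i (act hF x i) :=
  Classical.choose_spec (exists_rel hF x i)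

theorem act_eq (hF : Fintype.card F = 3)
    (x : ↥(Cfsg.specialIsometryGroup F (Cfsg.quadFormOdd 1 F))) {i j : Fin 4}
    (h : Rel (mt x) i j) : act hF x i = j :=
  rel_unique hF (rel_act hF x i) h

theorem act_mul (hF : Fintype.card F = 3)
    (x y : ↥(Cfsg.specialIsometryGroup F (Cfsg.quadFormOdd 1 F))) (i : Fin 4) :
    act hF (x * y) i = act hF x (act hF y i) := by
  apply act_eq
  rw [mt_mul]
  exact rel_mul (rel_act hF y i) (rel_act hF x _)

theorem act_one (hF : Fintype.card F = 3) (i : Fin 4) :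
    act hF (1 : ↥(Cfsg.specialIsometryGroup F (Cfsg.quadFormOdd 1 F))) i = i := by
  apply act_eq
  rw [mt_one]
  exact rel_one i

/-- the permutation representation on the four singular points -/
noncomputable def phi (hF : Fintype.card F = 3) :
    ↥(Cfsg.specialIsometryGroup F (Cfsg.quadFormOdd 1 F)) →* Equiv.Perm (Fin 4) where
  toFun x :=
    { toFun := act hF x
      invFun := act hF x⁻¹
      left_inv := fun i => by rw [← act_mul, inv_mul_cancel, act_one]
      right_inv := fun i => by rw [← act_mul, mul_inv_cancel, act_one] }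
  map_one' := by
    ext i
    simp [act_one]
  map_mul' x y := by
    ext i
    simp [act_mul]

theorem phi_apply (hF : Fintype.card F = 3)
    (x : ↥(Cfsg.specialIsometryGroup F (Cfsg.quadFormOdd 1 F))) (i : Fin 4) :
    phi hF x i = act hF x i := rfl

end card3

theorem mat_eta (M : Matrix I3 I3 F) :
    M = mat (M (Sum.inl ()) (Sum.inl ()), M (Sum.inl ()) (Sum.inr (Sum.inl 0)),
              M (Sum.inl ()) (Sum.inr (Sum.inr 0)))
            (M (Sum.inr (Sum.inl 0)) (Sum.inl ()), M (Sum.inr (Sum.inl 0)) (Sum.inr (Sum.inl 0)),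
              M (Sum.inr (Sum.inl 0)) (Sum.inr (Sum.inr 0)))
            (M (Sum.inr (Sum.inr 0)) (Sum.inl ()), M (Sum.inr (Sum.inr 0)) (Sum.inr (Sum.inl 0)),
              M (Sum.inr (Sum.inr 0)) (Sum.inr (Sum.inr 0))) := by
  have h1 : ∀ k : Fin 1, k = 0 := fun k => Subsingleton.elim k 0
  ext i j
  rcases i with ⟨⟩ | k | k <;> rcases j with ⟨⟩ | l | l <;>
    simp only [mat, Matrix.of_apply, Sum.elim_inl, Sum.elim_inr, vec] <;>
    (try rw [h1 k]) <;> (try rw [h1 l])

section card3
variable [Fintype F]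

/-- a determinant-one matrix fixing the four points is the identity -/
theorem eq_one_of_rel (hF : Fintype.card F = 3) (M : Matrix I3 I3 F) (hdet : M.det = 1)
    (h : ∀ i, Rel M i i) : M = 1 := by
  have h3 := three_eq_zero hF
  have h1 := one_ne_neg_one hF
  have h2 : (2 : F) ≠ 0 := by
    intro h
    apply h1
    linear_combination h
  have key : ∀ i, ∃ ε : F, (ε = 1 ∨ ε = -1) ∧ M *ᵥ w i = ε • w i := by
    intro i
    rcases h i with h' | h'
    · exact ⟨1, Or.inl rfl, by rw [h', one_smul]⟩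
    · exact ⟨-1, Or.inr rfl, by rw [h', neg_smul, one_smul]⟩
  obtain ⟨ε₀, -, e0⟩ := key 0
  obtain ⟨ε₁, -, e1⟩ := key 1
  obtain ⟨ε₂, hε, e2⟩ := key 2
  obtain ⟨ε₃, -, e3⟩ := key 3
  have smul_vec : ∀ (ε a b c : F), ε • vec a b c = vec (ε * a) (ε * b) (ε * c) := by
    intro ε a b c
    funext x
    rcases x with ⟨⟩ | k | k <;> rfl
  rw [mat_eta M] at e0 e1 e2 e3 hdet ⊢
  set m00 := M (Sum.inl ()) (Sum.inl ())
  set m01 := M (Sum.inl ()) (Sum.inr (Sum.inl 0))
  set m02 := M (Sum.inl ()) (Sum.inr (Sum.inr 0))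
  set m10 := M (Sum.inr (Sum.inl 0)) (Sum.inl ())
  set m11 := M (Sum.inr (Sum.inl 0)) (Sum.inr (Sum.inl 0))
  set m12 := M (Sum.inr (Sum.inl 0)) (Sum.inr (Sum.inr 0))
  set m20 := M (Sum.inr (Sum.inr 0)) (Sum.inl ())
  set m21 := M (Sum.inr (Sum.inr 0)) (Sum.inr (Sum.inl 0))
  set m22 := M (Sum.inr (Sum.inr 0)) (Sum.inr (Sum.inr 0))
  simp only [w, mat_mulVec, smul_vec, vec_inj] at e0 e1 e2 e3
  obtain ⟨a1, a2, a3⟩ := e0
  obtain ⟨b1, b2, b3⟩ := e1
  obtain ⟨c1, c2, c3⟩ := e2
  obtain ⟨d1, d2, d3⟩ := e3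
  have hm01 : m01 = 0 := by linear_combination a1
  have hm11 : m11 = ε₀ := by linear_combination a2
  have hm21 : m21 = 0 := by linear_combination a3
  have hm02 : m02 = 0 := by linear_combination b1
  have hm12 : m12 = 0 := by linear_combination b2
  have hm22 : m22 = ε₁ := by linear_combination b3
  have hm00 : m00 = ε₂ := by linear_combination c1 - hm01 + hm02
  have hε32 : ε₃ = ε₂ := by linear_combination c1 - d1 - 2 * hm01 + 2 * hm02
  have two_cancel : ∀ t : F, 2 * t = 0 → t = 0 := by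
    intro t ht
    rcases mul_eq_zero.mp ht with h' | h'
    · exact absurd h' h2
    · exact h'
  have hm10 : m10 = 0 := two_cancel _ (by linear_combination c2 + d2 - hε32)
  have hε02 : ε₀ = ε₂ := by
    have : 2 * (ε₀ - ε₂) = 0 := by linear_combination c2 - d2 - 2 * hm11 + 2 * hm12 + hε32
    have := two_cancel _ this
    linear_combination this
  have hm20 : m20 = 0 := two_cancel _ (by linear_combination c3 + d3 + hε32)
  have hε12 : ε₁ = ε₂ := by
    have : 2 * (ε₁ - ε₂) = 0 := by linear_combination d3 - c3 + 2 * hm21 - 2 * hm22 + hε32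
    have := two_cancel _ this
    linear_combination this
  rw [hm00, hm01, hm02, hm10, hm11, hm12, hm20, hm21, hm22, hε02, hε12] at hdet ⊢
  rw [det_mat] at hdet
  rcases hε with rfl | rfl
  · exact mat_one.symm
  · exfalso
    apply h1
    linear_combination (-1 : F) * hdet

end card3

theorem mat_inj {a0 a1 a2 b0 b1 b2 c0 c1 c2 a0' a1' a2' b0' b1' b2' c0' c1' c2' : F}
    (h0 : a0 = a0') (h1 : a1 = a1') (h2 : a2 = a2') (h3 : b0 = b0') (h4 : b1 = b1') (h5 : b2 = b2')
    (h6 : c0 = c0') (h7 : c1 = c1') (h8 : c2 = c2') :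
    mat (a0, a1, a2) (b0, b1, b2) (c0, c1, c2) = mat (a0', a1', a2') (b0', b1', b2') (c0', c1', c2') := by
  subst h0 h1 h2 h3 h4 h5 h6 h7 h8
  rfl

section card3
variable [Fintype F]

/-- the three generators -/
def S01 : Matrix I3 I3 F := mat (-1, 0, 0) (0, 0, 1) (0, 1, 0)
def S12 : Matrix I3 I3 F := mat (1, 0, 1) (-1, -1, 1) (0, 0, -1)
def S23 : Matrix I3 I3 F := mat (1, 0, 0) (0, -1, 0) (0, 0, -1)

theorem S01_sq : (S01 : Matrix I3 I3 F) * S01 = 1 := by
  rw [S01, mat_mul_mat, mat_one]
  apply mat_inj <;> ring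

theorem S12_sq (hF : Fintype.card F = 3) : (S12 : Matrix I3 I3 F) * S12 = 1 := by
  have h3 := three_eq_zero hF
  rw [S12, mat_mul_mat, mat_one]
  apply mat_inj <;> first | ring1 | linear_combination h3 | linear_combination (-1 : F) * h3

theorem S23_sq : (S23 : Matrix I3 I3 F) * S23 = 1 := by
  rw [S23, mat_mul_mat, mat_one]
  apply mat_inj <;> ring

theorem S01_det : (S01 : Matrix I3 I3 F).det = 1 := by
  rw [S01, det_mat]; ring

theorem S12_det : (S12 : Matrix I3 I3 F).det = 1 := by
  rw [S12, det_mat]; ring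

theorem S23_det : (S23 : Matrix I3 I3 F).det = 1 := by
  rw [S23, det_mat]; ring

theorem S01_iso (v : I3 → F) :
    Cfsg.quadFormOdd 1 F (S01 *ᵥ v) = Cfsg.quadFormOdd 1 F v := by
  rw [vec_eta v, S01, mat_mulVec, Q_vec, Q_vec]; ring

theorem S12_iso (hF : Fintype.card F = 3) (v : I3 → F) :
    Cfsg.quadFormOdd 1 F (S12 *ᵥ v) = Cfsg.quadFormOdd 1 F v := by
  have h3 := three_eq_zero hF
  rw [vec_eta v, S12, mat_mulVec, Q_vec, Q_vec]
  linear_combination (v (Sum.inl ()) * v (Sum.inr (Sum.inr 0))) * h3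

theorem S23_iso (v : I3 → F) :
    Cfsg.quadFormOdd 1 F (S23 *ᵥ v) = Cfsg.quadFormOdd 1 F v := by
  rw [vec_eta v, S23, mat_mulVec, Q_vec, Q_vec]; ring

end card3


section final
variable {F : Type*} [Field F] [Fintype F]

theorem phi_injective (hF : Fintype.card F = 3) : Function.Injective (phi (F := F) hF) := by
  rw [injective_iff_map_eq_one]
  intro x hx
  apply mt_inj
  rw [mt_one]
  apply eq_one_of_rel hF _ (mt_det x)
  intro i
  have := rel_act hF x i
  rw [← phi_apply, hx] at this
  exact this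

/-- a tactic-free helper: verify `Rel` on explicit matrices -/
theorem rel_of_eq {M : Matrix I3 I3 F} {i j : Fin 4} (h : M *ᵥ w i = w j ∨ M *ᵥ w i = -w j) :
    Rel M i j := h

theorem phi_S01 (hF : Fintype.card F = 3) :
    phi hF (mkSO S01 S01_sq S01_iso S01_det) = Equiv.swap 0 1 := by
  have h3 := three_eq_zero hF
  ext i
  rw [phi_apply]
  congr 1
  fin_cases i
  · apply act_eq (j := 1); rw [mt_mkSO]
    first
      | (left; simp only [w, S01, mat_mulVec, neg_vec, vec_inj]
         refine ⟨?_, ?_, ?_⟩ <;> first | ring1 | linear_combination h3 | linear_combination (-1 : F) * h3)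
      | (right; simp only [w, S01, mat_mulVec, neg_vec, vec_inj]
         refine ⟨?_, ?_, ?_⟩ <;> first | ring1 | linear_combination h3 | linear_combination (-1 : F) * h3)
  · apply act_eq (j := 0); rw [mt_mkSO]
    first
      | (left; simp only [w, S01, mat_mulVec, neg_vec, vec_inj]
         refine ⟨?_, ?_, ?_⟩ <;> first | ring1 | linear_combination h3 | linear_combination (-1 : F) * h3)
      | (right; simp only [w, S01, mat_mulVec, neg_vec, vec_inj]
         refine ⟨?_, ?_, ?_⟩ <;> first | ring1 | linear_combination h3 | linear_combination (-1 : F) * h3)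
  · apply act_eq (j := 2); rw [mt_mkSO]
    first
      | (left; simp only [w, S01, mat_mulVec, neg_vec, vec_inj]
         refine ⟨?_, ?_, ?_⟩ <;> first | ring1 | linear_combination h3 | linear_combination (-1 : F) * h3)
      | (right; simp only [w, S01, mat_mulVec, neg_vec, vec_inj]
         refine ⟨?_, ?_, ?_⟩ <;> first | ring1 | linear_combination h3 | linear_combination (-1 : F) * h3)
  · apply act_eq (j := 3); rw [mt_mkSO]
    first
      | (left; simp only [w, S01, mat_mulVec, neg_vec, vec_inj]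
         refine ⟨?_, ?_, ?_⟩ <;> first | ring1 | linear_combination h3 | linear_combination (-1 : F) * h3)
      | (right; simp only [w, S01, mat_mulVec, neg_vec, vec_inj]
         refine ⟨?_, ?_, ?_⟩ <;> first | ring1 | linear_combination h3 | linear_combination (-1 : F) * h3)

theorem phi_S12 (hF : Fintype.card F = 3) :
    phi hF (mkSO S12 (S12_sq hF) (S12_iso hF) S12_det) = Equiv.swap 1 2 := by
  have h3 := three_eq_zero hF
  ext i
  rw [phi_apply]
  congr 1
  fin_cases i
  · apply act_eq (j := 0); rw [mt_mkSO]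
    first
      | (left; simp only [w, S12, mat_mulVec, neg_vec, vec_inj]
         refine ⟨?_, ?_, ?_⟩ <;> first | ring1 | linear_combination h3 | linear_combination (-1 : F) * h3)
      | (right; simp only [w, S12, mat_mulVec, neg_vec, vec_inj]
         refine ⟨?_, ?_, ?_⟩ <;> first | ring1 | linear_combination h3 | linear_combination (-1 : F) * h3)
  · apply act_eq (j := 2); rw [mt_mkSO]
    first
      | (left; simp only [w, S12, mat_mulVec, neg_vec, vec_inj]
         refine ⟨?_, ?_, ?_⟩ <;> first | ring1 | linear_combination h3 | linear_combination (-1 : F) * h3)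
      | (right; simp only [w, S12, mat_mulVec, neg_vec, vec_inj]
         refine ⟨?_, ?_, ?_⟩ <;> first | ring1 | linear_combination h3 | linear_combination (-1 : F) * h3)
  · apply act_eq (j := 1); rw [mt_mkSO]
    first
      | (left; simp only [w, S12, mat_mulVec, neg_vec, vec_inj]
         refine ⟨?_, ?_, ?_⟩ <;> first | ring1 | linear_combination h3 | linear_combination (-1 : F) * h3)
      | (right; simp only [w, S12, mat_mulVec, neg_vec, vec_inj]
         refine ⟨?_, ?_, ?_⟩ <;> first | ring1 | linear_combination h3 | linear_combination (-1 : F) * h3)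
  · apply act_eq (j := 3); rw [mt_mkSO]
    first
      | (left; simp only [w, S12, mat_mulVec, neg_vec, vec_inj]
         refine ⟨?_, ?_, ?_⟩ <;> first | ring1 | linear_combination h3 | linear_combination (-1 : F) * h3)
      | (right; simp only [w, S12, mat_mulVec, neg_vec, vec_inj]
         refine ⟨?_, ?_, ?_⟩ <;> first | ring1 | linear_combination h3 | linear_combination (-1 : F) * h3)

theorem phi_S23 (hF : Fintype.card F = 3) :
    phi hF (mkSO S23 S23_sq S23_iso S23_det) = Equiv.swap 2 3 := by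
  have h3 := three_eq_zero hF
  ext i
  rw [phi_apply]
  congr 1
  fin_cases i
  · apply act_eq (j := 0); rw [mt_mkSO]
    first
      | (left; simp only [w, S23, mat_mulVec, neg_vec, vec_inj]
         refine ⟨?_, ?_, ?_⟩ <;> first | ring1 | linear_combination h3 | linear_combination (-1 : F) * h3)
      | (right; simp only [w, S23, mat_mulVec, neg_vec, vec_inj]
         refine ⟨?_, ?_, ?_⟩ <;> first | ring1 | linear_combination h3 | linear_combination (-1 : F) * h3)
  · apply act_eq (j := 1); rw [mt_mkSO]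
    first
      | (left; simp only [w, S23, mat_mulVec, neg_vec, vec_inj]
         refine ⟨?_, ?_, ?_⟩ <;> first | ring1 | linear_combination h3 | linear_combination (-1 : F) * h3)
      | (right; simp only [w, S23, mat_mulVec, neg_vec, vec_inj]
         refine ⟨?_, ?_, ?_⟩ <;> first | ring1 | linear_combination h3 | linear_combination (-1 : F) * h3)
  · apply act_eq (j := 3); rw [mt_mkSO]
    first
      | (left; simp only [w, S23, mat_mulVec, neg_vec, vec_inj]
         refine ⟨?_, ?_, ?_⟩ <;> first | ring1 | linear_combination h3 | linear_combination (-1 : F) * h3)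
      | (right; simp only [w, S23, mat_mulVec, neg_vec, vec_inj]
         refine ⟨?_, ?_, ?_⟩ <;> first | ring1 | linear_combination h3 | linear_combination (-1 : F) * h3)
  · apply act_eq (j := 2); rw [mt_mkSO]
    first
      | (left; simp only [w, S23, mat_mulVec, neg_vec, vec_inj]
         refine ⟨?_, ?_, ?_⟩ <;> first | ring1 | linear_combination h3 | linear_combination (-1 : F) * h3)
      | (right; simp only [w, S23, mat_mulVec, neg_vec, vec_inj]
         refine ⟨?_, ?_, ?_⟩ <;> first | ring1 | linear_combination h3 | linear_combination (-1 : F) * h3)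


theorem phi_surjective (hF : Fintype.card F = 3) : Function.Surjective (phi (F := F) hF) := by
  rw [← MonoidHom.range_eq_top, ← Subgroup.toSubmonoid_inj, Subgroup.top_toSubmonoid,
    eq_top_iff, ← Equiv.Perm.mclosure_swap_castSucc_succ 3, Submonoid.closure_le]
  rintro _ ⟨i, rfl⟩
  fin_cases i
  · exact ⟨_, phi_S01 hF⟩
  · exact ⟨_, phi_S12 hF⟩
  · exact ⟨_, phi_S23 hF⟩

theorem so33_equiv (hF : Fintype.card F = 3) :
    Nonempty (↥(Cfsg.specialIsometryGroup F (Cfsg.quadFormOdd 1 F)) ≃* Equiv.Perm (Fin 4)) :=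
  ⟨MulEquiv.ofBijective (phi hF) ⟨phi_injective hF, phi_surjective hF⟩⟩


end final

end Cfsg.Agent.Lib.Helper14.SO33
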