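import Mathlib

set_option autoImplicit false

/-!
Concrete data for `SU_3(2)`: a model of the field with four elements, `3 × 3` matrices over it
as records of nine entries, the list of the 27 elements of the normal Sylow 3-subgroup and
two generators of a quaternion complement, with all the finite verifications done by `decide`.
-/

namespace Cfsg.Agent.Lib.Helper14.SU32

/-- concrete field with four elements: `0, 1, ω, ω²` -/
inductive F4c : Type
  | o | i | w | v
  deriving DecidableEq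

namespace F4c

instance : Fintype F4c := ⟨{o, i, w, v}, by intro x; cases x <;> decide⟩

/-- addition -/
def add : F4c → F4c → F4c
  | o, x => x
  | x, o => x
  | i, i => o
  | i, w => v
  | i, v => w
  | w, i => v
  | w, w => o
  | w, v => i
  | v, i => w
  | v, w => i
  | v, v => o

/-- multiplication -/
def mul : F4c → F4c → F4c
  | o, _ => o
  | _, o => o
  | i, x => x
  | x, i => x
  | w, w => v
  | w, v => i
  | v, w => i
  | v, v => w

/-- inverse -/
def inv : F4c → F4c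
  | o => o
  | i => i
  | w => v
  | v => w

instance : Add F4c := ⟨add⟩
instance : Mul F4c := ⟨mul⟩
instance : Zero F4c := ⟨o⟩
instance : One F4c := ⟨i⟩
instance : Neg F4c := ⟨id⟩
instance : Inv F4c := ⟨inv⟩

instance : Field F4c where
  add_assoc := by decide
  zero_add := by decide
  add_zero := by decide
  add_comm := by decide
  neg_add_cancel := by decide
  mul_assoc := by decide
  one_mul := by decide
  mul_one := by decide
  left_distrib := by decide
  right_distrib := by decide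
  zero_mul := by decide
  mul_zero := by decide
  mul_comm := by decide
  exists_pair_ne := ⟨o, i, by decide⟩
  mul_inv_cancel := by decide
  inv_zero := rfl
  nsmul := nsmulRec
  zsmul := zsmulRec
  nnqsmul := _
  qsmul := _

theorem card_eq : Fintype.card F4c = 4 := rfl

end F4c

open F4c

/-- `3 × 3` matrices over `F4c` as records -/
structure M3 : Type where
  a00 : F4c
  a01 : F4c
  a02 : F4c
  a10 : F4c
  a11 : F4c
  a12 : F4c
  a20 : F4c
  a21 : F4c
  a22 : F4c
  deriving DecidableEq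

namespace M3

/-- matrix product -/
def mul (x y : M3) : M3 :=
  ⟨x.a00 * y.a00 + x.a01 * y.a10 + x.a02 * y.a20,
   x.a00 * y.a01 + x.a01 * y.a11 + x.a02 * y.a21,
   x.a00 * y.a02 + x.a01 * y.a12 + x.a02 * y.a22,
   x.a10 * y.a00 + x.a11 * y.a10 + x.a12 * y.a20,
   x.a10 * y.a01 + x.a11 * y.a11 + x.a12 * y.a21,
   x.a10 * y.a02 + x.a11 * y.a12 + x.a12 * y.a22,
   x.a20 * y.a00 + x.a21 * y.a10 + x.a22 * y.a20,
   x.a20 * y.a01 + x.a21 * y.a11 + x.a22 * y.a21,
   x.a20 * y.a02 + x.a21 * y.a12 + x.a22 * y.a22⟩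

/-- identity matrix -/
def one : M3 := ⟨1, 0, 0, 0, 1, 0, 0, 0, 1⟩

/-- transpose -/
def tr (x : M3) : M3 := ⟨x.a00, x.a10, x.a20, x.a01, x.a11, x.a21, x.a02, x.a12, x.a22⟩

/-- entrywise squaring (the field involution) -/
def cj (x : M3) : M3 :=
  ⟨x.a00 ^ 2, x.a01 ^ 2, x.a02 ^ 2, x.a10 ^ 2, x.a11 ^ 2, x.a12 ^ 2, x.a20 ^ 2, x.a21 ^ 2, x.a22 ^ 2⟩

/-- determinant, in the shape of `Matrix.det_fin_three` -/
def det (x : M3) : F4c :=
  x.a00 * x.a11 * x.a22 - x.a00 * x.a12 * x.a21 - x.a01 * x.a10 * x.a22 + x.a01 * x.a12 * x.a20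
    + x.a02 * x.a10 * x.a21 - x.a02 * x.a11 * x.a20

/-- scalar matrix -/
def scal (c : F4c) : M3 := ⟨c, 0, 0, 0, c, 0, 0, 0, c⟩

/-- determinant one and unitary -/
def Good (x : M3) : Prop := x.det = 1 ∧ x.tr.mul x.cj = one

instance (x : M3) : Decidable x.Good := by unfold Good; infer_instance

theorem Good.det_eq {x : M3} (h : x.Good) : x.det = 1 := And.left h

theorem Good.unitary {x : M3} (h : x.Good) : x.tr.mul x.cj = one := And.right h

end M3

open M3

/-- the 27 elements of the normal Sylow 3-subgroup of `SU_3(2)` -/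
def LP : List M3 := [
  ⟨o, o, i, i, o, o, o, i, o⟩,
  ⟨o, o, i, w, o, o, o, v, o⟩,
  ⟨o, o, i, v, o, o, o, w, o⟩,
  ⟨o, o, w, i, o, o, o, v, o⟩,
  ⟨o, o, w, w, o, o, o, w, o⟩,
  ⟨o, o, w, v, o, o, o, i, o⟩,
  ⟨o, o, v, i, o, o, o, w, o⟩,
  ⟨o, o, v, w, o, o, o, i, o⟩,
  ⟨o, o, v, v, o, o, o, v, o⟩,
  ⟨o, i, o, o, o, i, i, o, o⟩,
  ⟨o, i, o, o, o, w, v, o, o⟩,
  ⟨o, i, o, o, o, v, w, o, o⟩,
  ⟨o, w, o, o, o, i, v, o, o⟩,
  ⟨o, w, o, o, o, w, w, o, o⟩,
  ⟨o, w, o, o, o, v, i, o, o⟩,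
  ⟨o, v, o, o, o, i, w, o, o⟩,
  ⟨o, v, o, o, o, w, i, o, o⟩,
  ⟨o, v, o, o, o, v, v, o, o⟩,
  ⟨i, o, o, o, i, o, o, o, i⟩,
  ⟨i, o, o, o, w, o, o, o, v⟩,
  ⟨i, o, o, o, v, o, o, o, w⟩,
  ⟨w, o, o, o, i, o, o, o, v⟩,
  ⟨w, o, o, o, w, o, o, o, w⟩,
  ⟨w, o, o, o, v, o, o, o, i⟩,
  ⟨v, o, o, o, i, o, o, o, w⟩,
  ⟨v, o, o, o, w, o, o, o, i⟩,
  ⟨v, o, o, o, v, o, o, o, v⟩
]

/-- generator of order four (the Fourier matrix) -/
def mA : M3 := ⟨i, i, i, i, w, v, i, v, w⟩
/-- its inverse -/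
def mA3 : M3 := ⟨i, i, i, i, v, w, i, w, v⟩
/-- second generator of order four -/
def mB : M3 := ⟨i, v, v, w, w, v, w, v, w⟩
/-- its inverse -/
def mB3 : M3 := ⟨i, v, v, w, v, w, w, w, v⟩
/-- diagonal element with distinct entries -/
def mD : M3 := ⟨w, o, o, o, v, o, o, o, i⟩
/-- cyclic permutation matrix -/
def mC : M3 := ⟨o, i, o, o, o, i, i, o, o⟩

theorem LP_length : LP.length = 27 := rfl
theorem LP_nodup : LP.Nodup := by decide
theorem LP_good : ∀ x ∈ LP, x.Good := by decide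
theorem LP_one : M3.one ∈ LP := by decide
theorem LP_mul : ∀ x ∈ LP, ∀ y ∈ LP, x.mul y ∈ LP := by decide
theorem LP_cube : ∀ x ∈ LP, (x.mul x).mul x = M3.one := by decide
theorem LP_scal : ∀ c : F4c, c ^ 3 = 1 → M3.scal c ∈ LP := by decide
theorem mD_mem : mD ∈ LP := by decide
theorem mC_mem : mC ∈ LP := by decide
theorem mA_good : mA.Good := by decide
theorem mA3_good : mA3.Good := by decide
theorem mB_good : mB.Good := by decide
theorem mB3_good : mB3.Good := by decide
theorem mA_mul_mA3 : mA.mul mA3 = M3.one := by decide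
theorem mA3_mul_mA : mA3.mul mA = M3.one := by decide
theorem mB_mul_mB3 : mB.mul mB3 = M3.one := by decide
theorem mB3_mul_mB : mB3.mul mB = M3.one := by decide
theorem LP_conjA : ∀ x ∈ LP, (mA.mul x).mul mA3 ∈ LP := by decide
theorem LP_conjA3 : ∀ x ∈ LP, (mA3.mul x).mul mA ∈ LP := by decide
theorem LP_conjB : ∀ x ∈ LP, (mB.mul x).mul mB3 ∈ LP := by decide
theorem LP_conjB3 : ∀ x ∈ LP, (mB3.mul x).mul mB ∈ LP := by decide

/-- powers -/
def powM (x : M3) : ℕ → M3
  | 0 => M3.one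
  | (k + 1) => (powM x k).mul x

/-- five coset representatives -/
def reps : Fin 5 → M3 := ![M3.one, mA, mA.mul mA, mA3, mB]
/-- their inverses -/
def ireps : Fin 5 → M3 := ![M3.one, mA3, mA.mul mA, mA, mB3]

theorem reps_good : ∀ k, (reps k).Good ∧ (ireps k).Good := by decide
theorem ireps_mul_reps : ∀ k, (ireps k).mul (reps k) = M3.one := by decide
theorem reps_distinct : ∀ k l, k ≠ l → (ireps k).mul (reps l) ∉ LP := by decide
theorem reps_conj : ∀ k, ∀ x ∈ LP, ((reps k).mul x).mul (ireps k) ∈ LP ∧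
    ((ireps k).mul x).mul (reps k) ∈ LP := by decide
theorem mA_pow_four : powM mA 4 = M3.one := by decide
theorem mB_sq : powM mB 2 = powM mA 2 := by decide
theorem mA_mul_mB : mA.mul mB = mB.mul mA3 := by decide
theorem mA_pow_not_mem : ∀ k : Fin 4, k ≠ 0 → powM mA k ∉ LP := by decide
theorem mB_mul_pow_not_mem : ∀ k : Fin 4, mB.mul (powM mA k) ∉ LP := by decide
theorem scal_good : ∀ c : F4c, c ^ 3 = 1 → (M3.scal c).Good := by decide
theorem card_cube_roots : Fintype.card {c : F4c // c ^ 3 = 1} = 3 := by decide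
theorem scal_det : ∀ c : F4c, (M3.scal c).det = c ^ 3 := by decide
theorem mD_good : mD.Good := by decide
theorem mC_good : mC.Good := by decide

end Cfsg.Agent.Lib.Helper14.SU32
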