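import Mathlib
import Cfsg.Prelude.Def_LieClassical
import Cfsg.Agent.Lib.Helper5.SUCard
import Cfsg.Agent.Lib.Helper86.QuatLift
import Cfsg.Agent.Lib.Helper14.SU32Data

set_option autoImplicit false
set_option linter.unusedSectionVars false

/-!
`SU_3(2) = 3^{1+2} : Q_8` and `PSU_3(2) = 3^2 : Q_8`.
-/

namespace Cfsg.Agent.Lib.Helper14.SU32

open Matrix Cfsg.Agent.Lib.Helper5

variable {F : Type*} [Field F] [Fintype F]

/-- the isomorphism from the concrete field -/
noncomputable def phi (hF : Fintype.card F = 4) : F4c ≃+* F :=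
  FiniteField.ringEquivOfCardEq (by rw [hF, F4c.card_eq])

omit [Field F] in
theorem card_sq (hF : Fintype.card F = 4) : Fintype.card F = 2 ^ 2 := by rw [hF]; rfl

/-- a concrete matrix as a matrix over `F` -/
noncomputable def toMatF (hF : Fintype.card F = 4) (x : M3) : Matrix (Fin 3) (Fin 3) F :=
  !![phi hF x.a00, phi hF x.a01, phi hF x.a02;
     phi hF x.a10, phi hF x.a11, phi hF x.a12;
     phi hF x.a20, phi hF x.a21, phi hF x.a22]

theorem toMatF_mul (hF : Fintype.card F = 4) (x y : M3) :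
    toMatF hF (x.mul y) = toMatF hF x * toMatF hF y := by
  ext a b
  fin_cases a <;> fin_cases b <;>
    simp [toMatF, M3.mul, Matrix.mul_apply, Fin.sum_univ_three]

theorem toMatF_one (hF : Fintype.card F = 4) : toMatF hF M3.one = 1 := by
  ext a b
  fin_cases a <;> fin_cases b <;> simp [toMatF, M3.one]

theorem toMatF_tr (hF : Fintype.card F = 4) (x : M3) :
    toMatF hF x.tr = (toMatF hF x)ᵀ := by
  ext a b
  fin_cases a <;> fin_cases b <;> simp [toMatF, M3.tr]

theorem toMatF_cj (hF : Fintype.card F = 4) (x : M3) :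
    toMatF hF x.cj = (toMatF hF x).map (frobQ (card_sq hF)) := by
  ext a b
  fin_cases a <;> fin_cases b <;> simp [toMatF, M3.cj, frobQ_apply]

theorem det_toMatF (hF : Fintype.card F = 4) (x : M3) :
    (toMatF hF x).det = phi hF x.det := by
  rw [Matrix.det_fin_three]
  simp [toMatF, M3.det]

theorem toMatF_inj (hF : Fintype.card F = 4) {x y : M3} (h : toMatF hF x = toMatF hF y) :
    x = y := by
  have e := fun a b => congrFun (congrFun h a) b
  have h00 := e 0 0
  have h01 := e 0 1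
  have h02 := e 0 2
  have h10 := e 1 0
  have h11 := e 1 1
  have h12 := e 1 2
  have h20 := e 2 0
  have h21 := e 2 1
  have h22 := e 2 2
  simp [toMatF] at h00 h01 h02 h10 h11 h12 h20 h21 h22
  cases x; cases y
  simp_all

theorem hermForm_eq_dot (hF : Fintype.card F = 4) (u v : Fin 3 → F) :
    Cfsg.hermForm 3 F 2 u v = u ⬝ᵥ (frobQ (card_sq hF) ∘ v) := rfl

theorem isHermIso_of_transpose_mul_map (hF : Fintype.card F = 4) (A : Matrix (Fin 3) (Fin 3) F)
    (h : Aᵀ * A.map (frobQ (card_sq hF)) = 1) : IsHermIso 3 F 2 A := by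
  intro u v
  rw [hermForm_eq_dot hF, hermForm_eq_dot hF]
  have h1 : (frobQ (card_sq hF)) ∘ (A *ᵥ v) =
      A.map (frobQ (card_sq hF)) *ᵥ ((frobQ (card_sq hF)) ∘ v) :=
    funext (RingHom.map_mulVec (frobQ (card_sq hF)) A v)
  rw [h1, Matrix.dotProduct_mulVec, Matrix.vecMul_mulVec, h, Matrix.vecMul_one]

/-- the matrix of an element of `SU_3` -/
def mat (g : Cfsg.SU 3 F 2) : Matrix (Fin 3) (Fin 3) F := g.1.1

theorem mat_mul (g h : Cfsg.SU 3 F 2) : mat (g * h) = mat g * mat h := rfl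

theorem mat_one : mat (1 : Cfsg.SU 3 F 2) = 1 := rfl

theorem mat_inj {g h : Cfsg.SU 3 F 2} (e : mat g = mat h) : g = h :=
  Subtype.ext (Subtype.ext e)

theorem mem_SU_iff (g : SpecialLinearGroup (Fin 3) F) :
    g ∈ Cfsg.SU 3 F 2 ↔ IsHermIso 3 F 2 g.1 := Iff.rfl

theorem det_mat (g : Cfsg.SU 3 F 2) : (mat g).det = 1 := g.1.2

/-- the element of `SU_3(2)` with a given concrete matrix -/
noncomputable def mkG (hF : Fintype.card F = 4) (x : M3) (hx : x.Good) : Cfsg.SU 3 F 2 :=
  ⟨⟨toMatF hF x, by rw [det_toMatF, hx.det_eq, map_one]⟩, by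
    apply (mem_SU_iff _).mpr
    apply isHermIso_of_transpose_mul_map hF
    rw [← toMatF_tr, ← toMatF_cj, ← toMatF_mul, hx.unitary, toMatF_one]⟩

theorem mat_mkG (hF : Fintype.card F = 4) (x : M3) (hx : x.Good) :
    mat (mkG hF x hx) = toMatF hF x := rfl

theorem mkG_mul (hF : Fintype.card F = 4) (x y z : M3) (hx : x.Good) (hy : y.Good) (hz : z.Good)
    (h : x.mul y = z) : mkG hF x hx * mkG hF y hy = mkG hF z hz := by
  apply mat_inj
  rw [mat_mul, mat_mkG, mat_mkG, mat_mkG, ← toMatF_mul, h]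

theorem mkG_eq_one (hF : Fintype.card F = 4) (x : M3) (hx : x.Good) (h : x = M3.one) :
    mkG hF x hx = 1 := by
  apply mat_inj
  rw [mat_mkG, h, toMatF_one, mat_one]

theorem mkG_inv (hF : Fintype.card F = 4) (x y : M3) (hx : x.Good) (hy : y.Good)
    (h : y.mul x = M3.one) : (mkG hF x hx)⁻¹ = mkG hF y hy := by
  apply inv_eq_of_mul_eq_one_left
  apply mat_inj
  rw [mat_mul, mat_mkG, mat_mkG, ← toMatF_mul, h, toMatF_one, mat_one]

/-- the normal Sylow 3-subgroup -/
def P (hF : Fintype.card F = 4) : Subgroup (Cfsg.SU 3 F 2) where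
  carrier := {g | ∃ x ∈ LP, mat g = toMatF hF x}
  one_mem' := ⟨M3.one, LP_one, by rw [toMatF_one, mat_one]⟩
  mul_mem' := by
    rintro a b ⟨x, hx, hxa⟩ ⟨y, hy, hyb⟩
    exact ⟨x.mul y, LP_mul x hx y hy, by rw [toMatF_mul, mat_mul, hxa, hyb]⟩
  inv_mem' := by
    rintro a ⟨x, hx, hxa⟩
    have h3 : a * a * a = 1 := by
      apply mat_inj
      rw [mat_mul, mat_mul, hxa, ← toMatF_mul, ← toMatF_mul, LP_cube x hx, toMatF_one, mat_one]
    have hinv : a⁻¹ = a * a := inv_eq_of_mul_eq_one_left h3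
    refine ⟨x.mul x, LP_mul x hx x hx, ?_⟩
    rw [hinv, mat_mul, hxa, toMatF_mul]

theorem mem_P_iff (hF : Fintype.card F = 4) (g : Cfsg.SU 3 F 2) :
    g ∈ P hF ↔ ∃ x ∈ LP, mat g = toMatF hF x := Iff.rfl

theorem mkG_mem_P_iff (hF : Fintype.card F = 4) (x : M3) (hx : x.Good) :
    mkG hF x hx ∈ P hF ↔ x ∈ LP := by
  rw [mem_P_iff]
  constructor
  · rintro ⟨y, hy, hxy⟩
    rw [mat_mkG] at hxy
    rw [toMatF_inj hF hxy]
    exact hy
  · intro h
    exact ⟨x, h, rfl⟩

theorem card_P (hF : Fintype.card F = 4) : Nat.card (P hF) = 27 := by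
  have e : {x : M3 // x ∈ LP} ≃ P hF := by
    refine Equiv.ofBijective
      (fun x => ⟨mkG hF x.1 (LP_good x.1 x.2), x.1, x.2, rfl⟩) ⟨?_, ?_⟩
    · intro x y hxy
      have h1 := congrArg (fun g : P hF => mat g.1) hxy
      simp only [mat_mkG] at h1
      exact Subtype.ext (toMatF_inj hF h1)
    · rintro ⟨g, x, hx, hgx⟩
      refine ⟨⟨x, hx⟩, ?_⟩
      apply Subtype.ext
      apply mat_inj
      rw [hgx]
      rfl
  rw [← Nat.card_congr e, Nat.subtype_card LP.toFinset (by simp),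
    List.toFinset_card_of_nodup LP_nodup, LP_length]

theorem card_G (hF : Fintype.card F = 4) : Nat.card (Cfsg.SU 3 F 2) = 216 := by
  have h1 := card_SU (card_sq hF) 3 (by norm_num)
  have h2 := card_GU (card_sq hF) 3
  have h3 : (2 : ℕ) ^ (3 * (3 - 1) / 2) * ∏ i ∈ Finset.range 3,
      (if Even i then 2 ^ (i + 1) + 1 else 2 ^ (i + 1) - 1) = 648 := by decide
  omega

theorem pow_three_of_mem_P (hF : Fintype.card F = 4) (g : Cfsg.SU 3 F 2) (hg : g ∈ P hF) :
    g ^ 3 = 1 := by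
  obtain ⟨x, hx, hxa⟩ := hg
  rw [pow_succ, pow_two]
  apply mat_inj
  rw [mat_mul, mat_mul, hxa, ← toMatF_mul, ← toMatF_mul, LP_cube x hx, toMatF_one, mat_one]

/-- a subgroup of index 8 with five coset representatives in its normalizer is normal -/
theorem normal_of_reps {G : Type*} [Group G] [Finite G] (P : Subgroup G) (hidx : P.index = 8)
    (r : Fin 5 → G) (hr : ∀ k, r k ∈ Subgroup.normalizer (P : Set G))
    (hd : ∀ k l, k ≠ l → (r k)⁻¹ * r l ∉ P) : P.Normal := by
  have hPN : P ≤ Subgroup.normalizer (P : Set G) := Subgroup.le_normalizer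
  have h1 : P.relIndex (Subgroup.normalizer (P : Set G)) *
      (Subgroup.normalizer (P : Set G)).index = 8 := by
    rw [Subgroup.relIndex_mul_index hPN, hidx]
  have h2 : 5 ≤ P.relIndex (Subgroup.normalizer (P : Set G)) := by
    have hinj : Function.Injective (fun k : Fin 5 =>
        (((⟨r k, hr k⟩ : Subgroup.normalizer (P : Set G))) :
          Subgroup.normalizer (P : Set G) ⧸ P.subgroupOf (Subgroup.normalizer (P : Set G)))) := by
      intro k l hkl
      by_contra hne
      apply hd k l hne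
      have := QuotientGroup.eq.mp hkl
      rwa [Subgroup.mem_subgroupOf] at this
    have := Nat.card_le_card_of_injective _ hinj
    simpa [Subgroup.relIndex, Subgroup.index] using this
  have h3 : P.relIndex (Subgroup.normalizer (P : Set G)) ∣ 8 := Dvd.intro _ h1
  have h4 : P.relIndex (Subgroup.normalizer (P : Set G)) ≤ 8 := Nat.le_of_dvd (by norm_num) h3
  have h5 : P.relIndex (Subgroup.normalizer (P : Set G)) = 8 := by
    interval_cases (P.relIndex (Subgroup.normalizer (P : Set G))) <;> omega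
  rw [h5] at h1
  have h6 : (Subgroup.normalizer (P : Set G)).index = 1 := by omega
  exact Subgroup.normalizer_eq_top_iff.mp (Subgroup.index_eq_one.mp h6)

theorem index_P (hF : Fintype.card F = 4) : (P hF).index = 8 := by
  have h := Subgroup.card_mul_index (P hF)
  rw [card_P, card_G hF] at h
  omega

theorem finite_G (hF : Fintype.card F = 4) : Finite (Cfsg.SU 3 F 2) :=
  Nat.finite_of_card_ne_zero (by rw [card_G hF]; norm_num)

/-- coset representatives as group elements -/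
noncomputable def gr (hF : Fintype.card F = 4) (k : Fin 5) : Cfsg.SU 3 F 2 :=
  mkG hF (reps k) (reps_good k).1

/-- their inverses -/
noncomputable def gir (hF : Fintype.card F = 4) (k : Fin 5) : Cfsg.SU 3 F 2 :=
  mkG hF (ireps k) (reps_good k).2

theorem gr_inv (hF : Fintype.card F = 4) (k : Fin 5) : (gr hF k)⁻¹ = gir hF k :=
  mkG_inv hF _ _ _ _ (ireps_mul_reps k)

theorem gr_mem_normalizer (hF : Fintype.card F = 4) (k : Fin 5) :
    gr hF k ∈ Subgroup.normalizer ((P hF : Subgroup (Cfsg.SU 3 F 2)) : Set (Cfsg.SU 3 F 2)) := by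
  rw [Subgroup.mem_set_normalizer_iff]
  intro h
  rw [gr_inv]
  constructor
  · rintro ⟨x, hx, hxh⟩
    refine ⟨((reps k).mul x).mul (ireps k), (reps_conj k x hx).1, ?_⟩
    rw [mat_mul, mat_mul, hxh, toMatF_mul, toMatF_mul]
    rfl
  · rintro ⟨x, hx, hxh⟩
    have key : gir hF k * (gr hF k * h * gir hF k) * gr hF k ∈ P hF := by
      refine ⟨((ireps k).mul x).mul (reps k), (reps_conj k x hx).2, ?_⟩
      rw [mat_mul, mat_mul, hxh, toMatF_mul, toMatF_mul]
      rfl
    have e : gir hF k * (gr hF k * h * gir hF k) * gr hF k = h := by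
      rw [← gr_inv]; group
    rw [← e]
    exact key

theorem P_normal (hF : Fintype.card F = 4) : (P hF).Normal := by
  have := finite_G hF
  refine normal_of_reps (P hF) (index_P hF) (gr hF) (gr_mem_normalizer hF) ?_
  intro k l hkl
  rw [gr_inv]
  rintro ⟨x, hx, hxh⟩
  rw [mat_mul] at hxh
  change toMatF hF (ireps k) * toMatF hF (reps l) = _ at hxh
  rw [← toMatF_mul] at hxh
  have hh := toMatF_inj hF hxh
  rw [← hh] at hx
  exact reps_distinct k l hkl hx

theorem mat_pow (hF : Fintype.card F = 4) (x : M3) (hx : x.Good) (n : ℕ) :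
    mat (mkG hF x hx ^ n) = toMatF hF (powM x n) := by
  induction n with
  | zero => rw [pow_zero, mat_one]; exact (toMatF_one hF).symm
  | succ n ih =>
    rw [pow_succ, mat_mul, ih, mat_mkG]
    exact (toMatF_mul hF _ _).symm

theorem pow_not_mem (hF : Fintype.card F = 4) (n : ℕ) (hn : n < 4) (h0 : n ≠ 0) :
    mkG hF mA mA_good ^ n ∉ P hF := by
  rintro ⟨x, hx, hxh⟩
  rw [mat_pow] at hxh
  have hh := toMatF_inj hF hxh
  rw [← hh] at hx
  exact mA_pow_not_mem ⟨n, hn⟩ (by intro h; apply h0; exact congrArg Fin.val h) hx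

theorem mul_pow_not_mem (hF : Fintype.card F = 4) (n : ℕ) (hn : n < 4) :
    mkG hF mB mB_good * mkG hF mA mA_good ^ n ∉ P hF := by
  rintro ⟨x, hx, hxh⟩
  rw [mat_mul, mat_pow, mat_mkG, ← toMatF_mul] at hxh
  have hh := toMatF_inj hF hxh
  rw [← hh] at hx
  exact mB_mul_pow_not_mem ⟨n, hn⟩ hx

theorem quotient_equiv (hF : Fintype.card F = 4) [hn : (P hF).Normal] :
    Nonempty ((Cfsg.SU 3 F 2 ⧸ P hF) ≃* QuaternionGroup 2) := by
  have hfin := finite_G hF
  set gA : Cfsg.SU 3 F 2 := mkG hF mA mA_good with hgA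
  set gB : Cfsg.SU 3 F 2 := mkG hF mB mB_good with hgB
  have hA4 : gA ^ 4 = 1 := by
    apply mat_inj
    rw [mat_pow, mA_pow_four, toMatF_one, mat_one]
  have hB2 : gB ^ 2 = gA ^ 2 := by
    apply mat_inj
    rw [mat_pow, mat_pow, mB_sq]
  have hAinv : gA⁻¹ = mkG hF mA3 mA3_good := mkG_inv hF _ _ _ _ mA3_mul_mA
  have hAB : gA * gB = gB * gA⁻¹ := by
    rw [hAinv]
    apply mat_inj
    rw [mat_mul, mat_mul, mat_mkG, mat_mkG, mat_mkG, ← toMatF_mul, ← toMatF_mul, mA_mul_mB]
  set α : Cfsg.SU 3 F 2 ⧸ P hF := (gA : Cfsg.SU 3 F 2 ⧸ P hF) with hα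
  set β : Cfsg.SU 3 F 2 ⧸ P hF := (gB : Cfsg.SU 3 F 2 ⧸ P hF) with hβ
  have hα4 : α ^ 4 = 1 := by
    rw [hα, ← QuotientGroup.mk_pow, hA4]; rfl
  have hβ2 : β ^ 2 = α ^ 2 := by
    rw [hα, hβ, ← QuotientGroup.mk_pow, ← QuotientGroup.mk_pow, hB2]
  have hc : α * β = β * α⁻¹ := by
    rw [hα, hβ, ← QuotientGroup.mk_inv, ← QuotientGroup.mk_mul, ← QuotientGroup.mk_mul, hAB]
  set φ := Cfsg.Agent.Lib.Helper86.quat8Hom hα4 hβ2 hc with hφ
  have hinj : Function.Injective φ := by
    rw [injective_iff_map_eq_one]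
    intro x hx
    rw [hφ, Cfsg.Agent.Lib.Helper86.quat8Hom_apply] at hx
    rcases x with k | k
    · simp only [Cfsg.Agent.Lib.Helper86.quat8Fun] at hx
      have hlt : k.val < 4 := ZMod.val_lt k
      by_cases h0 : k.val = 0
      · have : k = 0 := (ZMod.val_eq_zero k).mp h0
        rw [this]; rfl
      · exfalso
        rw [hα, ← QuotientGroup.mk_pow, QuotientGroup.eq_one_iff] at hx
        exact pow_not_mem hF _ hlt h0 hx
    · exfalso
      simp only [Cfsg.Agent.Lib.Helper86.quat8Fun] at hx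
      have hlt : k.val < 4 := ZMod.val_lt k
      rw [hα, hβ, ← QuotientGroup.mk_pow, ← QuotientGroup.mk_mul, QuotientGroup.eq_one_iff] at hx
      exact mul_pow_not_mem hF _ hlt hx
  have hcardQ : Nat.card (QuaternionGroup 2) = 8 := by
    rw [Nat.card_eq_fintype_card, QuaternionGroup.card]
  have hcard : Nat.card (Cfsg.SU 3 F 2 ⧸ P hF) = 8 := by
    rw [← Subgroup.index_eq_card, index_P hF]
  have hbij : Function.Bijective φ := by
    have : Finite (Cfsg.SU 3 F 2 ⧸ P hF) := inferInstance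
    rw [Nat.bijective_iff_injective_and_card]
    exact ⟨hinj, by rw [hcardQ, hcard]⟩
  exact ⟨(MulEquiv.ofBijective φ hbij).symm⟩

theorem phi_o (hF : Fintype.card F = 4) : phi hF F4c.o = 0 := map_zero (phi hF)

theorem phi_i (hF : Fintype.card F = 4) : phi hF F4c.i = 1 := map_one (phi hF)

theorem toMatF_scal (hF : Fintype.card F = 4) (c : F4c) :
    toMatF hF (M3.scal c) = (phi hF c) • (1 : Matrix (Fin 3) (Fin 3) F) := by
  ext a b
  fin_cases a <;> fin_cases b <;> simp [toMatF, M3.scal]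

theorem offdiag_of_comm (d : Fin 3 → F) (hd : Function.Injective d) (M : Matrix (Fin 3) (Fin 3) F)
    (h : Matrix.diagonal d * M = M * Matrix.diagonal d) : ∀ a b, a ≠ b → M a b = 0 := by
  intro a b hab
  have := congrFun (congrFun h a) b
  rw [Matrix.diagonal_mul, Matrix.mul_diagonal] at this
  have h2 : (d a - d b) * M a b = 0 := by linear_combination this
  rcases mul_eq_zero.mp h2 with h3 | h3
  · exact absurd (hd (sub_eq_zero.mp h3)) hab
  · exact h3

theorem toMatF_mD (hF : Fintype.card F = 4) :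
    toMatF hF mD = Matrix.diagonal (fun a => phi hF (![F4c.w, F4c.v, F4c.i] a)) := by
  ext a b
  fin_cases a <;> fin_cases b <;> simp [toMatF, mD, phi_o]

theorem exists_scal_of_mem_center (hF : Fintype.card F = 4) (z : Cfsg.SU 3 F 2)
    (hz : z ∈ Subgroup.center (Cfsg.SU 3 F 2)) :
    ∃ c : F4c, c ^ 3 = 1 ∧ mat z = toMatF hF (M3.scal c) := by
  rw [Subgroup.mem_center_iff] at hz
  have hD := congrArg mat (hz (mkG hF mD mD_good))
  have hC := congrArg mat (hz (mkG hF mC mC_good))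
  rw [mat_mul, mat_mul, mat_mkG] at hD hC
  set M := mat z with hM
  have hoff : ∀ a b, a ≠ b → M a b = 0 := by
    rw [toMatF_mD] at hD
    refine offdiag_of_comm _ ?_ M hD
    intro a b hab
    have h1 := (phi hF).injective hab
    revert h1
    fin_cases a <;> fin_cases b <;> simp
  have f := fun a b => congrFun (congrFun hC a) b
  have c01 := f 0 1
  have c12 := f 1 2
  simp [toMatF, mC, Matrix.mul_apply, Fin.sum_univ_three, phi_o, phi_i] at c01 c12
  have hdiag : ∀ a, M a a = M 0 0 := by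
    intro a
    fin_cases a
    · rfl
    · exact c01
    · exact c12.trans c01
  have hMc : M = toMatF hF (M3.scal ((phi hF).symm (M 0 0))) := by
    rw [toMatF_scal, RingEquiv.apply_symm_apply]
    ext a b
    rw [Matrix.smul_apply, Matrix.one_apply, smul_eq_mul]
    by_cases hab : a = b
    · rw [if_pos hab, mul_one, ← hab, hdiag]
    · rw [if_neg hab, mul_zero, hoff a b hab]
  refine ⟨(phi hF).symm (M 0 0), ?_, hMc⟩
  have hdet : M.det = 1 := det_mat z
  rw [hMc, det_toMatF, scal_det] at hdet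
  apply (phi hF).injective
  rw [hdet, map_one]

theorem center_le_P (hF : Fintype.card F = 4) : Subgroup.center (Cfsg.SU 3 F 2) ≤ P hF := by
  intro z hz
  obtain ⟨c, hc, hzc⟩ := exists_scal_of_mem_center hF z hz
  exact ⟨M3.scal c, LP_scal c hc, hzc⟩

theorem scal_mem_center (hF : Fintype.card F = 4) (c : F4c) (hc : c ^ 3 = 1) :
    mkG hF (M3.scal c) (scal_good c hc) ∈ Subgroup.center (Cfsg.SU 3 F 2) := by
  rw [Subgroup.mem_center_iff]
  intro g
  apply mat_inj
  rw [mat_mul, mat_mul, mat_mkG, toMatF_scal, Matrix.mul_smul, Matrix.smul_mul, mul_one, one_mul]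

theorem card_center (hF : Fintype.card F = 4) :
    Nat.card (Subgroup.center (Cfsg.SU 3 F 2)) = 3 := by
  have e : {c : F4c // c ^ 3 = 1} ≃ Subgroup.center (Cfsg.SU 3 F 2) := by
    refine Equiv.ofBijective
      (fun c => ⟨mkG hF (M3.scal c.1) (scal_good c.1 c.2), scal_mem_center hF c.1 c.2⟩) ⟨?_, ?_⟩
    · intro x y hxy
      have h1 := congrArg (fun g : Subgroup.center (Cfsg.SU 3 F 2) => mat g.1) hxy
      simp only [mat_mkG] at h1
      have h2 := toMatF_inj hF h1
      apply Subtype.ext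
      exact congrArg M3.a00 h2
    · rintro ⟨z, hz⟩
      obtain ⟨c, hc, hzc⟩ := exists_scal_of_mem_center hF z hz
      refine ⟨⟨c, hc⟩, ?_⟩
      apply Subtype.ext
      apply mat_inj
      rw [hzc]
      rfl
  rw [← Nat.card_congr e, Nat.card_eq_fintype_card]
  exact card_cube_roots

theorem main_aux {G : Type*} [Group G] [Finite G] (Z P : Subgroup G) [hZn : Z.Normal]
    [hPn : P.Normal] (hZP : Z ≤ P) (hG : Nat.card G = 216) (hZ : Nat.card Z = 3)
    (e2 : G ⧸ P ≃* QuaternionGroup 2) (h3 : ∀ p ∈ P, p ^ 3 = 1) :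
    ∃ (N : Subgroup (G ⧸ Z)) (_ : N.Normal), Nat.card N = 9 ∧ (∀ x ∈ N, x ^ 3 = 1) ∧
      Nonempty ((G ⧸ Z) ⧸ N ≃* QuaternionGroup 2) := by
  have hN : (P.map (QuotientGroup.mk' Z)).Normal :=
    Subgroup.Normal.map hPn _ (QuotientGroup.mk'_surjective _)
  have e : ((G ⧸ Z) ⧸ P.map (QuotientGroup.mk' Z)) ≃* (G ⧸ P) :=
    QuotientGroup.quotientQuotientEquivQuotient Z P hZP
  refine ⟨P.map (QuotientGroup.mk' Z), hN, ?_, ?_, ⟨e.trans e2⟩⟩
  · have h1 := Subgroup.card_eq_card_quotient_mul_card_subgroup Z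
    rw [hG, hZ] at h1
    have h2 := Subgroup.card_eq_card_quotient_mul_card_subgroup (P.map (QuotientGroup.mk' Z))
    have h4 : Nat.card ((G ⧸ Z) ⧸ P.map (QuotientGroup.mk' Z)) = 8 := by
      rw [Nat.card_congr (e.trans e2).toEquiv, Nat.card_eq_fintype_card, QuaternionGroup.card]
    rw [h4] at h2
    omega
  · rintro x ⟨p, hp, rfl⟩
    rw [← map_pow, h3 p hp, map_one]

/-- `PSU_3(2) = 3^2 . Q_8` -/
theorem main (hF : Fintype.card F = 4) :
    ∃ (N : Subgroup (Cfsg.PSU 3 F 2)) (_ : N.Normal), Nat.card N = 9 ∧ (∀ x ∈ N, x ^ 3 = 1) ∧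
      Nonempty (Cfsg.PSU 3 F 2 ⧸ N ≃* QuaternionGroup 2) := by
  have hfin := finite_G hF
  have hPn : (P hF).Normal := P_normal hF
  obtain ⟨e2⟩ := quotient_equiv hF
  exact main_aux (Subgroup.center (Cfsg.SU 3 F 2)) (P hF) (center_le_P hF) (card_G hF)
    (card_center hF) e2 (pow_three_of_mem_P hF)

end Cfsg.Agent.Lib.Helper14.SU32
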