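import Mathlib
import Cfsg.Agent.Lib.Helper20.SuGrp

set_option autoImplicit false
set_option linter.unusedSimpArgs false
set_option linter.unusedSectionVars false
set_option linter.unusedVariables false

/-!
# SU-E: the radical `QJ k` of the unitary parabolic is radical (k = 1, 2)

A subgroup `Kt` of `UU ⊓ SUJ` normalised by `PJ k ⊓ SUJ` lies in `QJ k`.  We conjugate an element
of `Kt` by lower Eichler elements of the Levi factor and read off one entry of the conjugate.
-/

namespace Cfsg.Agent.Lib.Helper20.SuF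

open Matrix Subgroup Cfsg.Agent.Lib.Helper20.PslF

variable {n : ℕ} {K : Type*} [Field K] [Fintype K] (F : Inv K)

theorem e_mulVec_eb (M : Matrix (Fin n) (Fin n) K) (j i : Fin n) :
    (M *ᵥ (eb j : Fin n → K)) i = M i j := by
  rw [Matrix.mulVec, dotProduct, Finset.sum_eq_single j]
  · rw [eb_same, mul_one]
  · intro l _ hl
    rw [eb_ne hl, mul_zero]
  · intro h
    exact absurd (Finset.mem_univ _) h

/-- the entries of the conjugate of an arbitrary matrix by an Eichler element `Sm (eb p) (d • eb q) c'` -/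
theorem e_conj_entry (X : Matrix (Fin n) (Fin n) K) {p q : Fin n} (hpq : q ≠ p) (d c' : K)
    (i j : Fin n) :
    (Sm F (eb p) (d • eb q) c' * X * Sm F (eb p) (-(d • eb q)) (F.sg c')) i j =
      (X i j - (if j = Fin.rev p then d else 0) * X i q +
        ((if j = Fin.rev q then F.sg d else 0) + (if j = Fin.rev p then F.sg c' else 0)) * X i p) +
      (if i = q then d else 0) *
        (X (Fin.rev p) j - (if j = Fin.rev p then d else 0) * X (Fin.rev p) q +
        ((if j = Fin.rev q then F.sg d else 0) + (if j = Fin.rev p then F.sg c' else 0)) *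
          X (Fin.rev p) p) -
      (if i = p then F.sg d else 0) *
        (X (Fin.rev q) j - (if j = Fin.rev p then d else 0) * X (Fin.rev q) q +
        ((if j = Fin.rev q then F.sg d else 0) + (if j = Fin.rev p then F.sg c' else 0)) *
          X (Fin.rev q) p) +
      (if i = p then c' else 0) *
        (X (Fin.rev p) j - (if j = Fin.rev p then d else 0) * X (Fin.rev p) q +
        ((if j = Fin.rev q then F.sg d else 0) + (if j = Fin.rev p then F.sg c' else 0)) *
          X (Fin.rev p) p) := by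
  rw [← e_mulVec_eb (Sm F (eb p) (d • eb q) c' * X * Sm F (eb p) (-(d • eb q)) (F.sg c')) j i,
    ← Matrix.mulVec_mulVec, ← Matrix.mulVec_mulVec]
  rw [Sm_mulVec F (eb p) (-(d • eb q)) (F.sg c') (eb j)]
  rw [Sm_mulVec]
  simp only [hf_eb_right, hf_smul_right, hf_neg_right, hf_eb_eb, Matrix.mulVec_add,
    Matrix.mulVec_sub, Matrix.mulVec_smul, Matrix.mulVec_neg, Pi.add_apply, Pi.sub_apply,
    Pi.smul_apply, Pi.neg_apply, smul_eq_mul, e_mulVec_eb, eb_apply]
  have hqp : p ≠ q := hpq.symm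
  have hr : Fin.rev q ≠ Fin.rev p := fun h => hpq (Fin.rev_injective h)
  have hr' : Fin.rev p ≠ Fin.rev q := hr.symm
  by_cases h1 : j = Fin.rev p
  · have h2 : j ≠ Fin.rev q := by rw [h1]; exact hr'
    by_cases h3 : i = q
    · have h4 : i ≠ p := by rw [h3]; exact hpq
      simp [h1, h3, hpq, hqp, hr, hr']
      try ring
    · by_cases h4 : i = p
      · simp [h1, h4, hpq, hqp, hr, hr']
        try ring
      · simp [h1, h3, h4, hpq, hqp, hr, hr']
        try ring
  · have h1' : ¬ Fin.rev p = j := fun h => h1 h.symm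
    by_cases h2 : j = Fin.rev q
    · by_cases h3 : i = q
      · have h4 : i ≠ p := by rw [h3]; exact hpq
        simp [h2, h3, hpq, hqp, hr, hr']
        try ring
      · by_cases h4 : i = p
        · simp [h2, h4, hpq, hqp, hr, hr']
          try ring
        · simp [h2, h3, h4, hpq, hqp, hr, hr']
          try ring
    · have h2' : ¬ Fin.rev q = j := fun h => h2 h.symm
      by_cases h3 : i = q
      · have h4 : i ≠ p := by rw [h3]; exact hpq
        simp [h1, h2, h1', h2', h3, hpq, hqp, hr, hr']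
        try ring
      · by_cases h4 : i = p
        · simp [h1, h2, h1', h2', h4, hpq, hqp, hr, hr']
        · simp [h1, h2, h1', h2', h3, h4, hpq, hqp, hr, hr']


theorem e_b3_rev {k : ℕ} (hk : 2 * k ≤ n) (x : Fin n) : b3 k (Fin.rev x) = 2 - b3 k x := by
  unfold b3
  rw [Fin.val_rev]
  have := x.2
  split_ifs <;> omega

theorem e_b3_le_two (k : ℕ) (x : Fin n) : b3 k x ≤ 2 := by
  unfold b3
  split_ifs <;> omega

/-- membership of the lower Eichler elements in the parabolic -/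
theorem e_Sg_mem_PJ {k : ℕ} (p q : Fin n) (d c' : K) (h1 : hf F (eb p : Fin n → K) (eb p) = 0)
    (h2 : hf F (d • (eb q : Fin n → K)) (eb p) = 0)
    (hq : b3 k q ≤ b3 k (Fin.rev p)) (hp : b3 k p ≤ b3 k (Fin.rev q))
    (hc : c' = 0 ∨ b3 k p ≤ b3 k (Fin.rev p)) :
    Sg F (eb p) (d • eb q) c' h1 h2 ∈ (PJ k : Subgroup (SLn n K)) := by
  rw [mem_PJ]
  intro x y hxy
  rw [mt_Sg, Sm_apply]
  have hne : x ≠ y := by
    rintro rfl
    exact lt_irrefl _ hxy
  rw [Matrix.one_apply_ne hne]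
  simp only [Pi.smul_apply, eb_apply, smul_eq_mul]
  have t1 : ¬ (x = q ∧ Fin.rev y = p) := by
    rintro ⟨rfl, rfl⟩
    rw [Fin.rev_rev] at hq
    omega
  have t2 : ¬ (x = p ∧ Fin.rev y = q) := by
    rintro ⟨rfl, rfl⟩
    rw [Fin.rev_rev] at hp
    omega
  have t3 : c' = 0 ∨ ¬ (x = p ∧ Fin.rev y = p) := by
    rcases hc with hc | hc
    · exact Or.inl hc
    · right
      rintro ⟨rfl, h⟩
      have : y = Fin.rev x := by rw [← h, Fin.rev_rev]
      rw [this] at hxy
      omega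
  have T1 : d * (if x = q then (1 : K) else 0) * F.sg (if Fin.rev y = p then 1 else 0) = 0 := by
    by_cases a1 : x = q
    · by_cases a2 : Fin.rev y = p
      · exact absurd ⟨a1, a2⟩ t1
      · rw [if_neg a2, map_zero, mul_zero]
    · rw [if_neg a1, mul_zero, zero_mul]
  have T2 : (if x = p then (1 : K) else 0) * F.sg (d * if Fin.rev y = q then 1 else 0) = 0 := by
    by_cases a1 : x = p
    · by_cases a2 : Fin.rev y = q
      · exact absurd ⟨a1, a2⟩ t2
      · rw [if_neg a2, mul_zero, map_zero, mul_zero]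
    · rw [if_neg a1, zero_mul]
  have T3 : c' * ((if x = p then (1 : K) else 0) * F.sg (if Fin.rev y = p then 1 else 0)) = 0 := by
    rcases t3 with t3 | t3
    · rw [t3, zero_mul]
    · by_cases a1 : x = p
      · by_cases a2 : Fin.rev y = p
        · exact absurd ⟨a1, a2⟩ t3
        · rw [if_neg a2, map_zero, mul_zero, mul_zero]
      · rw [if_neg a1, zero_mul, mul_zero]
  rw [T1, T2, T3]
  ring

/-- the conjugate of an element of `Kt` by a lower Eichler element has vanishing lower entries -/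
theorem e_conj_lower {k : ℕ} (Kt : Subgroup (SLn n K)) (h1 : Kt ≤ UU)
    (h3 : ∀ g ∈ (PJ k : Subgroup (SLn n K)), g ∈ SUJ F → ∀ x ∈ Kt, g * x * g⁻¹ ∈ Kt)
    (p q : Fin n) (d c' : K) (hh1 : hf F (eb p : Fin n → K) (eb p) = 0)
    (hh2 : hf F (d • (eb q : Fin n → K)) (eb p) = 0)
    (hPJ : Sg F (eb p) (d • eb q) c' hh1 hh2 ∈ (PJ k : Subgroup (SLn n K)))
    (hSU : Sg F (eb p) (d • eb q) c' hh1 hh2 ∈ SUJ F) {x : SLn n K} (hx : x ∈ Kt) {i j : Fin n}
    (hij : j < i) :
    (Sm F (eb p) (d • eb q) c' * mt x * Sm F (eb p) (-(d • eb q)) (F.sg c')) i j = 0 := by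
  have hm := h1 (h3 _ hPJ hSU x hx)
  have := ((mem_UU _).mp hm).1 i j hij
  rw [mt_mul, mt_mul, mt_inv_of_mem F hSU, mt_Sg, adj_Sm] at this
  exact this


theorem e_exists_skew : ∃ c0 : K, c0 ≠ 0 ∧ c0 + F.sg c0 = 0 := by
  obtain ⟨a0, ha0⟩ := F.nontriv
  refine ⟨a0 - F.sg a0, fun h => ha0 (sub_eq_zero.mp h).symm, ?_⟩
  rw [map_sub, F.invol]
  ring

section cases

variable {k : ℕ} (hk : 2 * k ≤ n) (Kt : Subgroup (SLn n K)) (h1 : Kt ≤ UU)
  (h3 : ∀ g ∈ (PJ k : Subgroup (SLn n K)), g ∈ SUJ F → ∀ x ∈ Kt, g * x * g⁻¹ ∈ Kt)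

include hk h1 h3

/-- case A: `a < b` in the same block, `b ≠ a'`, neither `a` nor `b` the middle index -/
theorem e_caseA {x : SLn n K} (hx : x ∈ Kt) {a b : Fin n} (hab : a < b)
    (hblk : b3 k a = b3 k b) (hba' : b ≠ Fin.rev a) (haa' : a ≠ Fin.rev a)
    (hbb' : b ≠ Fin.rev b) : mt x a b = 0 := by
  have hU := (mem_UU x).mp (h1 hx)
  have hh1 : hf F (eb (Fin.rev a) : Fin n → K) (eb (Fin.rev a)) = 0 := by
    rw [hf_eb_eb, if_neg]
    rw [Fin.rev_rev]
    exact fun h => haa' h.symm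
  have hh2 : hf F ((1 : K) • (eb b : Fin n → K)) (eb (Fin.rev a)) = 0 := by
    rw [hf_smul_left, hf_eb_eb, if_neg, mul_zero]
    rw [Fin.rev_rev]
    exact fun h => (ne_of_gt hab) h
  have hPJ : Sg F (eb (Fin.rev a)) ((1 : K) • eb b) 0 hh1 hh2 ∈ (PJ k : Subgroup (SLn n K)) := by
    apply e_Sg_mem_PJ
    · rw [Fin.rev_rev, hblk]
    · rw [e_b3_rev hk, e_b3_rev hk, hblk]
    · exact Or.inl rfl
  have hSU : Sg F (eb (Fin.rev a)) ((1 : K) • eb b) 0 hh1 hh2 ∈ SUJ F := by
    apply Sg_mem_SUJ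
    rw [hf_smul_left, hf_smul_right, hf_eb_eb, if_neg hbb']
    simp
  have key := e_conj_lower F Kt h1 h3 (Fin.rev a) b 1 0 hh1 hh2 hPJ hSU hx hab
  rw [e_conj_entry F (mt x) hba' 1 0 b a] at key
  have e1 : a = Fin.rev (Fin.rev a) := (Fin.rev_rev a).symm
  have e2 : ¬ a = Fin.rev b := fun h => hba' (by rw [h, Fin.rev_rev])
  simp only [Fin.rev_rev, if_true, if_neg e2, if_neg hba', hU.1 b a hab, hU.2, map_zero, map_one,
    zero_mul, mul_zero, add_zero, sub_zero, one_mul, mul_one, zero_sub, zero_add] at key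
  linear_combination -key

/-- case B: the entry `(a, a')` for `a < a'` in the middle block -/
theorem e_caseB {x : SLn n K} (hx : x ∈ Kt) {a : Fin n} (haa' : a < Fin.rev a)
    (hblk : b3 k a = b3 k (Fin.rev a)) : mt x a (Fin.rev a) = 0 := by
  have hU := (mem_UU x).mp (h1 hx)
  obtain ⟨c0, hc0, hc0'⟩ := e_exists_skew F
  have hne : a ≠ Fin.rev a := ne_of_lt haa'
  have hh1 : hf F (eb (Fin.rev a) : Fin n → K) (eb (Fin.rev a)) = 0 := by
    rw [hf_eb_eb, if_neg]
    rw [Fin.rev_rev]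
    exact fun h => hne h.symm
  have hh2 : hf F ((0 : K) • (eb a : Fin n → K)) (eb (Fin.rev a)) = 0 := by
    rw [hf_smul_left, zero_mul]
  have hPJ : Sg F (eb (Fin.rev a)) ((0 : K) • eb a) c0 hh1 hh2 ∈ (PJ k : Subgroup (SLn n K)) := by
    apply e_Sg_mem_PJ
    · rw [Fin.rev_rev]
    · exact le_refl _
    · right
      rw [Fin.rev_rev, hblk]
  have hSU : Sg F (eb (Fin.rev a)) ((0 : K) • eb a) c0 hh1 hh2 ∈ SUJ F := by
    apply Sg_mem_SUJ
    rw [hf_smul_left, zero_mul, add_zero]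
    exact hc0'
  have key := e_conj_lower F Kt h1 h3 (Fin.rev a) a 0 c0 hh1 hh2 hPJ hSU hx haa'
  rw [e_conj_entry F (mt x) hne 0 c0 (Fin.rev a) a] at key
  have e1 : a = Fin.rev (Fin.rev a) := (Fin.rev_rev a).symm
  simp only [Fin.rev_rev, if_true, if_neg hne, if_neg hne.symm, hU.1 _ _ haa', hU.2, map_zero,
    zero_mul, mul_zero, add_zero, sub_zero, zero_add, mul_one] at key
  have hs : F.sg c0 = -c0 := by linear_combination hc0'
  rw [hs] at key
  have : c0 * c0 * mt x a (Fin.rev a) = 0 := by linear_combination -key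
  rcases mul_eq_zero.mp this with h | h
  · exact absurd (mul_self_eq_zero.mp h) hc0
  · exact h

/-- case D (and C): the entries through the middle index -/
theorem e_caseD {x : SLn n K} (hx : x ∈ Kt) {a mu : Fin n} (hmu : Fin.rev mu = mu) (ha : a < mu)
    (hblk : b3 k a = b3 k mu) : mt x a mu = 0 ∧ mt x mu (Fin.rev a) = 0 := by
  have hU := (mem_UU x).mp (h1 hx)
  have hb1 : b3 k mu = 1 := by
    have := e_b3_rev hk mu
    rw [hmu] at this
    have := e_b3_le_two k mu
    omega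
  have hb2 : b3 k (Fin.rev a) = 1 := by
    rw [e_b3_rev hk, hblk, hb1]
  have hmua' : mu < Fin.rev a := by
    rw [← hmu]
    exact Fin.rev_lt_rev.mpr ha
  have haa' : a < Fin.rev a := ha.trans hmua'
  have hne : a ≠ Fin.rev a := ne_of_lt haa'
  have hB : mt x a (Fin.rev a) = 0 := e_caseB F hk Kt h1 h3 hx haa' (by rw [hblk, hb1, hb2])
  have hh1 : hf F (eb (Fin.rev a) : Fin n → K) (eb (Fin.rev a)) = 0 := by
    rw [hf_eb_eb, if_neg]
    rw [Fin.rev_rev]
    exact fun h => hne h.symm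
  have hh2 : hf F ((1 : K) • (eb mu : Fin n → K)) (eb (Fin.rev a)) = 0 := by
    rw [hf_smul_left, hf_eb_eb, if_neg, mul_zero]
    rw [Fin.rev_rev]
    exact fun h => (ne_of_gt ha) h
  have main : ∀ c' : K, c' + F.sg c' + 1 = 0 →
      F.sg c' * mt x mu (Fin.rev a) = mt x a mu := by
    intro c' hc'
    have hPJ : Sg F (eb (Fin.rev a)) ((1 : K) • eb mu) c' hh1 hh2 ∈
        (PJ k : Subgroup (SLn n K)) := by
      apply e_Sg_mem_PJ
      · rw [Fin.rev_rev, hblk]
      · rw [hmu, hb1, hb2]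
      · right
        rw [Fin.rev_rev, hb2, hblk, hb1]
    have hSU : Sg F (eb (Fin.rev a)) ((1 : K) • eb mu) c' hh1 hh2 ∈ SUJ F := by
      apply Sg_mem_SUJ
      rw [hf_smul_left, hf_smul_right, hf_eb_eb, hmu, if_pos rfl]
      simpa using hc'
    have key := e_conj_lower F Kt h1 h3 (Fin.rev a) mu 1 c' hh1 hh2 hPJ hSU hx ha
    rw [e_conj_entry F (mt x) (ne_of_lt hmua') 1 c' mu a] at key
    have e1 : a = Fin.rev (Fin.rev a) := (Fin.rev_rev a).symm
    have e2 : ¬ a = Fin.rev mu := by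
      rw [hmu]
      exact ne_of_lt ha
    simp only [Fin.rev_rev, if_true, if_neg e2, if_neg (ne_of_lt hmua'), hU.1 _ _ ha, hU.2, hB,
      map_zero, map_one, zero_mul, mul_zero, add_zero, sub_zero, zero_add, mul_one, one_mul] at key
    linear_combination key
  obtain ⟨c1, hc1⟩ := F.tr_surj (-1) (by rw [map_neg, map_one])
  obtain ⟨c0, hc0, hc0'⟩ := e_exists_skew F
  have m1 := main c1 (by rw [hc1]; ring)
  have m2 := main (c1 + c0) (by
    rw [map_add]
    linear_combination hc1 + hc0')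
  rw [map_add, add_mul, m1] at m2
  have hz : mt x mu (Fin.rev a) = 0 := by
    have : F.sg c0 * mt x mu (Fin.rev a) = 0 := by linear_combination m2
    rcases mul_eq_zero.mp this with h | h
    · exact absurd (F.sg_eq_zero h) hc0
    · exact h
  refine ⟨?_, hz⟩
  rw [← m1, hz, mul_zero]

end cases

/-- SU-E (the radical is radical, k = 1, 2) -/
theorem radical_QJ (hn : 4 ≤ n) {k : ℕ} (hk1 : 1 ≤ k) (hk2 : k ≤ 2) (Kt : Subgroup (SLn n K))
    (h1 : Kt ≤ UU) (h2 : Kt ≤ SUJ F)
    (h3 : ∀ g ∈ (PJ k : Subgroup (SLn n K)), g ∈ SUJ F → ∀ x ∈ Kt, g * x * g⁻¹ ∈ Kt) :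
    Kt ≤ QJ k := by
  have hk : 2 * k ≤ n := by omega
  intro x hx
  rw [mem_QJ]
  intro a b hnb
  have hU := (mem_UU x).mp (h1 hx)
  rcases lt_trichotomy a b with hlt | heq | hgt
  · rw [Matrix.one_apply_ne (ne_of_lt hlt)]
    have hblk : b3 k a = b3 k b := le_antisymm (b3_mono k hk hlt.le) (not_lt.mp hnb)
    by_cases hB : b = Fin.rev a
    · rw [hB]
      rw [hB] at hlt hblk
      exact e_caseB F hk Kt h1 h3 hx hlt hblk
    by_cases hC : a = Fin.rev a
    · have hlt' : Fin.rev b < a := by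
        rw [hC]
        exact Fin.rev_lt_rev.mpr hlt
      have hb1 : b3 k a = 1 := by
        have := e_b3_rev hk a
        rw [← hC] at this
        have := e_b3_le_two k a
        omega
      have hblk' : b3 k (Fin.rev b) = b3 k a := by
        rw [e_b3_rev hk, ← hblk, hb1]
      have := (e_caseD F hk Kt h1 h3 hx hC.symm hlt' hblk').2
      rwa [Fin.rev_rev] at this
    by_cases hD : b = Fin.rev b
    · exact (e_caseD F hk Kt h1 h3 hx hD.symm hlt hblk).1
    · exact e_caseA F hk Kt h1 h3 hx hlt hblk hB hC hD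
  · rw [heq, hU.2, Matrix.one_apply_eq]
  · rw [hU.1 a b hgt, Matrix.one_apply_ne (ne_of_gt hgt)]

end Cfsg.Agent.Lib.Helper20.SuF
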