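import Mathlib
import Cfsg.Agent.Lib.Helper2.BGCount

/-! TU-CNTb1 : frames versus subspaces. -/

set_option autoImplicit false

namespace Cfsg.Agent.Lib.Helper14.Tu

open Module Cfsg.Agent.Lib.Helper2.BG

/-- the number of linearly independent `m`-tuples whose span satisfies `P` is the number of
`m`-dimensional subspaces satisfying `P` times the number of bases of an `m`-dimensional space -/
theorem cnt_frames_eq {F V : Type*} [Field F] [Fintype F] [AddCommGroup V] [Module F V]
    [FiniteDimensional F V] (P : Submodule F V → Prop) (m : ℕ) :
    Nat.card {s : Fin m → V // LinearIndependent F s ∧ P (Submodule.span F (Set.range s))} =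
      Nat.card {W : Submodule F V // Module.finrank F ↥W = m ∧ P W} *
        ∏ j ∈ Finset.range m, (Fintype.card F ^ m - Fintype.card F ^ j) := by
  classical
  have hfin : Finite V := Module.finite_of_finite F
  have : Fintype V := Fintype.ofFinite V
  let g : {s : Fin m → V // LinearIndependent F s ∧ P (Submodule.span F (Set.range s))} →
      {W : Submodule F V // finrank F ↥W = m ∧ P W} :=
    fun s => ⟨Submodule.span F (Set.range s.1), by
      rw [finrank_span_eq_card s.2.1, Fintype.card_fin], s.2.2⟩
  have e := Equiv.sigmaFiberEquiv g
  rw [← Nat.card_congr e]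
  have : Finite {W : Submodule F V // finrank F ↥W = m ∧ P W} := inferInstance
  have : Fintype {W : Submodule F V // finrank F ↥W = m ∧ P W} := Fintype.ofFinite _
  rw [Nat.card_sigma]
  have hfib : ∀ W : {W : Submodule F V // finrank F ↥W = m ∧ P W},
      Nat.card {s // g s = W} =
        ∏ j ∈ Finset.range m, (Fintype.card F ^ m - Fintype.card F ^ j) := by
    intro W
    have e2 : {s // g s = W} ≃
        {s : {s : Fin m → V // LinearIndependent F s} //
          Submodule.span F (Set.range s.1) = W.1} :=
      { toFun := fun s => ⟨⟨s.1.1, s.1.2.1⟩, congrArg Subtype.val s.2⟩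
        invFun := fun s => ⟨⟨s.1.1, s.1.2, by rw [s.2]; exact W.2.2⟩, Subtype.ext s.2⟩
        left_inv := fun s => by
          apply Subtype.ext
          apply Subtype.ext
          rfl
        right_inv := fun s => by
          apply Subtype.ext
          apply Subtype.ext
          rfl }
    rw [Nat.card_congr e2, Nat.card_congr (fibreEquiv m W.1 W.2.1)]
    have := card_linearIndependent (K := F) (V := ↥W.1) (k := m) (le_of_eq W.2.1.symm)
    rw [this, W.2.1, Fin.prod_univ_eq_prod_range (fun j => Fintype.card F ^ m - Fintype.card F ^ j) m]
  simp_rw [hfib]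
  rw [Finset.sum_const, Finset.card_univ, Nat.card_eq_fintype_card, smul_eq_mul]

end Cfsg.Agent.Lib.Helper14.Tu
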