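import Mathlib
import Cfsg.Prelude.Def_Classical
import Cfsg.Prelude.Def_LieClassical
import Cfsg.Agent.Lib.Helper14.TuDefs
import Cfsg.Agent.Lib.Helper69.TuHALF

/-!
# S5953 hive ("Tu", owner helper14), sub-leaf TU-D2A-BASE
-/

set_option autoImplicit false

namespace Cfsg.Agent.Lib.Helper14.Tu

open Cfsg.Agent.Lib.Helper40.Herm Cfsg.Agent.Lib.Helper2.BG Polynomial Module Matrix

section top
variable {F : Type*} [Field F] [Fintype F] {p : ℕ} [Fact p.Prime] [CharP F p] {q : ℕ}

/-- TU-D2A-BASE.  A totally isotropic subspace of the standard hermitian `k`-space has dimension `≤ k / 2`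
(TU-HALF with `Z = ⊤`). -/
theorem d2a_base (hq : Fintype.card F = q ^ 2) (k : ℕ) (W : Submodule F (Fin k → F))
    (hW : ∀ v ∈ W, ∀ w ∈ W, Cfsg.hermForm k F q v w = 0) : 2 * finrank F ↥W ≤ k := by
  have hnd : HNondegOn (stdHerm hq k) ⊤ := fun x _ hx =>
    stdHerm_nondeg hq k x (fun y => hx y Submodule.mem_top)
  have h1 := finrank_isotropic_le (stdHerm_isHermitian hq k) hnd (le_top : W ≤ ⊤)
    (fun v hv w hw => hW v hv w hw)
  rw [finrank_top, Module.finrank_fin_fun] at h1
  exact h1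

end top

end Cfsg.Agent.Lib.Helper14.Tu
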