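import Mathlib
import Cfsg.Prelude.Def_Classical
import Cfsg.Prelude.Def_LieClassical
import Cfsg.Agent.Lib.Helper14.TuDefs
import Cfsg.Agent.Lib.Helper76.TuIRR

/-!
# S5953 hive ("Tu", owner helper14), sub-leaf TU-D2A-POLY
-/

set_option autoImplicit false

namespace Cfsg.Agent.Lib.Helper14.Tu

open Cfsg.Agent.Lib.Helper40.Herm Cfsg.Agent.Lib.Helper2.BG Polynomial Module Matrix

section top
variable {F : Type*} [Field F]

/-- powers of a fixed-point-free matrix of prime order -/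
theorem d2apoly_pow {b : ℕ} (r : ℕ) (hr : r.Prime) (u : Matrix (Fin b) (Fin b) F) (hur : u ^ r = 1)
    (hfpf : ∀ v : Fin b → F, u *ᵥ v = v → v = 0) (t : ℕ) (ht : ¬ r ∣ t) :
    (u ^ t) ^ r = 1 ∧ ∀ v : Fin b → F, (u ^ t) *ᵥ v = v → v = 0 := by
  refine ⟨by rw [← pow_mul, mul_comm, pow_mul, hur, one_pow], ?_⟩
  intro v hv
  have hcop : Nat.Coprime t r := ((Nat.Prime.coprime_iff_not_dvd hr).2 ht).symm
  obtain ⟨m, -, hm⟩ := Nat.exists_mul_mod_eq_one_of_coprime hcop hr.one_lt
  have h1 : (u ^ t) ^ m = u := by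
    rw [← pow_mul, pow_eq_pow_mod (t * m) hur, hm, pow_one]
  have h2 : ∀ k : ℕ, ((u ^ t) ^ k) *ᵥ v = v := by
    intro k
    induction k with
    | zero => rw [pow_zero, Matrix.one_mulVec]
    | succ k ih => rw [pow_succ, ← Matrix.mulVec_mulVec, hv, ih]
  apply hfpf
  rw [← h1]
  exact h2 m

variable [Fintype F] {q : ℕ}

/-- the minimal polynomial of a fixed-point-free `b × b` matrix of order `r` -/
theorem d2apoly_facts (hq : Fintype.card F = q ^ 2) (r : ℕ) (hr : r.Prime) (hrF : (r : F) ≠ 0)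
    (b : ℕ) (hb : b = bOf (orderOf (q : ZMod r))) (hb0 : 0 < b)
    (M : Matrix (Fin b) (Fin b) F) (hMr : M ^ r = 1)
    (hfpf : ∀ v : Fin b → F, M *ᵥ v = v → v = 0) :
    IsCoprime (minpoly F M) (X - 1 : F[X]) ∧ Irreducible (minpoly F M) ∧
      (minpoly F M).natDegree = b := by
  classical
  have : Fact r.Prime := ⟨hr⟩
  have : Nonempty (Fin b) := ⟨⟨0, hb0⟩⟩
  have hint : IsIntegral F M := Matrix.isIntegral M
  have hne : minpoly F M ≠ 0 := minpoly.ne_zero hint
  -- coprime to `X - 1`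
  have hcop : IsCoprime (minpoly F M) (X - 1 : F[X]) := by
    rw [isCoprime_comm]
    have hirr : Irreducible (X - 1 : F[X]) := by
      have := irreducible_X_sub_C (1 : F)
      rwa [map_one] at this
    rw [hirr.coprime_iff_not_dvd]
    intro hdvd
    have h1 : (minpoly F M).IsRoot 1 := by
      rw [← dvd_iff_isRoot, map_one]
      exact hdvd
    rw [← Matrix.minpoly_toLin'] at h1
    obtain ⟨v, hv⟩ := (Module.End.hasEigenvalue_of_isRoot h1).exists_hasEigenvector
    apply hv.2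
    apply hfpf
    have := hv.apply_eq_smul
    rw [one_smul, Matrix.toLin'_apply] at this
    exact this
  -- divides the cyclotomic polynomial
  have hdvd1 : minpoly F M ∣ (X ^ r - 1 : F[X]) := by
    apply minpoly.dvd
    rw [map_sub, map_pow, aeval_X, map_one, hMr, sub_self]
  have hdvd2 : minpoly F M ∣ cyclotomic r F := by
    rw [← cyclotomic_prime_mul_X_sub_one F r] at hdvd1
    exact hcop.dvd_of_dvd_mul_right hdvd1
  -- degree at most `b`
  have hdeg : (minpoly F M).natDegree ≤ b := by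
    have h1 := natDegree_le_of_dvd (Matrix.minpoly_dvd_charpoly M) (Matrix.charpoly_monic M).ne_zero
    rw [Matrix.charpoly_natDegree_eq_dim, Fintype.card_fin] at h1
    exact h1
  -- an irreducible factor
  obtain ⟨P, hP, hPd⟩ := WfDvdMonoid.exists_irreducible_factor (minpoly.not_isUnit F M) hne
  have hPdeg : P.natDegree = b := by
    rw [hb]
    exact irr_allIrrDeg hq hr hrF P hP (hPd.trans hdvd2)
  obtain ⟨R, hR⟩ := hPd
  have hR0 : R ≠ 0 := by
    rintro rfl
    rw [mul_zero] at hR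
    exact hne hR
  have hRdeg : R.natDegree = 0 := by
    have h1 := natDegree_mul hP.ne_zero hR0
    rw [← hR, hPdeg] at h1
    omega
  have hRu : IsUnit R := by
    obtain ⟨c, hc⟩ := natDegree_eq_zero.1 hRdeg
    rw [← hc]
    apply Polynomial.isUnit_C.2
    apply IsUnit.mk0
    rintro rfl
    rw [map_zero] at hc
    exact hR0 hc.symm
  have hass : Associated P (minpoly F M) := by
    rw [hR]
    exact associated_mul_unit_right P R hRu
  refine ⟨hcop, hass.irreducible hP, ?_⟩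
  rw [hR, natDegree_mul hP.ne_zero hR0, hRdeg, hPdeg, add_zero]

/-- TU-D2A-POLY. -/
theorem d2a_exists_powers (hq : Fintype.card F = q ^ 2) (r : ℕ) (hr : r.Prime) (hrF : (r : F) ≠ 0)
    (b : ℕ) (hb : b = bOf (orderOf (q : ZMod r))) (hb0 : 0 < b)
    (u : Matrix (Fin b) (Fin b) F) (hur : u ^ r = 1)
    (hfpf : ∀ v : Fin b → F, u *ᵥ v = v → v = 0) :
    ∃ t : Fin ((r - 1) / b) → ℕ, (∀ j, ¬ r ∣ t j) ∧
      (∀ j, IsCoprime (minpoly F (u ^ t j)) (X - 1 : F[X])) ∧
      ∀ j k, j ≠ k → IsCoprime (minpoly F (u ^ t j)) (minpoly F (u ^ t k)) := by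
  classical
  have : Fact r.Prime := ⟨hr⟩
  have : Nonempty (Fin b) := ⟨⟨0, hb0⟩⟩
  -- facts for all the powers
  have hfacts : ∀ t : ℕ, ¬ r ∣ t → IsCoprime (minpoly F (u ^ t)) (X - 1 : F[X]) ∧
      Irreducible (minpoly F (u ^ t)) ∧ (minpoly F (u ^ t)).natDegree = b := by
    intro t ht
    obtain ⟨h1, h2⟩ := d2apoly_pow r hr u hur hfpf t ht
    exact d2apoly_facts hq r hr hrF b hb hb0 (u ^ t) h1 h2
  have hr1 : ¬ r ∣ 1 := fun h => hr.one_lt.ne' (Nat.dvd_one.1 h)
  obtain ⟨hu1, hu2, hu3⟩ := hfacts 1 hr1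
  rw [pow_one] at hu1 hu2 hu3
  -- the field `K = F[X] / (minpoly F u)` and its root `ζ`
  have : Fact (Irreducible (minpoly F u)) := ⟨hu2⟩
  obtain ⟨ζ, hζ⟩ : ∃ ζ : AdjoinRoot (minpoly F u), ζ = AdjoinRoot.root (minpoly F u) := ⟨_, rfl⟩
  have hζP : ∀ P : F[X], minpoly F u ∣ P → aeval ζ P = 0 := by
    intro P hP
    rw [hζ, AdjoinRoot.aeval_eq, AdjoinRoot.mk_eq_zero]
    exact hP
  have hζr : ζ ^ r = 1 := by
    have h1 : aeval ζ (X ^ r - 1 : F[X]) = 0 := by
      apply hζP
      apply minpoly.dvd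
      rw [map_sub, map_pow, aeval_X, map_one, hur, sub_self]
    rw [map_sub, map_pow, aeval_X, map_one, sub_eq_zero] at h1
    exact h1
  have hζ1 : ζ ≠ 1 := by
    intro h1
    have h2 : aeval ζ (X - 1 : F[X]) = 0 := by
      rw [map_sub, aeval_X, map_one, h1, sub_self]
    rw [hζ, AdjoinRoot.aeval_eq, AdjoinRoot.mk_eq_zero] at h2
    -- `minpoly ∣ X - 1` and coprime to it: a unit
    have h3 : IsUnit (minpoly F u) := by
      obtain ⟨a, c, hac⟩ := hu1
      obtain ⟨d, hd⟩ := h2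
      refine IsUnit.of_mul_eq_one (a + c * d) ?_
      rw [← hac, hd]
      ring
    exact minpoly.not_isUnit F u h3
  have hord : orderOf ζ = r := orderOf_eq_prime hζr hζ1
  -- `ζ ^ t` is a root of `minpoly F (u ^ t)`
  have hroot : ∀ t : ℕ, aeval (ζ ^ t) (minpoly F (u ^ t)) = 0 := by
    intro t
    have h1 : minpoly F u ∣ (minpoly F (u ^ t)).comp (X ^ t) := by
      apply minpoly.dvd
      rw [aeval_comp, map_pow, aeval_X]
      exact minpoly.aeval F (u ^ t)
    have h2 := hζP _ h1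
    rw [aeval_comp, map_pow, aeval_X] at h2
    exact h2
  -- counting
  obtain ⟨f, hf⟩ : ∃ f : ℕ → F[X], f = fun t => minpoly F (u ^ t) := ⟨_, rfl⟩
  have hfib : ∀ P ∈ Finset.image f (Finset.Ico 1 r),
      ((Finset.Ico 1 r).filter (fun t => f t = P)).card ≤ b := by
    intro P hP
    obtain ⟨t0, ht0, rfl⟩ := Finset.mem_image.1 hP
    have ht0r : ¬ r ∣ t0 := by
      have := Finset.mem_Ico.1 ht0
      exact Nat.not_dvd_of_pos_of_lt (by omega) this.2
    obtain ⟨-, hirr0, hdeg0⟩ := hfacts t0 ht0r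
    have hmap0 : (f t0).map (algebraMap F (AdjoinRoot (minpoly F u))) ≠ 0 := by
      rw [hf]
      exact (Polynomial.map_ne_zero_iff (algebraMap F (AdjoinRoot (minpoly F u))).injective).2
        hirr0.ne_zero
    have h1 : ((Finset.Ico 1 r).filter (fun t => f t = f t0)).card ≤
        ((f t0).map (algebraMap F (AdjoinRoot (minpoly F u)))).roots.toFinset.card := by
      apply Finset.card_le_card_of_injOn (fun t => ζ ^ t)
      · intro t ht
        have ht' := (Finset.mem_filter.1 (Finset.mem_coe.1 ht)).2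
        rw [Finset.mem_coe, Multiset.mem_toFinset, mem_roots hmap0, IsRoot, eval_map, ← aeval_def,
          ← ht', hf]
        exact hroot t
      · intro t ht t' ht' htt
        have h1 := (Finset.mem_Ico.1 (Finset.mem_filter.1 (Finset.mem_coe.1 ht)).1).2
        have h2 := (Finset.mem_Ico.1 (Finset.mem_filter.1 (Finset.mem_coe.1 ht')).1).2
        exact pow_injOn_Iio_orderOf (by rw [hord]; exact h1) (by rw [hord]; exact h2) htt
    refine h1.trans ((Multiset.toFinset_card_le _).trans ((card_roots' _).trans ?_))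
    rw [natDegree_map, hf]
    exact hdeg0.le
  have hcard := Finset.card_le_mul_card_image (f := f) (Finset.Ico 1 r) b hfib
  rw [Nat.card_Ico] at hcard
  have hs : (r - 1) / b ≤ (Finset.image f (Finset.Ico 1 r)).card := Nat.div_le_of_le_mul hcard
  obtain ⟨I, hI, hIc⟩ := Finset.exists_subset_card_eq hs
  have e : Fin ((r - 1) / b) ≃ ↥I := (Finset.equivFinOfCardEq hIc).symm
  have hex : ∀ j : Fin ((r - 1) / b), ∃ t ∈ Finset.Ico 1 r, f t = (e j : F[X]) := by
    intro j
    exact Finset.mem_image.1 (hI (e j).2)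
  choose t ht1 ht2 using hex
  have htr : ∀ j, ¬ r ∣ t j := by
    intro j
    have := Finset.mem_Ico.1 (ht1 j)
    exact Nat.not_dvd_of_pos_of_lt (by omega) this.2
  refine ⟨t, htr, fun j => (hfacts (t j) (htr j)).1, ?_⟩
  intro j k hjk
  obtain ⟨-, hirrj, -⟩ := hfacts (t j) (htr j)
  obtain ⟨-, hirrk, -⟩ := hfacts (t k) (htr k)
  rw [hirrj.coprime_iff_not_dvd]
  intro hdvd
  have hass := hirrj.associated_of_dvd hirrk hdvd
  have heq := eq_of_monic_of_associated (minpoly.monic (Matrix.isIntegral _))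
    (minpoly.monic (Matrix.isIntegral _)) hass
  apply hjk
  apply e.injective
  apply Subtype.ext
  rw [← ht2 j, ← ht2 k, hf]
  exact heq

end top

end Cfsg.Agent.Lib.Helper14.Tu
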