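import Mathlib
import Cfsg.Agent.Lib.Helper14.TuDefs
import Cfsg.Agent.Lib.Helper69.TuHALF
import Cfsg.Agent.Lib.Helper69.TuFIX
import Cfsg.Agent.Lib.Helper69.TuORTH
import Cfsg.Agent.Lib.Helper69.TuTI

/-! TU-G2 / TU-G2N : invariant totally isotropic subspaces for (anti-)isometric involutions. -/

set_option autoImplicit false

namespace Cfsg.Agent.Lib.Helper14.Tu

open Cfsg.Agent.Lib.Helper40.Herm Cfsg.Agent.Lib.Helper2.BG Polynomial Module

section abs
variable {F : Type*} [Field F] [Fintype F] {q : ℕ} {hF : Fintype.card F = q ^ 2}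
  {V : Type*} [AddCommGroup V] [Module F V] [FiniteDimensional F V]
  {H : V →ₗ[F] V →ₛₗ[tauHom hF] F} {g : Module.End F V} {N : ℕ}

/-- subspaces of every smaller dimension -/
theorem g2_exists_le (E : Submodule F V) (m : ℕ) (hm : m ≤ finrank F ↥E) :
    ∃ W : Submodule F V, W ≤ E ∧ finrank F ↥W = m := by
  let b := Module.finBasis F ↥E
  let v : Fin m → V := fun i => (b (Fin.castLE hm i) : V)
  have hli : LinearIndependent F v := by
    have h1 : LinearIndependent F (fun i => b (Fin.castLE hm i)) :=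
      b.linearIndependent.comp _ (Fin.castLE_injective hm)
    exact h1.map' E.subtype (Submodule.ker_subtype E)
  refine ⟨Submodule.span F (Set.range v), ?_, ?_⟩
  · rw [Submodule.span_le]
    rintro _ ⟨i, rfl⟩
    exact (b (Fin.castLE hm i)).2
  · rw [finrank_span_eq_card hli]
    simp

/-- the sum of two orthogonal isotropic subspaces is isotropic -/
theorem g2_isotropic_sup (hH : IsHermitian H) {W₁ W₂ : Submodule F V} (h₁ : HIsotropic H W₁)
    (h₂ : HIsotropic H W₂) (h₁₂ : ∀ u ∈ W₁, ∀ v ∈ W₂, H u v = 0) : HIsotropic H (W₁ ⊔ W₂) := by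
  intro x hx y hy
  obtain ⟨a, ha, b, hb, rfl⟩ := Submodule.mem_sup.1 hx
  obtain ⟨a', ha', b', hb', rfl⟩ := Submodule.mem_sup.1 hy
  rw [map_add, map_add, LinearMap.add_apply, LinearMap.add_apply, h₁ a ha a' ha', h₂ b hb b' hb',
    h₁₂ a ha b' hb', herm_swap hH (h₁₂ a' ha' b hb)]
  simp

/-- TU-G2N (GOOD, anti-isometric involutions). -/
theorem exists_isotropic_anti (hH : IsHermitian H) (hnd : HNondeg H) (h2 : (2 : F) ≠ 0)
    (hg2 : g ^ 2 = 1) (hanti : ∀ u v, H (g u) (g v) = - H u v) (m : ℕ) (hm : 2 * m ≤ finrank F V) :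
    ∃ W : Submodule F V, Inv g W ∧ HIsotropic H W ∧ finrank F ↥W = m := by
  have hgg : ∀ v, g (g v) = v := by
    intro v
    have := congrArg (fun f : Module.End F V => f v) hg2
    simpa [pow_two] using this
  -- the two eigenspaces
  obtain ⟨Ep, hEp⟩ : ∃ E : Submodule F V, E = LinearMap.ker (g - 1) := ⟨_, rfl⟩
  obtain ⟨Em, hEm⟩ : ∃ E : Submodule F V, E = LinearMap.ker (g + 1) := ⟨_, rfl⟩
  have hp : ∀ v, v ∈ Ep ↔ g v = v := by
    intro v
    rw [hEp, LinearMap.mem_ker, LinearMap.sub_apply, Module.End.one_apply, sub_eq_zero]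
  have hmm : ∀ v, v ∈ Em ↔ g v = -v := by
    intro v
    rw [hEm, LinearMap.mem_ker, LinearMap.add_apply, Module.End.one_apply, add_eq_zero_iff_eq_neg]
  have hz : ∀ a : F, a = -a → a = 0 := by
    intro a ha
    have h3 : (2 : F) * a = 0 := by linear_combination ha
    rcases mul_eq_zero.1 h3 with h | h
    · exact absurd h h2
    · exact h
  have hEpi : HIsotropic H Ep := by
    intro u hu v hv
    apply hz
    have := hanti u v
    rwa [(hp u).1 hu, (hp v).1 hv] at this
  have hEmi : HIsotropic H Em := by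
    intro u hu v hv
    apply hz
    have := hanti u v
    rw [(hmm u).1 hu, (hmm v).1 hv, map_neg, map_neg, LinearMap.neg_apply, neg_neg] at this
    exact this
  have hsup : Ep ⊔ Em = ⊤ := by
    rw [eq_top_iff]
    intro v _
    have h2' : (2 : F)⁻¹ * 2 = 1 := inv_mul_cancel₀ h2
    have hv : v = (2 : F)⁻¹ • (v + g v) + (2 : F)⁻¹ • (v - g v) := by
      rw [← smul_add]
      have : v + g v + (v - g v) = (2 : F) • v := by rw [two_smul]; abel
      rw [this, smul_smul, h2', one_smul]
    rw [hv]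
    apply Submodule.add_mem_sup
    · apply Submodule.smul_mem
      rw [hp, map_add, hgg, add_comm]
    · apply Submodule.smul_mem
      rw [hmm, map_sub, hgg, neg_sub]
  have hdisj : Disjoint Ep Em := by
    rw [Submodule.disjoint_def]
    intro v h1 h2'
    have h3 : v = -v := ((hp v).1 h1).symm.trans ((hmm v).1 h2')
    have h4 : (2 : F) • v = 0 := by
      rw [two_smul]
      nth_rewrite 2 [h3]
      exact add_neg_cancel v
    rcases smul_eq_zero.1 h4 with h | h
    · exact absurd h h2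
    · exact h
  have hsum : finrank F ↥Ep + finrank F ↥Em = finrank F V := by
    have := Submodule.finrank_sup_add_finrank_inf_eq Ep Em
    rw [hsup, disjoint_iff.1 hdisj, finrank_bot, finrank_top] at this
    omega
  have htop : finrank F ↥(⊤ : Submodule F V) = finrank F V := finrank_top F V
  have h1 := finrank_isotropic_le hH (hnondegOn_top hnd) (le_top : Ep ≤ ⊤) hEpi
  have h1' := finrank_isotropic_le hH (hnondegOn_top hnd) (le_top : Em ≤ ⊤) hEmi
  rw [htop] at h1 h1'
  obtain ⟨W, hWE, hWm⟩ := g2_exists_le Ep m (by omega)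
  refine ⟨W, fun v hv => ?_, fun u hu v hv => hEpi u (hWE hu) v (hWE hv), hWm⟩
  rw [(hp v).1 (hWE hv)]
  exact hv

/-- TU-G2 (GOOD, involutions). -/
theorem exists_isotropic_inv_two (hc : Ctx hF H g 2) {Z : Submodule F V} (hZi : Inv g Z)
    (hZ : HNondegOn H Z) (m : ℕ) (hm : 2 * m ≤ finrank F ↥Z)
    (hodd : 2 * m = finrank F ↥Z → Even (finrank F ↥(Z ⊓ LinearMap.ker (g - 1)))) :
    ∃ W : Submodule F V, W ≤ Z ∧ Inv g W ∧ HIsotropic H W ∧ finrank F ↥W = m := by
  have h2 : (2 : F) ≠ 0 := by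
    have := hc.ne
    exact_mod_cast this
  have hgg : ∀ v, g (g v) = v := by
    intro v
    have := congrArg (fun f : Module.End F V => f v) hc.pow
    simpa [pow_two] using this
  obtain ⟨Zp, hZp⟩ : ∃ E : Submodule F V, E = Z ⊓ LinearMap.ker (g - 1) := ⟨_, rfl⟩
  obtain ⟨Zm, hZm⟩ : ∃ E : Submodule F V, E = Z ⊓ LinearMap.ker (g + 1) := ⟨_, rfl⟩
  have hp : ∀ v, v ∈ Zp ↔ v ∈ Z ∧ g v = v := by
    intro v
    rw [hZp, Submodule.mem_inf, LinearMap.mem_ker, LinearMap.sub_apply, Module.End.one_apply,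
      sub_eq_zero]
  have hmm : ∀ v, v ∈ Zm ↔ v ∈ Z ∧ g v = -v := by
    intro v
    rw [hZm, Submodule.mem_inf, LinearMap.mem_ker, LinearMap.add_apply, Module.End.one_apply,
      add_eq_zero_iff_eq_neg]
  have hτ1 : tauHom hF (1 : F) = 1 := map_one _
  have hτm : tauHom hF (-1 : F) = -1 := by rw [map_neg, map_one]
  have hZpn : HNondegOn H Zp := by
    have := nondeg_eigen hc hZi hZ 1 (by rw [hτ1, one_mul])
    rw [one_smul] at this
    rw [hZp]; exact this
  have hZmn : HNondegOn H Zm := by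
    have := nondeg_eigen hc hZi hZ (-1) (by rw [hτm]; ring)
    have h3 : g - (-1 : F) • (1 : Module.End F V) = g + 1 := by
      rw [neg_smul, one_smul, sub_neg_eq_add]
    rw [h3] at this
    rw [hZm]; exact this
  have horth : ∀ u ∈ Zp, ∀ v ∈ Zm, H u v = 0 := by
    intro u hu v hv
    apply eigen_orth hc 1 (-1) _ u v
    · rw [one_smul]; exact ((hp u).1 hu).2
    · rw [neg_smul, one_smul]; exact ((hmm v).1 hv).2
    · rw [hτm, one_mul]
      intro h
      apply h2
      have : (2 : F) = 1 - (-1) := by norm_num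
      rw [this, h, sub_self]
  have hsup : Zp ⊔ Zm = Z := by
    apply le_antisymm
    · exact sup_le (fun v hv => ((hp v).1 hv).1) (fun v hv => ((hmm v).1 hv).1)
    · intro v hv
      have h2' : (2 : F)⁻¹ * 2 = 1 := inv_mul_cancel₀ h2
      have hv' : v = (2 : F)⁻¹ • (v + g v) + (2 : F)⁻¹ • (v - g v) := by
        rw [← smul_add]
        have : v + g v + (v - g v) = (2 : F) • v := by rw [two_smul]; abel
        rw [this, smul_smul, h2', one_smul]
      rw [hv']
      apply Submodule.add_mem_sup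
      · apply Submodule.smul_mem
        rw [hp]
        refine ⟨Z.add_mem hv (hZi v hv), ?_⟩
        rw [map_add, hgg, add_comm]
      · apply Submodule.smul_mem
        rw [hmm]
        refine ⟨Z.sub_mem hv (hZi v hv), ?_⟩
        rw [map_sub, hgg, neg_sub]
  have hdisj : Disjoint Zp Zm := by
    rw [Submodule.disjoint_def]
    intro v h1 h2'
    have h3 : v = -v := ((hp v).1 h1).2.symm.trans ((hmm v).1 h2').2
    have h4 : (2 : F) • v = 0 := by
      rw [two_smul]
      nth_rewrite 2 [h3]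
      exact add_neg_cancel v
    rcases smul_eq_zero.1 h4 with h | h
    · exact absurd h h2
    · exact h
  have hsum : finrank F ↥Zp + finrank F ↥Zm = finrank F ↥Z := by
    have := Submodule.finrank_sup_add_finrank_inf_eq Zp Zm
    rw [hsup, disjoint_iff.1 hdisj, finrank_bot] at this
    omega
  have hodd' : 2 * m = finrank F ↥Z → finrank F ↥Zp % 2 = 0 := by
    intro h
    have := hodd h
    rw [← hZp] at this
    exact Nat.even_iff.1 this
  obtain ⟨a, b, hab, ha, hb⟩ : ∃ a b : ℕ, a + b = m ∧ 2 * a ≤ finrank F ↥Zp ∧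
      2 * b ≤ finrank F ↥Zm := by
    refine ⟨min m (finrank F ↥Zp / 2), m - min m (finrank F ↥Zp / 2), ?_, ?_, ?_⟩
    · omega
    · omega
    · by_cases h : 2 * m = finrank F ↥Z
      · have := hodd' h
        omega
      · omega
  obtain ⟨Wp, hWpZ, hWpi, hWpa⟩ := exists_isotropic hc.herm hZpn a ha
  obtain ⟨Wm, hWmZ, hWmi, hWmb⟩ := exists_isotropic hc.herm hZmn b hb
  refine ⟨Wp ⊔ Wm, ?_, ?_, ?_, ?_⟩
  · rw [← hsup]
    exact sup_le_sup hWpZ hWmZ
  · intro v hv
    obtain ⟨x, hx, y, hy, rfl⟩ := Submodule.mem_sup.1 hv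
    rw [map_add, ((hp x).1 (hWpZ hx)).2, ((hmm y).1 (hWmZ hy)).2]
    exact Submodule.add_mem_sup hx (Wm.neg_mem hy)
  · exact g2_isotropic_sup hc.herm hWpi hWmi
      (fun u hu v hv => horth u (hWpZ hu) v (hWmZ hv))
  · have hd : Disjoint Wp Wm := hdisj.mono hWpZ hWmZ
    have := Submodule.finrank_sup_add_finrank_inf_eq Wp Wm
    rw [disjoint_iff.1 hd, finrank_bot] at this
    omega

end abs

end Cfsg.Agent.Lib.Helper14.Tu
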