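import Mathlib
import Cfsg.Prelude.Def_Classical
import Cfsg.Agent.Lib.Helper14.TuDefs

/-! Glue lemmas for the S5953 assembly: from matrices in `SU_n(q)` to the abstract context. -/

set_option autoImplicit false

namespace Cfsg.Agent.Lib.Helper14.Tu

open Cfsg.Agent.Lib.Helper40.Herm Cfsg.Agent.Lib.Helper2.BG Module

variable {F : Type*} [Field F] [Fintype F] {q : ℕ}

theorem glue_hinv (hq : Fintype.card F = q ^ 2) {n : ℕ} (A : Matrix (Fin n) (Fin n) F)
    (hA : ∀ u v, Cfsg.hermForm n F q (A.mulVec u) (A.mulVec v) = Cfsg.hermForm n F q u v) :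
    HInv (stdHerm hq n) (Matrix.toLin' A) := by
  intro u v
  rw [stdHerm_apply, stdHerm_apply, Matrix.toLin'_apply, Matrix.toLin'_apply]
  exact hA u v

theorem glue_su_preserves {n : ℕ} (x : Matrix.SpecialLinearGroup (Fin n) F)
    (hx : x ∈ Cfsg.SU n F q) (u v : Fin n → F) :
    Cfsg.hermForm n F q ((x : Matrix (Fin n) (Fin n) F).mulVec u)
      ((x : Matrix (Fin n) (Fin n) F).mulVec v) = Cfsg.hermForm n F q u v := hx u v

theorem glue_hermForm_smul {n : ℕ} (a : F) (u v : Fin n → F) :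
    Cfsg.hermForm n F q (a • u) (a • v) = a ^ (q + 1) * Cfsg.hermForm n F q u v := by
  unfold Cfsg.hermForm
  rw [Finset.mul_sum]
  apply Finset.sum_congr rfl
  intro i _
  simp only [Pi.smul_apply, smul_eq_mul, mul_pow]
  ring

/-- a scalar matrix preserving the form has norm one -/
theorem glue_norm_of_scalar (hq : Fintype.card F = q ^ 2) {n : ℕ} (hn : 0 < n)
    (A : Matrix (Fin n) (Fin n) F)
    (hA : ∀ u v, Cfsg.hermForm n F q (A.mulVec u) (A.mulVec v) = Cfsg.hermForm n F q u v) (z : F)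
    (hz : A = z • (1 : Matrix (Fin n) (Fin n) F)) : z ^ (q + 1) = 1 := by
  classical
  have hq0 : q ≠ 0 := by
    have := Cfsg.Agent.Lib.Helper44.two_le_q_of_card hq
    omega
  have h := hA (Pi.single ⟨0, hn⟩ 1) (Pi.single ⟨0, hn⟩ 1)
  rw [hz, Matrix.smul_mulVec, Matrix.one_mulVec] at h
  unfold Cfsg.hermForm at h
  rw [Finset.sum_eq_single ⟨0, hn⟩, Finset.sum_eq_single ⟨0, hn⟩] at h
  · simp only [Pi.smul_apply, Pi.single_eq_same, smul_eq_mul, mul_one, one_pow] at h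
    rw [pow_succ, mul_comm]; exact h
  · intro j _ hj
    simp [Pi.single_apply, hj, hq0]
  · intro h'; exact absurd (Finset.mem_univ _) h'
  · intro j _ hj
    simp [Pi.single_apply, hj, hq0]
  · intro h'; exact absurd (Finset.mem_univ _) h'

theorem glue_natCast_ne_zero {p : ℕ} [Fact p.Prime] [CharP F p] (r : ℕ) (hr : r.Prime)
    (hrp : r ≠ p) : (r : F) ≠ 0 := by
  intro h
  rw [CharP.cast_eq_zero_iff F p r] at h
  exact hrp ((Nat.prime_dvd_prime_iff_eq Fact.out hr).1 h).symm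

/-- the context for `w⁻¹ x`, `x ∈ SU`, `x ^ r = w ^ r`, `w` of norm one -/
theorem glue_ctx_scaled (hq : Fintype.card F = q ^ 2) {p : ℕ} [Fact p.Prime] [CharP F p] {n : ℕ}
    (x : Matrix.SpecialLinearGroup (Fin n) F) (hx : x ∈ Cfsg.SU n F q) (r : ℕ) (hr : r.Prime)
    (hrp : r ≠ p) (w z : F) (hw : w ^ (q + 1) = 1) (hwz : w ^ r = z)
    (hz : ((x ^ r : Matrix.SpecialLinearGroup (Fin n) F) : Matrix (Fin n) (Fin n) F) =
      z • (1 : Matrix (Fin n) (Fin n) F)) :
    Ctx hq (stdHerm hq n) (w⁻¹ • Matrix.toLin' (x : Matrix (Fin n) (Fin n) F)) r := by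
  have hw0 : w ≠ 0 := by
    intro h
    rw [h, zero_pow (by omega)] at hw
    exact zero_ne_one hw
  refine ⟨stdHerm_isHermitian hq n, ?_, hr.pos, ?_, glue_natCast_ne_zero r hr hrp⟩
  · intro u v
    rw [stdHerm_apply, stdHerm_apply, LinearMap.smul_apply, LinearMap.smul_apply,
      Matrix.toLin'_apply, Matrix.toLin'_apply, glue_hermForm_smul, glue_su_preserves x hx u v,
      inv_pow, hw, inv_one, one_mul]
  · rw [smul_pow, ← Matrix.toLin'_pow, ← Matrix.SpecialLinearGroup.coe_pow, hz, inv_pow, hwz]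
    have hz0 : z ≠ 0 := by rw [← hwz]; exact pow_ne_zero _ hw0
    ext v
    simp [hz0]

/-- the context for `x ∈ SU` with `x ^ r` scalar -/
theorem glue_ctx (hq : Fintype.card F = q ^ 2) {p : ℕ} [Fact p.Prime] [CharP F p] {n : ℕ}
    (hn : 0 < n) (x : Matrix.SpecialLinearGroup (Fin n) F) (hx : x ∈ Cfsg.SU n F q) (r : ℕ)
    (hr : r.Prime) (hrp : r ≠ p) (f : ℕ) (hf : q = p ^ f) (hf0 : 0 < f) (z : F)
    (hz : ((x ^ r : Matrix.SpecialLinearGroup (Fin n) F) : Matrix (Fin n) (Fin n) F) =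
      z • (1 : Matrix (Fin n) (Fin n) F)) :
    Ctx hq (stdHerm hq n) (Matrix.toLin' (x : Matrix (Fin n) (Fin n) F)) (r * (q + 1)) ∧
      z ^ (q + 1) = 1 ∧
      (Matrix.toLin' (x : Matrix (Fin n) (Fin n) F)) ^ r = z • (1 : Module.End F (Fin n → F)) := by
  have hzn : z ^ (q + 1) = 1 :=
    glue_norm_of_scalar hq hn _ (glue_su_preserves (x ^ r) (Subgroup.pow_mem _ hx r)) z hz
  have hpow : (Matrix.toLin' (x : Matrix (Fin n) (Fin n) F)) ^ r =
      z • (1 : Module.End F (Fin n → F)) := by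
    rw [← Matrix.toLin'_pow, ← Matrix.SpecialLinearGroup.coe_pow, hz]
    ext v
    simp
  refine ⟨⟨stdHerm_isHermitian hq n, glue_hinv hq _ (glue_su_preserves x hx),
    Nat.mul_pos hr.pos (by omega), ?_, ?_⟩, hzn, hpow⟩
  · rw [pow_mul, hpow, smul_pow, one_pow, hzn, one_smul]
  · rw [Nat.cast_mul]
    apply mul_ne_zero (glue_natCast_ne_zero r hr hrp)
    rw [Nat.cast_add, Nat.cast_one, hf, Nat.cast_pow, CharP.cast_eq_zero F p, zero_pow (by omega),
      zero_add]
    exact one_ne_zero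

/-- back to matrices -/
theorem glue_fixes (hq : Fintype.card F = q ^ 2) {n m : ℕ} (A : Matrix (Fin n) (Fin n) F) (c : F)
    (hc : c ≠ 0) (W : Submodule F (Fin n → F)) (hWi : Inv (c • Matrix.toLin' A) W)
    (hW : HIsotropic (stdHerm hq n) W) (hfr : finrank F ↥W = m) : Fixes n q m A := by
  refine ⟨W, hfr, fun u hu v hv => ?_, ?_⟩
  · have := hW u hu v hv
    rwa [stdHerm_apply] at this
  · rintro _ ⟨v, hv, rfl⟩
    have h1 := hWi v hv
    rw [LinearMap.smul_apply] at h1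
    have h2 := W.smul_mem c⁻¹ h1
    rwa [smul_smul, inv_mul_cancel₀ hc, one_smul] at h2

theorem glue_bOf (i b : ℕ) (hb : b = if Even i then i / 2 else i) : b = bOf i := hb

theorem glue_cOf (i c : ℕ) (hc : c = if i % 4 = 0 then i else if i % 4 = 2 then i / 2 else 2 * i) :
    c = cOf i := hc

end Cfsg.Agent.Lib.Helper14.Tu
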