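import Mathlib
import Cfsg.Prelude.Def_Classical
import Cfsg.Agent.Lib.Helper14.TuDefs
import Cfsg.Agent.Lib.Helper14.TuGlue
import Cfsg.Agent.Lib.Helper14.TuG2
import Cfsg.Agent.Lib.Helper2.TuARC

/-! TU-T2G : involutions (mod scalars) of `SU_n(q)`, `q` odd, fix totally isotropic `m`-spaces. -/

set_option autoImplicit false

namespace Cfsg.Agent.Lib.Helper14.Tu

open Cfsg.Agent.Lib.Helper40.Herm Cfsg.Agent.Lib.Helper2.BG Polynomial Module

/-- the determinant of an involution -/
theorem t2g_det_invol {F : Type*} [Field F] {V : Type*} [AddCommGroup V] [Module F V]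
    [FiniteDimensional F V] (h2 : (2 : F) ≠ 0) (g : Module.End F V) (hgg : ∀ v, g (g v) = v) :
    LinearMap.det g = (-1) ^ finrank F ↥(LinearMap.ker (g + 1)) ∧
      finrank F ↥(LinearMap.ker (g - 1)) + finrank F ↥(LinearMap.ker (g + 1)) = finrank F V := by
  obtain ⟨Ep, hEp⟩ : ∃ E : Submodule F V, E = LinearMap.ker (g - 1) := ⟨_, rfl⟩
  obtain ⟨Em, hEm⟩ : ∃ E : Submodule F V, E = LinearMap.ker (g + 1) := ⟨_, rfl⟩
  have hp : ∀ v, v ∈ Ep ↔ g v = v := by
    intro v
    rw [hEp, LinearMap.mem_ker, LinearMap.sub_apply, Module.End.one_apply, sub_eq_zero]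
  have hmm : ∀ v, v ∈ Em ↔ g v = -v := by
    intro v
    rw [hEm, LinearMap.mem_ker, LinearMap.add_apply, Module.End.one_apply, add_eq_zero_iff_eq_neg]
  have hsup : Ep ⊔ Em = ⊤ := by
    rw [eq_top_iff]
    intro v _
    have h2' : (2 : F)⁻¹ * 2 = 1 := inv_mul_cancel₀ h2
    have hv : v = (2 : F)⁻¹ • (v + g v) + (2 : F)⁻¹ • (v - g v) := by
      rw [← smul_add]
      have : v + g v + (v - g v) = (2 : F) • v := by rw [two_smul]; abel
      rw [this, smul_smul, h2', one_smul]
    rw [hv]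
    apply Submodule.add_mem_sup
    · apply Submodule.smul_mem
      rw [hp, map_add, hgg, add_comm]
    · apply Submodule.smul_mem
      rw [hmm, map_sub, hgg, neg_sub]
  have hdisj : Disjoint Ep Em := by
    rw [Submodule.disjoint_def]
    intro v h1 h2'
    have h3 : v = -v := ((hp v).1 h1).symm.trans ((hmm v).1 h2')
    have h4 : (2 : F) • v = 0 := by
      rw [two_smul]
      nth_rewrite 2 [h3]
      exact add_neg_cancel v
    rcases smul_eq_zero.1 h4 with h | h
    · exact absurd h h2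
    · exact h
  have hc : IsCompl Ep Em := ⟨hdisj, codisjoint_iff.2 hsup⟩
  have hsum : finrank F ↥Ep + finrank F ↥Em = finrank F V := by
    have := Submodule.finrank_sup_add_finrank_inf_eq Ep Em
    rw [hsup, disjoint_iff.1 hdisj, finrank_bot, finrank_top] at this
    omega
  rw [← hEp, ← hEm]
  refine ⟨?_, hsum⟩
  have hconj : g = ((Submodule.prodEquivOfIsCompl Ep Em hc : (Ep × Em) →ₗ[F] V)) ∘ₗ
      (LinearMap.prodMap (LinearMap.id : Ep →ₗ[F] Ep) ((-1 : F) • (LinearMap.id : Em →ₗ[F] Em))) ∘ₗ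
      ((Submodule.prodEquivOfIsCompl Ep Em hc).symm : V →ₗ[F] (Ep × Em)) := by
    apply LinearMap.ext
    intro v
    obtain ⟨⟨x, y⟩, rfl⟩ := (Submodule.prodEquivOfIsCompl Ep Em hc).surjective v
    simp only [LinearMap.coe_comp, LinearEquiv.coe_coe, Function.comp_apply,
      LinearEquiv.symm_apply_apply, LinearMap.prodMap_apply, LinearMap.id_apply,
      LinearMap.smul_apply, Submodule.coe_prodEquivOfIsCompl', map_add]
    rw [(hp x).1 x.2, (hmm y).1 y.2]
    simp
  rw [hconj, LinearMap.det_conj, LinearMap.det_prodMap, LinearMap.det_id, one_mul,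
    LinearMap.det_smul, LinearMap.det_id, mul_one]

/-- a norm-one element whose `n`-th power is `-1` forces `v₂(n) < v₂(q+1)` -/
theorem t2g_val {F : Type*} [Field F] (h2 : (2 : F) ≠ 0) (q n : ℕ) (hn : n ≠ 0) (lam : F)
    (h1 : lam ^ (q + 1) = 1) (h3 : lam ^ n = -1) :
    padicValNat 2 n < padicValNat 2 (q + 1) := by
  by_contra hcon
  push Not at hcon
  obtain ⟨k, u, hu, hku⟩ := Nat.exists_eq_two_pow_mul_odd (n := q + 1) (by omega)
  have hk : padicValNat 2 (q + 1) = k := by
    rw [hku]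
    have hu0 : u ≠ 0 := by
      rintro rfl
      simp at hu
    rw [padicValNat.mul (pow_ne_zero _ (by norm_num)) hu0, padicValNat.prime_pow,
      padicValNat.eq_zero_of_not_dvd (by
        rw [Nat.two_dvd_ne_zero]; exact Nat.odd_iff.1 hu), add_zero]
  rw [hk] at hcon
  have hdvd : 2 ^ k ∣ n := (pow_dvd_pow 2 hcon).trans pow_padicValNat_dvd
  obtain ⟨t, ht⟩ := hdvd
  have h4 : (lam ^ (2 ^ k)) ^ u = 1 := by rw [← pow_mul, ← hku, h1]
  have h5 : ((-1 : F)) ^ u = 1 := by
    rw [← h3, ht, pow_mul, ← pow_mul, mul_comm, pow_mul, h4, one_pow]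
  rw [hu.neg_one_pow] at h5
  apply h2
  have : (2 : F) = 1 - (-1) := by norm_num
  rw [this, h5, sub_self]

section top
variable {F : Type*} [Field F] [Fintype F] {p : ℕ} [Fact p.Prime] [CharP F p] {q : ℕ}

/-- TU-T2G. -/
theorem two_good (hq : Fintype.card F = q ^ 2) (hp2 : p ≠ 2) (n m : ℕ) (hn : 3 ≤ n) (hm : 1 ≤ m)
    (hmn : 2 * m ≤ n) (h : 2 * m < n ∨ padicValNat 2 (q + 1) ≤ padicValNat 2 n)
    (x : Matrix.SpecialLinearGroup (Fin n) F) (hx : x ∈ Cfsg.SU n F q) (z : F)
    (hz : ((x ^ 2 : Matrix.SpecialLinearGroup (Fin n) F) : Matrix (Fin n) (Fin n) F) =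
      z • (1 : Matrix (Fin n) (Fin n) F)) :
    Fixes n q m (x : Matrix (Fin n) (Fin n) F) := by
  obtain ⟨f, hf0, hqf⟩ := q_eq_pow (p := p) hq
  have h2F : (2 : F) ≠ 0 := by
    have := glue_natCast_ne_zero (F := F) (p := p) 2 Nat.prime_two (Ne.symm hp2)
    exact_mod_cast this
  obtain ⟨hctx, hzn, hpow⟩ := glue_ctx hq (by omega : 0 < n) x hx 2 Nat.prime_two (Ne.symm hp2) f
    hqf hf0 z hz
  have hfr : Module.finrank F ↥(⊤ : Submodule F (Fin n → F)) = n := by
    rw [finrank_top, Module.finrank_fin_fun]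
  have hz0 : z ≠ 0 := by
    intro h0
    rw [h0, zero_pow (by omega)] at hzn
    exact zero_ne_one hzn
  -- `q` is odd
  have hpodd : Odd p := (Fact.out : p.Prime).odd_of_ne_two hp2
  have hqodd : Odd q := by rw [hqf]; exact hpodd.pow
  obtain ⟨k, hk⟩ := hqodd
  -- `z` is a square
  have hsq : IsSquare z := by
    have hch : ringChar F ≠ 2 := by
      intro hc2
      apply h2F
      have := ringChar.Nat.cast_ringChar (R := F)
      rw [hc2] at this
      exact_mod_cast this
    rw [FiniteField.isSquare_iff hch hz0, hq]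
    have h1 : q ^ 2 / 2 = (q + 1) * k := by
      rw [hk]
      have : (2 * k + 1) ^ 2 = 2 * ((2 * k + 1 + 1) * k) + 1 := by ring
      rw [this]
      omega
    rw [h1, pow_mul, hzn, one_pow]
  obtain ⟨lam, hlam⟩ := hsq
  have hl0 : lam ≠ 0 := by
    intro h0
    rw [h0, mul_zero] at hlam
    exact hz0 hlam
  have hnu : lam ^ (q + 1) * lam ^ (q + 1) = 1 := by
    rw [← mul_pow, ← hlam, hzn]
  have hlz : lam ^ 2 = z := by rw [pow_two, hlam]
  rcases mul_self_eq_one_iff.1 hnu with hnu1 | hnu1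
  · -- isometric involution
    have hc1 := glue_ctx_scaled hq x hx 2 Nat.prime_two (Ne.symm hp2) lam z hnu1 hlz hz
    obtain ⟨g', hg'⟩ : ∃ g' : Module.End F (Fin n → F),
        g' = lam⁻¹ • Matrix.toLin' (x : Matrix (Fin n) (Fin n) F) := ⟨_, rfl⟩
    rw [← hg'] at hc1
    have hgg : ∀ v, g' (g' v) = v := by
      intro v
      have := congrArg (fun f : Module.End F (Fin n → F) => f v) hc1.pow
      simpa [pow_two] using this
    obtain ⟨hdet, hsum⟩ := t2g_det_invol h2F g' hgg
    have hdet' : LinearMap.det g' = (lam⁻¹) ^ n := by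
      rw [hg', LinearMap.det_smul, LinearMap.det_toLin', Module.finrank_fin_fun]
      have : (x : Matrix (Fin n) (Fin n) F).det = 1 := x.2
      rw [this, mul_one]
    obtain ⟨W, -, hWi, hW, hWm⟩ := exists_isotropic_inv_two hc1 (Z := ⊤) (inv_top _)
      (hnondegOn_top (stdHerm_nondeg hq n)) m (by rw [hfr]; exact hmn) (by
        intro h2m
        rw [hfr] at h2m
        rw [top_inf_eq]
        by_contra hodd
        rw [Nat.not_even_iff_odd] at hodd
        have hle : padicValNat 2 (q + 1) ≤ padicValNat 2 n := by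
          rcases h with h | h
          · omega
          · exact h
        rw [Module.finrank_fin_fun] at hsum
        have hodd2 : Odd (finrank F ↥(LinearMap.ker (g' + 1))) := by
          rcases hodd with ⟨a, ha⟩
          exact ⟨m - a - 1, by omega⟩
        rw [hodd2.neg_one_pow, hdet'] at hdet
        have hln : lam ^ n = -1 := by
          rw [inv_pow] at hdet
          have h5 : lam ^ n * (lam ^ n)⁻¹ = 1 := mul_inv_cancel₀ (pow_ne_zero _ hl0)
          rw [hdet] at h5
          linear_combination (-1 : F) * h5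
        have := t2g_val h2F q n (by omega) lam hnu1 hln
        omega)
    rw [hg'] at hWi
    exact glue_fixes hq _ lam⁻¹ (inv_ne_zero hl0) W hWi hW hWm
  · -- anti-isometric involution
    obtain ⟨g', hg'⟩ : ∃ g' : Module.End F (Fin n → F),
        g' = lam⁻¹ • Matrix.toLin' (x : Matrix (Fin n) (Fin n) F) := ⟨_, rfl⟩
    have hg2 : g' ^ 2 = 1 := by
      rw [hg', _root_.smul_pow, hpow, inv_pow, hlz, smul_smul, inv_mul_cancel₀ hz0, one_smul]
    have hanti : ∀ u v, stdHerm hq n (g' u) (g' v) = - stdHerm hq n u v := by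
      intro u v
      rw [hg', stdHerm_apply, stdHerm_apply, LinearMap.smul_apply, LinearMap.smul_apply,
        Matrix.toLin'_apply, Matrix.toLin'_apply, glue_hermForm_smul, glue_su_preserves x hx u v,
        inv_pow, hnu1]
      ring
    obtain ⟨W, hWi, hW, hWm⟩ := exists_isotropic_anti (stdHerm_isHermitian hq n)
      (stdHerm_nondeg hq n) h2F hg2 hanti m (by rw [Module.finrank_fin_fun]; exact hmn)
    rw [hg'] at hWi
    exact glue_fixes hq _ lam⁻¹ (inv_ne_zero hl0) W hWi hW hWm

end top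

end Cfsg.Agent.Lib.Helper14.Tu
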