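import Mathlib
import Cfsg.Agent.Lib.Helper14.Us3Basic
import Cfsg.Agent.Lib.Helper14.Es3Frame
import Cfsg.Agent.Lib.Helper14.Es3Norm

set_option autoImplicit false

/-! The frame of an extraspecial subgroup of the unitary group can be taken unitary. -/

namespace Cfsg.Agent.Lib.Helper14.Us3

open Matrix Cfsg.Agent.Lib.Helper14.Es3

variable {F : Type*} [Field F] [Fintype F] {q : ℕ}

theorem pow_q_of_cube {l : Fˣ} (hq3 : q % 3 = 2) (h3 : l * l * l = 1) : l ^ q = l * l := by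
  have hq : q = 3 * (q / 3) + 2 := by omega
  have h3' : l ^ 3 = 1 := by rw [pow_three']; exact h3
  rw [hq, pow_add, pow_mul, h3', one_pow, one_mul, pow_two]

theorem pow_q_of_cube' {l : Fˣ} (hq3 : q % 3 = 2) (h3 : l * l * l = 1) :
    (l : F) ^ q = (l : F) * l := by
  have := congrArg Units.val (pow_q_of_cube hq3 h3)
  simpa using this

theorem S3_mul_transpose : (S3 : Matrix (Fin 3) (Fin 3) F) * S3ᵀ = 1 :=
  mul_eq_one_comm.mp transpose_S3_mul

/-- a scalar multiple of the frame is unitary -/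
theorem exists_unitary_scale (hF : Fintype.card F = q ^ 2) (hq3 : q % 3 = 2) {l : Fˣ}
    (hl : (1 : F) + l + l * l = 0) (hl1 : l ≠ 1) (P : GL (Fin 3) F)
    (ha : P * Sgl * P⁻¹ ∈ Cfsg.GU 3 F q) (hb : P * dgl 1 l (l * l) * P⁻¹ ∈ Cfsg.GU 3 F q) :
    ∃ s : Fˣ, dgl s s s * P ∈ Cfsg.GU 3 F q := by
  have hl3 := cube_of_prim hl
  have hl3' : (l : F) * l * l = 1 := by
    have := congrArg Units.val hl3; simpa using this
  set G := gram q (P : Matrix (Fin 3) (Fin 3) F) with hG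
  have hPdet : (P : Matrix (Fin 3) (Fin 3) F).det ≠ 0 := by
    have := (Matrix.isUnit_iff_isUnit_det (P : Matrix (Fin 3) (Fin 3) F)).mp ⟨P, rfl⟩
    exact this.ne_zero
  have hGdet : G.det ≠ 0 := det_gram_ne_zero hF _ hPdet
  -- invariance under the shift
  have h1 : ((P * Sgl * P⁻¹ : GL (Fin 3) F) : Matrix (Fin 3) (Fin 3) F) * (P : Matrix (Fin 3) (Fin 3) F)
      = (P : Matrix (Fin 3) (Fin 3) F) * S3 := by
    rw [← Units.val_mul, inv_mul_cancel_right, Units.val_mul, Sgl_val]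
  have hS := gram_of_mul_eq hF _ ha _ _ h1
  rw [frm_S3 hF, ← hG] at hS
  have hS' : G * S3 = S3 * G := by
    have this : S3 * (S3ᵀ * G * S3) = S3 * G := by rw [hS]
    rw [← Matrix.mul_assoc, ← Matrix.mul_assoc, S3_mul_transpose, Matrix.one_mul] at this
    exact this
  -- invariance under the diagonal element
  have h2 : ((P * dgl 1 l (l * l) * P⁻¹ : GL (Fin 3) F) : Matrix (Fin 3) (Fin 3) F)
      * (P : Matrix (Fin 3) (Fin 3) F) = (P : Matrix (Fin 3) (Fin 3) F) * dg 1 (l : F) ((l : F) * l) := by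
    rw [← Units.val_mul, inv_mul_cancel_right, Units.val_mul, dgl_val]
    simp
  have hD := gram_of_mul_eq hF _ hb _ _ h2
  rw [frm_dg hF, transpose_dg, ← hG, one_pow, pow_q_of_cube' hq3 hl3, mul_pow,
    pow_q_of_cube' hq3 hl3] at hD
  have hD' : G * dg 1 (l : F) ((l : F) * l) = dg 1 (l : F) ((l : F) * l) * G := by
    have hinv : dg 1 ((l : F) * l) ((l : F) * l * ((l : F) * l)) * dg 1 (l : F) ((l : F) * l) = 1 := by
      have e2 : (l : F) * l * ((l : F) * l) * ((l : F) * l) = 1 := by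
        linear_combination ((l : F) * l * l + 1) * hl3'
      rw [dg_mul, ← dg_one, one_mul, hl3', e2]
    have this : dg 1 (l : F) ((l : F) * l) * G * dg 1 ((l : F) * l) ((l : F) * l * ((l : F) * l))
        * dg 1 (l : F) ((l : F) * l) = G * dg 1 (l : F) ((l : F) * l) := by rw [hD]
    rw [Matrix.mul_assoc, hinv, Matrix.mul_one] at this
    exact this.symm
  -- G is scalar
  let Ggl : GL (Fin 3) F := Matrix.GeneralLinearGroup.mkOfDetNeZero G hGdet
  have hGS : Ggl * Sgl = Sgl * Ggl := by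
    apply Units.ext
    exact hS'
  have hGD : Ggl * dgl 1 l (l * l) = dgl 1 l (l * l) * Ggl := by
    apply Units.ext
    exact hD'
  obtain ⟨n, hn⟩ := scalar_of_commute hl hl1 Ggl hGS hGD
  have hGn : G = dg (n : F) n n := by
    have := congrArg Units.val hn
    exact this
  -- n is fixed by the involution
  have hnq : (n : F) ^ q = n := by
    have := frm_gram hF (P : Matrix (Fin 3) (Fin 3) F)
    rw [← hG, hGn, frm_dg hF, transpose_dg] at this
    exact (dg_inj this).1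
  have hninv : ((n : F)⁻¹) ^ q = (n : F)⁻¹ := by rw [inv_pow, hnq]
  obtain ⟨c, hc⟩ := Cfsg.Agent.Lib.Helper44.exists_norm_eq hF (n : F)⁻¹ (inv_ne_zero n.ne_zero) hninv
  have hc0 : c ≠ 0 := by
    intro h0
    rw [h0, zero_pow (by omega)] at hc
    exact inv_ne_zero n.ne_zero hc.symm
  refine ⟨Units.mk0 c hc0, ?_⟩
  rw [mem_GU_iff hF, Units.val_mul, dgl_val, Units.val_mk0, dg_scalar, Matrix.smul_mul,
    Matrix.one_mul, Matrix.transpose_smul, frm_smul, Matrix.smul_mul, Matrix.mul_smul, smul_smul]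
  show (c * c ^ q) • gram q (P : Matrix (Fin 3) (Fin 3) F) = 1
  rw [← hG, hGn, dg_scalar, smul_smul, ← pow_succ', hc, inv_mul_cancel₀ n.ne_zero, one_smul]

theorem conj_scalar_mul (s : Fˣ) (P : GL (Fin 3) F) :
    (MulAut.conj (dgl s s s * P)).toMonoidHom = (MulAut.conj P).toMonoidHom := by
  ext1 x
  show MulAut.conj (dgl s s s * P) x = MulAut.conj P x
  rw [MulAut.conj_apply, MulAut.conj_apply, _root_.mul_inv_rev]
  calc dgl s s s * P * x * (P⁻¹ * (dgl s s s)⁻¹)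
      = dgl s s s * (P * x * P⁻¹) * (dgl s s s)⁻¹ := by group
    _ = P * x * P⁻¹ := by rw [dgl_scalar_comm, mul_inv_cancel_right]

/-- the unitary frame of a non-abelian subgroup of order 27 and exponent 3 of `GU₃(q)` -/
theorem exists_unitary_frame (hF : Fintype.card F = q ^ 2) (hq3 : q % 3 = 2) {w : Fˣ}
    (hw : (1 : F) + w + w * w = 0) (h3 : (3 : F) ≠ 0)
    (R : Subgroup (GL (Fin 3) F)) (hRU : R ≤ Cfsg.GU 3 F q) (hR : Nat.card R = 27)
    (hRe : Monoid.exponent R = 3) (hRna : ¬ IsMulCommutative R) :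
    ∃ (P : GL (Fin 3) F) (l : Fˣ), P ∈ Cfsg.GU 3 F q ∧ (1 : F) + l + l * l = 0 ∧ l ≠ 1 ∧
      R = (R0 l).map (MulAut.conj P).toMonoidHom := by
  obtain ⟨P₀, l, hl, hl1, hRmap⟩ := exists_frame hw h3 R hR hRe hRna
  have ha : P₀ * Sgl * P₀⁻¹ ∈ Cfsg.GU 3 F q := by
    apply hRU
    rw [hRmap]
    exact ⟨Sgl, Sgl_mem l, by simp [MulAut.conj_apply]⟩
  have hb : P₀ * dgl 1 l (l * l) * P₀⁻¹ ∈ Cfsg.GU 3 F q := by
    apply hRU
    rw [hRmap]
    exact ⟨dgl 1 l (l * l), D_mem l, by simp [MulAut.conj_apply]⟩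
  obtain ⟨s, hs⟩ := exists_unitary_scale hF hq3 hl hl1 P₀ ha hb
  refine ⟨dgl s s s * P₀, l, hs, hl, hl1, ?_⟩
  rw [conj_scalar_mul]
  exact hRmap

end Cfsg.Agent.Lib.Helper14.Us3
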