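import Mathlib
import Cfsg.Agent.Lib.Helper14.Us3Frame
import Cfsg.Agent.Lib.Helper14.Es3Diag

set_option autoImplicit false

/-! Unitary diagonalisation of elements of order three of `GU₃(q)`, `q ≡ 2 (mod 3)`. -/

namespace Cfsg.Agent.Lib.Helper14.Us3

open Matrix Cfsg.Agent.Lib.Helper14.Es3

variable {F : Type*} [Field F] [Fintype F] {q : ℕ}

omit [Fintype F] in
theorem dg_mul_mul_apply (a b c a' b' c' : F) (M : Matrix (Fin 3) (Fin 3) F) (i j : Fin 3) :
    (dg a b c * M * dg a' b' c') i j = ![a, b, c] i * M i j * ![a', b', c'] j := by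
  rw [Matrix.mul_apply]
  simp only [Matrix.mul_apply, Fin.sum_univ_three]
  fin_cases i <;> fin_cases j <;> simp [dg]

theorem det_ne_zero_of_GL (B : GL (Fin 3) F) : (B : Matrix (Fin 3) (Fin 3) F).det ≠ 0 := by
  have := (Matrix.isUnit_iff_isUnit_det (B : Matrix (Fin 3) (Fin 3) F)).mp ⟨B, rfl⟩
  exact this.ne_zero

/-- Gram entries between eigenvectors for different eigenvalues vanish -/
theorem gram_entry_zero (hF : Fintype.card F = q ^ 2) (hq3 : q % 3 = 2) (x : GL (Fin 3) F)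
    (hxU : x ∈ Cfsg.GU 3 F q) (B : GL (Fin 3) F) (d : Fin 3 → Fˣ)
    (hd : ∀ i, d i * d i * d i = 1) (hB : x * B = B * dgl (d 0) (d 1) (d 2)) (i j : Fin 3)
    (hij : d i ≠ d j) : gram q (B : Matrix (Fin 3) (Fin 3) F) i j = 0 := by
  have hmat : (x : Matrix (Fin 3) (Fin 3) F) * (B : Matrix (Fin 3) (Fin 3) F)
      = (B : Matrix (Fin 3) (Fin 3) F) * dg (d 0 : F) (d 1 : F) (d 2 : F) := by
    have := congrArg Units.val hB
    simpa using this
  have hG := gram_of_mul_eq hF x hxU _ _ hmat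
  rw [transpose_dg, frm_dg hF, pow_q_of_cube' hq3 (hd 0), pow_q_of_cube' hq3 (hd 1),
    pow_q_of_cube' hq3 (hd 2)] at hG
  set G := gram q (B : Matrix (Fin 3) (Fin 3) F) with hGdef
  have key : ∀ i j : Fin 3, (d i : F) * G i j * ((d j : F) * (d j : F)) = G i j := by
    intro i j
    have := congrFun (congrFun hG i) j
    rw [dg_mul_mul_apply] at this
    fin_cases i <;> fin_cases j <;> simpa using this
  by_contra hne
  apply hij
  have h1 : (d i : F) * ((d j : F) * (d j : F)) = 1 := by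
    have h2 : G i j * ((d i : F) * ((d j : F) * (d j : F)) - 1) = 0 := by
      linear_combination key i j
    rcases mul_eq_zero.mp h2 with h | h
    · exact absurd h hne
    · exact sub_eq_zero.mp h
  have hdj : (d j : F) * (d j : F) * (d j : F) = 1 := by
    have := congrArg Units.val (hd j); simpa using this
  apply Units.ext
  linear_combination (d j : F) * h1 - (d i : F) * hdj

theorem gram_diag_pow (hF : Fintype.card F = q ^ 2) (B : Matrix (Fin 3) (Fin 3) F) (i : Fin 3) :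
    (gram q B i i) ^ q = gram q B i i := by
  have := congrFun (congrFun (frm_gram hF B) i) i
  rwa [frm_apply, Matrix.transpose_apply] at this

theorem dgl_mem_GU (hF : Fintype.card F = q ^ 2) (a b c : Fˣ) (ha : (a : F) ^ (q + 1) = 1)
    (hb : (b : F) ^ (q + 1) = 1) (hc : (c : F) ^ (q + 1) = 1) : dgl a b c ∈ Cfsg.GU 3 F q := by
  rw [mem_GU_iff hF, dgl_val, transpose_dg, frm_dg hF, dg_mul, ← pow_succ', ← pow_succ',
    ← pow_succ', ha, hb, hc, dg_one]

/-- the case of three distinct eigenvalues -/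
theorem unitary_diag_distinct (hF : Fintype.card F = q ^ 2) (hq3 : q % 3 = 2) (x : GL (Fin 3) F)
    (hxU : x ∈ Cfsg.GU 3 F q) (B : GL (Fin 3) F) (a b c : Fˣ) (ha : a * a * a = 1)
    (hb : b * b * b = 1) (hc : c * c * c = 1) (hB : x * B = B * dgl a b c)
    (hab : a ≠ b) (hac : a ≠ c) (hbc : b ≠ c) :
    ∃ A : GL (Fin 3) F, A ∈ Cfsg.GU 3 F q ∧ x * A = A * dgl a b c := by
  set G := gram q (B : Matrix (Fin 3) (Fin 3) F) with hGdef
  have hd : ∀ i, (![a, b, c] : Fin 3 → Fˣ) i * ![a, b, c] i * ![a, b, c] i = 1 := by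
    intro i; fin_cases i <;> simpa
  have hz := gram_entry_zero hF hq3 x hxU B ![a, b, c] hd (by simpa using hB)
  have g01 : G 0 1 = 0 := hz 0 1 (by simpa using hab)
  have g02 : G 0 2 = 0 := hz 0 2 (by simpa using hac)
  have g10 : G 1 0 = 0 := hz 1 0 (by simpa using hab.symm)
  have g12 : G 1 2 = 0 := hz 1 2 (by simpa using hbc)
  have g20 : G 2 0 = 0 := hz 2 0 (by simpa using hac.symm)
  have g21 : G 2 1 = 0 := hz 2 1 (by simpa using hbc.symm)
  have hGeq : G = dg (G 0 0) (G 1 1) (G 2 2) := by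
    ext i j
    fin_cases i <;> fin_cases j <;> simp [dg, g01, g02, g10, g12, g20, g21]
  have hdet : G.det ≠ 0 := det_gram_ne_zero hF _ (det_ne_zero_of_GL B)
  rw [hGeq, det_dg] at hdet
  have n0 : G 0 0 ≠ 0 := fun h => hdet (by rw [h]; ring)
  have n1 : G 1 1 ≠ 0 := fun h => hdet (by rw [h]; ring)
  have n2 : G 2 2 ≠ 0 := fun h => hdet (by rw [h]; ring)
  have hs : ∀ i : Fin 3, G i i ≠ 0 → ∃ s : Fˣ, (s : F) ^ (q + 1) = (G i i)⁻¹ := by
    intro i hi
    have hpow : ((G i i)⁻¹) ^ q = (G i i)⁻¹ := by rw [inv_pow, gram_diag_pow hF]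
    obtain ⟨c, hc⟩ := Cfsg.Agent.Lib.Helper44.exists_norm_eq hF (G i i)⁻¹ (inv_ne_zero hi) hpow
    have hc0 : c ≠ 0 := by
      intro h0
      rw [h0, zero_pow (by omega)] at hc
      exact inv_ne_zero hi hc.symm
    exact ⟨Units.mk0 c hc0, hc⟩
  obtain ⟨s0, hs0⟩ := hs 0 n0
  obtain ⟨s1, hs1⟩ := hs 1 n1
  obtain ⟨s2, hs2⟩ := hs 2 n2
  refine ⟨B * dgl s0 s1 s2, ?_, ?_⟩
  · rw [mem_GU_iff hF, Units.val_mul, dgl_val, Matrix.transpose_mul, frm_mul hF, transpose_dg,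
      frm_dg hF, Matrix.mul_assoc, ← Matrix.mul_assoc _ (frm q _)]
    show dg (s0 : F) s1 s2 * (G * dg ((s0 : F) ^ q) ((s1 : F) ^ q) ((s2 : F) ^ q)) = 1
    rw [hGeq, dg_mul, dg_mul, ← dg_one]
    have e : ∀ (s n : F), s ^ (q + 1) = n⁻¹ → n ≠ 0 → s * (n * s ^ q) = 1 := by
      intro s n h hn
      have : s * (n * s ^ q) = n * s ^ (q + 1) := by rw [pow_succ]; ring
      rw [this, h, mul_inv_cancel₀ hn]
    rw [e _ _ hs0 n0, e _ _ hs1 n1, e _ _ hs2 n2]
  · calc x * (B * dgl s0 s1 s2) = (x * B) * dgl s0 s1 s2 := by group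
      _ = B * (dgl a b c * dgl s0 s1 s2) := by rw [hB]; group
      _ = B * (dgl s0 s1 s2 * dgl a b c) := by
        congr 1
        rw [dgl_mul, dgl_mul, mul_comm a, mul_comm b, mul_comm c]
      _ = B * dgl s0 s1 s2 * dgl a b c := by group

/-- the case of a double eigenvalue -/
theorem unitary_diag_double (hF : Fintype.card F = q ^ 2) (hq3 : q % 3 = 2) (x : GL (Fin 3) F)
    (hxU : x ∈ Cfsg.GU 3 F q) (B : GL (Fin 3) F) (a c : Fˣ) (ha : a * a * a = 1)
    (hc : c * c * c = 1) (hB : x * B = B * dgl a a c) (hac : a ≠ c) :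
    ∃ A : GL (Fin 3) F, A ∈ Cfsg.GU 3 F q ∧ x * A = A * dgl a a c := by
  classical
  have hq0 : q ≠ 0 := q_ne_zero hF
  set Bm := (B : Matrix (Fin 3) (Fin 3) F) with hBm
  set G := gram q Bm with hGdef
  have hd : ∀ i, (![a, a, c] : Fin 3 → Fˣ) i * ![a, a, c] i * ![a, a, c] i = 1 := by
    intro i; fin_cases i <;> simpa
  have hz := gram_entry_zero hF hq3 x hxU B ![a, a, c] hd (by simpa using hB)
  have g02 : G 0 2 = 0 := hz 0 2 (by simpa using hac)
  have g12 : G 1 2 = 0 := hz 1 2 (by simpa using hac)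
  have hdet : G.det ≠ 0 := det_gram_ne_zero hF _ (det_ne_zero_of_GL B)
  have n2 : G 2 2 ≠ 0 := by
    intro h
    apply hdet
    rw [Matrix.det_fin_three, g02, g12, h]
    ring
  have hpow : ((G 2 2)⁻¹) ^ q = (G 2 2)⁻¹ := by rw [inv_pow, gram_diag_pow hF]
  obtain ⟨s, hs⟩ := Cfsg.Agent.Lib.Helper44.exists_norm_eq hF (G 2 2)⁻¹ (inv_ne_zero n2) hpow
  have hs0 : s ≠ 0 := by
    intro h0
    rw [h0, zero_pow (by omega)] at hs
    exact inv_ne_zero n2 hs.symm
  have hmat : (x : Matrix (Fin 3) (Fin 3) F) * Bm = Bm * dg (a : F) (a : F) (c : F) := by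
    have := congrArg Units.val hB
    simpa using this
  -- the unit eigenvector
  set e2 : Fin 3 → F := Pi.single 2 1 with he2
  set u : Fin 3 → F := s • (Bm *ᵥ e2) with hu
  have hBe2 : Cfsg.hermForm 3 F q (Bm *ᵥ e2) (Bm *ᵥ e2) = G 2 2 := by
    rw [herm_mulVec hF, ← hGdef]
    simp [Fin.sum_univ_three, he2, Pi.single_apply, zero_pow hq0]
  have huu : Cfsg.hermForm 3 F q u u = 1 := by
    rw [hu, Cfsg.Agent.Lib.Helper5.herm_smul_left, Cfsg.Agent.Lib.Helper5.herm_smul_right, hBe2,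
      ← mul_assoc, ← pow_succ', hs, inv_mul_cancel₀ n2]
  have hee : Cfsg.hermForm 3 F q e2 e2 = 1 := by
    rw [Cfsg.Agent.Lib.Helper5.herm_single_right hF, he2]
    simp
  obtain ⟨A₀, hA₀, hA₀e⟩ := Cfsg.Agent.Lib.Helper5.exists_isHermIso_mulVec_eq hF hee huu
  -- x acts on u by c
  have hxBe2 : (x : Matrix (Fin 3) (Fin 3) F) *ᵥ (Bm *ᵥ e2) = (c : F) • (Bm *ᵥ e2) := by
    rw [Matrix.mulVec_mulVec, hmat, ← Matrix.mulVec_mulVec]
    have : dg (a : F) (a : F) (c : F) *ᵥ e2 = (c : F) • e2 := by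
      ext i
      fin_cases i <;> simp [dg, he2, Matrix.mulVec, dotProduct, Fin.sum_univ_three]
    rw [this, Matrix.mulVec_smul]
  have hxu : (x : Matrix (Fin 3) (Fin 3) F) *ᵥ u = (c : F) • u := by
    rw [hu, Matrix.mulVec_smul, hxBe2, smul_comm]
  -- x acts on the orthogonal complement of u by a
  have hperp : ∀ w : Fin 3 → F, Cfsg.hermForm 3 F q w u = 0 →
      (x : Matrix (Fin 3) (Fin 3) F) *ᵥ w = (a : F) • w := by
    intro w hw
    set k : Fin 3 → F := ((B⁻¹ : GL (Fin 3) F) : Matrix (Fin 3) (Fin 3) F) *ᵥ w with hk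
    have hwk : w = Bm *ᵥ k := by
      rw [hk, Matrix.mulVec_mulVec, hBm, ← Units.val_mul, mul_inv_cancel, Units.val_one,
        Matrix.one_mulVec]
    have h1 : Cfsg.hermForm 3 F q w (Bm *ᵥ e2) = k 2 * G 2 2 := by
      rw [hwk, herm_mulVec hF, ← hGdef]
      simp [Fin.sum_univ_three, he2, Pi.single_apply, g02, g12, zero_pow hq0]
    have h2 : Cfsg.hermForm 3 F q w u = s ^ q * (k 2 * G 2 2) := by
      rw [hu, Cfsg.Agent.Lib.Helper5.herm_smul_right, h1]
    rw [h2] at hw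
    have hk2 : k 2 = 0 := by
      rcases mul_eq_zero.mp hw with h | h
      · exact absurd h (pow_ne_zero _ hs0)
      · exact (mul_eq_zero.mp h).resolve_right n2
    rw [hwk, Matrix.mulVec_mulVec, hmat, ← Matrix.mulVec_mulVec]
    have : dg (a : F) (a : F) (c : F) *ᵥ k = (a : F) • k := by
      ext i
      fin_cases i <;> simp [dg, Matrix.mulVec, dotProduct, Fin.sum_univ_three, hk2]
    rw [this, Matrix.mulVec_smul]
  -- the unitary matrix
  let A : GL (Fin 3) F := (Cfsg.Agent.Lib.Helper5.mkGU hF A₀ hA₀ : Cfsg.GU 3 F q)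
  have hAval : (A : Matrix (Fin 3) (Fin 3) F) = A₀ := rfl
  refine ⟨A, (Cfsg.Agent.Lib.Helper5.mkGU hF A₀ hA₀).2, ?_⟩
  apply Units.ext
  rw [Units.val_mul, Units.val_mul, hAval, dgl_val]
  apply Matrix.ext_of_mulVec_single
  intro j
  rw [← Matrix.mulVec_mulVec, ← Matrix.mulVec_mulVec]
  have horth : ∀ j : Fin 3, j ≠ 2 → Cfsg.hermForm 3 F q (A₀ *ᵥ Pi.single j 1) u = 0 := by
    intro j hj
    rw [← hA₀e, hA₀, he2, Cfsg.Agent.Lib.Helper5.herm_single_right hF]
    simp [Pi.single_apply, hj]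
  fin_cases j
  · have h0 := hperp _ (horth 0 (by decide))
    have : dg (a : F) (a : F) (c : F) *ᵥ (Pi.single (0 : Fin 3) (1 : F)) = (a : F) • Pi.single 0 1 := by
      ext i
      fin_cases i <;> simp [dg, Matrix.mulVec, dotProduct, Fin.sum_univ_three, Pi.single_apply]
    show (x : Matrix (Fin 3) (Fin 3) F) *ᵥ (A₀ *ᵥ Pi.single (0 : Fin 3) (1 : F)) = _
    rw [h0]
    show _ = A₀ *ᵥ (dg (a : F) (a : F) (c : F) *ᵥ Pi.single (0 : Fin 3) (1 : F))
    rw [this, Matrix.mulVec_smul]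
  · have h1 := hperp _ (horth 1 (by decide))
    have : dg (a : F) (a : F) (c : F) *ᵥ (Pi.single (1 : Fin 3) (1 : F)) = (a : F) • Pi.single 1 1 := by
      ext i
      fin_cases i <;> simp [dg, Matrix.mulVec, dotProduct, Fin.sum_univ_three, Pi.single_apply]
    show (x : Matrix (Fin 3) (Fin 3) F) *ᵥ (A₀ *ᵥ Pi.single (1 : Fin 3) (1 : F)) = _
    rw [h1]
    show _ = A₀ *ᵥ (dg (a : F) (a : F) (c : F) *ᵥ Pi.single (1 : Fin 3) (1 : F))
    rw [this, Matrix.mulVec_smul]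
  · have : dg (a : F) (a : F) (c : F) *ᵥ (Pi.single (2 : Fin 3) (1 : F)) = (c : F) • Pi.single 2 1 := by
      ext i
      fin_cases i <;> simp [dg, Matrix.mulVec, dotProduct, Fin.sum_univ_three, Pi.single_apply]
    show (x : Matrix (Fin 3) (Fin 3) F) *ᵥ (A₀ *ᵥ Pi.single (2 : Fin 3) (1 : F)) = _
    rw [← he2, hA₀e, hxu]
    show _ = A₀ *ᵥ (dg (a : F) (a : F) (c : F) *ᵥ Pi.single (2 : Fin 3) (1 : F))
    rw [this, Matrix.mulVec_smul, ← he2, hA₀e]

end Cfsg.Agent.Lib.Helper14.Us3
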