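import Mathlib

set_option autoImplicit false

/-! Cube roots of norm one in a field with `q²` elements. -/

namespace Cfsg.Agent.Lib.Helper14.Us3

variable {F : Type*} [Field F] [Fintype F] {q : ℕ}

/-- cube roots of norm one of elements of order dividing three -/
theorem exists_cube_root_norm_one (hF : Fintype.card F = q ^ 2) (hq : 1 ≤ q) (h9 : 9 ∣ q + 1)
    (u : Fˣ) (hu : u ^ 3 = 1) : ∃ ζ : Fˣ, ζ ^ 3 = u ∧ ζ ^ (q + 1) = 1 := by
  obtain ⟨g, hg⟩ := IsCyclic.exists_generator (α := Fˣ)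
  have hcard : Nat.card F - 1 = (q - 1) * (q + 1) := by
    rw [Nat.card_eq_fintype_card, hF]
    obtain ⟨t, rfl⟩ : ∃ t, q = t + 1 := ⟨q - 1, by omega⟩
    simp only [Nat.add_sub_cancel]
    apply Nat.sub_eq_of_eq_add
    ring
  have hord : orderOf g = (q - 1) * (q + 1) := by
    rw [orderOf_eq_card_of_forall_mem_zpowers hg, Nat.card_units, hcard]
  obtain ⟨k, hk⟩ := Subgroup.mem_zpowers_iff.mp (hg u)
  have h1 : g ^ (k * 3) = 1 := by
    rw [zpow_mul, hk]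
    exact_mod_cast hu
  have h2 : (orderOf g : ℤ) ∣ k * 3 := orderOf_dvd_iff_zpow_eq_one.mpr h1
  obtain ⟨m, hm⟩ := h9
  rw [hord, hm] at h2
  have h3 : (((q - 1) * (3 * m) : ℕ) : ℤ) ∣ k := by
    obtain ⟨j, hj⟩ := h2
    refine ⟨j, ?_⟩
    push_cast at hj ⊢
    linarith
  obtain ⟨j, hj⟩ := h3
  refine ⟨g ^ ((((q - 1) * m : ℕ) : ℤ) * j), ?_, ?_⟩
  · rw [← hk, hj, ← zpow_natCast, ← zpow_mul]
    congr 1
    push_cast
    ring
  · rw [← zpow_natCast, ← zpow_mul]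
    have : ((((q - 1) * m : ℕ) : ℤ) * j) * ((q + 1 : ℕ) : ℤ)
        = (((q - 1) * (q + 1) : ℕ) : ℤ) * (m * j) := by
      push_cast
      ring
    rw [this, zpow_mul, zpow_natCast, ← hord, pow_orderOf_eq_one, one_zpow]

end Cfsg.Agent.Lib.Helper14.Us3
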