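import Mathlib
import Cfsg.Agent.Lib.Helper14.Us3Basic
import Cfsg.Agent.Lib.Helper14.Es3Norm
import Cfsg.Agent.Lib.Helper13.SU3Inv3

set_option autoImplicit false

/-! Elements of `SU₃(q)` with scalar square are conjugate into the normalizer of the standard
group. -/

namespace Cfsg.Agent.Lib.Helper14.Us3

open Matrix Cfsg.Agent.Lib.Helper14.Es3

variable {F : Type*} [Field F] [Fintype F] {q : ℕ}

theorem transpose_W3 : (W3 : Matrix (Fin 3) (Fin 3) F)ᵀ = W3 := by
  ext i j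
  fin_cases i <;> fin_cases j <;> simp [W3]

theorem frm_W3 (hq : Odd q) : frm q (W3 : Matrix (Fin 3) (Fin 3) F) = W3 := by
  have hq0 : q ≠ 0 := by
    rintro rfl
    exact absurd hq (by decide)
  ext i j
  fin_cases i <;> fin_cases j <;> simp [frm_apply, W3, hq0, hq.neg_one_pow]

theorem Wgl_mem_GU (hF : Fintype.card F = q ^ 2) (hq : Odd q) :
    (Wgl : GL (Fin 3) F) ∈ Cfsg.GU 3 F q := by
  rw [mem_GU_iff hF, Wgl_val, transpose_W3, frm_W3 hq, W3_W3]

theorem sc_mem_GU (hF : Fintype.card F = q ^ 2) (s : Fˣ) (hs : (s : F) ^ (q + 1) = 1) :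
    dgl s s s ∈ Cfsg.GU 3 F q := by
  rw [mem_GU_iff hF, dgl_val, dg_scalar, Matrix.transpose_smul, frm_smul, Matrix.transpose_one,
    frm_one hF, Matrix.smul_mul, Matrix.mul_smul, Matrix.one_mul, smul_smul, ← pow_succ', hs,
    one_smul]

theorem Wgl_ne_one : (Wgl : GL (Fin 3) F) ≠ 1 := by
  intro h
  have h1 := congrArg Units.val h
  rw [Wgl_val, Units.val_one] at h1
  have h2 := congrFun (congrFun h1 1) 2
  simp [W3] at h2

/-- non-scalar elements of `SU₃(q)` with scalar square are conjugate, inside `SU₃(q)`, into the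
normalizer of a unitary conjugate of the standard group -/
theorem exists_conj_of_sq_unitary (hF : Fintype.card F = q ^ 2) (hq : Odd q) (h2 : (2 : F) ≠ 0)
    {l : Fˣ} (hl : (1 : F) + l + l * l = 0) (P : GL (Fin 3) F) (hP : P ∈ Cfsg.GU 3 F q)
    (x : GL (Fin 3) F) (hx : x ∈ Cfsg.GU 3 F q ⊓ Cfsg.Geo.specialLinear (Fin 3) F) (z : F)
    (hx2 : (x : Matrix (Fin 3) (Fin 3) F) * (x : Matrix (Fin 3) (Fin 3) F)
      = z • (1 : Matrix (Fin 3) (Fin 3) F))
    (hns : ∀ a : F, (x : Matrix (Fin 3) (Fin 3) F) ≠ a • (1 : Matrix (Fin 3) (Fin 3) F)) :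
    ∃ g ∈ Cfsg.GU 3 F q ⊓ Cfsg.Geo.specialLinear (Fin 3) F, g⁻¹ * x * g ∈
      Subgroup.normalizer (((R0 l).map (MulAut.conj P).toMonoidHom : Subgroup _) :
        Set (GL (Fin 3) F)) := by
  have hxGU : x ∈ Cfsg.GU 3 F q := hx.1
  have hxdet : Matrix.GeneralLinearGroup.det x = 1 := hx.2
  have hxdet' : (x : Matrix (Fin 3) (Fin 3) F).det = 1 := by
    have := congrArg Units.val hxdet
    simpa using this
  -- z³ = 1
  have hz3 : z * z * z = 1 := by
    have h1 := congrArg Matrix.det hx2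
    rw [Matrix.det_mul, hxdet', Matrix.det_smul, Matrix.det_one, Fintype.card_fin] at h1
    linear_combination -h1
  have hz0 : z ≠ 0 := by
    intro h0
    rw [h0] at hz3
    simp at hz3
  -- z^(q+1) = 1
  have hzq : z ^ (q + 1) = 1 := by
    have hxx : x * x ∈ Cfsg.GU 3 F q := Subgroup.mul_mem _ hxGU hxGU
    rw [mem_GU_iff hF, Units.val_mul, hx2, Matrix.transpose_smul, frm_smul, Matrix.transpose_one,
      frm_one hF, Matrix.smul_mul, Matrix.mul_smul, Matrix.one_mul, smul_smul, ← pow_succ'] at hxx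
    have := congrFun (congrFun hxx 0) 0
    simpa using this
  set zu : Fˣ := Units.mk0 z hz0 with hzu
  set w : Fˣ := zu * zu with hw
  have hzu3 : zu * zu * zu = 1 := by
    apply Units.ext
    rw [Units.val_mul, Units.val_mul, Units.val_one]
    exact hz3
  have hwGU : dgl w w w ∈ Cfsg.GU 3 F q := by
    apply sc_mem_GU hF
    rw [hw]
    push_cast
    rw [Units.val_mk0, mul_pow, hzq, one_mul]
  have hwdet : Matrix.GeneralLinearGroup.det (dgl w w w) = 1 := by
    rw [det_dgl, hw]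
    calc zu * zu * (zu * zu) * (zu * zu) = (zu * zu * zu) * (zu * zu * zu) := by ac_rfl
      _ = 1 := by rw [hzu3, one_mul]
  have hx2' : x * x = dgl zu zu zu := by
    apply Units.ext
    rw [Units.val_mul, hx2, dgl_val, dg_scalar]
    rfl
  set x' : GL (Fin 3) F := (dgl w w w)⁻¹ * x with hx'
  have hx'mem : x' ∈ Cfsg.GU 3 F q ⊓ Cfsg.Geo.specialLinear (Fin 3) F := by
    refine ⟨Subgroup.mul_mem _ (Subgroup.inv_mem _ hwGU) hxGU, ?_⟩
    show Matrix.GeneralLinearGroup.det x' = 1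
    rw [hx', map_mul, map_inv, hwdet, hxdet]; simp
  have hx'2 : x' * x' = 1 := by
    have hcomm : x * (dgl w w w)⁻¹ = (dgl w w w)⁻¹ * x := by
      rw [dgl_inv, dgl_scalar_comm]
    calc x' * x' = (dgl w w w)⁻¹ * (x * (dgl w w w)⁻¹) * x := by rw [hx']; group
      _ = (dgl w w w)⁻¹ * ((dgl w w w)⁻¹ * x) * x := by rw [hcomm]
      _ = (dgl w w w)⁻¹ * (dgl w w w)⁻¹ * (x * x) := by group
      _ = 1 := by
        rw [hx2', dgl_inv, dgl_mul, dgl_mul, ← dgl_one]
        have : w⁻¹ * w⁻¹ * zu = 1 := by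
          rw [hw]
          have h4 : zu * zu * (zu * zu) = zu := by
            calc zu * zu * (zu * zu) = (zu * zu * zu) * zu := by ac_rfl
              _ = zu := by rw [hzu3, one_mul]
          rw [← mul_inv, h4, inv_mul_cancel]
        rw [this]
  have hx'1 : x' ≠ 1 := by
    intro h
    have hxw : x = dgl w w w := by
      have : x = dgl w w w * x' := by rw [hx']; group
      rw [this, h, mul_one]
    apply hns (w : F)
    rw [hxw, dgl_val, dg_scalar]
  -- the model involution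
  set t : GL (Fin 3) F := P * Wgl * P⁻¹ with ht
  have htmem : t ∈ Cfsg.GU 3 F q ⊓ Cfsg.Geo.specialLinear (Fin 3) F := by
    refine ⟨Subgroup.mul_mem _ (Subgroup.mul_mem _ hP (Wgl_mem_GU hF hq)) (Subgroup.inv_mem _ hP), ?_⟩
    show Matrix.GeneralLinearGroup.det t = 1
    rw [ht, map_mul, map_mul, map_inv, det_Wgl]; simp
  have ht2 : t * t = 1 := by
    calc t * t = P * (Wgl * Wgl) * P⁻¹ := by rw [ht]; group
      _ = 1 := by rw [Wgl_Wgl]; group
  have ht1 : t ≠ 1 := by
    intro h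
    apply Wgl_ne_one (F := F)
    calc (Wgl : GL (Fin 3) F) = P⁻¹ * t * P := by rw [ht]; group
      _ = 1 := by rw [h]; group
  -- lift to SU
  obtain ⟨X, hX⟩ := Cfsg.Agent.Lib.Helper13.exists_suHom_eq x' hx'mem
  obtain ⟨T, hT⟩ := Cfsg.Agent.Lib.Helper13.exists_suHom_eq t htmem
  have hinj := Cfsg.Agent.Lib.Helper13.suHom_injective (F := F) (n := 3) (q := q)
  have hX1 : X ≠ 1 := by
    intro h
    apply hx'1
    rw [← hX, h, map_one]
  have hX2 : X * X = 1 := by
    apply hinj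
    rw [map_mul, hX, hx'2, map_one]
  have hT1 : T ≠ 1 := by
    intro h
    apply ht1
    rw [← hT, h, map_one]
  have hT2 : T * T = 1 := by
    apply hinj
    rw [map_mul, hT, ht2, map_one]
  obtain ⟨g, hg⟩ := Cfsg.Agent.Lib.Helper13.involutions_conj hF h2 T X hT1 hT2 hX1 hX2
  have hg' : Cfsg.Agent.Lib.Helper13.suHom 3 q F g * t
      * (Cfsg.Agent.Lib.Helper13.suHom 3 q F g)⁻¹ = x' := by
    have := congrArg (Cfsg.Agent.Lib.Helper13.suHom 3 q F) hg
    rw [map_mul, map_mul, map_inv, hT, hX] at this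
    exact this
  refine ⟨Cfsg.Agent.Lib.Helper13.suHom 3 q F g, Cfsg.Agent.Lib.Helper13.suHom_mem g, ?_⟩
  set G := Cfsg.Agent.Lib.Helper13.suHom 3 q F g with hGdef
  have hkey : G⁻¹ * x * G = P * (dgl w w w * Wgl) * P⁻¹ := by
    have hxx' : x = dgl w w w * x' := by rw [hx']; group
    calc G⁻¹ * x * G = G⁻¹ * (dgl w w w * x') * G := by rw [← hxx']
      _ = G⁻¹ * (dgl w w w * (G * t * G⁻¹)) * G := by rw [hg']
      _ = G⁻¹ * (dgl w w w * G) * t := by group
      _ = G⁻¹ * (G * dgl w w w) * t := by rw [dgl_scalar_comm]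
      _ = dgl w w w * t := by group
      _ = dgl w w w * P * Wgl * P⁻¹ := by rw [ht]; group
      _ = P * dgl w w w * Wgl * P⁻¹ := by rw [dgl_scalar_comm]
      _ = P * (dgl w w w * Wgl) * P⁻¹ := by group
  rw [hkey]
  exact conj_mem_normalizer_map (R0 l) P _
    (Subgroup.mul_mem _ (sc_mem_normalizer w) (Wgl_mem_normalizer hl))

end Cfsg.Agent.Lib.Helper14.Us3
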