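import Mathlib
import Cfsg.Agent.Lib.Helper14.Us3Diag
import Cfsg.Agent.Lib.Helper14.Us3Invol
import Cfsg.Agent.Lib.Helper41.SU3Base

set_option autoImplicit false

/-! Unitary diagonalisation (all cases), conjugation of elements of order three into the
normalizer, and the `3`-part of `|SU₃(q)|`. -/

namespace Cfsg.Agent.Lib.Helper14.Us3

open Matrix Cfsg.Agent.Lib.Helper14.Es3

variable {F : Type*} [Field F] [Fintype F] {q : ℕ}

/-- unitary diagonalisation of an element of order dividing three -/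
theorem exists_unitary_diag (hF : Fintype.card F = q ^ 2) (hq3 : q % 3 = 2) {w : Fˣ}
    (hw : (1 : F) + w + w * w = 0) (h3 : (3 : F) ≠ 0) (x : GL (Fin 3) F)
    (hxU : x ∈ Cfsg.GU 3 F q) (hx3 : x * x * x = 1) :
    ∃ (A : GL (Fin 3) F) (a b c : Fˣ), A ∈ Cfsg.GU 3 F q ∧ a * a * a = 1 ∧ b * b * b = 1 ∧
      c * c * c = 1 ∧ x * A = A * dgl a b c := by
  classical
  obtain ⟨B, a, b, c, ha, hb, hc, hB⟩ := exists_diag_of_cube hw h3 x hx3
  by_cases hab : a = b
  · by_cases hbc : b = c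
    · refine ⟨1, a, a, a, Subgroup.one_mem _, ha, ha, ha, ?_⟩
      rw [← hbc, ← hab] at hB
      have h1 : x * B = dgl a a a * B := by rw [hB, dgl_scalar_comm]
      rw [mul_right_cancel h1, mul_one, one_mul]
    · rw [← hab] at hB hbc
      obtain ⟨A, hA, hxA⟩ := unitary_diag_double hF hq3 x hxU B a c ha hc hB hbc
      exact ⟨A, a, a, c, hA, ha, ha, hc, hxA⟩
  · by_cases hac : a = c
    · -- pattern (a, b, a): shift twice
      have hB2 : x * (B * Sgl * Sgl) = (B * Sgl * Sgl) * dgl a a b := by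
        calc x * (B * Sgl * Sgl) = (x * B) * Sgl * Sgl := by group
          _ = B * (dgl a b c * Sgl) * Sgl := by rw [hB]; group
          _ = B * Sgl * (dgl b c a * Sgl) := by rw [dgl_Sgl]; group
          _ = B * Sgl * Sgl * dgl c a b := by rw [dgl_Sgl]; group
          _ = B * Sgl * Sgl * dgl a a b := by rw [← hac]
      obtain ⟨A, hA, hxA⟩ := unitary_diag_double hF hq3 x hxU (B * Sgl * Sgl) a b ha hb hB2 hab
      exact ⟨A, a, a, b, hA, ha, ha, hb, hxA⟩
    · by_cases hbc : b = c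
      · -- pattern (a, b, b): shift once
        have hB1 : x * (B * Sgl) = (B * Sgl) * dgl b b a := by
          calc x * (B * Sgl) = (x * B) * Sgl := by group
            _ = B * (dgl a b c * Sgl) := by rw [hB]; group
            _ = B * Sgl * dgl b c a := by rw [dgl_Sgl]; group
            _ = B * Sgl * dgl b b a := by rw [← hbc]
        obtain ⟨A, hA, hxA⟩ := unitary_diag_double hF hq3 x hxU (B * Sgl) b a hb ha hB1
          (fun h => hab h.symm)
        exact ⟨A, b, b, a, hA, hb, hb, ha, hxA⟩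
      · obtain ⟨A, hA, hxA⟩ := unitary_diag_distinct hF hq3 x hxU B a b c ha hb hc hB hab hac hbc
        exact ⟨A, a, b, c, hA, ha, hb, hc, hxA⟩

theorem det_pow_of_mem_GU (hF : Fintype.card F = q ^ 2) (g : GL (Fin 3) F)
    (hg : g ∈ Cfsg.GU 3 F q) : (Matrix.GeneralLinearGroup.det g) ^ (q + 1) = 1 := by
  apply Units.ext
  rw [Units.val_pow_eq_pow_val, Units.val_one]
  exact Cfsg.Agent.Lib.Helper13.GU_det_pow hF 3 g hg

/-- a scalar times an element of order dividing three is conjugate, inside `SU₃(q)`, into the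
normalizer of a unitary conjugate of the standard group -/
theorem exists_conj_of_cube_unitary (hF : Fintype.card F = q ^ 2) (hq3 : q % 3 = 2) {l : Fˣ}
    (hl : (1 : F) + l + l * l = 0) (h3 : (3 : F) ≠ 0) (P : GL (Fin 3) F)
    (hP : P ∈ Cfsg.GU 3 F q) (x x' : GL (Fin 3) F) (ζ : Fˣ) (hx'U : x' ∈ Cfsg.GU 3 F q)
    (hx : x = dgl ζ ζ ζ * x') (hx' : x' * x' * x' = 1) :
    ∃ g ∈ Cfsg.GU 3 F q ⊓ Cfsg.Geo.specialLinear (Fin 3) F, g⁻¹ * x * g ∈
      Subgroup.normalizer (((R0 l).map (MulAut.conj P).toMonoidHom : Subgroup _) :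
        Set (GL (Fin 3) F)) := by
  obtain ⟨A, a, b, c, hA, ha, hb, hc, hxA⟩ := exists_unitary_diag hF hq3 hl h3 x' hx'U hx'
  set t : Fˣ := Matrix.GeneralLinearGroup.det P * (Matrix.GeneralLinearGroup.det A)⁻¹ with ht
  have htq : (t : F) ^ (q + 1) = 1 := by
    have h1 : t ^ (q + 1) = 1 := by
      rw [ht, mul_pow, inv_pow, det_pow_of_mem_GU hF P hP, det_pow_of_mem_GU hF A hA]; simp
    have := congrArg Units.val h1
    simpa using this
  have hT : dgl t 1 1 ∈ Cfsg.GU 3 F q :=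
    dgl_mem_GU hF t 1 1 htq (by simp) (by simp)
  refine ⟨A * dgl t 1 1 * P⁻¹, ⟨?_, ?_⟩, ?_⟩
  · exact Subgroup.mul_mem _ (Subgroup.mul_mem _ hA hT) (Subgroup.inv_mem _ hP)
  · show Matrix.GeneralLinearGroup.det (A * dgl t 1 1 * P⁻¹) = 1
    rw [map_mul, map_mul, map_inv, det_dgl, mul_one, mul_one, ht]
    rw [mul_comm (Matrix.GeneralLinearGroup.det P), mul_inv_cancel_left, mul_inv_cancel]
  · have key : (A * dgl t 1 1)⁻¹ * x * (A * dgl t 1 1) = dgl ζ ζ ζ * dgl a b c := by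
      rw [mul_assoc, inv_mul_eq_iff_eq_mul, hx]
      calc dgl ζ ζ ζ * x' * (A * dgl t 1 1) = dgl ζ ζ ζ * (x' * A) * dgl t 1 1 := by group
        _ = dgl ζ ζ ζ * (A * dgl a b c) * dgl t 1 1 := by rw [hxA]
        _ = A * (dgl ζ ζ ζ * dgl a b c * dgl t 1 1) := by
          rw [← mul_assoc, dgl_scalar_comm ζ A]; group
        _ = A * (dgl t 1 1 * (dgl ζ ζ ζ * dgl a b c)) := by
          congr 1
          rw [dgl_mul, dgl_mul, dgl_mul]
          congr 1 <;> ac_rfl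
        _ = A * dgl t 1 1 * (dgl ζ ζ ζ * dgl a b c) := by group
    have h2 : (A * dgl t 1 1 * P⁻¹)⁻¹ * x * (A * dgl t 1 1 * P⁻¹)
        = P * ((A * dgl t 1 1)⁻¹ * x * (A * dgl t 1 1)) * P⁻¹ := by group
    rw [h2, key]
    exact conj_mem_normalizer_map (R0 l) P _
      (Subgroup.mul_mem _ (sc_mem_normalizer ζ) (diag_mem_normalizer hl a b c ha hb hc))

/-! ### the order of `SU₃(q)` -/

theorem not_81_dvd_unitary_aux : ∀ x : ZMod 81, (x.val % 9 = 1 ∨ x.val % 9 = 4) →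
    (x + 1) ^ 3 * x * (x + 2) ^ 2 * ((x + 1) * x + 1) ≠ 0 := by
  decide +kernel

theorem not_81_dvd_unitary (m : ℕ) (hm : m % 9 = 1 ∨ m % 9 = 4) :
    ¬ 81 ∣ (m + 1) ^ 3 * m * (m + 2) ^ 2 * ((m + 1) * m + 1) := by
  intro h
  have h1 : (((m + 1) ^ 3 * m * (m + 2) ^ 2 * ((m + 1) * m + 1) : ℕ) : ZMod 81) = 0 :=
    (ZMod.natCast_eq_zero_iff _ 81).mpr h
  push_cast at h1
  refine not_81_dvd_unitary_aux (m : ZMod 81) ?_ h1
  rw [ZMod.val_natCast, Nat.mod_mod_of_dvd m (by norm_num : 9 ∣ 81)]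
  exact hm

theorem card_suGL (hF : Fintype.card F = q ^ 2) :
    Nat.card (Cfsg.GU 3 F q ⊓ Cfsg.Geo.specialLinear (Fin 3) F : Subgroup (GL (Fin 3) F))
      = q ^ 3 * (q - 1) * (q + 1) ^ 2 * (q * (q - 1) + 1) := by
  rw [← Cfsg.Agent.Lib.Helper41.SU3.card_SU3 hF]
  symm
  apply Nat.card_congr
  refine Equiv.ofBijective (fun A => ⟨Cfsg.Agent.Lib.Helper13.suHom 3 q F A,
    Cfsg.Agent.Lib.Helper13.suHom_mem A⟩) ⟨?_, ?_⟩
  · intro A B hAB
    exact Cfsg.Agent.Lib.Helper13.suHom_injective (congrArg Subtype.val hAB)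
  · rintro ⟨g, hg⟩
    obtain ⟨A, hA⟩ := Cfsg.Agent.Lib.Helper13.exists_suHom_eq g hg
    exact ⟨A, Subtype.ext hA⟩

/-- for `q ≡ 2, 5 (mod 9)` the index of the normalizer of a subgroup of order 27 of `SU₃(q)` is
prime to three -/
theorem not_three_dvd_relIndex_unitary (hF : Fintype.card F = q ^ 2) (hq3 : q % 3 = 2)
    (hq9 : q % 9 ≠ 8) (R : Subgroup (GL (Fin 3) F)) (hR : Nat.card R = 27)
    (hRle : R ≤ Cfsg.GU 3 F q ⊓ Cfsg.Geo.specialLinear (Fin 3) F) :
    ¬ 3 ∣ (Subgroup.normalizer (R : Set (GL (Fin 3) F))).relIndex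
      (Cfsg.GU 3 F q ⊓ Cfsg.Geo.specialLinear (Fin 3) F) := by
  intro h3
  set K := (Cfsg.GU 3 F q ⊓ Cfsg.Geo.specialLinear (Fin 3) F : Subgroup (GL (Fin 3) F)) with hK
  have h1 : (Subgroup.normalizer (R : Set (GL (Fin 3) F))).relIndex K ∣ R.relIndex K :=
    Subgroup.relIndex_dvd_of_le_left K Subgroup.le_normalizer
  have h2 : 3 ∣ R.relIndex K := dvd_trans h3 h1
  have h4 := Subgroup.card_mul_index (R.subgroupOf K)
  have h5 : Nat.card (R.subgroupOf K) = 27 := by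
    rw [← hR]
    exact Nat.card_congr (Subgroup.subgroupOfEquivOfLe hRle).toEquiv
  rw [h5] at h4
  have h6 : 81 ∣ Nat.card K := by
    rw [← h4]
    obtain ⟨k, hk⟩ := h2
    have : (R.subgroupOf K).index = 3 * k := hk
    rw [this]
    exact ⟨k, by ring⟩
  rw [hK, card_suGL hF] at h6
  have hq1 : 1 ≤ q := by omega
  have hm : (q - 1) % 9 = 1 ∨ (q - 1) % 9 = 4 := by omega
  have e : q ^ 3 * (q - 1) * (q + 1) ^ 2 * (q * (q - 1) + 1)
      = ((q - 1) + 1) ^ 3 * (q - 1) * ((q - 1) + 2) ^ 2 * (((q - 1) + 1) * (q - 1) + 1) := by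
    have : q - 1 + 1 = q := by omega
    have h' : q - 1 + 2 = q + 1 := by omega
    rw [this, h']
  rw [e] at h6
  exact not_81_dvd_unitary (q - 1) hm h6

end Cfsg.Agent.Lib.Helper14.Us3
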