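import Mathlib

set_option autoImplicit false

namespace Cfsg.Agent.Lib.Helper14.We

variable {W : Type*} [AddCommGroup W] [Module ℂ W] [FiniteDimensional ℂ W]

theorem exists_conj_of_basis {V : Type*} [AddCommGroup V] (R : V → Module.End ℂ W)
    (hLI : LinearIndependent ℂ R) (hspan : Submodule.span ℂ (Set.range R) = ⊤)
    (c : V → V → ℂ) (hmul : ∀ v w, R v * R w = c v w • R (v + w)) (h0 : R 0 = 1)
    (γ : V ≃+ V) (hc : ∀ v w, c (γ v) (γ w) = c v w) :
    ∃ T : W ≃ₗ[ℂ] W, ∀ v, T.toLinearMap * R v = R (γ v) * T.toLinearMap := by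
  classical
  let b : Module.Basis V ℂ (Module.End ℂ W) := Module.Basis.mk hLI (le_of_eq hspan.symm)
  have hb : ∀ v, b v = R v := fun v => by simp [b]
  let φ : Module.End ℂ W →ₗ[ℂ] Module.End ℂ W := b.constr ℂ (fun v => R (γ v))
  have hφ : ∀ v, φ (R v) = R (γ v) := fun v => by
    rw [← hb v]
    simp [φ, Module.Basis.constr_basis]
  let φ' : Module.End ℂ W →ₗ[ℂ] Module.End ℂ W := b.constr ℂ (fun v => R (γ.symm v))
  have hφ' : ∀ v, φ' (R v) = R (γ.symm v) := fun v => by
    rw [← hb v]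
    simp [φ', Module.Basis.constr_basis]
  have hmulφ : ∀ x y, φ (x * y) = φ x * φ y := by
    intro x y
    have h1 : (LinearMap.mul ℂ (Module.End ℂ W)).compr₂ φ =
        ((LinearMap.mul ℂ (Module.End ℂ W)).compl₁₂ φ φ) := by
      apply b.ext
      intro v
      apply b.ext
      intro w
      simp only [LinearMap.compr₂_apply, LinearMap.mul_apply', LinearMap.compl₁₂_apply, hb]
      rw [hmul, map_smul, hφ, hφ, hφ, hmul, map_add, hc]
    have := congrFun (congrArg DFunLike.coe (congrFun (congrArg DFunLike.coe h1) x)) y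
    simpa using this
  have hone : φ 1 = 1 := by
    rw [← h0, hφ, map_zero]
  have hleft : ∀ x, φ' (φ x) = x := by
    intro x
    have : φ' ∘ₗ φ = LinearMap.id := by
      apply b.ext
      intro v
      simp [hb, hφ, hφ']
    exact congrFun (congrArg DFunLike.coe this) x
  have hright : ∀ x, φ (φ' x) = x := by
    intro x
    have : φ ∘ₗ φ' = LinearMap.id := by
      apply b.ext
      intro v
      simp [hb, hφ, hφ']
    exact congrFun (congrArg DFunLike.coe this) x
  let Φ : Module.End ℂ W ≃ₐ[ℂ] Module.End ℂ W :=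
    AlgEquiv.ofLinearEquiv (LinearEquiv.ofLinearMap φ φ' (LinearMap.ext hright) (LinearMap.ext hleft))
      hone hmulφ
  obtain ⟨T, hT⟩ := Φ.eq_linearEquivConjAlgEquiv
  refine ⟨T, fun v => ?_⟩
  have h1 : Φ (R v) = R (γ v) := hφ v
  rw [hT, LinearEquiv.conjAlgEquiv_apply] at h1
  -- h1 : T ∘ R v ∘ T.symm = R (γ v)
  rw [← h1]
  ext x
  simp
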