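import Mathlib

/-! # We hive (helper14): the Weil representation of `Sp_{2n}(q)`, `q` odd — definitions

`WW F n = (Fin n → F) → ℂ` (functions on `F^n`), `VV F n = (Fin n ⊕ Fin n) → F` (the symplectic space,
`v = (a, b)` with `a = v ∘ Sum.inl`, `b = v ∘ Sum.inr`), `Bf v w = b·c - a·d` for `v = (a,b)`, `w = (c,d)`,
`Rop ψ (a,b) f x = ψ (b·x + a·b/2) * f (x + a)` (Heisenberg operators), `Pop f x = f (-x)` (parity),
`act g v = g *ᵥ v` for `g` in `Matrix.symplecticGroup (Fin n) F`. -/

set_option autoImplicit false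

namespace Cfsg.Agent.Lib.Helper14.We

open Matrix

/-- functions on `F^n` -/
abbrev WW (F : Type*) (n : ℕ) := (Fin n → F) → ℂ

/-- the symplectic space `F^{2n}` -/
abbrev VV (F : Type*) (n : ℕ) := (Fin n ⊕ Fin n) → F

variable {F : Type*} [Field F] {n : ℕ}

/-- the symplectic form `b·c - a·d` -/
def Bf (v w : VV F n) : F :=
  (v ∘ Sum.inr) ⬝ᵥ (w ∘ Sum.inl) - (v ∘ Sum.inl) ⬝ᵥ (w ∘ Sum.inr)

/-- Heisenberg operator `R(a,b) f x = ψ (b·x + a·b/2) f (x + a)` -/
noncomputable def Rop (ψ : AddChar F ℂ) (v : VV F n) : Module.End ℂ (WW F n) where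
  toFun f := fun x =>
    ψ ((v ∘ Sum.inr) ⬝ᵥ x + ((v ∘ Sum.inl) ⬝ᵥ (v ∘ Sum.inr)) / 2) * f (x + v ∘ Sum.inl)
  map_add' f f' := by
    funext x
    simp only [Pi.add_apply]
    ring
  map_smul' c f := by
    funext x
    simp only [Pi.smul_apply, smul_eq_mul, RingHom.id_apply]
    ring

theorem Rop_apply (ψ : AddChar F ℂ) (v : VV F n) (f : WW F n) (x : Fin n → F) :
    Rop ψ v f x =
      ψ ((v ∘ Sum.inr) ⬝ᵥ x + ((v ∘ Sum.inl) ⬝ᵥ (v ∘ Sum.inr)) / 2) * f (x + v ∘ Sum.inl) := rfl

/-- parity operator `P f x = f (-x)` -/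
def Pop : Module.End ℂ (WW F n) where
  toFun f := fun x => f (-x)
  map_add' _ _ := rfl
  map_smul' _ _ := rfl

theorem Pop_apply (f : WW F n) (x : Fin n → F) : (Pop : Module.End ℂ (WW F n)) f x = f (-x) := rfl

/-- the natural action of the symplectic group on `F^{2n}` -/
def act (g : Matrix.symplecticGroup (Fin n) F) (v : VV F n) : VV F n :=
  (g : Matrix (Fin n ⊕ Fin n) (Fin n ⊕ Fin n) F) *ᵥ v

theorem act_one (v : VV F n) : act (1 : Matrix.symplecticGroup (Fin n) F) v = v := by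
  simp [act]

theorem act_mul (g h : Matrix.symplecticGroup (Fin n) F) (v : VV F n) :
    act (g * h) v = act g (act h v) := by
  simp [act, Matrix.mulVec_mulVec]

/-- the action as a `MulAction` (NOT a global instance: use `letI := actMulAction` or
`attribute [local instance] actMulAction`) -/
@[reducible] def actMulAction : MulAction (Matrix.symplecticGroup (Fin n) F) (VV F n) where
  smul := act
  one_smul := act_one
  mul_smul := act_mul

end Cfsg.Agent.Lib.Helper14.We
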