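import Cfsg.Agent.Lib.Helper14.WeDefs

set_option autoImplicit false

namespace Cfsg.Agent.Lib.Helper14.We

open Matrix

variable {F : Type*} [Field F] {n : ℕ}

theorem sp_Bf_eq (v w : VV F n) : Bf v w = v ⬝ᵥ (Matrix.J (Fin n) F *ᵥ w) := by
  unfold Bf Matrix.J
  simp only [dotProduct, Matrix.mulVec, Fintype.sum_sum_type, Matrix.fromBlocks_apply₁₁,
    Matrix.fromBlocks_apply₁₂, Matrix.fromBlocks_apply₂₁, Matrix.fromBlocks_apply₂₂,
    Matrix.zero_apply, Matrix.neg_apply, Matrix.one_apply, Function.comp_apply, zero_mul,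
    Finset.sum_const_zero, zero_add, add_zero, neg_mul, ite_mul, one_mul, Finset.sum_neg_distrib,
    Finset.sum_ite_eq, Finset.mem_univ, if_true, mul_neg]
  ring

theorem Bf_act (g : Matrix.symplecticGroup (Fin n) F) (v w : VV F n) :
    Bf (act g v) (act g w) = Bf v w := by
  rw [sp_Bf_eq, sp_Bf_eq]
  unfold act
  have hg : (g : Matrix (Fin n ⊕ Fin n) (Fin n ⊕ Fin n) F)ᵀ * Matrix.J (Fin n) F *
      (g : Matrix (Fin n ⊕ Fin n) (Fin n ⊕ Fin n) F) = Matrix.J (Fin n) F :=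
    SymplecticGroup.mem_iff'.mp g.2
  rw [Matrix.mulVec_mulVec, Matrix.dotProduct_mulVec, Matrix.vecMul_mulVec,
    ← Matrix.dotProduct_mulVec, ← Matrix.mul_assoc, hg]

end Cfsg.Agent.Lib.Helper14.We
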