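import Cfsg.Agent.Lib.Helper14.WeDefs
import Cfsg.Agent.Lib.Helper14.WeAUT
import Cfsg.Agent.Lib.Helper14.WeSP
import Cfsg.Agent.Lib.Helper74.WeBASIS
import Cfsg.Agent.Lib.Helper11.WeSPLIT
import Cfsg.Agent.Lib.Helper16.WeIRR
import Cfsg.Agent.Lib.Helper5.WeMUL
import Cfsg.Agent.Lib.Helper5.WeSCHUR
import Cfsg.Agent.Lib.Helper69.WeCOMMP
import Cfsg.Agent.Lib.Helper75.WeDETQ
import Cfsg.Agent.Lib.Helper85.WeLIFTcore
import Cfsg.Agent.Lib.Helper60.WePAR
import Cfsg.Agent.Lib.Helper2.WeCHARSQ
import Cfsg.Agent.Lib.Helper3.CharOps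
import Cfsg.Agent.Lib.Helper13.SympTrans

/-! # We hive (helper14): existence of the Weil representation of degree `(q^n - 1)/2` of `Sp_{2n}(q)`, `q` odd.
Assembly of the leaves (see `tools/helper14/WeSkel.lean.txt`). -/

set_option autoImplicit false

namespace Cfsg.Agent.Lib.Helper14.We

open Matrix Cfsg
open scoped ComplexConjugate

theorem asm_act_add {F : Type*} [Field F] {n : ℕ} (g : Matrix.symplecticGroup (Fin n) F) (v w : VV F n) :
    act g (v + w) = act g v + act g w := by
  simp [act, Matrix.mulVec_add]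

theorem asm_act_neg {F : Type*} [Field F] {n : ℕ} (g : Matrix.symplecticGroup (Fin n) F) (v : VV F n) :
    act g (-v) = -act g v := by
  simp [act, Matrix.mulVec_neg]

theorem asm_act_zero {F : Type*} [Field F] {n : ℕ} (g : Matrix.symplecticGroup (Fin n) F) :
    act g (0 : VV F n) = 0 := by
  simp [act]

/-- an irreducible character of degree `d` gives an irreducible representation on `Fin d → ℂ` -/
theorem asm_exists_rep {G : Type*} [Group G] (χ : G → ℂ) (h : IsIrrCharacter G χ) (d : ℕ)
    (hd : χ 1 = (d : ℂ)) : ∃ ρ : Representation ℂ G (Fin d → ℂ), ρ.IsIrreducible := by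
  obtain ⟨k, ρ, hirr, rfl⟩ := h
  have hk : k = d := by
    have h1 : ρ.character 1 = (k : ℂ) := by
      rw [Representation.char_one]
      simp
    rw [h1] at hd
    exact_mod_cast hd
  subst hk
  exact ⟨ρ, hirr⟩

theorem asm_arith (q n : ℕ) (hq : Odd q) : q ^ n = 2 * ((q ^ n - 1) / 2) + 1 := by
  have h : Odd (q ^ n) := hq.pow
  rcases h with ⟨k, hk⟩
  omega

theorem asm_two_ne_zero {F : Type*} [Field F] [Fintype F] (hodd : Odd (Fintype.card F)) : (2 : F) ≠ 0 := by
  apply Ring.two_ne_zero
  intro h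
  have := FiniteField.even_card_of_char_two h
  rcases hodd with ⟨k, hk⟩
  omega

/-- Existence of the Weil representation of degree `(q^n - 1)/2`. -/
theorem exists_weil {F : Type*} [Field F] [Fintype F] [DecidableEq F] (n : ℕ) (hn : 1 ≤ n)
    (hodd : Odd (Fintype.card F)) :
    ∃ ρ : Representation ℂ (Matrix.symplecticGroup (Fin n) F)
      (Fin ((Fintype.card F ^ n - 1) / 2) → ℂ), ρ.IsIrreducible := by
  classical
  have h2 : (2 : F) ≠ 0 := asm_two_ne_zero hodd
  obtain ⟨ψ, hψ1⟩ := (AddChar.exists_apply_ne_zero (α := F) (a := 1)).mpr one_ne_zero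
  have hψ : ψ ≠ 1 := by
    intro h
    apply hψ1
    rw [h]
    simp
  let _ : MulAction (Matrix.symplecticGroup (Fin n) F) (VV F n) := actMulAction
  have hLI := Rop_linearIndependent (n := n) ψ hψ
  have hspan := Rop_span ψ hLI
  have hschur : ∀ S : Module.End ℂ (WW F n), (∀ v : VV F n, S * Rop ψ v = Rop ψ v * S) →
      ∃ c : ℂ, S = c • (1 : Module.End ℂ (WW F n)) :=
    fun S hS => scalar_of_commute_span (fun v : VV F n => Rop ψ v) hspan S hS
  have hT : ∀ g : Matrix.symplecticGroup (Fin n) F, ∃ T : WW F n ≃ₗ[ℂ] WW F n,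
      ∀ v : VV F n, T.toLinearMap * Rop ψ v = Rop ψ (g • v) * T.toLinearMap := by
    intro g
    let γ : VV F n ≃+ VV F n :=
      { toFun := act g
        invFun := act g⁻¹
        left_inv := fun v => by rw [← act_mul, inv_mul_cancel, act_one]
        right_inv := fun v => by rw [← act_mul, mul_inv_cancel, act_one]
        map_add' := asm_act_add g }
    exact exists_conj_of_basis (fun v : VV F n => Rop ψ v) hLI hspan
      (fun v w => ψ (-(Bf v w) / 2)) (Rop_mul ψ h2) (Rop_zero ψ) γ
      (fun v w => by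
        show ψ (-(Bf (act g v) (act g w)) / 2) = ψ (-(Bf v w) / 2)
        rw [Bf_act])
  choose T hT using hT
  have hcomm : ∀ g : Matrix.symplecticGroup (Fin n) F,
      (T g).toLinearMap * (Pop : Module.End ℂ (WW F n)) = Pop * (T g).toLinearMap := fun g =>
    commute_parity (fun v : VV F n => Rop ψ v) hschur Pop Pop_mul_Pop
      (by rw [trace_Pop h2]; exact one_ne_zero) (fun v => -v) (Pop_mul_Rop ψ)
      (fun v => g • v) (MulAction.surjective g) (fun v => (asm_act_neg g v).symm) (T g) (hT g)
  obtain ⟨M, hMR, hMP⟩ := lift_core (G := Matrix.symplecticGroup (Fin n) F) (V := VV F n)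
    (fun v : VV F n => Rop ψ v) hschur T hT Pop hcomm (exists_beta Pop Pop_mul_Pop (trace_Pop h2))
  -- dimensions
  set d := (Fintype.card F ^ n - 1) / 2 with hd
  have hfin : Module.finrank ℂ (WW F n) = 2 * d + 1 := by
    rw [Module.finrank_fintype_fun_eq_card, Fintype.card_fun, Fintype.card_fin]
    exact asm_arith (Fintype.card F) n hodd
  obtain ⟨ωp, ωm, hp, hm, hp1, hm1, hsum⟩ :=
    exists_split M Pop Pop_mul_Pop hMP d hfin (trace_Pop h2)
  -- the character square
  have hchar : IsCharacter (Matrix.symplecticGroup (Fin n) F) M.character :=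
    Cfsg.Agent.Lib.Helper3.isCharacter_character M
  have hsq : ∀ g : Matrix.symplecticGroup (Fin n) F, M.character g * conj (M.character g) =
      (Fintype.card {v : VV F n // g • v = v} : ℂ) := by
    intro g
    rw [← Cfsg.Agent.Lib.Helper3.IsCharacter.inv hchar g]
    exact trace_mul_trace_inv (fun v : VV F n => Rop ψ v) hLI hspan M hMR g
  let _ : Fintype (Matrix.symplecticGroup (Fin n) F) := Fintype.ofFinite _
  have hirr : IsIrrCharacter (Matrix.symplecticGroup (Fin n) F) ωm := by
    refine weil_minus_irr (V := VV F n) (fun g => asm_act_zero g) ?_ ?_ M.character ωp ωm hp hm hsum hsq ?_ ?_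
    · intro v w hv hw
      obtain ⟨A, _, hA⟩ := Cfsg.Agent.Lib.Helper13.exists_transv_of_ne_zero n v w hv hw
      exact ⟨A, hA⟩
    · refine ⟨fun _ => 1, ?_⟩
      intro h
      have := congrFun h (Sum.inl ⟨0, hn⟩)
      simp at this
    · rw [hp1]
      exact_mod_cast (Nat.succ_ne_zero d)
    · rw [hm1]
      have hq : 3 ≤ Fintype.card F := by
        have h1 : 1 < Fintype.card F := Fintype.one_lt_card
        rcases hodd with ⟨k, hk⟩
        omega
      have : 1 ≤ d := by
        have h3 : 3 ≤ Fintype.card F ^ n := by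
          calc 3 ≤ Fintype.card F := hq
            _ = Fintype.card F ^ 1 := (pow_one _).symm
            _ ≤ Fintype.card F ^ n := Nat.pow_le_pow_right (by omega) hn
        rw [hd]
        omega
      exact_mod_cast (by omega : d ≠ 0)
  exact asm_exists_rep ωm hirr d hm1

end Cfsg.Agent.Lib.Helper14.We
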